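import Mathlib.GroupTheory.Nilpotent
import Cfsg.Agent.Lib.PGroup.Basic
import Cfsg.Agent.Lib.PGroup.Commutator
import Cfsg.Agent.Lib.Transfer.Frobenius

/-! Blackburn's lemma on elements of order `p` (or `4`), and normal `p`-complement criteria. -/

set_option autoImplicit false

open scoped commutatorElement

namespace Cfsg.Agent.T51

variable {G : Type*} [Group G]

theorem conj_pow_of_fixed {y q c : G} (hq : y * q * y⁻¹ = q * c) (hc : y * c * y⁻¹ = c) (n : ℕ) :
    y ^ n * q * (y ^ n)⁻¹ = q * c ^ n := by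
  induction n with
  | zero => simp
  | succ n ih =>
    have hcn : y ^ n * c * (y ^ n)⁻¹ = c := by
      have : Commute y c := mul_inv_eq_iff_eq_mul.mp hc
      rw [(this.pow_left n).eq, mul_inv_cancel_right]
    calc y ^ (n + 1) * q * (y ^ (n + 1))⁻¹ = y ^ n * (y * q * y⁻¹) * (y ^ n)⁻¹ := by
          rw [pow_succ, mul_inv_rev]; group
      _ = (y ^ n * q * (y ^ n)⁻¹) * (y ^ n * c * (y ^ n)⁻¹) := by rw [hq]; group
      _ = q * c ^ (n + 1) := by rw [ih, hcn, mul_assoc, ← pow_succ]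

/-- A `p'`-element which moves `q` by a fixed element of a `p`-group fixes `q`. -/
theorem eq_one_of_fixed {p : ℕ} {Q : Subgroup G} (hQ : IsPGroup p Q) {y q c : G}
    (hy : Nat.Coprime (orderOf y) p) (hcQ : c ∈ Q)
    (hq : y * q * y⁻¹ = q * c) (hc : y * c * y⁻¹ = c) : c = 1 := by
  have h := conj_pow_of_fixed hq hc (orderOf y)
  rw [pow_orderOf_eq_one, one_mul, inv_one, mul_one] at h
  refine Transfer.eq_one_of_coprime_of_mem hQ hcQ (hy.coprime_dvd_left ?_)
  exact orderOf_dvd_of_pow_eq_one (left_eq_mul.mp h)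

/-- The property of having order dividing `p`, or dividing `4` when `p = 2`. -/
def IsSmall (p : ℕ) (a : G) : Prop := a ^ p = 1 ∨ (p = 2 ∧ a ^ 4 = 1)

/-- Blackburn: a `p'`-element normalizing a `p`-group and fixing its small elements centralizes it. -/
theorem mem_centralizer_of_small [Finite G] {p : ℕ} [hp : Fact p.Prime] (y : G)
    (hy : Nat.Coprime (orderOf y) p) (Q : Subgroup G) (hQ : IsPGroup p Q)
    (hyQ : y ∈ Subgroup.normalizer (Q : Set G))
    (hs : ∀ a ∈ Q, IsSmall p a → Commute y a) : y ∈ Subgroup.centralizer (Q : Set G) := by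
  induction hn : Nat.card Q using Nat.strong_induction_on generalizing Q with | _ n ih => ?_
  subst hn
  have hconj : ∀ q ∈ Q, y * q * y⁻¹ ∈ Q := fun q hq => (Subgroup.mem_normalizer_iff.mp hyQ q).mp hq
  -- proper invariant subgroups are centralized
  have hprop : ∀ R : Subgroup G, R ≤ Q → R ≠ Q → (∀ r ∈ R, y * r * y⁻¹ ∈ R) → ∀ r ∈ R, y * r * y⁻¹ = r := by
    intro R hR hne hinv r hr
    have hyR : y ∈ Subgroup.normalizer (R : Set G) := by
      have hmap : R.map (MulAut.conj y).toMonoidHom = R := by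
        refine Subgroup.eq_of_le_of_card_ge ?_ (by rw [Subgroup.card_map_of_injective (MulAut.conj y).injective])
        rintro _ ⟨x, hx, rfl⟩; exact hinv x hx
      rw [Subgroup.mem_normalizer_iff]
      intro x
      refine ⟨hinv x, fun hx => ?_⟩
      rw [← hmap] at hx
      obtain ⟨x', hx', he⟩ := hx
      have : x' = x := by
        apply (MulAut.conj y).injective
        simpa using he
      exact this ▸ hx'
    have hlt : Nat.card R < Nat.card Q := by
      refine lt_of_le_of_ne (Subgroup.card_le_of_le hR) fun h => hne (Subgroup.eq_of_le_of_card_ge hR h.ge)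
    have := ih _ hlt R (hQ.to_le hR) hyR (fun a ha h => hs a (hR ha) h) rfl
    exact mul_inv_eq_iff_eq_mul.mpr (Subgroup.mem_centralizer_iff.mp this r hr).symm
  rw [Subgroup.mem_centralizer_iff]
  intro q hq
  by_cases hQ1 : Q = ⊥
  · rw [hQ1] at hq; simp [Subgroup.mem_bot.mp hq]
  have : Nontrivial Q := (Subgroup.nontrivial_iff_ne_bot Q).mpr hQ1
  set F := (frattini Q).map Q.subtype with hF
  have hFQ : F ≤ Q := Subgroup.map_subtype_le _
  have hFne : F ≠ Q := fun h => by
    have h1 : frattini Q = ⊤ := by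
      apply Subgroup.map_injective Q.subtype_injective
      rw [← hF, h, ← MonoidHom.range_eq_map, Subgroup.range_subtype]
    obtain ⟨M, hM, -⟩ := (IsCoatomic.eq_top_or_exists_le_coatom (⊥ : Subgroup Q)).resolve_left bot_ne_top
    exact hM.1 (top_unique (h1 ▸ frattini_le_coatom hM))
  have hFinv : ∀ f ∈ F, y * f * y⁻¹ ∈ F := by
    rintro _ ⟨f, hf, rfl⟩
    let σ : Q ≃* Q :=
      { toFun := fun a => ⟨y * a * y⁻¹, hconj a a.2⟩
        invFun := fun a => ⟨y⁻¹ * a * y, (Subgroup.mem_normalizer_iff.mp hyQ _).mpr (by simpa [mul_assoc] using a.2)⟩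
        left_inv := fun a => Subtype.ext (by simp [mul_assoc])
        right_inv := fun a => Subtype.ext (by simp [mul_assoc])
        map_mul' := fun a b => Subtype.ext (by simp [mul_assoc]) }
    have hchar := Subgroup.characteristic_iff_map_eq.mp (inferInstance : (frattini Q).Characteristic) σ
    exact ⟨σ f, hchar ▸ ⟨f, hf, rfl⟩, rfl⟩
  have hFfix := hprop F hFQ hFne hFinv
  set c := q⁻¹ * (y * q * y⁻¹) with hcdef
  have hcQ : c ∈ Q := Q.mul_mem (Q.inv_mem hq) (hconj q hq)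
  have hqc : y * q * y⁻¹ = q * c := by rw [hcdef]; group
  suffices hc1 : y * c * y⁻¹ = c by
    have := eq_one_of_fixed hQ hy hcQ hqc hc1
    rw [this, mul_one] at hqc
    exact (mul_inv_eq_iff_eq_mul.mp hqc).symm
  set C := Q ⊓ Subgroup.centralizer (F : Set G) with hC
  have hcC : ∀ a ∈ Q, a⁻¹ * (y * a * y⁻¹) ∈ C := by
    intro a ha
    refine Subgroup.mem_inf.mpr ⟨Q.mul_mem (Q.inv_mem ha) (hconj a ha), Subgroup.mem_centralizer_iff.mpr ?_⟩
    intro f hf
    have hf' : a * f * a⁻¹ ∈ F := by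
      obtain ⟨f', hf', rfl⟩ := hf
      exact ⟨(⟨a, ha⟩ : Q) * f' * (⟨a, ha⟩ : Q)⁻¹, (inferInstance : (frattini Q).Normal).conj_mem f' hf' _, rfl⟩
    have e1 := hFfix _ hf'
    have e2 := hFfix f hf
    have key : (y * a * y⁻¹) * f * (y * a * y⁻¹)⁻¹ = a * f * a⁻¹ := by
      calc (y * a * y⁻¹) * f * (y * a * y⁻¹)⁻¹ = (y * a * y⁻¹) * (y * f * y⁻¹) * (y * a * y⁻¹)⁻¹ := by rw [e2]
        _ = y * (a * f * a⁻¹) * y⁻¹ := by group
        _ = a * f * a⁻¹ := e1
    calc f * (a⁻¹ * (y * a * y⁻¹)) = a⁻¹ * (a * f * a⁻¹) * (y * a * y⁻¹) := by group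
      _ = a⁻¹ * ((y * a * y⁻¹) * f * (y * a * y⁻¹)⁻¹) * (y * a * y⁻¹) := by rw [key]
      _ = a⁻¹ * (y * a * y⁻¹) * f := by group
  by_cases hCQ : C = Q
  swap
  · refine hprop C inf_le_left hCQ ?_ c (hcC q hq)
    intro r hr
    obtain ⟨hr1, hr2⟩ := Subgroup.mem_inf.mp hr
    refine Subgroup.mem_inf.mpr ⟨hconj r hr1, Subgroup.mem_centralizer_iff.mpr fun f hf => ?_⟩
    have h1 := Subgroup.mem_centralizer_iff.mp hr2 f hf
    calc f * (y * r * y⁻¹) = (y * f * y⁻¹) * (y * r * y⁻¹) := by rw [hFfix f hf]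
      _ = y * (f * r) * y⁻¹ := by group
      _ = (y * r * y⁻¹) * (y * f * y⁻¹) := by rw [h1]; group
      _ = (y * r * y⁻¹) * f := by rw [hFfix f hf]
  -- `Φ(Q)` is central in `Q`
  have hcen : ∀ f ∈ F, ∀ a ∈ Q, f * a = a * f := fun f hf a ha => by
    have : a ∈ C := hCQ.symm ▸ ha
    exact Subgroup.mem_centralizer_iff.mp (Subgroup.mem_inf.mp this).2 f hf
  have hcl : commutator Q ≤ Subgroup.center Q := by
    refine (PGroup.commutator_le_frattini hQ).trans fun f hf => Subgroup.mem_center_iff.mpr fun a => Subtype.ext ?_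
    exact (hcen f ⟨f, hf, rfl⟩ a a.2).symm
  set q' : Q := ⟨q, hq⟩
  set c' : Q := ⟨c, hcQ⟩
  have hqp : q ^ p ∈ F := ⟨q' ^ p, PGroup.pow_mem_frattini hQ q', rfl⟩
  have hcp : (y * q * y⁻¹) ^ p = q ^ p := by rw [conj_pow]; exact hFfix _ hqp
  have hcp' : c' ^ p * ⁅c', q'⁆ ^ p.choose 2 = 1 := by
    have h1 := PGroup.mul_pow_classTwo hcl q' c' p
    have h2 : (q' * c') ^ p = q' ^ p := Subtype.ext (by
      show (q * c) ^ p = q ^ p
      rw [← hqc]; exact hcp)
    rw [h2, mul_assoc] at h1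
    exact (left_eq_mul.mp h1)
  have hcomm : ⁅c', q'⁆ ^ p = 1 := by
    rw [← PGroup.comm_pow_right hcl]
    exact commutatorElement_eq_one_iff_mul_comm.mpr (Subtype.ext (hcen (q ^ p) hqp c hcQ).symm)
  have hsmall : IsSmall p c := by
    by_cases hp2 : p = 2
    · subst hp2
      refine Or.inr ⟨rfl, ?_⟩
      rw [Nat.choose_self, pow_one] at hcp'
      have : c' ^ 4 = 1 := by
        have h3 : c' ^ 2 = ⁅c', q'⁆⁻¹ := eq_inv_of_mul_eq_one_left hcp'
        rw [show (4 : ℕ) = 2 * 2 from rfl, pow_mul, h3, inv_pow, hcomm, inv_one]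
      exact congrArg Subtype.val this
    · refine Or.inl ?_
      have hdiv : p ∣ p.choose 2 := by
        have := hp.out.two_le
        exact hp.out.dvd_choose_self (by norm_num) (by omega)
      obtain ⟨d, hd⟩ := hdiv
      rw [hd, pow_mul, hcomm, one_pow, mul_one] at hcp'
      exact congrArg Subtype.val hcp'
  rw [(hs c hcQ hsmall).eq, mul_inv_cancel_right]

/-- Fusion of small elements controlled by `P` gives a normal `p`-complement. -/
theorem hasNormalPComplement_of_small_fusion [Finite G] {p : ℕ} [hp : Fact p.Prime] (P : Sylow p G)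
    (h : ∀ a ∈ (P : Subgroup G), IsSmall p a → ∀ g : G, g * a * g⁻¹ ∈ (P : Subgroup G) →
      ∃ x ∈ (P : Subgroup G), g * a * g⁻¹ = x * a * x⁻¹) :
    Cfsg.HasNormalPComplement p G := by
  refine Transfer.hasNormalPComplement_of_normalizer_centralizer P fun Q hQ _ y hy hyp => ?_
  clear * - hQ hy hyp h hp
  induction hn : Nat.card Q using Nat.strong_induction_on generalizing Q with | _ n ih => ?_
  subst hn
  have hQp : IsPGroup p Q := P.2.to_le hQ
  have hconj : ∀ q ∈ Q, y * q * y⁻¹ ∈ Q := fun q hq => (Subgroup.mem_normalizer_iff.mp hy q).mp hq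
  have hmap : ∀ R : Subgroup G, (∀ r ∈ R, y * r * y⁻¹ ∈ R) → y ∈ Subgroup.normalizer (R : Set G) := by
    intro R hinv
    have hm : R.map (MulAut.conj y).toMonoidHom = R := by
      refine Subgroup.eq_of_le_of_card_ge ?_ (by rw [Subgroup.card_map_of_injective (MulAut.conj y).injective])
      rintro _ ⟨x, hx, rfl⟩; exact hinv x hx
    rw [Subgroup.mem_normalizer_iff]
    intro x
    refine ⟨hinv x, fun hx => ?_⟩
    rw [← hm] at hx
    obtain ⟨x', hx', he⟩ := hx
    have : x' = x := by apply (MulAut.conj y).injective; simpa using he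
    exact this ▸ hx'
  by_cases hQ1 : Q = ⊥
  · rw [hQ1, Subgroup.mem_centralizer_iff]; intro q hq; simp [Subgroup.mem_bot.mp hq]
  set D := Subgroup.closure {a : G | a ∈ Q ∧ IsSmall p a} with hD
  have hDQ : D ≤ Q := (Subgroup.closure_le Q).mpr fun a ha => ha.1
  have hsc : ∀ a : G, IsSmall p a → IsSmall p (y * a * y⁻¹) := by
    rintro a (h1 | ⟨h1, h2⟩)
    · exact Or.inl (by rw [conj_pow, h1, mul_one, mul_inv_cancel])
    · exact Or.inr ⟨h1, by rw [conj_pow, h2, mul_one, mul_inv_cancel]⟩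
  by_cases hDeq : D = Q
  swap
  · -- the small elements generate a proper subgroup, centralized by induction
    have hlt : Nat.card D < Nat.card Q :=
      lt_of_le_of_ne (Subgroup.card_le_of_le hDQ) fun e => hDeq (Subgroup.eq_of_le_of_card_ge hDQ e.ge)
    have hDinv : ∀ r ∈ D, y * r * y⁻¹ ∈ D := by
      have hle : D ≤ D.comap (MulAut.conj y).toMonoidHom := (Subgroup.closure_le _).mpr fun a ha =>
        Subgroup.subset_closure ⟨hconj a ha.1, hsc a ha.2⟩
      exact fun r hr => hle hr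
    have := ih _ hlt D (hDQ.trans hQ) (hmap D hDinv) rfl
    exact mem_centralizer_of_small y hyp Q hQp hy fun a ha hs =>
      (Subgroup.mem_centralizer_iff.mp this a (Subgroup.subset_closure ⟨ha, hs⟩)).symm
  -- the position of `Q` in the lower central series of `P`
  obtain ⟨N, hN⟩ := ((P : Subgroup G).isNilpotent_iff_lowerCentralSeries).mp P.2.isNilpotent
  obtain ⟨i, hi1, hi2⟩ : ∃ i, Q ≤ (P : Subgroup G).lowerCentralSeries i ∧ ¬ Q ≤ (P : Subgroup G).lowerCentralSeries (i + 1) := by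
    by_contra hc; push Not at hc
    have : ∀ i, Q ≤ (P : Subgroup G).lowerCentralSeries i := fun i => by
      induction i with
      | zero => exact hQ
      | succ i ih => exact hc i ih
    exact hQ1 (le_bot_iff.mp (hN ▸ this N))
  set L := (P : Subgroup G).lowerCentralSeries (i + 1) with hL
  have hLn : ∀ a ∈ (P : Subgroup G), ∀ l ∈ L, a * l * a⁻¹ ∈ L := fun a ha l hl =>
    (Subgroup.mem_normalizer_iff.mp ((P : Subgroup G).self_le_normalizer_lowerCentralSeries (i + 1) ha) l).mp hl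
  let M : Subgroup G :=
    { carrier := {q | q ∈ Q ∧ y * q * y⁻¹ * q⁻¹ ∈ L}
      one_mem' := ⟨Q.one_mem, by simp⟩
      mul_mem' := fun {q r} hq hr => ⟨Q.mul_mem hq.1 hr.1, by
        have e : y * (q * r) * y⁻¹ * (q * r)⁻¹ =
          (y * q * y⁻¹ * q⁻¹) * (q * (y * r * y⁻¹ * r⁻¹) * q⁻¹) := by group
        rw [e]; exact L.mul_mem hq.2 (hLn q (hQ hq.1) _ hr.2)⟩
      inv_mem' := fun {q} hq => ⟨Q.inv_mem hq.1, by
        have e : y * q⁻¹ * y⁻¹ * q⁻¹⁻¹ = q⁻¹ * (y * q * y⁻¹ * q⁻¹)⁻¹ * (q⁻¹)⁻¹ := by group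
        rw [e]; exact hLn _ (hQ (Q.inv_mem hq.1)) _ (L.inv_mem hq.2)⟩ }
  have hDM : D ≤ M := by
    refine (Subgroup.closure_le M).mpr fun a ha => ⟨ha.1, ?_⟩
    obtain ⟨x, hx, hxe⟩ := h a (hQ ha.1) ha.2 y (hQ (hconj a ha.1))
    rw [hxe]
    have h3 : ⁅a, x⁆ ∈ L := Subgroup.commutator_mem_commutator (hi1 ha.1) hx
    have : x * a * x⁻¹ * a⁻¹ = ⁅a, x⁆⁻¹ := by rw [commutatorElement_inv, commutatorElement_def]
    rw [this]; exact L.inv_mem h3
  have hmod : ∀ q ∈ Q, y * q * y⁻¹ * q⁻¹ ∈ L := fun q hq => (hDM (hDeq.symm ▸ hq)).2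
  set E := Q ⊓ L with hE
  have hEinv : ∀ r ∈ E, y * r * y⁻¹ ∈ E := fun r hr => by
    obtain ⟨h1, h2⟩ := Subgroup.mem_inf.mp hr
    refine Subgroup.mem_inf.mpr ⟨hconj r h1, ?_⟩
    simpa using L.mul_mem (hmod r h1) h2
  have hlt : Nat.card E < Nat.card Q :=
    lt_of_le_of_ne (Subgroup.card_le_of_le inf_le_left) fun e =>
      hi2 ((Subgroup.eq_of_le_of_card_ge inf_le_left e.ge).ge.trans inf_le_right)
  have hEc := ih _ hlt E (inf_le_left.trans hQ) (hmap E hEinv) rfl
  rw [Subgroup.mem_centralizer_iff]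
  intro q hq
  set c := q⁻¹ * (y * q * y⁻¹) with hc
  have hcE : c ∈ E := by
    refine Subgroup.mem_inf.mpr ⟨Q.mul_mem (Q.inv_mem hq) (hconj q hq), ?_⟩
    have := hLn q⁻¹ (hQ (Q.inv_mem hq)) _ (hmod q hq)
    simpa [hc, mul_assoc] using this
  have hqc : y * q * y⁻¹ = q * c := by rw [hc]; group
  have hcfix : y * c * y⁻¹ = c :=
    mul_inv_eq_iff_eq_mul.mpr (Subgroup.mem_centralizer_iff.mp hEc c hcE).symm
  have := eq_one_of_fixed hQp hyp (Subgroup.mem_inf.mp hcE).1 hqc hcfix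
  rw [this, mul_one] at hqc
  exact (mul_inv_eq_iff_eq_mul.mp hqc).symm

/-- Small elements in the hypercentre give a normal `p`-complement. -/
theorem hasNormalPComplement_of_small_hypercentral [Finite G] {p : ℕ} [hp : Fact p.Prime] (n : ℕ)
    (h : ∀ a : G, IsSmall p a → a ∈ Subgroup.upperCentralSeries G n) :
    Cfsg.HasNormalPComplement p G := by
  obtain ⟨P⟩ := (inferInstance : Nonempty (Sylow p G))
  refine Transfer.hasNormalPComplement_of_normalizer_centralizer P fun Q hQ _ y hy hyp => ?_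
  have hQp : IsPGroup p Q := P.2.to_le hQ
  have hconj : ∀ q ∈ Q, y * q * y⁻¹ ∈ Q := fun q hq => (Subgroup.mem_normalizer_iff.mp hy q).mp hq
  have key : ∀ k, ∀ q ∈ Q, q ∈ Subgroup.upperCentralSeries G k → y * q * y⁻¹ = q := by
    intro k
    induction k with
    | zero => intro q _ hq; simp [Subgroup.mem_bot.mp (by simpa using hq)]
    | succ k ih =>
      intro q hq hqk
      rw [Subgroup.mem_upperCentralSeries_succ_iff] at hqk
      set c := q⁻¹ * (y * q * y⁻¹) with hc
      have hcQ : c ∈ Q := Q.mul_mem (Q.inv_mem hq) (hconj q hq)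
      have hqc : y * q * y⁻¹ = q * c := by rw [hc]; group
      have hck : c ∈ Subgroup.upperCentralSeries G k := by
        have h1 := (inferInstance : (Subgroup.upperCentralSeries G k).Normal).conj_mem _ ((Subgroup.upperCentralSeries G k).inv_mem (hqk y)) q⁻¹
        have e : c = q⁻¹ * ⁅q, y⁆⁻¹ * (q⁻¹)⁻¹ := by rw [hc, commutatorElement_def]; group
        rw [e]; exact h1
      have := eq_one_of_fixed hQp hyp hcQ hqc (ih c hcQ hck)
      rw [this, mul_one] at hqc
      exact hqc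
  exact mem_centralizer_of_small y hyp Q hQp hy fun a ha hs =>
    mul_inv_eq_iff_eq_mul.mp (key n a ha (h a hs))

end Cfsg.Agent.T51
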