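import Cfsg.Agent.Fus93.Critical
import Cfsg.Agent.Lib.PGroup.Commutator
import Cfsg.Agent.T51.SmallElements
import Mathlib.GroupTheory.SemidirectProduct

/-! Coprime automorphisms of `p`-groups and small elements. -/

set_option autoImplicit false

namespace Cfsg.Agent.T51

open scoped commutatorElement

variable {P : Type*} [Group P] [Finite P] {p : ℕ} [hp : Fact p.Prime]

/-- The ambient semidirect product of a group by its automorphism group. -/
abbrev HolP (P : Type*) [Group P] := P ⋊[MonoidHom.id (MulAut P)] (MulAut P)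

omit hp in
theorem finite_holP : Finite (HolP P) := Finite.of_equiv _ SemidirectProduct.equivProd.symm

omit hp in
theorem holP_conj (α : MulAut P) (x : P) :
    (SemidirectProduct.inr α : HolP P) * SemidirectProduct.inl x * (SemidirectProduct.inr α)⁻¹ =
      SemidirectProduct.inl (α x) := by
  rw [← map_inv, ← SemidirectProduct.inl_aut]
  rfl

/-- A `p'`-automorphism moving `x` by an element it fixes fixes `x`. -/
theorem fix_of_fixed_move (hP : IsPGroup p P) {α : MulAut P} (hα : (orderOf α).Coprime p) {x : P}
    (h : α (x⁻¹ * α x) = x⁻¹ * α x) : α x = x := by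
  have : Finite (HolP P) := finite_holP
  set y : HolP P := SemidirectProduct.inr α
  have hy : Nat.Coprime (orderOf y) p := by
    rwa [orderOf_injective (SemidirectProduct.inr : MulAut P →* HolP P) SemidirectProduct.inr_injective]
  have hc := eq_one_of_fixed (Q := (SemidirectProduct.inl : P →* HolP P).range)
    (hP.of_surjective (SemidirectProduct.inl : P →* HolP P).rangeRestrict
      (MonoidHom.rangeRestrict_surjective _)) hy (q := SemidirectProduct.inl x)
    (c := SemidirectProduct.inl (x⁻¹ * α x)) ⟨_, rfl⟩
    (by rw [holP_conj, ← map_mul, mul_inv_cancel_left]) (by rw [holP_conj, h])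
  rw [← map_one (SemidirectProduct.inl : P →* HolP P)] at hc
  exact (inv_mul_eq_one.mp (SemidirectProduct.inl_injective hc)).symm

/-- Blackburn's lemma for an automorphism. -/
theorem fix_of_small (hP : IsPGroup p P) {α : MulAut P} (hα : (orderOf α).Coprime p) (E : Subgroup P)
    (hE : ∀ e ∈ E, α e ∈ E) (hs : ∀ e ∈ E, IsSmall p e → α e = e) : ∀ e ∈ E, α e = e := by
  have : Finite (HolP P) := finite_holP
  set y : HolP P := SemidirectProduct.inr α
  have hy : Nat.Coprime (orderOf y) p := by
    rwa [orderOf_injective (SemidirectProduct.inr : MulAut P →* HolP P) SemidirectProduct.inr_injective]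
  have hinj := (SemidirectProduct.inl_injective : Function.Injective (SemidirectProduct.inl : P →* HolP P))
  set Q := E.map (SemidirectProduct.inl : P →* HolP P) with hQ
  have hmap : Q.map (MulAut.conj y).toMonoidHom = Q := by
    refine Subgroup.eq_of_le_of_card_ge ?_ (le_of_eq (Subgroup.card_map_of_injective
      (f := (MulAut.conj y).toMonoidHom) (MulEquiv.injective _)).symm)
    rintro _ ⟨_, ⟨e, he, rfl⟩, rfl⟩
    exact ⟨α e, hE e he, (holP_conj α e).symm⟩
  have hyQ : y ∈ Subgroup.normalizer (Q : Set (HolP P)) := by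
    rw [Subgroup.mem_normalizer_iff]
    intro z
    constructor
    · intro hz
      rw [← hmap]
      exact ⟨z, hz, rfl⟩
    · intro hz
      rw [← hmap] at hz
      obtain ⟨w, hw, e⟩ := hz
      exact (MulAut.conj y).injective e ▸ hw
  have hmem := mem_centralizer_of_small y hy Q ((hP.to_subgroup E).map _) hyQ (by
    rintro _ ⟨e, he, rfl⟩ hsm
    rw [commute_iff_eq, ← mul_inv_eq_iff_eq_mul, holP_conj]
    refine congrArg _ (hs e he ?_)
    rcases hsm with h | ⟨h2, h⟩
    · exact Or.inl (hinj (by rw [map_pow, h, map_one]))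
    · exact Or.inr ⟨h2, hinj (by rw [map_pow, h, map_one])⟩)
  intro e he
  refine hinj ?_
  rw [← holP_conj, mul_inv_eq_iff_eq_mul]
  exact (Subgroup.mem_centralizer_iff.mp hmem _ ⟨e, he, rfl⟩).symm

end Cfsg.Agent.T51
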