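import Cfsg.Agent.T51.EFacMain
import Cfsg.Prelude.Def_ConjugacyFunctors

/-!
The two functors `J` and `Ω₁ Z(Ĵ)`.
-/

set_option autoImplicit false
set_option linter.unusedVariables false
set_option linter.unusedSectionVars false
set_option linter.style.haveILetI false

namespace Cfsg.Agent.T51.EG

open Thompson

universe u

/-- `J`, as a functor. -/
abbrev funJ (Q : Type u) [Group Q] : Subgroup Q := Cfsg.thompsonSubgroupOf 2 (⊤ : Subgroup Q)

/-- `Ω₁ Z(Ĵ)`, as a functor. -/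
abbrev funW (Q : Type u) [Group Q] : Subgroup Q := wh (⊤ : Subgroup Q)

variable {G : Type u} [Group G]

theorem inducedFunctor_funJ (P : Subgroup G) :
    Cfsg.inducedFunctor funJ P = Cfsg.thompsonSubgroupOf 2 P := by
  show (Cfsg.thompsonSubgroupOf 2 (⊤ : Subgroup ↥P)).map P.subtype = _
  rw [thompson_map P.subtype P.subtype_injective, ← MonoidHom.range_eq_map, Subgroup.range_subtype]

theorem inducedFunctor_funW (P : Subgroup G) : Cfsg.inducedFunctor funW P = wh P := by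
  show (wh (⊤ : Subgroup ↥P)).map P.subtype = _
  rw [wh_map P.subtype P.subtype_injective, ← MonoidHom.range_eq_map, Subgroup.range_subtype]

variable [Finite G]

theorem omegaOne_center_le (P : Subgroup G) :
    Cfsg.omegaOne 2 (P ⊓ Subgroup.centralizer (P : Set G)) ≤ Cfsg.thompsonSubgroupOf 2 P ∧
      Cfsg.omegaOne 2 (P ⊓ Subgroup.centralizer (P : Set G)) ≤ wh P := by
  set E := Cfsg.omegaOne 2 (P ⊓ Subgroup.centralizer (P : Set G)) with hE
  have hEP : E ≤ P := (omegaOne_le _ _).trans inf_le_left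
  have hEc : E ≤ Subgroup.centralizer (P : Set G) := (omegaOne_le _ _).trans inf_le_right
  have hEe : Cfsg.IsElementaryAbelian 2 E := isElementaryAbelian_omegaOne ⟨⟨fun x y => Subtype.ext
    (Subgroup.mem_centralizer_iff.1 y.2.2 x x.2.1)⟩⟩
  obtain ⟨A, hA⟩ := exists_isMaxEAIn 2 P
  have hB : Cfsg.IsElementaryAbelian 2 (A ⊔ E : Subgroup G) :=
    isElementaryAbelian_sup hA.2.1 hEe (Subgroup.le_centralizer_iff.1
      (hEc.trans (Subgroup.centralizer_le hA.1)))
  have hEA : E ≤ A := le_sup_right.trans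
    (Subgroup.eq_of_le_of_card_ge le_sup_left (hA.2.2 _ (sup_le hA.1 hEP) hB)).ge
  have hEJ : E ≤ Cfsg.thompsonSubgroupOf 2 P := hEA.trans (le_thompsonSubgroupOf hA)
  exact ⟨hEJ, fun v hv => mem_omegaOne
    ⟨thompson_le_jh P (hEJ hv), Subgroup.centralizer_le (jh_le P) (hEc hv)⟩ (hEe.2 v hv)⟩

theorem omegaOne_center_ne_bot {Q : Type u} [Group Q] [Finite Q] (hQ : IsPGroup 2 Q)
    (hne : Nontrivial Q) :
    Cfsg.omegaOne 2 ((⊤ : Subgroup Q) ⊓ Subgroup.centralizer ((⊤ : Subgroup Q) : Set Q)) ≠ ⊥ := by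
  haveI : Fact (Nat.Prime 2) := ⟨Nat.prime_two⟩
  haveI := hne
  haveI := hQ.center_nontrivial
  have hZ : IsPGroup 2 ↥(Subgroup.center Q) := hQ.to_subgroup _
  obtain ⟨k, hk⟩ := IsPGroup.iff_card.1 hZ
  have h2 : 2 ∣ Nat.card ↥(Subgroup.center Q) := by
    rw [hk]
    refine dvd_pow_self 2 fun h => ?_
    rw [h, pow_zero] at hk
    exact absurd hk (ne_of_gt Finite.one_lt_card)
  obtain ⟨z, hz⟩ := exists_prime_orderOf_dvd_card' 2 h2
  intro h
  have hz' : orderOf (z : Q) = 2 := by rw [Subgroup.orderOf_coe, hz]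
  have hmem : (z : Q) ∈ Cfsg.omegaOne 2
      ((⊤ : Subgroup Q) ⊓ Subgroup.centralizer ((⊤ : Subgroup Q) : Set Q)) :=
    mem_omegaOne ⟨Subgroup.mem_top _, Subgroup.mem_centralizer_iff.2 fun q _ =>
      Subgroup.mem_center_iff.1 z.2 q⟩ (hz' ▸ pow_orderOf_eq_one (z : Q))
  rw [h, Subgroup.mem_bot] at hmem
  rw [hmem, orderOf_one] at hz'
  omega

theorem isCharPFunctor_funJ : Cfsg.IsCharPFunctor.{u} 2 funJ := by
  refine ⟨fun Q _ _ hQ hne h => omegaOne_center_ne_bot hQ hne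
    (le_bot_iff.1 (h ▸ (omegaOne_center_le (⊤ : Subgroup Q)).1)), fun Q R _ _ _ _ φ => ?_⟩
  show (Cfsg.thompsonSubgroupOf 2 (⊤ : Subgroup Q)).map φ.toMonoidHom = _
  rw [thompson_map φ.toMonoidHom φ.injective, Subgroup.map_top_of_surjective _ φ.surjective]

theorem isCharPFunctor_funW : Cfsg.IsCharPFunctor.{u} 2 funW := by
  refine ⟨fun Q _ _ hQ hne h => omegaOne_center_ne_bot hQ hne
    (le_bot_iff.1 (h ▸ (omegaOne_center_le (⊤ : Subgroup Q)).2)), fun Q R _ _ _ _ φ => ?_⟩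
  show (wh (⊤ : Subgroup Q)).map φ.toMonoidHom = _
  rw [wh_map φ.toMonoidHom φ.injective, Subgroup.map_top_of_surjective _ φ.surjective]

/-- The three factorizations needed of a constrained section. -/
theorem section_factor {X : Type u} [Group X] [Finite X]
    (hchar : Subgroup.centralizer (Cfsg.pCore 2 X : Set X) ≤ Cfsg.pCore 2 X)
    (hfree : ¬ Cfsg.Involves (Equiv.Perm (Fin 4)) X) (hc : CompK X) (T : Sylow 2 X) :
    (∀ x : X, ∃ a ∈ Subgroup.centralizer ((Cfsg.omegaOne 2 ((T : Subgroup X) ⊓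
        Subgroup.centralizer ((T : Subgroup X) : Set X)) : Subgroup X) : Set X),
      ∃ b ∈ Subgroup.normalizer ((Cfsg.inducedFunctor funJ (T : Subgroup X) : Subgroup X) : Set X),
        x = a * b) ∧
    (∀ x : X, ∃ a ∈ Subgroup.centralizer ((Cfsg.omegaOne 2 ((T : Subgroup X) ⊓
        Subgroup.centralizer ((T : Subgroup X) : Set X)) : Subgroup X) : Set X),
      ∃ b ∈ Subgroup.normalizer ((Cfsg.inducedFunctor funW (T : Subgroup X) : Subgroup X) : Set X),
        x = a * b) ∧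
    (∀ x : X, ∃ a ∈ Subgroup.normalizer
        ((Cfsg.inducedFunctor funJ (T : Subgroup X) : Subgroup X) : Set X),
      ∃ b ∈ Subgroup.normalizer ((Cfsg.inducedFunctor funW (T : Subgroup X) : Subgroup X) : Set X),
        x = a * b) := by
  rw [inducedFunctor_funJ, inducedFunctor_funW]
  refine ⟨fun x => ?_, fun x => ?_, fun x => ?_⟩
  · obtain ⟨c, hcm, n, h1, h2, e⟩ := factor_one hchar hfree hc T x
    exact ⟨c, Subgroup.centralizer_le (SetLike.coe_subset_coe.2 (omegaOne_le _ _)) hcm, n, h1, e⟩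
  · obtain ⟨c, hcm, n, h1, h2, e⟩ := factor_one hchar hfree hc T x
    exact ⟨c, Subgroup.centralizer_le (SetLike.coe_subset_coe.2 (omegaOne_le _ _)) hcm, n,
      normalizer_jh_le_wh _ h2, e⟩
  · obtain ⟨c, hcm, n, hn, e⟩ := factor_three _ X rfl hchar hfree hc T x⁻¹
    exact ⟨n⁻¹, inv_mem hn, c⁻¹, inv_mem (Subgroup.centralizer_le_normalizer _ hcm),
      by rw [← mul_inv_rev, ← e, inv_inv]⟩

end Cfsg.Agent.T51.EG
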