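import Cfsg.Agent.T51.OffCore

/-!
**No offenders on a module generated by a subgroup without offenders.**  Let a group of
automorphisms of a group `V` of exponent two have no section `S₃`, let `T` be a Sylow 2-subgroup and
`W` a `T`-invariant subgroup generating `V` as an invariant subgroup.  If `T` has no offenders on
`W`, then it has none on `V`.
-/

set_option autoImplicit false
set_option linter.unusedVariables false
set_option linter.unusedSectionVars false
set_option linter.style.haveILetI false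

namespace Cfsg.Agent.T51.Off

open QOff FacGen Equiv

universe u

theorem free_top : ∀ (n : ℕ) (V : Type u) [CommGroup V] [Finite V] (X T : Subgroup (MulAut V))
    (W : Subgroup V), Nat.card X ≤ n → (∀ v : V, v * v = 1) →
      ¬ Cfsg.Involves (Perm (Fin 3)) ↥X → IsSyl T X → Inv T W → orb X W = ⊤ → Free T W →
        Free T (⊤ : Subgroup V) := by
  intro n
  induction n using Nat.strong_induction_on with
  | _ n ih =>
  intro V _ _ X T W hn h2 hS3 hT hTW horb hfree
  haveI := finite_aut (V := V)
  have IH : Below X := by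
    intro Y T' W' hY hT' hinv hfree'
    have hcard : Nat.card Y < Nat.card X := by
      by_contra hge
      exact hY.ne (Subgroup.eq_of_le_of_card_ge hY.le (not_lt.1 hge))
    have hU : ∀ x ∈ Y, ∀ v ∈ orb Y W', x v ∈ orb Y W' := orb_inv
    have hWU := le_orb Y W'
    set q := subAct hU with hq
    refine free_of_img_top hU hT'.1 ?_
    refine ih (Nat.card Y) (hcard.trans_le hn) ↥(orb Y W') q.range (img q T')
      (W'.subgroupOf (orb Y W'))
      (Nat.card_le_card_of_surjective q.rangeRestrict q.rangeRestrict_surjective)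
      (fun r => Subtype.ext (h2 r)) (fun h => hS3 (involves_of_le hY.le (involves_of_range q h)))
      (isSyl_img hU hT') ?_ ?_ (free_img hU hT'.1 hWU hfree')
    · intro t' ht' w hw
      obtain ⟨t, _, ht, rfl⟩ := (mem_img q).1 ht'
      exact hinv t ht _ hw
    · rw [eq_top_iff]
      intro u _
      have hle : orb Y W' ≤ (orb q.range (W'.subgroupOf (orb Y W'))).map (orb Y W').subtype :=
        orb_le fun y hy w hw => ⟨q ⟨y, hy⟩ ⟨w, hWU hw⟩,
          map_le_orb (show q ⟨y, hy⟩ ∈ q.range from ⟨_, rfl⟩) ⟨⟨w, hWU hw⟩, hw, rfl⟩, rfl⟩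
      obtain ⟨z, hz, hzu⟩ := hle u.2
      exact Subtype.ext hzu ▸ hz
  obtain ⟨W₁, ⟨hWW₁, hTW₁, hfree₁⟩, hmax⟩ := Set.exists_max_image
    {W₁ : Subgroup V | W ≤ W₁ ∧ Inv T W₁ ∧ Free T W₁} (fun W₁ => Nat.card W₁) (Set.toFinite _)
    ⟨W, le_rfl, hTW, hfree⟩
  by_contra hnt
  obtain ⟨H, A, hc⟩ := exists_config h2 IH hT hTW₁ (top_le_iff.1 (horb ▸ orb_mono hWW₁)) hfree₁
    (fun W' h1 h3 h4 => (Subgroup.eq_of_le_of_card_ge h1 (hmax W' ⟨hWW₁.trans h1, h3, h4⟩)).symm) hnt
  exact false_of_config h2 hc hS3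

/-- No nontrivial best offender. -/
theorem rad_eq_bot {V : Type u} [CommGroup V] [Finite V] (h2 : ∀ v : V, v * v = 1)
    {X T : Subgroup (MulAut V)} {W : Subgroup V} (hS3 : ¬ Cfsg.Involves (Perm (Fin 3)) ↥X)
    (hT : IsSyl T X) (hTW : Inv T W) (horb : orb X W = ⊤) (hfree : Free T W) : rad T = ⊥ :=
  le_bot_iff.1 ((rad_le_fixStab (free_top _ V X T W le_rfl h2 hS3 hT hTW horb hfree)).trans
    fixStab_top.le)

/-- A pointwise fixed subgroup has no offenders. -/
theorem free_of_le_fixStab {V : Type u} [CommGroup V] {T : Subgroup (MulAut V)} {W : Subgroup V}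
    (h : T ≤ fixStab W) : Free T W :=
  fun E hE _ hne => absurd (hE.trans h) hne

end Cfsg.Agent.T51.Off
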