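import Cfsg.Agent.T51.BndMain
import Mathlib.GroupTheory.FiniteAbelian.Duality

/-!
The bound for quotients and for the dual module: `|A|² ≤ |[V,A]|`, and the form for a group acting
by conjugation.
-/

set_option autoImplicit false
set_option linter.unusedVariables false
set_option linter.unusedSectionVars false
set_option linter.style.haveILetI false

namespace Cfsg.Agent.T51.Bnd

open QOff Equiv

universe u

theorem isK_congr {X Y : Type u} [Group X] [Group Y] (e : X ≃* Y)
    (h : Cfsg.IsSuzukiOrPSL2OddPowerThree X) : Cfsg.IsSuzukiOrPSL2OddPowerThree Y := by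
  rcases h with ⟨F, i1, i2, m, hm, hF, ⟨f⟩⟩ | ⟨F, i1, i2, n, hF, ⟨f⟩⟩
  · exact Or.inl ⟨F, i1, i2, m, hm, hF, ⟨e.symm.trans f⟩⟩
  · exact Or.inr ⟨F, i1, i2, n, hF, ⟨e.symm.trans f⟩⟩

/-- The composition condition passes to images. -/
theorem composition_surjective {G G' : Type u} [Group G] [Group G'] (f : G →* G')
    (hf : Function.Surjective f)
    (h : Cfsg.IsCompositionKGroupWith Cfsg.IsSuzukiOrPSL2OddPowerThree G) :
    Cfsg.IsCompositionKGroupWith Cfsg.IsSuzukiOrPSL2OddPowerThree G' := by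
  intro H' hH' N' hN' hs hnc
  let g : ↥(H'.comap f) →* ↥H' := f.subgroupComap H'
  have hg : Function.Surjective g := fun a => by
    obtain ⟨k, hk⟩ := hf (a : G')
    exact ⟨⟨k, show f k ∈ H' from hk ▸ a.2⟩, Subtype.ext hk⟩
  let q : ↥(H'.comap f) →* ↥H' ⧸ N' := (QuotientGroup.mk' N').comp g
  let e := QuotientGroup.quotientKerEquivOfSurjective q ((QuotientGroup.mk'_surjective N').comp hg)
  haveI := hs
  haveI hs' : IsSimpleGroup (↥(H'.comap f) ⧸ q.ker) := MulEquiv.isSimpleGroup e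
  refine isK_congr e (h _ (hH'.comap f) q.ker hs' fun hc => hnc ?_)
  refine ⟨⟨fun x y => ?_⟩⟩
  obtain ⟨x, rfl⟩ := e.surjective x
  obtain ⟨y, rfl⟩ := e.surjective y
  rw [← map_mul, ← map_mul, mul_comm']

/-- The composition and core conditions for an isomorphic group of automorphisms. -/
theorem transfer {G G' : Type u} [Group G] [Finite G] [Group G'] (e : G ≃* G')
    (hO : Cfsg.pCore 2 G = ⊥) (hS3 : ¬ Cfsg.Involves (Perm (Fin 3)) G)
    (hc : Cfsg.IsCompositionKGroupWith Cfsg.IsSuzukiOrPSL2OddPowerThree G) :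
    Cfsg.pCore 2 G' = ⊥ ∧ ¬ Cfsg.Involves (Perm (Fin 3)) G' ∧
      Cfsg.IsCompositionKGroupWith Cfsg.IsSuzukiOrPSL2OddPowerThree G' := by
  refine ⟨?_, fun h => hS3 ?_, composition_surjective e.toMonoidHom e.surjective hc⟩
  · rw [← Thompson.map_pCore_equiv e, hO, Subgroup.map_bot]
  · exact LocalEven61.involves_trans h
      (LocalEven61.involves_of_hom e.toMonoidHom e.surjective (MonoidHom.id G) fun _ _ h => h)

variable {V : Type u} [CommGroup V] [Finite V]

/-- The group generated by the `a v · v⁻¹`. -/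
abbrev cA (A : Subgroup (MulAut V)) : Subgroup V :=
  Subgroup.closure {w | ∃ a ∈ A, ∃ v : V, w = a v * v⁻¹}

/-- The second inequality. -/
theorem sq_card_le_commutator (h2 : ∀ v : V, v * v = 1) {X : Subgroup (MulAut V)}
    (hO : Cfsg.pCore 2 ↥X = ⊥) (hS3 : ¬ Cfsg.Involves (Perm (Fin 3)) ↥X)
    (hc : Cfsg.IsCompositionKGroupWith Cfsg.IsSuzukiOrPSL2OddPowerThree ↥X)
    {A : Subgroup (MulAut V)} (hAX : A ≤ X) (hA : ∀ a ∈ A, a * a = 1) :
    Nat.card A ^ 2 ≤ Nat.card (cA A) := by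
  haveI := finite_aut (V := V)
  haveI : NeZero (Monoid.exponent V) := ⟨Monoid.exponent_ne_zero_of_finite⟩
  haveI : HasEnoughRootsOfUnity ℂ (Monoid.exponent V) := inferInstance
  haveI : Finite (V →* ℂˣ) :=
    Finite.of_equiv V (CommGroup.monoidHom_mulEquiv_of_hasEnoughRootsOfUnity V ℂ).some.toEquiv.symm
  let δ : MulAut V →* MulAut (V →* ℂˣ) := MonoidHom.mk'
    (fun a =>
      { toFun := fun φ => φ.comp (a⁻¹ : MulAut V).toMonoidHom
        invFun := fun φ => φ.comp a.toMonoidHom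
        left_inv := fun φ => MonoidHom.ext fun v => congrArg φ (MulAut.inv_apply_self V a v)
        right_inv := fun φ => MonoidHom.ext fun v => congrArg φ (MulAut.apply_inv_self V a v)
        map_mul' := fun φ φ' => MonoidHom.ext fun v => rfl })
    fun a b => MulEquiv.ext fun φ => MonoidHom.ext fun v => by
      show φ ((a * b)⁻¹ v) = φ (b⁻¹ (a⁻¹ v))
      rw [mul_inv_rev, MulAut.mul_apply]
  have hδ : ∀ (a : MulAut V) (φ : V →* ℂˣ) (v : V), δ a φ v = φ (a⁻¹ v) := fun a φ v => rfl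
  have hδi : Function.Injective δ := by
    refine (injective_iff_map_eq_one _).2 fun a ha => MulEquiv.ext fun v => ?_
    have h1 : ∀ φ : V →* ℂˣ, φ (a⁻¹ v) = φ v := fun φ => by
      rw [← hδ, ha]; rfl
    have h3 := (CommGroup.forall_apply_eq_apply_iff V (M := ℂ)).1 h1
    calc a v = a (a⁻¹ v) := by rw [h3]
      _ = v := MulAut.apply_inv_self V a v
  obtain ⟨hO', hS3', hc'⟩ := transfer (X.equivMapOfInjective δ hδi) hO hS3 hc
  have h2' : ∀ φ : V →* ℂˣ, φ * φ = 1 := fun φ => MonoidHom.ext fun v => by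
    rw [MonoidHom.mul_apply, ← map_mul, h2, map_one, MonoidHom.one_apply]
  have hb : Bound (A.map δ) := bound_of_composition (V := V →* ℂˣ) h2' hO' hS3' hc' _ (Subgroup.map_mono hAX) (by
    rintro _ ⟨a, ha, rfl⟩
    rw [← map_mul, hA a ha, map_one])
  set W := cA A with hW
  -- the annihilator of `[V,A]` consists of fixed characters
  let j : (V ⧸ W →* ℂˣ) → ↥(fixSub (V := V →* ℂˣ) (A.map δ)) := fun φ => ⟨φ.comp (QuotientGroup.mk' W), by
    rintro _ ⟨a, ha, rfl⟩
    refine MonoidHom.ext fun v => ?_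
    rw [hδ]
    show φ (QuotientGroup.mk' W (a⁻¹ v)) = φ (QuotientGroup.mk' W v)
    refine congrArg φ ((QuotientGroup.eq_iff_div_mem).2 ?_)
    rw [div_eq_mul_inv]
    exact Subgroup.subset_closure ⟨a⁻¹, A.inv_mem ha, v, rfl⟩⟩
  have hji : Function.Injective j := fun φ φ' h => MonoidHom.ext fun x => by
    obtain ⟨v, rfl⟩ := QuotientGroup.mk'_surjective W x
    exact DFunLike.congr_fun (congrArg Subtype.val h) v
  haveI : NeZero (Monoid.exponent (V ⧸ W)) := ⟨Monoid.exponent_ne_zero_of_finite⟩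
  haveI : HasEnoughRootsOfUnity ℂ (Monoid.exponent (V ⧸ W)) := inferInstance
  have hq : Nat.card (V ⧸ W) ≤ Nat.card (fixSub (V := V →* ℂˣ) (A.map δ)) := by
    rw [← CommGroup.card_monoidHom_of_hasEnoughRootsOfUnity (V ⧸ W) ℂ]
    exact Nat.card_le_card_of_injective j hji
  have hcard : Nat.card (A.map δ) = Nat.card A := Subgroup.card_map_of_injective hδi
  have hb' : Nat.card A ^ 2 * Nat.card (fixSub (V := V →* ℂˣ) (A.map δ)) ≤ Nat.card (V →* ℂˣ) := hcard ▸ hb
  rw [CommGroup.card_monoidHom_of_hasEnoughRootsOfUnity] at hb'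
  have e : Nat.card V = Nat.card (V ⧸ W) * Nat.card W := Subgroup.card_eq_card_quotient_mul_card_subgroup W
  refine Nat.le_of_mul_le_mul_left ?_ (Nat.card_pos (α := V ⧸ W))
  calc Nat.card (V ⧸ W) * Nat.card A ^ 2 ≤ Nat.card (fixSub (V := V →* ℂˣ) (A.map δ)) * Nat.card A ^ 2 :=
        Nat.mul_le_mul_right _ hq
    _ = Nat.card A ^ 2 * Nat.card (fixSub (V := V →* ℂˣ) (A.map δ)) := mul_comm _ _
    _ ≤ Nat.card V := hb'
    _ = _ := e

/-- Both bounds for conjugation on an elementary abelian subgroup. -/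
theorem bound_conj {L : Type u} [Group L] [Finite L] (M G : Subgroup L)
    (hM : Cfsg.IsElementaryAbelian 2 M) (hGM : G ≤ Subgroup.normalizer (M : Set L))
    (hf : G ⊓ Subgroup.centralizer (M : Set L) = ⊥) (ha : Cfsg.pCore 2 ↥G = ⊥)
    (hb : ¬ Cfsg.Involves (Perm (Fin 3)) ↥G)
    (hc : Cfsg.IsCompositionKGroupWith Cfsg.IsSuzukiOrPSL2OddPowerThree ↥G)
    {A : Subgroup L} (hA : A ≤ G) (hAe : Cfsg.IsElementaryAbelian 2 A) :
    Nat.card A ^ 2 * Nat.card ↥(M ⊓ Subgroup.centralizer (A : Set L)) ≤ Nat.card M ∧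
      Nat.card A ^ 2 ≤ Nat.card ↥⁅M, A⁆ := by
  letI : CommGroup ↥M := { (inferInstance : Group ↥M) with mul_comm := hM.1.is_comm.comm }
  haveI := finite_aut (V := ↥M)
  have h2 : ∀ v : ↥M, v * v = 1 := fun v => Subtype.ext (by
    rw [Subgroup.coe_mul, ← pow_two, hM.2 v v.2, Subgroup.coe_one])
  let θ : ↥G →* MulAut ↥M :=
    MonoidHom.mk' (fun g =>
      { toFun := fun v => ⟨(g : L) * v * (g : L)⁻¹, (Subgroup.mem_normalizer_iff.1 (hGM g.2) _).1 v.2⟩
        invFun := fun v => ⟨(g : L)⁻¹ * v * (g : L),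
          (Subgroup.mem_normalizer_iff.1 (hGM g.2) _).2 (by simp [mul_assoc])⟩
        left_inv := fun v => Subtype.ext (by simp [mul_assoc])
        right_inv := fun v => Subtype.ext (by simp [mul_assoc])
        map_mul' := fun v w => Subtype.ext (by simp [mul_assoc]) })
      fun g h => MulEquiv.ext fun v => Subtype.ext (by simp [mul_assoc])
  have hθ : ∀ (g : ↥G) (v : ↥M), ((θ g v : ↥M) : L) = (g : L) * v * (g : L)⁻¹ := fun g v => rfl
  have hθi : Function.Injective θ := by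
    refine (injective_iff_map_eq_one _).2 fun g hg => ?_
    have : (g : L) ∈ G ⊓ Subgroup.centralizer (M : Set L) := by
      refine ⟨g.2, Subgroup.mem_centralizer_iff.2 fun v hv => ?_⟩
      have := congrArg Subtype.val (DFunLike.congr_fun hg (⟨v, hv⟩ : ↥M))
      exact (mul_inv_eq_iff_eq_mul.1 this).symm
    rw [hf, Subgroup.mem_bot] at this
    exact Subtype.ext this
  obtain ⟨hO', hS3', hc'⟩ := transfer (MonoidHom.ofInjective hθi) ha hb hc
  set A' := (A.subgroupOf G).map θ with hA'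
  have hA'X : A' ≤ θ.range := Subgroup.map_le_range _ _
  have hA'2 : ∀ a ∈ A', a * a = 1 := by
    rintro _ ⟨a, ha', rfl⟩
    rw [← map_mul, show a * a = 1 from Subtype.ext (by
      rw [Subgroup.coe_mul, ← pow_two, hAe.2 (a : L) ha', Subgroup.coe_one]), map_one]
  have hcard : Nat.card A' = Nat.card A := by
    rw [hA', Subgroup.card_map_of_injective hθi, Nat.card_congr (Subgroup.subgroupOfEquivOfLe hA).toEquiv]
  constructor
  · have h1 := bound_of_composition h2 hO' hS3' hc' A' hA'X hA'2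
    have h3 : Nat.card ↥(M ⊓ Subgroup.centralizer (A : Set L)) ≤ Nat.card (fixSub A') := by
      refine (Subgroup.card_le_of_le (K := (fixSub A').map M.subtype) ?_).trans
        (Subgroup.card_map_of_injective M.subtype_injective).le
      rintro v ⟨hv, hvc⟩
      refine ⟨⟨v, hv⟩, ?_, rfl⟩
      rintro _ ⟨a, ha', rfl⟩
      refine Subtype.ext ?_
      rw [hθ, Subgroup.mem_centralizer_iff.1 hvc (a : L) ha', mul_inv_cancel_right]
    refine le_trans (Nat.mul_le_mul_left _ h3) ?_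
    rw [← hcard]
    exact h1
  · have h1 := sq_card_le_commutator h2 hO' hS3' hc' hA'X hA'2
    rw [hcard] at h1
    refine h1.trans ((Subgroup.card_map_of_injective M.subtype_injective).ge.trans
      (Subgroup.card_le_of_le ?_))
    rw [Subgroup.map_le_iff_le_comap, Subgroup.closure_le]
    rintro _ ⟨_, ⟨a, ha', rfl⟩, v, rfl⟩
    show ((θ a v * v⁻¹ : ↥M) : L) ∈ ⁅M, A⁆
    rw [Subgroup.coe_mul, Subgroup.coe_inv, hθ, ← commutatorElement_def, Subgroup.commutator_comm]
    exact Subgroup.commutator_mem_commutator ha' v.2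

end Cfsg.Agent.T51.Bnd
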