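import Cfsg.Agent.Lib.Thompson.PSolvable
import Cfsg.Agent.Lib.Coprime.Action

/-! `O_{p',p}` and the normalizer of its Sylow subgroup `P ⊓ O_{p',p}`. -/

set_option autoImplicit false

namespace Cfsg.Agent.T51

open Cfsg

variable {G : Type*} [Group G] [Finite G] {p : ℕ} [Fact p.Prime]

theorem coprime_of_pGroup {A D : Subgroup G} (hA : IsPGroup p A) (hD : (Nat.card D).Coprime p) :
    (Nat.card A).Coprime (Nat.card D) := by
  obtain ⟨k, hk⟩ := IsPGroup.iff_card.mp hA
  rw [hk]
  exact (hD.symm).pow_left k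

theorem pPrimePCore_le (P : Sylow p G) :
    pPrimePCore p G ≤ pPrimeCore p G ⊔ ((P : Subgroup G) ⊓ pPrimePCore p G) := by
  intro x hx
  set π := QuotientGroup.mk' (pPrimeCore p G) with hπ
  have h : pCore p (G ⧸ pPrimeCore p G) ≤ (P : Subgroup G).map π := by
    have := Thompson.pCore_le_sylow (P.mapSurjective (QuotientGroup.mk'_surjective (pPrimeCore p G)))
    rwa [Sylow.coe_mapSurjective] at this
  obtain ⟨u, hu, e⟩ := h hx
  have hxu : x * u⁻¹ ∈ pPrimeCore p G := by
    rw [← QuotientGroup.eq_one_iff, ← QuotientGroup.mk'_apply, map_mul, map_inv, e, mul_inv_cancel]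
  have hu' : u ∈ pPrimePCore p G := by
    have := (pPrimePCore p G).mul_mem ((pPrimePCore p G).inv_mem
      (Thompson.pPrimeCore_le_pPrimePCore hxu)) hx
    simpa using this
  simpa using Subgroup.mul_mem_sup hxu (Subgroup.mem_inf.mpr ⟨hu, hu'⟩)

theorem le_normalizer_inf_pPrimePCore (P : Sylow p G) :
    (P : Subgroup G) ≤ Subgroup.normalizer (((P : Subgroup G) ⊓ pPrimePCore p G : Subgroup G) : Set G) :=
  Coprime.le_normalizer_inf Subgroup.le_normalizer (le_top.trans_eq (Subgroup.normalizer_eq_top _).symm)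

/-- `G = O_{p'}(G) N_G(P ∩ O_{p',p}(G))`. -/
theorem exists_mul_normalizer (P : Sylow p G) (g : G) : ∃ d ∈ pPrimeCore p G,
    ∃ n ∈ Subgroup.normalizer (((P : Subgroup G) ⊓ pPrimePCore p G : Subgroup G) : Set G), g = d * n := by
  set D := pPrimeCore p G
  set H := (P : Subgroup G) ⊓ pPrimePCore p G with hH
  set A := H.map (MulAut.conj g).toMonoidHom with hA
  have hHp : IsPGroup p H := P.2.to_le inf_le_left
  have hnD : ∀ X : Subgroup G, X ≤ Subgroup.normalizer (D : Set G) := fun X =>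
    le_top.trans_eq (Subgroup.normalizer_eq_top _).symm
  have hAO : A ≤ D ⊔ H := by
    rintro _ ⟨x, hx, rfl⟩
    exact pPrimePCore_le P ((inferInstance : (pPrimePCore p G).Normal).conj_mem x hx.2 g)
  obtain ⟨d, hd, hdA⟩ := Coprime.exists_conj_le_of_le_sup A D H (hnD A) (hnD H)
    (coprime_of_pGroup (hHp.map _) Thompson.card_pPrimeCore_coprime)
    (Or.inl (Coprime.isSolvable_of_isNilpotent' (hHp.map _).isNilpotent)) hAO
  refine ⟨d⁻¹, inv_mem hd, d * g, ?_, by group⟩
  have e : H.map (MulAut.conj (d * g)).toMonoidHom = H := by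
    refine Subgroup.eq_of_le_of_card_ge ?_ (le_of_eq (Subgroup.card_map_of_injective
      (f := (MulAut.conj (d * g)).toMonoidHom) (MulEquiv.injective _)).symm)
    rintro _ ⟨x, hx, rfl⟩
    have := hdA _ ⟨x, hx, rfl⟩
    simpa [mul_assoc] using this
  rw [Subgroup.mem_normalizer_iff]
  intro x
  constructor
  · intro hx
    rw [← e]
    exact ⟨x, hx, rfl⟩
  · intro hx
    rw [← e] at hx
    obtain ⟨y, hy, hxy⟩ := hx
    exact (MulAut.conj (d * g)).injective hxy ▸ hy

theorem inf_normalizer_le_centralizer (P : Sylow p G) :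
    pPrimeCore p G ⊓ Subgroup.normalizer (((P : Subgroup G) ⊓ pPrimePCore p G : Subgroup G) : Set G) ≤
      Subgroup.centralizer (((P : Subgroup G) ⊓ pPrimePCore p G : Subgroup G) : Set G) := by
  intro d hd
  refine Coprime.mem_centralizer_of_conj_mem (K := pPrimeCore p G)
    (coprime_of_pGroup (P.2.to_le inf_le_left) Thompson.card_pPrimeCore_coprime) (fun a _ => ?_)
    (fun a ha => (Subgroup.mem_normalizer_iff.mp hd.2 a).mp ha)
  rw [show d * a * d⁻¹ * a⁻¹ = d * (a * d⁻¹ * a⁻¹) by group]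
  exact mul_mem hd.1 ((Thompson.instPPrimeCoreNormal).conj_mem _ (inv_mem hd.1) a)

/-- Part (a): an element of `O_{p'}` conjugating a `p`-element of the normalizer into it factors. -/
theorem exists_factor (P : Sylow p G) {y : G}
    (hy : y ∈ Subgroup.normalizer (((P : Subgroup G) ⊓ pPrimePCore p G : Subgroup G) : Set G))
    (hyp : ∃ k : ℕ, orderOf y = p ^ k) {d : G} (hd : d ∈ pPrimeCore p G)
    (hdy : d⁻¹ * y * d ∈ Subgroup.normalizer (((P : Subgroup G) ⊓ pPrimePCore p G : Subgroup G) : Set G)) :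
    ∃ d₁ ∈ pPrimeCore p G ⊓ Subgroup.centralizer ({y} : Set G),
      ∃ d₂ ∈ pPrimeCore p G ⊓ Subgroup.centralizer (((P : Subgroup G) ⊓ pPrimePCore p G : Subgroup G) : Set G),
        d = d₁ * d₂ := by
  set D := pPrimeCore p G
  set N := Subgroup.normalizer (((P : Subgroup G) ⊓ pPrimePCore p G : Subgroup G) : Set G)
  obtain ⟨k, hk⟩ := hyp
  have hZp : IsPGroup p (Subgroup.zpowers y) := IsPGroup.of_card (n := k) (by rw [Nat.card_zpowers, hk])
  have hZN : Subgroup.zpowers y ≤ N := Subgroup.zpowers_le.mpr hy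
  obtain ⟨s, hs, hsd⟩ := Coprime.exists_centralizing_mul (Subgroup.zpowers y) D N
    (le_top.trans_eq (Subgroup.normalizer_eq_top _).symm) hZN
    (coprime_of_pGroup hZp Thompson.card_pPrimeCore_coprime)
    (Or.inl (Coprime.isSolvable_of_isNilpotent' hZp.isNilpotent)) d⁻¹ (inv_mem hd) (fun a ha => by
      obtain ⟨j, rfl⟩ := Subgroup.mem_zpowers_iff.mp ha
      rw [← conj_zpow, inv_inv]
      exact N.zpow_mem hdy j)
  refine ⟨d * s⁻¹, ⟨mul_mem hd (D.inv_mem hs.1), ?_⟩, s, ⟨hs.1, inf_normalizer_le_centralizer P hs⟩, by group⟩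
  have h1 := inv_mem hsd
  rw [mul_inv_rev, inv_inv] at h1
  exact Subgroup.mem_centralizer_singleton_iff.mpr
    (Subgroup.mem_centralizer_iff.mp h1 y (Subgroup.mem_zpowers y)).symm

end Cfsg.Agent.T51
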