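import Cfsg.Agent.Lib.Coprime.Action
import Cfsg.Agent.Lib.PGroup.Basic
import Cfsg.Prelude.Def_Local

/-! A pair of conjugates of a tightly embedded subgroup. -/

set_option autoImplicit false

namespace Cfsg.Agent.T51.Tight

open scoped commutatorElement

variable {G : Type*} [Group G] [Finite G]

/-- `Qa` is not met evenly by a conjugate it is not normalized into. -/
def OddMeet (Qa : Subgroup G) : Prop :=
  ∀ x : G, ∀ t : G, t ∈ Qa → x * t * x⁻¹ ∈ Qa → IsPGroup 2 (Subgroup.zpowers t) → t ≠ 1 →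
    x ∈ Subgroup.normalizer (Qa : Set G)

omit [Finite G] in
theorem eq_one_of_odd {A : Subgroup G} (hA : Odd (Nat.card A)) {t : G} (ht : t ∈ A)
    (h2 : IsPGroup 2 (Subgroup.zpowers t)) : t = 1 := by
  obtain ⟨k, hk⟩ := h2 ⟨t, Subgroup.mem_zpowers t⟩
  have h1 : t ^ 2 ^ k = 1 := by simpa using congrArg Subtype.val hk
  exact orderOf_eq_one_iff.mp (Nat.eq_one_of_dvd_coprimes
    ((Nat.coprime_two_right.mpr hA).pow_right k)
    (Subgroup.orderOf_dvd_natCard A ht) (orderOf_dvd_of_pow_eq_one h1))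

omit [Finite G] in
theorem isPGroup_zpowers {A : Subgroup G} (hA : IsPGroup 2 A) {t : G} (ht : t ∈ A) :
    IsPGroup 2 (Subgroup.zpowers t) := hA.to_le (Subgroup.zpowers_le.mpr ht)

omit [Finite G] in
theorem map_conj_inf (x : G) (A B : Subgroup G) :
    (A ⊓ B).map (MulAut.conj x).toMonoidHom = A.map (MulAut.conj x).toMonoidHom ⊓ B.map (MulAut.conj x).toMonoidHom :=
  Subgroup.map_inf A B _ (MulAut.conj x).injective

theorem oddMeet {Q : Subgroup G} (hQ : Cfsg.IsTightlyEmbedded Q) (g : G) :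
    OddMeet (Q.map (MulAut.conj g).toMonoidHom) := by
  intro x t ht hxt h2 h1
  by_contra hx
  set y := g⁻¹ * x * g with hy
  have hyN : y ∉ Subgroup.normalizer (Q : Set G) := by
    intro hyN
    refine hx (Subgroup.mem_normalizer_iff.mpr fun z => ?_)
    have hm : ∀ w, w ∈ Q.map (MulAut.conj g).toMonoidHom ↔ g⁻¹ * w * g ∈ Q := fun w => by
      rw [Subgroup.mem_map_equiv]
      simp
    rw [hm, hm, Subgroup.mem_normalizer_iff.mp hyN (g⁻¹ * z * g)]
    rw [show y * (g⁻¹ * z * g) * y⁻¹ = g⁻¹ * (x * z * x⁻¹) * g by rw [hy]; group]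
  obtain ⟨q, hq, rfl⟩ := ht
  obtain ⟨r, hr, hqr⟩ := hxt
  have hr' : y * q * y⁻¹ = r := by
    have e : g * r * g⁻¹ = x * (g * q * g⁻¹) * x⁻¹ := hqr
    calc y * q * y⁻¹ = g⁻¹ * (x * (g * q * g⁻¹) * x⁻¹) * g := by rw [hy]; group
      _ = r := by rw [← e]; group
  have hmem : r ∈ Q ⊓ Q.map (MulAut.conj y).toMonoidHom := ⟨hr, q, hq, hr'⟩
  have h2' : IsPGroup 2 (Subgroup.zpowers r) := by
    obtain ⟨k, hk⟩ := IsPGroup.iff_card.mp h2
    refine IsPGroup.of_card (n := k) ?_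
    rw [Nat.card_zpowers, ← hk, Nat.card_zpowers]
    calc orderOf r = orderOf q := by rw [← hr']; exact orderOf_injective (MulAut.conj y).toMonoidHom (MulAut.conj y).injective q
      _ = _ := (orderOf_injective (MulAut.conj g).toMonoidHom (MulAut.conj g).injective q).symm
  have := eq_one_of_odd (hQ.2 y hyN) hmem h2'
  rw [this, conj_eq_one_iff] at hr'
  exact h1 (by rw [hr', map_one])

/-- The data of the lemma. -/
theorem pair {Qa Qb : Subgroup G} (ha : OddMeet Qa) {x : G} (hab : Qa.map (MulAut.conj x).toMonoidHom = Qb)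
    (hodd : Odd (Nat.card ↥(Qa ⊓ Qb))) {T S : Subgroup G} (hTa : T ≤ Qa)
    (hTb : T ≤ Subgroup.normalizer (Qb : Set G)) (hT1 : T ≠ ⊥) (hTS : T ≤ S) (hS : S ≤ Qb ⊔ T)
    (hSp : IsPGroup 2 S) (hSi : ¬ 2 ∣ S.relIndex (Qb ⊔ T)) :
    let U := S ⊓ Subgroup.normalizer (T : Set G) ⊓ Qb
    T ⊓ Qb = ⊥ ∧ ⁅T, U⁆ = ⊥ ∧ T ⊔ U = S ⊓ Subgroup.normalizer (T : Set G) ∧
      U ≤ Subgroup.normalizer (Qa : Set G) ∧ Nat.card T ≤ Nat.card U ∧
      (Nat.card U ≤ Nat.card T → Nonempty (U ≃* T)) := by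
  intro U
  set R := S ⊓ Qb with hR
  have hTp : IsPGroup 2 T := hSp.to_le hTS
  have hTQ : T ⊓ Qb = ⊥ := by
    rw [eq_bot_iff]
    exact fun t ht => Subgroup.mem_bot.mpr
      (eq_one_of_odd hodd (⟨hTa ht.1, ht.2⟩ : t ∈ Qa ⊓ Qb) (isPGroup_zpowers hTp ht.1))
  obtain ⟨t0, ht0, ht01⟩ := (Subgroup.bot_or_exists_ne_one T).resolve_left hT1
  have hUQa : U ≤ Subgroup.normalizer (Qa : Set G) := fun u hu =>
    ha u t0 (hTa ht0) (hTa ((Subgroup.mem_normalizer_iff.mp hu.1.2 t0).mp ht0)) (isPGroup_zpowers hTp ht0) ht01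
  have hUR : U ≤ R := fun u hu => ⟨hu.1.1, hu.2⟩
  -- the elements of `R` normalizing `Qa` centralize `T`
  have hR0 : ∀ c ∈ R, c ∈ Subgroup.normalizer (Qa : Set G) → ∀ t ∈ T, Commute c t := by
    intro c hc hcn t ht
    have h1 : c * t * c⁻¹ * t⁻¹ ∈ Qa ⊓ Qb := by
      refine ⟨Qa.mul_mem ((Subgroup.mem_normalizer_iff.mp hcn t).mp (hTa ht)) (Qa.inv_mem (hTa ht)), ?_⟩
      show c * t * c⁻¹ * t⁻¹ ∈ Qb
      rw [show c * t * c⁻¹ * t⁻¹ = c * (t * c⁻¹ * t⁻¹) by group]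
      exact Qb.mul_mem hc.2 ((Subgroup.mem_normalizer_iff.mp (hTb ht) _).mp (Qb.inv_mem hc.2))
    have h2 : c * t * c⁻¹ * t⁻¹ ∈ S :=
      S.mul_mem (S.mul_mem (S.mul_mem hc.1 (hTS ht)) (S.inv_mem hc.1)) (S.inv_mem (hTS ht))
    exact mul_inv_eq_iff_eq_mul.mp (mul_inv_eq_one.mp (eq_one_of_odd hodd h1 (isPGroup_zpowers hSp h2)))
  have hUT : ∀ u ∈ U, ∀ t ∈ T, Commute u t := fun u hu => hR0 u (hUR hu) (hUQa hu)
  have hfix : ∀ c ∈ R, ∀ t ∈ T, t ≠ 1 → Commute c t → c ∈ U := by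
    intro c hc t ht ht1 hct
    have hcn : c ∈ Subgroup.normalizer (Qa : Set G) :=
      ha c t (hTa ht) (by rw [hct.eq, mul_inv_cancel_right]; exact hTa ht) (isPGroup_zpowers hTp ht) ht1
    exact ⟨⟨hc.1, Subgroup.centralizer_le_normalizer _
      (Subgroup.mem_centralizer_iff.mpr fun s hs => (hR0 c hc hcn s hs).eq.symm)⟩, hc.2⟩
  have hcomm : ⁅T, U⁆ = ⊥ := by
    rw [eq_bot_iff, Subgroup.commutator_le]
    exact fun t ht u hu => Subgroup.mem_bot.mpr (commutatorElement_eq_one_iff_commute.mpr (hUT u hu t ht).symm)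
  have hsup : T ⊔ U = S ⊓ Subgroup.normalizer (T : Set G) := by
    refine le_antisymm (sup_le (le_inf hTS Subgroup.le_normalizer) inf_le_left) fun s hs => ?_
    obtain ⟨q, hq, t, ht, rfl⟩ := Coprime.exists_mul_of_mem_sup hTb (hS hs.1)
    have h1 := (S ⊓ Subgroup.normalizer (T : Set G)).mul_mem hs
      ((S ⊓ Subgroup.normalizer (T : Set G)).inv_mem ⟨hTS ht, Subgroup.le_normalizer ht⟩)
    rw [mul_inv_cancel_right] at h1
    exact mul_mem (Subgroup.mem_sup_right (show q ∈ U from ⟨h1, hq⟩)) (Subgroup.mem_sup_left ht)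
  -- every 2-subgroup of `Qb` is conjugate into `R`
  have hconjR : ∀ B : Subgroup G, IsPGroup 2 B → B ≤ Qb → ∃ y : G, B.map (MulAut.conj y).toMonoidHom ≤ R := by
    intro B hB hBQ
    set K := Qb ⊔ T
    let S' : Sylow 2 K := (hSp.comap_subtype (K := K)).toSylow hSi
    obtain ⟨P, hP⟩ := (hB.comap_subtype (K := K)).exists_le_sylow
    obtain ⟨y, hy⟩ := MulAction.exists_smul_eq K P S'
    refine ⟨(y : G), ?_⟩
    rintro _ ⟨b, hb, rfl⟩
    have hK : K ≤ Subgroup.normalizer (Qb : Set G) := sup_le Subgroup.le_normalizer hTb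
    refine ⟨?_, (Subgroup.mem_normalizer_iff.mp (hK y.2) b).mp (hBQ hb)⟩
    have hmem : y * ⟨b, Subgroup.mem_sup_left (hBQ hb)⟩ * y⁻¹ ∈ (S' : Subgroup K) := by
      rw [← hy]
      exact ⟨_, hP hb, rfl⟩
    exact hmem
  have hTconj : ∃ y : G, T.map (MulAut.conj y).toMonoidHom ≤ R := by
    obtain ⟨y, hy⟩ := hconjR (T.map (MulAut.conj x).toMonoidHom) (hTp.map _) (hab ▸ Subgroup.map_mono hTa)
    refine ⟨y * x, ?_⟩
    rintro _ ⟨t, ht, rfl⟩
    have := hy ⟨_, ⟨t, ht, rfl⟩, rfl⟩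
    simpa [mul_assoc] using this
  refine ⟨hTQ, hcomm, hsup, hUQa, ?_⟩
  by_cases hRU : R ≤ U
  · obtain ⟨y, hy⟩ := hTconj
    let e := T.equivMapOfInjective (MulAut.conj y).toMonoidHom (MulAut.conj y).injective
    have hcard : Nat.card T = Nat.card (T.map (MulAut.conj y).toMonoidHom) := Nat.card_congr e.toEquiv
    refine ⟨hcard ▸ Subgroup.card_le_of_le (hy.trans hRU), fun hle => ?_⟩
    have he : T.map (MulAut.conj y).toMonoidHom = U :=
      Subgroup.eq_of_le_of_card_ge (hy.trans hRU) (hcard ▸ hle)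
    exact ⟨(e.trans (MulEquiv.subgroupCongr he)).symm⟩
  · obtain ⟨r, hr, hrU⟩ : ∃ r ∈ R, r ∉ U := SetLike.not_le_iff_exists.mp hRU
    set K := R ⊓ Subgroup.normalizer (U : Set G) with hKdef
    have hTU : T ≤ Subgroup.normalizer (U : Set G) := fun t ht =>
      Subgroup.centralizer_le_normalizer _ (Subgroup.mem_centralizer_iff.mpr fun u hu => (hUT u hu t ht).eq)
    have hTR : T ≤ Subgroup.normalizer (R : Set G) :=
      Coprime.le_normalizer_inf (hTS.trans Subgroup.le_normalizer) hTb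
    have hTK : T ≤ Subgroup.normalizer (K : Set G) :=
      Coprime.le_normalizer_inf hTR (hTU.trans Subgroup.le_normalizer)
    set M := T ⊔ K with hM
    have hMp : IsPGroup 2 M := hSp.to_le (sup_le hTS (inf_le_left.trans inf_le_left))
    have hUK : U ≤ K := le_inf hUR Subgroup.le_normalizer
    have hKU : ¬ K ≤ U := by
      intro h
      have hlt : U.subgroupOf R < ⊤ := lt_top_iff_ne_top.mpr fun e => hRU (Subgroup.subgroupOf_eq_top.mp e)
      have : Group.IsNilpotent R := (hSp.to_le (inf_le_left : R ≤ S)).isNilpotent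
      have hn := normalizerCondition_of_isNilpotent (G := R) _ hlt
      refine hn.ne (le_antisymm Subgroup.le_normalizer fun z hz => h ⟨z.2, ?_⟩)
      rw [← Subgroup.subgroupOf_normalizer_eq hUR] at hz
      exact hz
    have : (U.subgroupOf M).Normal := (Subgroup.normal_subgroupOf_iff_le_normalizer
      (hUK.trans le_sup_right)).mpr (sup_le hTU inf_le_right)
    have : (K.subgroupOf M).Normal := (Subgroup.normal_subgroupOf_iff_le_normalizer
      le_sup_right).mpr (sup_le hTK Subgroup.le_normalizer)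
    have hne : (K.subgroupOf M).map (QuotientGroup.mk' (U.subgroupOf M)) ≠ ⊥ := by
      rw [Ne, Subgroup.map_eq_bot_iff, QuotientGroup.ker_mk']
      exact fun h => hKU fun z hz => h (show (⟨z, (le_sup_right : K ≤ M) hz⟩ : M) ∈ K.subgroupOf M from hz)
    have : ((K.subgroupOf M).map (QuotientGroup.mk' (U.subgroupOf M))).Normal :=
      Subgroup.Normal.map inferInstance _ (QuotientGroup.mk'_surjective _)
    obtain ⟨⟨z, hz⟩, hz1⟩ := Subgroup.ne_bot_iff_exists_ne_one.mp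
      (PGroup.inf_center_ne_bot (hMp.to_quotient _) hne)
    obtain ⟨⟨n, hnM⟩, hnK, rfl⟩ := hz.1
    have hnU : n ∉ U := fun h => hz1 (Subtype.ext ((QuotientGroup.eq_one_iff (⟨n, hnM⟩ : M)).mpr h))
    have hnR : n ∈ R := (show n ∈ K from hnK).1
    have hφ : ∀ t ∈ T, n⁻¹ * (t * n * t⁻¹) ∈ U := by
      intro t ht
      have h := Subgroup.mem_center_iff.mp hz.2 (QuotientGroup.mk' _ (⟨t, (le_sup_left : T ≤ M) ht⟩ : M))
      rw [← map_mul, ← map_mul, QuotientGroup.mk'_apply, QuotientGroup.mk'_apply, eq_comm, QuotientGroup.eq] at h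
      have h' : (n * t)⁻¹ * (t * n) ∈ U := h
      have h2 := (Subgroup.mem_normalizer_iff.mp (hTU ht) _).mp h'
      convert h2 using 1
      group
    let φ : T →* U := MonoidHom.mk' (fun t => ⟨n⁻¹ * (t * n * (t : G)⁻¹), hφ t t.2⟩) fun t s => Subtype.ext (by
      have h := hUT _ (hφ s s.2) t t.2
      show n⁻¹ * ((t : G) * s * n * ((t : G) * s)⁻¹) = n⁻¹ * (t * n * (t : G)⁻¹) * (n⁻¹ * (s * n * (s : G)⁻¹))
      calc n⁻¹ * ((t : G) * s * n * ((t : G) * s)⁻¹)
          = n⁻¹ * ((t : G) * n * ((n⁻¹ * (s * n * (s : G)⁻¹)) * (t : G)⁻¹)) := by group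
        _ = n⁻¹ * ((t : G) * n * ((t : G)⁻¹ * (n⁻¹ * (s * n * (s : G)⁻¹)))) := by rw [h.inv_right.eq]
        _ = _ := by group)
    have hinj : Function.Injective φ := by
      rw [injective_iff_map_eq_one]
      intro t ht
      by_contra ht1
      have h1 : n⁻¹ * ((t : G) * n * (t : G)⁻¹) = 1 := congrArg Subtype.val ht
      refine hnU (hfix n hnR t t.2 (fun e => ht1 (Subtype.ext e)) ?_)
      exact (mul_inv_eq_iff_eq_mul.mp (inv_mul_eq_one.mp h1).symm).symm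
    have hle := Nat.card_le_card_of_injective φ hinj
    exact ⟨hle, fun hge => ⟨(MulEquiv.ofBijective φ ((Nat.bijective_iff_injective_and_card φ).mpr
      ⟨hinj, le_antisymm hle hge⟩)).symm⟩⟩

end Cfsg.Agent.T51.Tight
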