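import Mathlib.GroupTheory.OrderOfElement
import Mathlib.GroupTheory.Sylow
import Mathlib.GroupTheory.Subgroup.Centralizer
import Mathlib.Data.ZMod.Basic
import Mathlib.Algebra.BigOperators.Group.Finset.Basic

/-! Pairs of involutions: either conjugate by a power of their product, or a central involution. -/

set_option autoImplicit false

namespace Cfsg.Agent.T51

variable {G : Type*} [Group G]

theorem commute_conj (x : G) {a b : G} (h : Commute a b) : Commute (x * a * x⁻¹) (x * b * x⁻¹) :=
  h.map (MulAut.conj x).toMonoidHom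

theorem commute_conj' (x : G) {a b : G} (h : Commute a b) : Commute (x⁻¹ * a * x) (x⁻¹ * b * x) := by
  simpa using commute_conj x⁻¹ h

theorem pair_alternative [Finite G] (a u : G) (ha : a * a = 1) (hu : u * u = 1) :
    (∃ d : G, d * a * d⁻¹ = u ∧ ∀ c : G, Commute c a → Commute c u → Commute c d) ∨
    ∃ v : G, orderOf v = 2 ∧ Commute v a ∧ Commute v u ∧ (IsConj u (u * v) ∨ IsConj u (a * v)) := by
  have ha' : a⁻¹ = a := inv_eq_of_mul_eq_one_right ha
  have hu' : u⁻¹ = u := inv_eq_of_mul_eq_one_right hu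
  set r := a * u with hr
  have har : a * r * a⁻¹ = r⁻¹ := by
    rw [hr, mul_inv_rev, ← mul_assoc a a u, ha, one_mul, ha', hu']
  have hur : u * r * u⁻¹ = r⁻¹ := by
    rw [hr, mul_inv_rev, mul_assoc, mul_assoc, hu', hu, mul_one, ha']
  have hurk : ∀ k : ℕ, u * r ^ k = (r ^ k)⁻¹ * u := fun k => by
    rw [← mul_inv_eq_iff_eq_mul, ← conj_pow, hur, inv_pow]
  have hark : ∀ k : ℕ, a * r ^ k = (r ^ k)⁻¹ * a := fun k => by
    rw [← mul_inv_eq_iff_eq_mul, ← conj_pow, har, inv_pow]
  have har1 : a * r = u := by rw [hr, ← mul_assoc, ha, one_mul]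
  -- conjugates of `u`
  have hconj : ∀ i : ℕ, (r ^ i)⁻¹ * u * r ^ i = u * r ^ (2 * i) := fun i => by
    rw [← hurk, mul_assoc, ← pow_add, two_mul]
  rcases Nat.even_or_odd (orderOf r) with ⟨j, hj⟩ | ⟨j, hj⟩
  · right
    set v := r ^ j with hv
    have hpos : 0 < orderOf r := orderOf_pos r
    have hv1 : v ≠ 1 := fun h => by
      have := Nat.le_of_dvd (by omega) (orderOf_dvd_of_pow_eq_one h); omega
    have hv2 : v * v = 1 := by rw [hv, ← pow_add, ← hj, pow_orderOf_eq_one]
    have hvi : v⁻¹ = v := inv_eq_of_mul_eq_one_right hv2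
    refine ⟨v, orderOf_eq_prime (by rw [pow_two, hv2]) hv1, ?_, ?_, ?_⟩
    · show v * a = a * v
      rw [hv, hark, ← hv, hvi]
    · show v * u = u * v
      rw [hv, hurk, ← hv, hvi]
    · rcases Nat.even_or_odd j with ⟨i, hi⟩ | ⟨i, hi⟩
      · left
        refine isConj_iff.mpr ⟨(r ^ i)⁻¹, ?_⟩
        rw [inv_inv, hconj, hv, hi, two_mul]
      · right
        refine isConj_iff.mpr ⟨(r ^ i)⁻¹, ?_⟩
        rw [inv_inv, hconj, hv, hi, pow_succ', ← mul_assoc a, har1]
  · left
    refine ⟨(r ^ (j + 1))⁻¹, ?_, fun c hca hcu => ((hca.mul_right hcu).pow_right _).inv_right⟩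
    rw [inv_inv, ← hark, mul_assoc, ← pow_add]
    have : j + 1 + (j + 1) = orderOf r + 1 := by omega
    rw [this, pow_succ, pow_orderOf_eq_one, one_mul, har1]

open Finset in
/-- An involution acting by conjugation on a normal set: fixed points have the same parity. -/
theorem card_parity_centralized [Finite G] (v : G) (hv : v * v = 1) (X : Set G)
    (hX : ∀ x ∈ X, v * x * v⁻¹ ∈ X) :
    2 ∣ Nat.card X ↔ 2 ∣ Nat.card {x : G | x ∈ X ∧ Commute v x} := by
  classical
  have := Fintype.ofFinite G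
  have hvi : v⁻¹ = v := inv_eq_of_mul_eq_one_right hv
  let s : Finset G := univ.filter (· ∈ X)
  have h1 : Nat.card X = s.card := by
    rw [Nat.card_eq_fintype_card, Fintype.card_subtype]
  have h2 : Nat.card {x : G | x ∈ X ∧ Commute v x} = (s.filter (fun x => Commute v x)).card := by
    rw [Nat.card_eq_fintype_card, Fintype.card_subtype]
    congr 1; ext x; simp [s]
  have h3 : ((s.filter (fun x => ¬ Commute v x)).card : ZMod 2) = 0 := by
    rw [Finset.card_eq_sum_ones, Nat.cast_sum]
    refine Finset.sum_involution (fun x _ => v * x * v⁻¹) (fun x _ => by decide) ?_ ?_ ?_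
    · intro x hx _ h
      simp only [Finset.mem_filter] at hx
      exact hx.2 (mul_inv_eq_iff_eq_mul.mp h)
    · intro x hx
      simp only [Finset.mem_filter, s, Finset.mem_univ, true_and] at hx ⊢
      refine ⟨hX x hx.1, fun h => hx.2 ?_⟩
      have : Commute (v * v * v⁻¹) (v * x * v⁻¹) := by simpa using h
      exact (SemiconjBy.conj_iff.mp this)
    · intro x _
      rw [hvi, show v * (v * x * v) * v = (v * v) * x * (v * v) by group, hv, one_mul, mul_one]
  rw [ZMod.natCast_eq_zero_iff_even, even_iff_two_dvd] at h3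
  rw [h1, h2, ← Finset.card_filter_add_card_filter_not (s := s) (p := fun x => Commute v x)]
  exact (Nat.dvd_add_left h3)

noncomputable def cosetEquivConjugates (z : G) :
    G ⧸ Subgroup.centralizer ({z} : Set G) ≃ {x : G | IsConj z x} := by
  refine Equiv.ofBijective (fun q => Quotient.liftOn' q
    (fun g => (⟨g * z * g⁻¹, isConj_iff.mpr ⟨g, rfl⟩⟩ : {x : G | IsConj z x})) ?_) ⟨?_, ?_⟩
  · intro x y h
    have h' := Subgroup.mem_centralizer_singleton_iff.mp (QuotientGroup.leftRel_apply.mp h)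
    apply Subtype.ext
    show x * z * x⁻¹ = y * z * y⁻¹
    calc x * z * x⁻¹ = x * (z * (x⁻¹ * y)) * y⁻¹ := by group
      _ = x * ((x⁻¹ * y) * z) * y⁻¹ := by rw [h']
      _ = y * z * y⁻¹ := by group
  · intro p q
    induction p using QuotientGroup.induction_on with | H x => ?_
    induction q using QuotientGroup.induction_on with | H y => ?_
    intro h
    have h' : x * z * x⁻¹ = y * z * y⁻¹ := congrArg Subtype.val h
    rw [QuotientGroup.eq, Subgroup.mem_centralizer_singleton_iff]
    calc x⁻¹ * y * z = x⁻¹ * (y * z * y⁻¹) * y := by group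
      _ = x⁻¹ * (x * z * x⁻¹) * y := by rw [h']
      _ = z * (x⁻¹ * y) := by group
  · rintro ⟨x, hx⟩
    obtain ⟨g, hg⟩ := isConj_iff.mp hx
    exact ⟨QuotientGroup.mk g, Subtype.ext hg⟩

theorem card_conjugates (z : G) :
    Nat.card {x : G | IsConj z x} = (Subgroup.centralizer ({z} : Set G)).index :=
  (Nat.card_congr (cosetEquivConjugates z)).symm

end Cfsg.Agent.T51
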