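import Mathlib.GroupTheory.Perm.Cycle.Type
import Mathlib.GroupTheory.GroupAction.Quotient
import Cfsg.Agent.Lib.Transfer.Residual

/-! The sign of the action on cosets, and the resulting transfer lemma of Thompson type. -/

set_option autoImplicit false

namespace Cfsg.Agent.T51

open Equiv Equiv.Perm in
theorem sign_of_semiregular {α : Type*} [Fintype α] [DecidableEq α] (σ : Equiv.Perm α) (k m : ℕ)
    (hk : orderOf σ ∣ 2 ^ (k + 1)) (hfree : ∀ a, (σ ^ (2 ^ k)) a ≠ a)
    (hcard : Fintype.card α = 2 ^ (k + 1) * m) : Equiv.Perm.sign σ = (-1) ^ m := by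
  have hall : ∀ n ∈ σ.cycleType, n = 2 ^ (k + 1) := by
    intro n hn
    obtain ⟨i, hi, rfl⟩ := (Nat.dvd_prime_pow Nat.prime_two).mp ((dvd_of_mem_cycleType hn).trans hk)
    by_contra hne
    have hik : i ≤ k := by
      by_contra h
      exact hne (by rw [show i = k + 1 by omega])
    rw [cycleType_def, Multiset.mem_map] at hn
    obtain ⟨τ, hτ, hτn⟩ := hn
    obtain ⟨hcyc, hagree⟩ := mem_cycleFactorsFinset_iff.mp hτ
    obtain ⟨a, ha⟩ := hcyc.nonempty_support
    have key : ∀ j : ℕ, (σ ^ j) a = (τ ^ j) a ∧ (τ ^ j) a ∈ τ.support := by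
      intro j
      induction j with
      | zero => exact ⟨rfl, ha⟩
      | succ j ih =>
        constructor
        · rw [pow_succ', Perm.mul_apply, pow_succ' τ, Perm.mul_apply, ih.1, hagree _ ih.2]
        · rw [pow_succ' τ, Perm.mul_apply]; exact apply_mem_support.mpr ih.2
    apply hfree a
    rw [(key _).1]
    have ho : orderOf τ = 2 ^ i := by rw [hcyc.orderOf]; exact hτn
    have : τ ^ (2 ^ k) = 1 := orderOf_dvd_iff_pow_eq_one.mp (ho ▸ pow_dvd_pow 2 hik)
    rw [this, Perm.one_apply]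
  have hsum : σ.cycleType.sum = Fintype.card α := by
    rw [sum_cycleType, ← Finset.card_univ]
    congr 1
    refine Finset.eq_univ_of_forall fun a => mem_support.mpr fun h => hfree a ?_
    exact pow_apply_eq_self_of_apply_eq_self h _
  have hrep : σ.cycleType = Multiset.replicate (Multiset.card σ.cycleType) (2 ^ (k + 1)) :=
    Multiset.eq_replicate_card.mpr hall
  have hc : Multiset.card σ.cycleType = m := by
    rw [hrep, Multiset.sum_replicate, hcard, smul_eq_mul, mul_comm] at hsum
    exact Nat.eq_of_mul_eq_mul_left (Nat.two_pow_pos _) hsum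
  rw [sign_of_cycleType, hsum, hcard, hc, pow_add, pow_mul]
  have : ((-1 : ℤˣ)) ^ (2 ^ (k + 1)) = 1 := by
    rw [pow_succ', pow_mul, neg_one_sq, one_pow]
  rw [this, one_pow, one_mul]

variable {G : Type*} [Group G] [Finite G]

/-- The sign character of `G` on the cosets of `T`. -/
noncomputable def cosetSign (T : Subgroup G) : G →* ℤˣ :=
  letI := Fintype.ofFinite (G ⧸ T)
  letI := Classical.decEq (G ⧸ T)
  Equiv.Perm.sign.comp (MulAction.toPermHom G (G ⧸ T))

theorem cosetSign_eq (T : Subgroup G) (c : G) (k m : ℕ) (hc : orderOf c ∣ 2 ^ (k + 1))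
    (hfree : ∀ g : G, g * c ^ (2 ^ k) * g⁻¹ ∉ T) (hindex : T.index = 2 ^ (k + 1) * m) :
    cosetSign T c = (-1) ^ m := by
  letI := Fintype.ofFinite (G ⧸ T)
  letI := Classical.decEq (G ⧸ T)
  refine sign_of_semiregular (MulAction.toPermHom G (G ⧸ T) c) k m
    ((orderOf_map_dvd _ c).trans hc) ?_ ?_
  · intro a ha
    rw [← map_pow] at ha
    induction a using QuotientGroup.induction_on with | H x => ?_
    change (c ^ 2 ^ k) • (QuotientGroup.mk x : G ⧸ T) = QuotientGroup.mk x at ha
    rw [MulAction.Quotient.smul_mk, QuotientGroup.eq] at ha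
    refine hfree x⁻¹ ?_
    have h2 := T.inv_mem ha
    simpa [mul_assoc] using h2
  · rw [← Nat.card_eq_fintype_card]; exact hindex

theorem pResidual_le_cosetSign_ker {G : Type*} [Group G] [Finite G] (T : Subgroup G) :
    Cfsg.pResidual 2 G ≤ (cosetSign T).ker :=
  Transfer.pResidual_le_ker _ (IsPGroup.of_card (n := 1) (by simp [Nat.card_eq_fintype_card]))

/-- The involution `c ^ (2 ^ k)` is outside `O^2(G)` when it has no conjugate in `T ≤ O^2(G)` and
`|G : T|` has the same 2-part as the order of `c`. -/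
theorem pow_notMem_pResidual (k : ℕ) : ∀ {G : Type*} [Group G] [Finite G] (T : Subgroup G) (c : G),
    orderOf c ∣ 2 ^ (k + 1) → T ≤ Cfsg.pResidual 2 G → (∀ g : G, g * c ^ (2 ^ k) * g⁻¹ ∉ T) →
    (∃ m, Odd m ∧ T.index = 2 ^ (k + 1) * m) → c ^ (2 ^ k) ∉ Cfsg.pResidual 2 G := by
  induction k with
  | zero =>
    rintro G _ _ T c hc - hfree ⟨m, hm, hidx⟩ hmem
    have h := pResidual_le_cosetSign_ker T hmem
    rw [pow_zero, pow_one] at h
    rw [MonoidHom.mem_ker, cosetSign_eq T c 0 m hc hfree hidx, hm.neg_one_pow] at h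
    exact absurd h (by decide)
  | succ k ih =>
    rintro G _ _ T c hc hT hfree ⟨m, hm, hidx⟩ hmem
    set K := (cosetSign T).ker with hK
    have hsc : cosetSign T c = -1 := by rw [cosetSign_eq T c (k + 1) m hc hfree hidx, hm.neg_one_pow]
    have hTK : T ≤ K := hT.trans (pResidual_le_cosetSign_ker T)
    have hc2 : c ^ 2 ∈ K := by rw [hK, MonoidHom.mem_ker, map_pow, hsc, neg_one_sq]
    have hres : Cfsg.pResidual 2 G ≤ (Cfsg.pResidual 2 K).map K.subtype := by
      refine Transfer.pResidual_le_iff.mpr fun g hg => ?_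
      have hgK : g ∈ K := pResidual_le_cosetSign_ker T (Transfer.mem_pResidual_of_coprime hg)
      exact ⟨⟨g, hgK⟩, Transfer.mem_pResidual_of_coprime (by rwa [Subgroup.orderOf_mk]), rfl⟩
    have hKidx : K.index = 2 := by
      have hsurj : Function.Surjective (cosetSign T) := fun u => by
        rcases Int.units_eq_one_or u with rfl | rfl
        · exact ⟨1, map_one _⟩
        · exact ⟨c, hsc⟩
      rw [hK, Subgroup.index_ker, MonoidHom.range_eq_top.mpr hsurj, Subgroup.card_top,
        Nat.card_eq_fintype_card]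
      rfl
    have hpow : (c ^ 2) ^ (2 ^ k) = c ^ (2 ^ (k + 1)) := by rw [← pow_mul, ← pow_succ']
    refine ih (T.subgroupOf K) ⟨c ^ 2, hc2⟩ ?_ ?_ ?_ ⟨m, hm, ?_⟩ ?_
    · rw [Subgroup.orderOf_mk]
      refine orderOf_dvd_of_pow_eq_one ?_
      rw [← pow_mul, ← pow_succ']
      exact orderOf_dvd_iff_pow_eq_one.mp hc
    · intro x hx
      obtain ⟨y, hy, hyx⟩ := hres (hT (Subgroup.mem_subgroupOf.mp hx))
      rwa [Subtype.ext hyx] at hy
    · intro g hg
      exact hfree g (by simpa [Subgroup.mem_subgroupOf, hpow] using hg)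
    · have h := Subgroup.relIndex_mul_index hTK
      rw [hKidx, hidx] at h
      apply Nat.eq_of_mul_eq_mul_right Nat.two_pos
      rw [show (T.subgroupOf K).index = T.relIndex K from rfl, h]
      ring
    · obtain ⟨y, hy, hyx⟩ := hres hmem
      have : y = (⟨c ^ 2, hc2⟩ : K) ^ (2 ^ k) := Subtype.ext (by
        rw [SubmonoidClass.coe_pow, hpow]; exact hyx)
      exact this ▸ hy

end Cfsg.Agent.T51
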