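import Cfsg.Agent.T51.QuadOffenderMain
import Cfsg.Agent.Lib.Thompson.Factorization
import Cfsg.Agent.OddLocal44.Transitivity

/-!
In a constrained group without a section `S₄` and with a Sylow 2-subgroup of class at most two,
the Thompson subgroup is normal modulo the odd core.
-/

set_option autoImplicit false
set_option linter.unusedVariables false
set_option linter.style.haveILetI false
set_option linter.unusedSectionVars false

namespace Cfsg.Agent.T51.ClassTwoFactor

open Cfsg Equiv QOff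
open scoped commutatorElement

universe u

section Basic

variable {G : Type u} [Group G] [Finite G]

/-- Class at most two. -/
def ClassTwo (S : Subgroup G) : Prop :=
  ∀ a ∈ S, ∀ b ∈ S, ∀ c ∈ S, ⁅a, b⁆ * c = c * ⁅a, b⁆

theorem classTwo_of_lowerCentralSeries {S : Subgroup G}
    (h : Subgroup.lowerCentralSeries S 2 = ⊥) : ClassTwo S := by
  intro a ha b hb c hc
  have h1 : ⁅⁅a, b⁆, c⁆ ∈ Subgroup.lowerCentralSeries S 2 := by
    rw [Subgroup.lowerCentralSeries_succ]
    refine Subgroup.commutator_mem_commutator ?_ hc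
    rw [Subgroup.lowerCentralSeries_succ, Subgroup.lowerCentralSeries_zero]
    exact Subgroup.commutator_mem_commutator ha hb
  rw [h, Subgroup.mem_bot, commutatorElement_eq_one_iff_mul_comm] at h1
  exact h1

theorem classTwo_map {G' : Type u} [Group G'] [Finite G'] {S : Subgroup G} (h : ClassTwo S)
    (f : G →* G') : ClassTwo (S.map f) := by
  rintro _ ⟨a, ha, rfl⟩ _ ⟨b, hb, rfl⟩ _ ⟨c, hc, rfl⟩
  rw [← map_commutatorElement, ← map_mul, ← map_mul, h a ha b hb c hc]

theorem classTwo_sylow {S : Sylow 2 G} (h : ClassTwo (S : Subgroup G)) (T : Sylow 2 G) :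
    ClassTwo (T : Subgroup G) := by
  haveI : Fact (Nat.Prime 2) := ⟨Nat.prime_two⟩
  obtain ⟨g, rfl⟩ := MulAction.exists_smul_eq G S T
  rw [Thompson.coe_smul_sylow]
  exact classTwo_map h _

/-- The case where `Ω₁(Z(S))` is central. -/
theorem thompson_le_pCore_of_central (S : Sylow 2 G) (hcl : ClassTwo (S : Subgroup G))
    (hc : Subgroup.centralizer (pCore 2 G : Set G) ≤ pCore 2 G)
    (hZ : omegaOne 2 ((S : Subgroup G) ⊓ Subgroup.centralizer ((S : Subgroup G) : Set G)) ≤
      Subgroup.center G) :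
    thompsonSubgroupOf 2 (S : Subgroup G) ≤ pCore 2 G := by
  haveI : Fact (Nat.Prime 2) := ⟨Nat.prime_two⟩
  set Q := pCore 2 G with hQ
  set Z := omegaOne 2 ((S : Subgroup G) ⊓ Subgroup.centralizer ((S : Subgroup G) : Set G)) with hZd
  have hZ2 : ∀ z ∈ Z, z * z = 1 := fun z hz => by
    rw [← pow_two]; exact (Thompson.isElementaryAbelian_omegaCenter _).2 z hz
  have hQn : ∀ (g q : G), q ∈ Q → g * q * g⁻¹ ∈ Q := fun g q hq =>
    (inferInstance : Q.Normal).conj_mem q hq g
  have hcomm : ∀ z ∈ Z, ∀ x : G, x * z = z * x := fun z hz x =>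
    Subgroup.mem_center_iff.1 (hZ hz) x
  let M : Subgroup G :=
    { carrier := {x | ∀ q ∈ Q, x * q * x⁻¹ * q⁻¹ ∈ Z}
      one_mem' := fun q hq => by simp
      mul_mem' := by
        intro x y hx hy q hq
        have e : x * y * q * (x * y)⁻¹ * q⁻¹ =
            x * (y * q * y⁻¹ * q⁻¹) * x⁻¹ * (x * q * x⁻¹ * q⁻¹) := by group
        rw [e, hcomm _ (hy q hq) x, mul_inv_cancel_right]
        exact mul_mem (hy q hq) (hx q hq)
      inv_mem' := by
        intro x hx q hq
        have h := hx (x⁻¹ * q * x) (by simpa using hQn x⁻¹ q hq)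
        have e : x⁻¹ * q * x⁻¹⁻¹ * q⁻¹ =
            (x * (x⁻¹ * q * x) * x⁻¹ * (x⁻¹ * q * x)⁻¹)⁻¹ := by group
        rw [e]
        exact inv_mem h }
  haveI hMn : M.Normal := by
    constructor
    intro x hx g q hq
    have h := hx (g⁻¹ * q * g) (by simpa using hQn g⁻¹ q hq)
    have e : g * x * g⁻¹ * q * (g * x * g⁻¹)⁻¹ * q⁻¹ =
        g * (x * (g⁻¹ * q * g) * x⁻¹ * (g⁻¹ * q * g)⁻¹) * g⁻¹ := by group
    rw [e, hcomm _ h g, mul_inv_cancel_right]
    exact h
  have hM2 : IsPGroup 2 M := by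
    intro x
    have hxQ : (x : G) * x ∈ Q := by
      refine hc (Subgroup.mem_centralizer_iff.2 fun q hq => ?_)
      have h := x.2 q hq
      have hz : (x : G) * q * (x : G)⁻¹ = (x : G) * q * (x : G)⁻¹ * q⁻¹ * q := by group
      set z := (x : G) * q * (x : G)⁻¹ * q⁻¹ with hzd
      have e : (x : G) * x * q * ((x : G) * x)⁻¹ = q := by
        calc (x : G) * x * q * ((x : G) * x)⁻¹ = (x : G) * ((x : G) * q * (x : G)⁻¹) * (x : G)⁻¹ := by
              group
          _ = (x : G) * (z * q) * (x : G)⁻¹ := by rw [hz]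
          _ = ((x : G) * z) * (q * (x : G)⁻¹) := by group
          _ = z * ((x : G) * q * (x : G)⁻¹) := by rw [hcomm z h x]; group
          _ = z * z * q := (congrArg (z * ·) hz).trans (mul_assoc _ _ _).symm
          _ = q := by rw [hZ2 z h, one_mul]
      calc q * ((x : G) * x) = (x : G) * x * q * ((x : G) * x)⁻¹ * ((x : G) * x) := by rw [e]
        _ = (x : G) * x * q := by group
    obtain ⟨k, hk⟩ := Thompson.isPGroup_pCore (p := 2) (G := G) ⟨_, hxQ⟩
    refine ⟨k + 1, Subtype.ext ?_⟩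
    rw [pow_succ', pow_mul, SubmonoidClass.coe_pow, SubmonoidClass.coe_pow, pow_two]
    exact congrArg Subtype.val hk
  rw [Thompson.thompsonSubgroupOf_eq]
  refine sSup_le fun A hA => le_trans ?_ (Thompson.le_pCore hMn hM2)
  intro a ha q hq
  have haS : a ∈ (S : Subgroup G) := hA.1 ha
  have hqS : q ∈ (S : Subgroup G) := Thompson.pCore_le_sylow S hq
  have ha2 : a * a = 1 := by rw [← pow_two]; exact hA.2.1.2 a ha
  have hai : a⁻¹ = a := inv_eq_of_mul_eq_one_right ha2
  have hcS : ⁅a, q⁆ ∈ (S : Subgroup G) ⊓ Subgroup.centralizer ((S : Subgroup G) : Set G) :=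
    ⟨Subgroup.mul_mem _ (Subgroup.mul_mem _ (Subgroup.mul_mem _ haS hqS) (Subgroup.inv_mem _ haS))
      (Subgroup.inv_mem _ hqS), Subgroup.mem_centralizer_iff.2 fun s hs => (hcl a haS q hqS s hs).symm⟩
  refine Subgroup.subset_closure ⟨hcS, ?_⟩
  rw [pow_two]
  calc ⁅a, q⁆ * ⁅a, q⁆ = (a * ⁅a, q⁆) * a⁻¹ * ⁅a, q⁆ := by
        rw [← hcl a haS q hqS a haS, mul_inv_cancel_right]
    _ = (a * a) * q * a⁻¹ * q⁻¹ * a⁻¹ * a * q * a⁻¹ * q⁻¹ := by rw [commutatorElement_def]; group
    _ = q * a⁻¹ * a⁻¹ * q⁻¹ := by rw [ha2]; group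
    _ = 1 := by rw [hai, mul_assoc q a a, ha2]; group

/-- Elementary abelian subgroups of largest order centralize the normal closure of `Ω₁(Z(S))`. -/
theorem thompson_le_centralizer (S : Sylow 2 G) (hcl : ClassTwo (S : Subgroup G))
    (hc : Subgroup.centralizer (pCore 2 G : Set G) ≤ pCore 2 G)
    (hS4 : ¬ Cfsg.Involves (Perm (Fin 4)) G) :
    thompsonSubgroupOf 2 (S : Subgroup G) ≤ Subgroup.centralizer ((⨆ T : Sylow 2 G,
      omegaOne 2 ((T : Subgroup G) ⊓ Subgroup.centralizer ((T : Subgroup G) : Set G)) :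
        Subgroup G) : Set G) := by
  haveI : Fact (Nat.Prime 2) := ⟨Nat.prime_two⟩
  set V : Subgroup G := ⨆ T : Sylow 2 G,
    omegaOne 2 ((T : Subgroup G) ⊓ Subgroup.centralizer ((T : Subgroup G) : Set G)) with hVd
  have hVe : IsElementaryAbelian 2 V := Thompson.isElementaryAbelian_iSupOmega hc
  haveI hVn : V.Normal := Thompson.iSupOmegaCenter_normal
  have hVQ : V ≤ pCore 2 G := Thompson.iSupOmega_le_pCore hc
  set C := Subgroup.centralizer (V : Set G) with hC
  rw [Thompson.thompsonSubgroupOf_eq]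
  refine sSup_le fun A hA => ?_
  letI : CommGroup ↥V := { (inferInstance : Group ↥V) with
    mul_comm := fun a b => Subtype.ext (Thompson.elemAb_comm hVe.1 a.2 b.2) }
  have hV2 : ∀ v : ↥V, v * v = 1 := fun v =>
    Subtype.ext (by rw [Subgroup.coe_mul, ← pow_two]; exact hVe.2 v v.2)
  let φ : G →* MulAut ↥V := MulAut.conjNormal
  have hφ : ∀ (g : G) (v : ↥V), ((φ g v : ↥V) : G) = g * v * g⁻¹ := fun g v =>
    MulAut.conjNormal_apply g v
  have hker : φ.ker = C := by
    ext g
    rw [MonoidHom.mem_ker, hC, Subgroup.mem_centralizer_iff]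
    constructor
    · intro h v hv
      have e := congrArg Subtype.val (DFunLike.congr_fun h (⟨v, hv⟩ : ↥V))
      rw [hφ] at e
      exact (mul_inv_eq_iff_eq_mul.1 e).symm
    · intro h
      refine MulEquiv.ext fun v => Subtype.ext ?_
      rw [hφ, MulAut.one_apply, ← h v v.2, mul_inv_cancel_right]
  set X := φ.range with hX
  set A' := A.map φ with hA'
  by_contra hAC
  have hA'X : A' ≤ X := Subgroup.map_le_range φ A
  have hA'2 : IsPGroup 2 A' := (Thompson.isPGroup_of_isElementaryAbelian hA.2.1).map φ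
  have hQuad : Quad X := by
    intro T hT hT2 s hs t ht v
    obtain ⟨S'', hS''⟩ := (hT2.comap_of_injective X.subtype X.subtype_injective).exists_le_sylow
    obtain ⟨T0, hT0⟩ := Sylow.mapSurjective_surjective φ.rangeRestrict_surjective 2 S''
    have hget : ∀ x ∈ T, ∃ y ∈ (T0 : Subgroup G), φ y = x := by
      intro x hx
      have : (⟨x, hT hx⟩ : ↥X) ∈ (S'' : Subgroup ↥X) := hS'' hx
      rw [← hT0, Sylow.coe_mapSurjective] at this
      obtain ⟨y, hy, he⟩ := this
      exact ⟨y, hy, congrArg Subtype.val he⟩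
    obtain ⟨s0, hs0, rfl⟩ := hget s hs
    obtain ⟨t0, ht0, rfl⟩ := hget t ht
    have hvT : (v : G) ∈ (T0 : Subgroup G) := Thompson.pCore_le_sylow T0 (hVQ v.2)
    have hvi : (v : G)⁻¹ = v := inv_eq_of_mul_eq_one_right (by rw [← pow_two]; exact hVe.2 v v.2)
    refine Subtype.ext ?_
    rw [hφ, dltHom_apply, Subgroup.coe_mul, hφ]
    have e : s0 * (v : G) * s0⁻¹ * v = ⁅s0, (v : G)⁆ := by rw [commutatorElement_def, hvi]
    rw [e, ← classTwo_sylow hcl T0 s0 hs0 v hvT t0 ht0, mul_inv_cancel_right]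
  have hnc : ¬ InCore A' X := by
    rintro ⟨N, hNX, hN2, hAN, hXN⟩
    set D := N.comap φ with hD
    have hDn : D.Normal := ⟨fun d hd g => by
      show φ (g * d * g⁻¹) ∈ N
      rw [map_mul, map_mul, map_inv]
      exact (Subgroup.mem_normalizer_iff.1 (hXN ⟨g, rfl⟩) _).1 hd⟩
    have hCD : C ≤ D := hker ▸ φ.ker_le_comap N
    have hrel : ∃ k : ℕ, C.relIndex D = 2 ^ k := by
      rw [← hker, Subgroup.relIndex_ker, hD, Subgroup.map_comap_eq_self hNX]
      exact IsPGroup.iff_card.1 hN2
    have := Thompson.eq_of_pCore_quotient_eq_bot Thompson.pCore_quotient_centralizer_iSupOmega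
      hDn hCD hrel
    exact hAC fun a ha => this.le (show a ∈ D from hAN ⟨a, ha, rfl⟩)
  have hbest : Best A' := by
    have hb := Thompson.bestOffender_of_max hVe (Thompson.isMaxEAIn_sylow_iff S hA)
    intro B' hB'
    set B := A ⊓ B'.comap φ with hBd
    let fA := φ.comp A.subtype
    let fB := φ.comp B.subtype
    have eA : fA.range = A' := by rw [MonoidHom.range_comp, Subgroup.range_subtype]
    have eB : fB.range = B' := by
      rw [MonoidHom.range_comp, Subgroup.range_subtype]
      refine le_antisymm ?_ fun x hx => ?_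
      · rintro _ ⟨b, hb, rfl⟩
        exact hb.2
      · obtain ⟨a, ha, rfl⟩ := hB' hx
        exact ⟨a, ⟨ha, hx⟩, rfl⟩
    have ek : Nat.card fA.ker = Nat.card fB.ker := Nat.card_congr
      { toFun := fun a => ⟨⟨a.1.1, a.1.2, by
            show φ a.1.1 ∈ B'
            rw [show φ a.1.1 = 1 from a.2]; exact one_mem _⟩, a.2⟩
        invFun := fun b => ⟨⟨b.1.1, b.1.2.1⟩, b.2⟩
        left_inv := fun a => rfl
        right_inv := fun b => rfl }
    have hfix : ∀ (H : Subgroup G), Nat.card (fixSub (H.map φ)) =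
        Nat.card ↥(V ⊓ Subgroup.centralizer (H : Set G)) := by
      intro H
      rw [← Subgroup.card_map_of_injective (K := fixSub (H.map φ)) (f := V.subtype) V.subtype_injective]
      congr 2
      ext x
      constructor
      · rintro ⟨v, hv, rfl⟩
        refine ⟨v.2, Subgroup.mem_centralizer_iff.2 fun h hh => ?_⟩
        have e := congrArg Subtype.val (hv (φ h) ⟨h, hh, rfl⟩)
        rw [hφ] at e
        exact mul_inv_eq_iff_eq_mul.1 e
      · rintro ⟨hxV, hxc⟩
        refine ⟨⟨x, hxV⟩, ?_, rfl⟩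
        rintro _ ⟨h, hh, rfl⟩
        refine Subtype.ext ?_
        rw [hφ, Subgroup.mem_centralizer_iff.1 hxc h hh, mul_inv_cancel_right]
    have h := hb.1 B inf_le_left
    have cA := card_map_mul_card_ker fA
    have cB := card_map_mul_card_ker fB
    rw [eA, ek] at cA
    rw [eB] at cB
    have eB' : B.map φ = B' := by rw [← eB, MonoidHom.range_comp, Subgroup.range_subtype]
    rw [← hfix, ← hfix, eB', ← hA', ← cA, ← cB, mul_right_comm _ (Nat.card fB.ker),
      mul_right_comm (Nat.card A') (Nat.card fB.ker)] at h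
    exact Nat.le_of_mul_le_mul_right h Nat.card_pos
  have hinv := involves_of_best (Nat.card ↥V + Nat.card ↥X) ↥V X A' le_rfl hV2 hA'X hA'2 hQuad
    hbest hnc
  refine hS4 (LocalEven61.involves_perm4_of_two_local V
    (Thompson.isPGroup_of_isElementaryAbelian hVe) ?_)
  set Nr := Subgroup.normalizer (V : Set G) with hNr
  set f' := φ.comp Nr.subtype with hf'
  have hk' : f'.ker = C.subgroupOf Nr := by
    rw [hf', ← MonoidHom.comap_ker, hker]; rfl
  have hr' : f'.range = X := by
    rw [hf', MonoidHom.range_comp, Subgroup.range_subtype, hNr, Subgroup.normalizer_eq_top,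
      ← MonoidHom.range_eq_map]
  let e : (↥Nr ⧸ C.subgroupOf Nr) ≃* ↥X :=
    ((QuotientGroup.quotientMulEquivOfEq hk'.symm).trans
      (QuotientGroup.quotientKerEquivRange f')).trans (MulEquiv.subgroupCongr hr')
  exact LocalEven61.involves_trans hinv (LocalEven61.involves_of_hom (MonoidHom.id ↥X)
    (fun a => ⟨a, rfl⟩) e.symm.toMonoidHom e.symm.injective)

end Basic

/-- Constrained case with trivial odd core: `J(S)` is normal. -/
theorem thompson_normal : ∀ (n : ℕ) (G : Type u) [Group G] [Finite G], Nat.card G ≤ n →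
    Subgroup.centralizer (pCore 2 G : Set G) ≤ pCore 2 G →
    ¬ Cfsg.Involves (Perm (Fin 4)) G → ∀ S : Sylow 2 G, ClassTwo (S : Subgroup G) →
    (thompsonSubgroupOf 2 (S : Subgroup G)).Normal := by
  intro n
  induction n using Nat.strong_induction_on with
  | _ n ih =>
  intro G _ _ hn hc hS4 S hcl
  haveI : Fact (Nat.Prime 2) := ⟨Nat.prime_two⟩
  set Z := omegaOne 2 ((S : Subgroup G) ⊓ Subgroup.centralizer ((S : Subgroup G) : Set G)) with hZd
  by_cases hZ : Z ≤ Subgroup.center G
  · have hJ := thompson_le_pCore_of_central S hcl hc hZ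
    rw [← Subgroup.normalizer_eq_top_iff, ← Thompson.thompsonSubgroupOf_eq_of_le
      (Thompson.pCore_le_sylow S) hJ, eq_top_iff]
    refine le_trans ?_ (Thompson.normalizer_le_normalizer_thompsonSubgroupOf _)
    rw [Subgroup.normalizer_eq_top]
  set C1 := Subgroup.centralizer (Z : Set G) with hC1
  have hC1top : C1 ≠ ⊤ := fun h => hZ fun z hz => Subgroup.mem_center_iff.2 fun g =>
    (Subgroup.mem_centralizer_iff.1 (h.ge (Subgroup.mem_top g) : g ∈ C1) z hz).symm
  have hSC : (S : Subgroup G) ≤ C1 := Subgroup.le_centralizer_iff.1 (Thompson.omegaCenter_le_centralizer _)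
  have hQC : pCore 2 G ≤ C1 := (Thompson.pCore_le_sylow S).trans hSC
  have hlt : Nat.card C1 < Nat.card G :=
    lt_of_le_of_ne (Subgroup.card_le_card_group C1) fun h => hC1top (C1.eq_top_of_card_eq h)
  have hQle : (pCore 2 G).subgroupOf C1 ≤ pCore 2 C1 :=
    Thompson.le_pCore inferInstance
      ((Thompson.isPGroup_pCore).comap_of_injective C1.subtype C1.subtype_injective)
  have hc1 : Subgroup.centralizer (pCore 2 C1 : Set C1) ≤ pCore 2 C1 := by
    intro x hx
    refine hQle (hc (Subgroup.mem_centralizer_iff.2 fun q hq => ?_) : (x : G) ∈ pCore 2 G)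
    exact congrArg Subtype.val
      (Subgroup.mem_centralizer_iff.1 hx ⟨q, hQC hq⟩ (hQle (show (⟨q, hQC hq⟩ : ↥C1) ∈ _ from hq)))
  have hS4' : ¬ Cfsg.Involves (Perm (Fin 4)) ↥C1 := fun h =>
    hS4 (LocalEven61.involves_of_subgroup C1 h)
  set S1 := S.subtype hSC with hS1
  have hS1map : (S1 : Subgroup ↥C1).map C1.subtype = S := by
    rw [hS1, Sylow.coe_subtype, Subgroup.subgroupOf_map_subtype, inf_eq_left]
    exact hSC
  have hcl1 : ClassTwo (S1 : Subgroup ↥C1) := by
    intro a ha b hb c hcc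
    rw [hS1, Sylow.coe_subtype, Subgroup.mem_subgroupOf] at ha hb hcc
    refine Subtype.ext ?_
    rw [Subgroup.coe_mul, Subgroup.coe_mul]
    exact hcl a ha b hb c hcc
  haveI hJn := ih (Nat.card C1) (hlt.trans_le hn) ↥C1 le_rfl hc1 hS4' S1 hcl1
  have hJmap : (thompsonSubgroupOf 2 (S1 : Subgroup ↥C1)).map C1.subtype =
      thompsonSubgroupOf 2 (S : Subgroup G) := by
    rw [Thompson.thompsonSubgroupOf_map _ _ C1.subtype_injective.injOn, hS1map]
  have hC1N : C1 ≤ Subgroup.normalizer (thompsonSubgroupOf 2 (S : Subgroup G) : Set G) := by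
    intro x hx
    rw [← hJmap]
    refine Subgroup.le_normalizer_map C1.subtype ⟨⟨x, hx⟩, ?_, rfl⟩
    rw [SetLike.mem_coe, Subgroup.normalizer_eq_top]
    trivial
  haveI := Thompson.iSupOmegaCenter_normal (p := 2) (G := G)
  have h := Thompson.sup_normalizer_thompson_eq_top (p := 2) S
    (thompson_le_centralizer S hcl hc hS4)
  rw [← Subgroup.normalizer_eq_top_iff, eq_top_iff, ← h]
  refine sup_le (le_trans ?_ hC1N) le_rfl
  exact Subgroup.centralizer_le (le_iSup (fun T : Sylow 2 G =>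
    omegaOne 2 ((T : Subgroup G) ⊓ Subgroup.centralizer ((T : Subgroup G) : Set G))) S)

/-- The general case. -/
theorem normalizer_sup_pPrimeCore {G : Type u} [Group G] [Finite G] (hcon : IsPConstrained 2 G)
    (hS4 : ¬ Cfsg.Involves (Perm (Fin 4)) G) (S : Sylow 2 G)
    (hcl : Subgroup.lowerCentralSeries (S : Subgroup G) 2 = ⊥) :
    Subgroup.normalizer (thompsonSubgroupOf 2 (S : Subgroup G) : Set G) ⊔ pPrimeCore 2 G = ⊤ := by
  haveI : Fact (Nat.Prime 2) := ⟨Nat.prime_two⟩
  set K := pPrimeCore 2 G with hK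
  have hπs : Function.Surjective (QuotientGroup.mk' K) := QuotientGroup.mk'_surjective K
  set S' := S.mapSurjective hπs with hS'
  have hS'e : (S' : Subgroup (G ⧸ K)) = (S : Subgroup G).map (QuotientGroup.mk' K) :=
    Sylow.coe_mapSurjective _ _
  haveI hn := thompson_normal (Nat.card (G ⧸ K)) (G ⧸ K) le_rfl
    (OddLocal44.centralizer_pCore_quotient_le hcon)
    (fun h => hS4 (LocalEven61.involves_of_quotient K h)) S'
    (by rw [hS'e]; exact classTwo_map (classTwo_of_lowerCentralSeries hcl) _)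
  rw [eq_top_iff]
  intro g _
  have hKc : (Nat.card K).Coprime 2 := Thompson.card_pPrimeCore_coprime
  have hg : QuotientGroup.mk' K g ∈ Subgroup.normalizer
      ((thompsonSubgroupOf 2 (S : Subgroup G)).map (QuotientGroup.mk' K) : Set (G ⧸ K)) := by
    rw [Thompson.thompsonSubgroupOf_map _ _ (Thompson.injOn_mk'_of_coprime K S.isPGroup' hKc),
      ← hS'e, Subgroup.normalizer_eq_top]
    trivial
  obtain ⟨k, hk, hkn⟩ := Thompson.exists_normalizer_lift K
    (S.isPGroup'.to_le (Thompson.thompsonSubgroupOf_le _)) hKc hg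
  have e : g = k⁻¹ * (k * g) := by group
  rw [e]
  exact mul_mem (Subgroup.mem_sup_right (inv_mem hk)) (Subgroup.mem_sup_left hkn)

end Cfsg.Agent.T51.ClassTwoFactor
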