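import Cfsg.Agent.T51.CentricStep
import Cfsg.Agent.LocalEven61.StrongFusionSections
import Cfsg.Agent.LocalEven61.ZJFunctor
import Cfsg.Agent.LocalEven61.ZJQd
import Cfsg.Agent.LocalEven61.Involves
import Cfsg.Agent.PLocalB.QdStable
import Cfsg.Agent.PLocalB.CenterThompson
import Cfsg.Agent.Lib.PGroup.Basic

/-!
In a group with no section `SL(2,p)` in the automizers of its `p`-subgroups, some subgroup of a
Sylow subgroup `P`, centric in `P` and normal in `P`, has a normalizer controlling fusion.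
-/

set_option autoImplicit false
set_option linter.unusedVariables false
set_option linter.unusedSectionVars false
set_option linter.style.haveILetI false

namespace Cfsg.Agent.T51.Centric

open Cfsg.Agent.ConjFunctor

universe u

/-- No automizer of a `p`-subgroup has a section `SL(2,p)`. -/
def Free (p : ℕ) (G : Type u) [Group G] : Prop :=
  ∀ Q : Subgroup G, IsPGroup p ↥Q → ¬ ∃ (H K : Subgroup G) (_ : (K.subgroupOf H).Normal),
    Subgroup.centralizer (Q : Set G) ≤ K ∧ K ≤ H ∧ H ≤ Subgroup.normalizer (Q : Set G) ∧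
    Nonempty ((↥H ⧸ K.subgroupOf H) ≃* Matrix.SpecialLinearGroup (Fin 2) (ZMod p))

section Free

variable {G : Type u} [Group G] {p : ℕ}

/-- A surjection from `H` with kernel `K` gives the section. -/
theorem section_of_hom {Q H K : Subgroup G}
    (f : ↥H →* Matrix.SpecialLinearGroup (Fin 2) (ZMod p)) (hf : Function.Surjective f)
    (hK : K = f.ker.map H.subtype) (hC : Subgroup.centralizer (Q : Set G) ≤ K)
    (hN : H ≤ Subgroup.normalizer (Q : Set G)) :
    ∃ (H K : Subgroup G) (_ : (K.subgroupOf H).Normal),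
      Subgroup.centralizer (Q : Set G) ≤ K ∧ K ≤ H ∧ H ≤ Subgroup.normalizer (Q : Set G) ∧
      Nonempty ((↥H ⧸ K.subgroupOf H) ≃* Matrix.SpecialLinearGroup (Fin 2) (ZMod p)) := by
  have e : K.subgroupOf H = f.ker := by
    rw [hK]
    exact Subgroup.comap_map_eq_self_of_injective H.subtype_injective _
  haveI hn : (K.subgroupOf H).Normal := by rw [e]; infer_instance
  exact ⟨H, K, hn, hC, hK ▸ Subgroup.map_subtype_le _, hN,
    ⟨(QuotientGroup.quotientMulEquivOfEq e).trans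
      (QuotientGroup.quotientKerEquivOfSurjective f hf)⟩⟩

variable [Finite G]

theorem Free.subgroup (h : Free p G) (M : Subgroup G) : Free p ↥M := by
  rintro Q hQ ⟨H, K, hn, hCK, hKH, hHN, ⟨e⟩⟩
  set T := Q.map M.subtype with hT
  set CT := Subgroup.centralizer (T : Set G) with hCT
  set f₀ : ↥H →* Matrix.SpecialLinearGroup (Fin 2) (ZMod p) :=
    e.toMonoidHom.comp (QuotientGroup.mk' (K.subgroupOf H)) with hf₀
  set Hm := H.map M.subtype with hHm
  set Km := K.map M.subtype with hKm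
  have hHmN : Hm ≤ nrm T :=
    (Subgroup.map_mono hHN).trans (Subgroup.le_normalizer_map M.subtype)
  have hHmC : Hm ≤ nrm CT := by
    intro x hx
    exact mem_nrm_of_forall fun c hc => centralizer_conj_mem (hHmN hx) hc
  haveI : (CT.subgroupOf (CT ⊔ Hm)).Normal :=
    (Subgroup.normal_subgroupOf_iff_le_normalizer le_sup_left).2 (sup_le Subgroup.le_normalizer hHmC)
  let j : ↥H →* (↥(CT ⊔ Hm) ⧸ CT.subgroupOf (CT ⊔ Hm)) :=
    (QuotientGroup.mk' _).comp ((M.subtype.comp H.subtype).codRestrict (CT ⊔ Hm) fun x =>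
      Subgroup.mem_sup_right ⟨x, x.2, rfl⟩)
  have hj : Function.Surjective j := by
    intro y
    induction y using QuotientGroup.induction_on with
    | H x =>
      obtain ⟨c, hc, _, ⟨z, hz, rfl⟩, he⟩ := Coprime.exists_mul_of_mem_sup hHmC x.2
      refine ⟨⟨z, hz⟩, QuotientGroup.eq.2 (Subgroup.mem_subgroupOf.2 ?_)⟩
      show ((z : G))⁻¹ * (x : G) ∈ CT
      rw [he]
      have : (z : G)⁻¹ * (c * (z : G)) = (z : G)⁻¹ * c * (z : G)⁻¹⁻¹ := by group
      rw [show (M.subtype z) = (z : G) from rfl, this]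
      exact conj_mem_of_nrm ((nrm CT).inv_mem (hHmC ⟨z, hz, rfl⟩)) hc
  have hjk : j.ker ≤ f₀.ker := by
    intro x hx
    have hx' : ((x : ↥M) : G) ∈ CT := Subgroup.mem_subgroupOf.1 ((QuotientGroup.eq_one_iff
      (⟨((x : ↥M) : G), Subgroup.mem_sup_right ⟨x, x.2, rfl⟩⟩ : ↥(CT ⊔ Hm))).1 hx)
    have hxc : (x : ↥M) ∈ Subgroup.centralizer (Q : Set ↥M) :=
      Subgroup.mem_centralizer_iff.2 fun q hq => Subtype.ext
        (Subgroup.mem_centralizer_iff.1 hx' (q : G) ⟨q, hq, rfl⟩)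
    show e (QuotientGroup.mk' (K.subgroupOf H) x) = 1
    rw [QuotientGroup.mk'_apply, (QuotientGroup.eq_one_iff x).2
      (Subgroup.mem_subgroupOf.2 (hCK hxc)), map_one]
  let ψ : ↥(CT ⊔ Hm) →* Matrix.SpecialLinearGroup (Fin 2) (ZMod p) :=
    ((QuotientGroup.lift j.ker f₀ hjk).comp
      (QuotientGroup.quotientKerEquivOfSurjective j hj).symm.toMonoidHom).comp (QuotientGroup.mk' _)
  have hψ : ∀ x : ↥H, ψ ⟨((x : ↥M) : G), Subgroup.mem_sup_right ⟨x, x.2, rfl⟩⟩ = f₀ x := by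
    intro x
    show (QuotientGroup.lift j.ker f₀ hjk) ((QuotientGroup.quotientKerEquivOfSurjective j hj).symm
      (j x)) = f₀ x
    rw [show (QuotientGroup.quotientKerEquivOfSurjective j hj).symm (j x) = QuotientGroup.mk x from
      (MulEquiv.symm_apply_eq _).2 rfl]
    rfl
  refine h T (hQ.map _) (section_of_hom (H := CT ⊔ Hm) ψ ?_ rfl ?_
    (sup_le (Subgroup.centralizer_le_normalizer _) hHmN))
  · intro s
    obtain ⟨x, hx⟩ : ∃ x, f₀ x = s := by
      obtain ⟨q, rfl⟩ := e.surjective s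
      obtain ⟨x, rfl⟩ := QuotientGroup.mk'_surjective _ q
      exact ⟨x, rfl⟩
    exact ⟨_, (hψ x).trans hx⟩
  · intro c hc
    refine ⟨⟨c, Subgroup.mem_sup_left hc⟩, ?_, rfl⟩
    show ψ _ = 1
    show (QuotientGroup.lift j.ker f₀ hjk) ((QuotientGroup.quotientKerEquivOfSurjective j hj).symm
      (QuotientGroup.mk' _ ⟨c, Subgroup.mem_sup_left hc⟩)) = 1
    rw [QuotientGroup.mk'_apply, (QuotientGroup.eq_one_iff _).2 (Subgroup.mem_subgroupOf.2 hc),
      map_one, map_one]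

theorem Free.quotient (h : Free p G) (N : Subgroup G) [N.Normal] (hN : IsPGroup p N) :
    Free p (G ⧸ N) := by
  rintro Q hQ ⟨H, K, hn, hCK, hKH, hHN, ⟨e⟩⟩
  set π := QuotientGroup.mk' N with hπ
  have hs : Function.Surjective π := QuotientGroup.mk'_surjective N
  set T := Q.comap π with hT
  have hTp : IsPGroup p T := IsPGroup.comap_of_ker_isPGroup hQ π (by rw [hπ, QuotientGroup.ker_mk']; exact hN)
  let j : ↥(H.comap π) →* ↥H :=
    (π.comp (H.comap π).subtype).codRestrict H fun x => x.2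
  have hj : Function.Surjective j := fun y => by
    obtain ⟨x, hx⟩ := hs y
    exact ⟨⟨x, show π x ∈ H from hx ▸ y.2⟩, Subtype.ext hx⟩
  have hC : Subgroup.centralizer (T : Set G) ≤ K.comap π := by
    intro c hc
    refine hCK (Subgroup.mem_centralizer_iff.2 fun q hq => ?_)
    obtain ⟨x, rfl⟩ := hs q
    rw [← map_mul, ← map_mul, Subgroup.mem_centralizer_iff.1 hc x hq]
  refine h T hTp (section_of_hom (H := H.comap π)
    (e.toMonoidHom.comp ((QuotientGroup.mk' (K.subgroupOf H)).comp j))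
    (e.surjective.comp ((QuotientGroup.mk'_surjective _).comp hj)) rfl ?_
    ((Subgroup.comap_mono hHN).trans (Subgroup.comap_normalizer_eq_of_surjective _ hs).le))
  intro c hc
  have hcK := hC hc
  refine ⟨⟨c, hKH hcK⟩, ?_, rfl⟩
  show e (QuotientGroup.mk' (K.subgroupOf H) (j ⟨c, hKH hcK⟩)) = 1
  rw [QuotientGroup.mk'_apply, (QuotientGroup.eq_one_iff _).2 (Subgroup.mem_subgroupOf.2 hcK),
    map_one]

variable [Fact p.Prime]

/-- Such a group does not involve `Qd(p)`. -/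
theorem Free.not_involves_qd (h : Free p G) : ¬ Cfsg.Involves ↥(Cfsg.qd p) G := by
  intro hinv
  obtain ⟨L, f₀, hf₀⟩ := LocalEven61.exists_surjective_of_involves hinv
  haveI : CharP (ZMod p) p := ZMod.charP p
  obtain ⟨f, hf⟩ : ∃ f : ↥L →* ↥(Cfsg.qdOver (ZMod p)), Function.Surjective f := ⟨f₀, hf₀⟩
  let q : ↥L →* Matrix.SpecialLinearGroup (Fin 2) (ZMod p) := LocalEven61.qdLin.comp f
  have hqs : Function.Surjective q := LocalEven61.qdLin_surjective.comp hf
  obtain ⟨S⟩ := (inferInstance : Nonempty (Sylow p ↥q.ker))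
  set SL' := (S : Subgroup ↥q.ker).map q.ker.subtype with hSL
  have hfr := Sylow.normalizer_sup_eq_top S
  set T := SL'.map L.subtype with hT
  set CT := Subgroup.centralizer (T : Set G) with hCT
  set NS := Subgroup.normalizer (SL' : Set ↥L) with hNS
  have hNq : ∀ s, ∃ n ∈ NS, q n = s := by
    intro s
    obtain ⟨c, rfl⟩ := hqs s
    have hc : c ∈ q.ker ⊔ NS := by rw [sup_comm, hfr]; exact Subgroup.mem_top c
    obtain ⟨a, ha, n, hn, rfl⟩ := Subgroup.mem_sup_of_normal_left.1 hc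
    exact ⟨n, hn, by rw [map_mul, MonoidHom.mem_ker.1 ha, one_mul]⟩
  set Hm := NS.map L.subtype with hHm
  have hHmN : Hm ≤ nrm T := Subgroup.le_normalizer_map L.subtype
  have hHmC : Hm ≤ nrm CT := by
    intro x hx
    exact mem_nrm_of_forall fun c hc => centralizer_conj_mem (hHmN hx) hc
  have hcent : ∀ n : ↥L, (n : G) ∈ CT → q n = 1 := by
    intro n hn
    refine LocalEven61.qdTrans_eq_zero_of_centralizes (g := f n)
      (Subgroup.mem_centralizer_iff.2 fun v hv => ?_)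
    let gh : ↥q.ker →* ↥(LocalEven61.qdLin (F := ZMod p)).ker :=
      (f.comp q.ker.subtype).codRestrict _ fun x => MonoidHom.mem_ker.1 x.2
    have hgs : Function.Surjective gh := fun a => by
      obtain ⟨c, hc⟩ := hf (a : ↥(Cfsg.qdOver (ZMod p)))
      exact ⟨⟨c, MonoidHom.mem_ker.2 (by
        show LocalEven61.qdLin (f c) = 1
        rw [hc]; exact a.2)⟩, Subtype.ext hc⟩
    have hker : IsPGroup p ↥(LocalEven61.qdLin (F := ZMod p)).ker := LocalEven61.isPGroup_ker_qdLin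
    have htop : ((S.mapSurjective hgs : Sylow p ↥(LocalEven61.qdLin (F := ZMod p)).ker) :
        Subgroup ↥(LocalEven61.qdLin (F := ZMod p)).ker) = ⊤ :=
      ((S.mapSurjective hgs).is_maximal' (hker.to_subgroup ⊤) le_top).symm
    obtain ⟨w, hw, hwv⟩ : (⟨v, hv⟩ : ↥(LocalEven61.qdLin (F := ZMod p)).ker) ∈
        ((S.mapSurjective hgs : Sylow p ↥(LocalEven61.qdLin (F := ZMod p)).ker) :
        Subgroup ↥(LocalEven61.qdLin (F := ZMod p)).ker) := by rw [htop]; exact Subgroup.mem_top _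
    have hwv' : f (w : ↥L) = v := congrArg Subtype.val hwv
    have h1 : ((w : ↥L) : G) * (n : G) = (n : G) * ((w : ↥L) : G) :=
      Subgroup.mem_centralizer_iff.1 hn _ ⟨(w : ↥L), ⟨w, hw, rfl⟩, rfl⟩
    rw [← hwv', ← map_mul, ← map_mul]
    exact congrArg f (Subtype.ext h1)
  haveI : (CT.subgroupOf (CT ⊔ Hm)).Normal :=
    (Subgroup.normal_subgroupOf_iff_le_normalizer le_sup_left).2 (sup_le Subgroup.le_normalizer hHmC)
  let j : ↥NS →* (↥(CT ⊔ Hm) ⧸ CT.subgroupOf (CT ⊔ Hm)) :=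
    (QuotientGroup.mk' _).comp ((L.subtype.comp NS.subtype).codRestrict (CT ⊔ Hm) fun x =>
      Subgroup.mem_sup_right ⟨x, x.2, rfl⟩)
  have hj : Function.Surjective j := by
    intro y
    induction y using QuotientGroup.induction_on with
    | H x =>
      obtain ⟨c, hc, _, ⟨z, hz, rfl⟩, he⟩ := Coprime.exists_mul_of_mem_sup hHmC x.2
      refine ⟨⟨z, hz⟩, QuotientGroup.eq.2 (Subgroup.mem_subgroupOf.2 ?_)⟩
      show ((z : G))⁻¹ * (x : G) ∈ CT
      rw [he]
      have : (z : G)⁻¹ * (c * (z : G)) = (z : G)⁻¹ * c * (z : G)⁻¹⁻¹ := by group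
      rw [show (L.subtype z) = (z : G) from rfl, this]
      exact conj_mem_of_nrm ((nrm CT).inv_mem (hHmC ⟨z, hz, rfl⟩)) hc
  have hjk : j.ker ≤ (q.comp NS.subtype).ker := fun x hx =>
    hcent _ (Subgroup.mem_subgroupOf.1 ((QuotientGroup.eq_one_iff
      (⟨((x : ↥L) : G), Subgroup.mem_sup_right ⟨x, x.2, rfl⟩⟩ : ↥(CT ⊔ Hm))).1 hx))
  let ψ : ↥(CT ⊔ Hm) →* Matrix.SpecialLinearGroup (Fin 2) (ZMod p) :=
    ((QuotientGroup.lift j.ker (q.comp NS.subtype) hjk).comp
      (QuotientGroup.quotientKerEquivOfSurjective j hj).symm.toMonoidHom).comp (QuotientGroup.mk' _)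
  refine h T ((S.isPGroup'.map _).map _) (section_of_hom (H := CT ⊔ Hm) ψ ?_ rfl ?_
    (sup_le (Subgroup.centralizer_le_normalizer _) hHmN))
  · intro s
    obtain ⟨n, hn, rfl⟩ := hNq s
    refine ⟨⟨(n : G), Subgroup.mem_sup_right ⟨n, hn, rfl⟩⟩, ?_⟩
    show (QuotientGroup.lift j.ker (q.comp NS.subtype) hjk)
      ((QuotientGroup.quotientKerEquivOfSurjective j hj).symm (j ⟨n, hn⟩)) = q n
    rw [show (QuotientGroup.quotientKerEquivOfSurjective j hj).symm (j ⟨n, hn⟩) =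
      QuotientGroup.mk ⟨n, hn⟩ from (MulEquiv.symm_apply_eq _).2 rfl]
    rfl
  · intro c hc
    refine ⟨⟨c, Subgroup.mem_sup_left hc⟩, ?_, rfl⟩
    show (QuotientGroup.lift j.ker (q.comp NS.subtype) hjk)
      ((QuotientGroup.quotientKerEquivOfSurjective j hj).symm
      (QuotientGroup.mk' _ ⟨c, Subgroup.mem_sup_left hc⟩)) = 1
    rw [QuotientGroup.mk'_apply, (QuotientGroup.eq_one_iff _).2 (Subgroup.mem_subgroupOf.2 hc),
      map_one, map_one]

/-- Glauberman's theorem in strong form. -/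
theorem Free.strongCtl (h : Free p G) (hp : p ≠ 2) :
    LocalEven61.StrongCtl p (fun Q _ => LocalEven61.zjA Q) G :=
  LocalEven61.strongCtl_of_constrained (p := p) (LocalEven61.isCharPFunctor_zjA (p := p))
    (G := G) (fun X _ _ hsec hcon S => by
      rw [LocalEven61.inducedFunctor_zjA, PLocalB.centerThompsonAOf_eq_core]
      obtain ⟨K', R', hR', ⟨e⟩⟩ := hsec.exists_section
      refine (PLocalB.abelianFamily X).core_normal hp hcon (fun B _ hB a hq => ?_) S
      by_contra ha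
      exact h.not_involves_qd (LocalEven61.involves_trans
        (PLocalB.exists_qd_section_of_not_stable hp B hB a hq ha)
        (LocalEven61.involves_congr e ⟨K', R', hR', ⟨MulEquiv.refl _⟩⟩))) _ (ConjFunctor.isSec_refl _)

end Free

section Main

variable {G : Type u} [Group G] [Finite G] {p : ℕ} [Fact p.Prime]

/-- A proper subgroup controlling fusion transfers the problem. -/
theorem good_of_control (P : Sylow p G) {L : Subgroup G} (hPL : (P : Subgroup G) ≤ L)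
    (hctl : ∀ A ≤ (P : Subgroup G), ∀ g : G, (∀ a ∈ A, g * a * g⁻¹ ∈ (P : Subgroup G)) →
      ∃ h ∈ L, ∀ a ∈ A, h * a * h⁻¹ = g * a * g⁻¹)
    (hL : ∃ E, Good (⊤ : Subgroup ↥L) (P.subtype hPL : Subgroup ↥L) E) :
    ∃ E, Good (⊤ : Subgroup G) (P : Subgroup G) E := by
  obtain ⟨E', hE'⟩ := hL
  have hP' : (P.subtype hPL : Subgroup ↥L) = (P : Subgroup G).subgroupOf L := Sylow.coe_subtype _ _
  rw [hP'] at hE'
  refine ⟨E'.map L.subtype, ⟨?_, ?_, ?_, ?_⟩⟩
  · rintro _ ⟨e, he, rfl⟩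
    exact hE'.le he
  · intro x hx
    exact Subgroup.le_normalizer_map L.subtype
      ⟨⟨x, hPL hx⟩, hE'.norm (Subgroup.mem_subgroupOf.2 hx), rfl⟩
  · intro x hx
    refine ⟨⟨x, hPL hx.1⟩, hE'.cent ⟨Subgroup.mem_subgroupOf.2 hx.1, ?_⟩, rfl⟩
    exact Subgroup.mem_centralizer_iff.2 fun e he => Subtype.ext
      (Subgroup.mem_centralizer_iff.1 hx.2 (e : G) ⟨e, he, rfl⟩)
  · intro A hA g _ hgA
    obtain ⟨h, hhL, he⟩ := hctl A hA g hgA
    obtain ⟨h', -, hh', he'⟩ := hE'.ctl (A.subgroupOf L) (Subgroup.comap_mono hA) ⟨h, hhL⟩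
      (Subgroup.mem_top _) (fun a ha => Subgroup.mem_subgroupOf.2 (by
        show h * (a : G) * h⁻¹ ∈ (P : Subgroup G)
        rw [he (a : G) ha]; exact hgA _ ha))
    exact ⟨h', Subgroup.mem_top _, Subgroup.le_normalizer_map L.subtype ⟨h', hh', rfl⟩, fun a ha =>
      (congrArg Subtype.val (he' ⟨a, hPL (hA ha)⟩ ha)).trans (he a ha)⟩

/-- Fusion control lifts over a central `p`-subgroup. -/
theorem good_of_central (P : Sylow p G) (Z : Subgroup G) [Z.Normal] (hZP : Z ≤ (P : Subgroup G))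
    (hZc : Z ≤ Subgroup.center G)
    (hquot : ∀ S : Sylow p (G ⧸ Z), ∃ E, Good (⊤ : Subgroup (G ⧸ Z)) (S : Subgroup (G ⧸ Z)) E) :
    ∃ E, Good (⊤ : Subgroup G) (P : Subgroup G) E := by
  set π := QuotientGroup.mk' Z with hπ
  have hs : Function.Surjective π := QuotientGroup.mk'_surjective Z
  obtain ⟨E', hE'⟩ := hquot (P.mapSurjective hs)
  rw [Sylow.coe_mapSurjective] at hE'
  have hcomapP : ((P : Subgroup G).map π).comap π = (P : Subgroup G) := by
    rw [Subgroup.comap_map_eq, hπ, QuotientGroup.ker_mk', sup_eq_left.2 hZP]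
  set E := E'.comap π with hE
  have hEP : E ≤ (P : Subgroup G) := (Subgroup.comap_mono hE'.le).trans hcomapP.le
  have hnE : (nrm E' ).comap π = nrm E := Subgroup.comap_normalizer_eq_of_surjective _ hs
  refine ⟨E, ⟨hEP, ?_, ?_, ?_⟩⟩
  · intro x hx
    rw [← hnE]
    exact hE'.norm ⟨x, hx, rfl⟩
  · intro x hx
    refine hE'.cent ⟨⟨x, hx.1, rfl⟩, Subgroup.mem_centralizer_iff.2 fun e he => ?_⟩
    obtain ⟨y, rfl⟩ := hs e
    rw [← map_mul, ← map_mul, Subgroup.mem_centralizer_iff.1 hx.2 y he]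
  intro A hA g _ hgA
  set B := A ⊔ Z with hB
  have hBP : B ≤ (P : Subgroup G) := sup_le hA hZP
  have hgB : ∀ b ∈ B, g * b * g⁻¹ ∈ (P : Subgroup G) := fun b hb =>
    (sup_le (fun a ha => hgA a ha) (fun z hz => by
      show g * z * g⁻¹ ∈ (P : Subgroup G)
      rw [Subgroup.mem_center_iff.1 (hZc hz) g, mul_inv_cancel_right]; exact hZP hz) :
        B ≤ (P : Subgroup G).comap (MulAut.conj g).toMonoidHom) hb
  have lift : ∀ (x : G) (U : Subgroup G), U ≤ (P : Subgroup G) →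
      (∀ b ∈ U, x * b * x⁻¹ ∈ (P : Subgroup G)) →
      ∃ h ∈ nrm E, ∀ b ∈ U, π (h * b * h⁻¹) = π (x * b * x⁻¹) := by
    intro x U hU hxU
    obtain ⟨h', -, hh', he⟩ := hE'.ctl (U.map π) (Subgroup.map_mono hU) (π x) (Subgroup.mem_top _)
      (by rintro _ ⟨b, hb, rfl⟩; exact ⟨x * b * x⁻¹, hxU b hb, by rw [map_mul, map_mul, map_inv]⟩)
    obtain ⟨h, rfl⟩ := hs h'
    refine ⟨h, hnE ▸ hh', fun b hb => ?_⟩
    rw [map_mul, map_mul, map_inv, map_mul, map_mul, map_inv]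
    exact he _ ⟨b, hb, rfl⟩
  obtain ⟨h, hhE, hhe⟩ := lift g B hBP hgB
  let Dc : Subgroup G → Subgroup G := fun U =>
    (Subgroup.centralizer ((U.map π : Subgroup (G ⧸ Z)) : Set (G ⧸ Z))).comap π
  have hmemD : ∀ (U : Subgroup G) (x : G), x ∈ Dc U ↔ ∀ u ∈ U, π (x * u * x⁻¹) = π u := by
    intro U x
    show π x ∈ Subgroup.centralizer _ ↔ _
    rw [Subgroup.mem_centralizer_iff]
    constructor
    · intro hx u hu
      rw [map_mul, map_mul, map_inv, ← hx (π u) ⟨u, hu, rfl⟩, mul_inv_cancel_right]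
    · rintro hx _ ⟨u, hu, rfl⟩
      have := hx u hu
      rw [map_mul, map_mul, map_inv, mul_inv_eq_iff_eq_mul] at this
      exact this.symm
  have hBnD : ∀ U : Subgroup G, U ≤ nrm (Dc U) := fun U u hu => mem_nrm_of_forall fun x hx => by
    rw [hmemD] at hx ⊢
    intro v hv
    have hv' : u⁻¹ * v * u ∈ U := U.mul_mem (U.mul_mem (U.inv_mem hu) hv) hu
    have h1 := hx _ hv'
    simp only [map_mul, map_inv] at h1 ⊢
    calc π u * π x * (π u)⁻¹ * π v * (π u * π x * (π u)⁻¹)⁻¹ =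
        π u * (π x * ((π u)⁻¹ * π v * π u) * (π x)⁻¹) * (π u)⁻¹ := by group
      _ = π v := by rw [h1]; group
  have hcD : h⁻¹ * g ∈ Dc B := by
    rw [hmemD]
    intro b hb
    have h1 := hhe b hb
    simp only [map_mul, map_inv] at h1 ⊢
    calc (π h)⁻¹ * π g * π b * ((π h)⁻¹ * π g)⁻¹ = (π h)⁻¹ * (π g * π b * (π g)⁻¹) * π h := by group
      _ = π b := by rw [← h1]; group
  -- move a Sylow subgroup of `B D(B)` into `P`
  set D₀ := Dc B with hD₀
  obtain ⟨R₀, hR₀, hBR₀⟩ := exists_isSylowIn (p := p) (D₀ ⊔ B) (P.2.to_le hBP) le_sup_right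
  obtain ⟨m, -, hm⟩ := (isSylowIn_top P).exists_cnj_le hR₀.isPGroup le_top
  have hmB : ∀ b ∈ B, m * b * m⁻¹ ∈ (P : Subgroup G) := fun b hb => hm ⟨b, hBR₀ hb, rfl⟩
  obtain ⟨h', hh'E, hh'e⟩ := lift m B hBP hmB
  set B' := cnj m B with hB'
  have hZB : Z ≤ B := le_sup_right
  have hZB' : Z ≤ B' := by
    intro z hz
    refine ⟨z, hZB hz, ?_⟩
    show m * z * m⁻¹ = z
    rw [Subgroup.mem_center_iff.1 (hZc hz) m, mul_inv_cancel_right]
  have hh'B : cnj h' B = B' := by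
    refine Subgroup.eq_of_le_of_card_ge ?_ (by rw [hB', card_cnj, card_cnj])
    rintro _ ⟨b, hb, rfl⟩
    have h1 : (m * b * m⁻¹)⁻¹ * (h' * b * h'⁻¹) ∈ Z := QuotientGroup.eq.1 (hh'e b hb).symm
    show h' * b * h'⁻¹ ∈ B'
    have := B'.mul_mem (show m * b * m⁻¹ ∈ B' from ⟨b, hb, rfl⟩) (hZB' h1)
    rwa [mul_inv_cancel_left] at this
  have hcnjD : ∀ x : G, ∀ y, y ∈ Dc B → x * y * x⁻¹ ∈ Dc (cnj x B) := by
    intro x y hy
    rw [hmemD] at hy ⊢
    rintro _ ⟨u, hu, rfl⟩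
    show π (x * y * x⁻¹ * (x * u * x⁻¹) * (x * y * x⁻¹)⁻¹) = π (x * u * x⁻¹)
    have h1 := hy u hu
    simp only [map_mul, map_inv] at h1 ⊢
    calc π x * π y * (π x)⁻¹ * (π x * π u * (π x)⁻¹) * (π x * π y * (π x)⁻¹)⁻¹ =
        π x * (π y * π u * (π y)⁻¹) * (π x)⁻¹ := by group
      _ = π x * π u * (π x)⁻¹ := by rw [h1]
  set D' := Dc B' with hD'
  have hRD : IsSylowIn p (R₀ ⊓ D₀) D₀ :=
    isSylowIn_inf_of_normal hR₀ le_sup_left (sup_le Subgroup.le_normalizer (hBnD B))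
  have hcnjeq : cnj m D₀ = D' := by
    refine le_antisymm (by rintro _ ⟨y, hy, rfl⟩; exact hcnjD m y hy) ?_
    intro y hy
    rw [mem_cnj, hD₀, hmemD]
    intro u hu
    have h1 := (hmemD B' y).1 hy (m * u * m⁻¹) ⟨u, hu, rfl⟩
    simp only [map_mul, map_inv] at h1 ⊢
    calc (π m)⁻¹ * π y * π m * π u * ((π m)⁻¹ * π y * π m)⁻¹ =
        (π m)⁻¹ * (π y * (π m * π u * (π m)⁻¹) * (π y)⁻¹) * π m := by group
      _ = π u := by rw [h1]; group
  have hR' : IsSylowIn p (cnj m (R₀ ⊓ D₀)) D' := hcnjeq ▸ hRD.map_conj m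
  have hR'P : cnj m (R₀ ⊓ D₀) ≤ (P : Subgroup G) := (Subgroup.map_mono inf_le_left).trans hm
  set c' := h' * (h⁻¹ * g) * h'⁻¹ with hc'
  have hc'D : c' ∈ D' := by
    have := hcnjD h' _ hcD
    rw [hh'B] at this
    exact this
  set K := D' ⊓ Subgroup.centralizer (B' : Set G) with hK
  have hcomm : ∀ x ∈ D', ∀ b ∈ B', x * b * x⁻¹ * b⁻¹ ∈ Z := by
    intro x hx b hb
    have h1 := (hmemD B' x).1 hx b hb
    rw [← QuotientGroup.eq_one_iff]
    show π (x * b * x⁻¹ * b⁻¹) = 1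
    rw [map_mul, h1, ← map_mul, mul_inv_cancel, map_one]
  have hD'B : D' ≤ nrm B' := fun x hx => mem_nrm_of_forall fun b hb => by
    have := B'.mul_mem (hZB' (hcomm x hx b hb)) hb
    rwa [inv_mul_cancel_right] at this
  have hKn : D' ≤ nrm K := fun x hx => mem_nrm_of_forall fun k hk =>
    ⟨D'.mul_mem (D'.mul_mem hx hk.1) (D'.inv_mem hx), centralizer_conj_mem (hD'B hx) hk.2⟩
  obtain ⟨l, hl⟩ := IsPGroup.iff_card.1 (P.2.to_le hZP)
  have hPM : PMod p K D' := by
    intro x hx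
    refine ⟨l, D'.pow_mem hx _, Subgroup.mem_centralizer_iff.2 fun b hb => ?_⟩
    set u := x * b * x⁻¹ * b⁻¹ with hu
    have huZ : u ∈ Z := hcomm x hx b hb
    have hxu : x * u = u * x := Subgroup.mem_center_iff.1 (hZc huZ) x
    have hpow : ∀ n : ℕ, x ^ n * b * (x ^ n)⁻¹ = u ^ n * b := by
      intro n
      induction n with
      | zero => simp
      | succ n ih =>
        calc x ^ (n + 1) * b * (x ^ (n + 1))⁻¹ = x * (x ^ n * b * (x ^ n)⁻¹) * x⁻¹ := by
              rw [pow_succ']; group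
          _ = (x * u ^ n) * (b * x⁻¹) := by rw [ih]; group
          _ = (u ^ n * x) * (b * x⁻¹) := by rw [((show Commute x u from hxu).pow_right n).eq]
          _ = u ^ n * (u * b) := by rw [hu]; group
          _ = u ^ (n + 1) * b := by rw [pow_succ]; exact (mul_assoc _ _ _).symm
    have h1 := hpow (p ^ l)
    rw [show u ^ p ^ l = 1 from by
      rw [← hl]
      exact congrArg Subtype.val (pow_card_eq_one' (x := (⟨u, huZ⟩ : ↥Z))), one_mul,
      mul_inv_eq_iff_eq_mul] at h1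
    exact h1.symm
  obtain ⟨k, hk, s, hs', hks⟩ := Coprime.exists_mul_of_mem_sup (hR'.le.trans hKn)
    (le_sup_of_pmod inf_le_left hKn hR' hPM hc'D)
  have hsE : s ∈ nrm E := by
    rw [← hnE]
    exact hE'.norm ⟨s, hR'P hs', rfl⟩
  refine ⟨h * h'⁻¹ * s * h', Subgroup.mem_top _,
    (nrm E).mul_mem ((nrm E).mul_mem ((nrm E).mul_mem hhE ((nrm E).inv_mem hh'E)) hsE) hh'E,
    fun a ha => ?_⟩
  have hb : h' * a * h'⁻¹ ∈ B' := hh'B ▸ ⟨a, Subgroup.mem_sup_left ha, rfl⟩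
  set k' := s⁻¹ * k * s with hk'
  have hk'c : k' * (h' * a * h'⁻¹) = (h' * a * h'⁻¹) * k' := by
    have hkc : k' ∈ Subgroup.centralizer (B' : Set G) := by
      have := centralizer_conj_mem ((nrm B').inv_mem (hD'B (hR'.le hs'))) hk.2
      rwa [inv_inv] at this
    exact (Subgroup.mem_centralizer_iff.1 hkc _ hb).symm
  have hg : g = h * h'⁻¹ * s * k' * h' := by
    have e : g = h * (h'⁻¹ * c' * h') := by rw [hc']; group
    rw [e, hks, hk']
    group
  calc h * h'⁻¹ * s * h' * a * (h * h'⁻¹ * s * h')⁻¹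
      = h * h'⁻¹ * s * ((h' * a * h'⁻¹) * k' * k'⁻¹) * (h * h'⁻¹ * s)⁻¹ := by group
    _ = h * h'⁻¹ * s * (k' * (h' * a * h'⁻¹) * k'⁻¹) * (h * h'⁻¹ * s)⁻¹ := by rw [hk'c]
    _ = g * a * g⁻¹ := by rw [hg]; group

end Main

theorem exists_good {p : ℕ} [Fact p.Prime] (hp : p ≠ 2) :
    ∀ (n : ℕ) (G : Type u) [Group G] [Finite G], Nat.card G ≤ n → Free p G →
      ∀ P : Sylow p G, ∃ E, Good (⊤ : Subgroup G) (P : Subgroup G) E := by
  intro n
  induction n using Nat.strong_induction_on with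
  | _ n ih =>
  intro G _ _ hn hfree P
  have hrec : ∀ (L : Subgroup G) (hPL : (P : Subgroup G) ≤ L), L ≠ ⊤ →
      ∃ E, Good (⊤ : Subgroup ↥L) (P.subtype hPL : Subgroup ↥L) E := fun L hPL hL =>
    ih (Nat.card L) ((lt_of_le_of_ne (Subgroup.card_le_card_group L)
      fun h => hL (Subgroup.eq_top_of_card_eq L h)).trans_le hn) ↥L le_rfl (hfree.subgroup L) _
  by_cases hP1 : (P : Subgroup G) = ⊥
  · refine ⟨⊥, ⟨bot_le, hP1.le.trans bot_le, inf_le_left.trans hP1.le, fun A hA g _ _ => ?_⟩⟩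
    refine ⟨1, Subgroup.mem_top _, Subgroup.one_mem _, fun a ha => ?_⟩
    have : a = 1 := Subgroup.mem_bot.1 (hP1 ▸ hA ha)
    simp [this]
  have hWf := LocalEven61.isCharPFunctor_zjA.{u} (p := p)
  set W := Cfsg.inducedFunctor (fun Q _ => LocalEven61.zjA Q) (P : Subgroup G) with hW
  have hWP : W ≤ (P : Subgroup G) := inducedFunctor_le _ _
  have hW1 : W ≠ ⊥ := functor_ne_bot (isConjugacyFunctor_inducedFunctor hWf) P.2 hP1
  by_cases hNW : nrm W = ⊤
  swap
  · have hPW : (P : Subgroup G) ≤ nrm W :=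
      le_nrm_functor (isConjugacyFunctor_inducedFunctor hWf) P.2
    refine good_of_control P hPW (fun A hA g hgA => ?_) (hrec _ hPW hNW)
    obtain ⟨x, hx, he⟩ := hfree.strongCtl hp P (A : Set G) g hA
      (by rintro _ ⟨a, ha, rfl⟩; exact hgA a ha)
    exact ⟨x, hx, he⟩
  set Q := Cfsg.pCore p G with hQ
  have hQP : Q ≤ (P : Subgroup G) := Thompson.pCore_le_sylow P
  have hQ1 : Q ≠ ⊥ := fun h => hW1 (le_bot_iff.1 (h ▸
    Thompson.le_pCore (Subgroup.normalizer_eq_top_iff.1 hNW) (P.2.to_le hWP)))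
  set C := Subgroup.centralizer (Q : Set G) with hC
  by_cases hPC : (P : Subgroup G) ⊓ C ≤ Q
  · exact ⟨Q, ⟨hQP, by rw [nrm_eq_top Q]; exact le_top, hPC, fun A hA g _ _ =>
      ⟨g, Subgroup.mem_top _, by rw [nrm_eq_top Q]; exact Subgroup.mem_top _, fun _ _ => rfl⟩⟩⟩
  by_cases hH : (P : Subgroup G) ⊔ C = ⊤
  · set Z := Q ⊓ Subgroup.centralizer ((P : Subgroup G) : Set G) with hZ
    have hZc : Z ≤ Subgroup.center G := by
      intro z hz
      have hle : (⊤ : Subgroup G) ≤ Subgroup.centralizer (Z : Set G) := by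
        rw [← hH]
        exact sup_le (Subgroup.le_centralizer_iff.1 inf_le_right) (Subgroup.centralizer_le inf_le_left)
      exact Subgroup.mem_center_iff.2 fun x =>
        (Subgroup.mem_centralizer_iff.1 (hle (Subgroup.mem_top x)) z hz).symm
    haveI : Z.Normal := ⟨fun z hz g => by
      rw [Subgroup.mem_center_iff.1 (hZc hz) g, mul_inv_cancel_right]; exact hz⟩
    have hZ1 : Z ≠ ⊥ := by
      haveI : (Q.subgroupOf (P : Subgroup G)).Normal := Subgroup.Normal.comap inferInstance _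
      have h1 : Q.subgroupOf (P : Subgroup G) ≠ ⊥ := fun h => hQ1 (by
        rw [← Subgroup.map_subgroupOf_eq_of_le hQP, h, Subgroup.map_bot])
      obtain ⟨x, hx, hx1⟩ := (Subgroup.bot_or_exists_ne_one _).resolve_left
        (PGroup.inf_center_ne_bot P.2 h1)
      intro hbot
      refine hx1 (Subtype.ext (Subgroup.mem_bot.1 (hbot ▸ ⟨hx.1, ?_⟩)))
      exact Subgroup.mem_centralizer_iff.2 fun y hy =>
        congrArg Subtype.val (Subgroup.mem_center_iff.1 hx.2 ⟨y, hy⟩)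
    refine good_of_central P Z (inf_le_left.trans hQP) hZc fun S => ?_
    have hlt : Nat.card (G ⧸ Z) < Nat.card G := by
      rw [Subgroup.card_eq_card_quotient_mul_card_subgroup Z]
      exact lt_mul_of_one_lt_right Nat.card_pos ((Z.one_lt_card_iff_ne_bot).2 hZ1)
    exact ih _ (hlt.trans_le hn) (G ⧸ Z) le_rfl
      (hfree.quotient Z (P.2.to_le (inf_le_left.trans hQP))) S
  set H := (P : Subgroup G) ⊔ C with hHd
  obtain ⟨E', hE'⟩ := hrec H le_sup_left hH
  have hE₀ : Good H (P : Subgroup G) (E'.map H.subtype) := by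
    rw [Sylow.coe_subtype] at hE'
    refine ⟨?_, fun x hx => ?_, fun x hx => ?_, fun A hA g hg hgA => ?_⟩
    · rintro _ ⟨e, he, rfl⟩
      exact hE'.le he
    · exact Subgroup.le_normalizer_map H.subtype ⟨⟨x, Subgroup.mem_sup_left hx⟩,
        hE'.norm (Subgroup.mem_subgroupOf.2 hx), rfl⟩
    · refine ⟨⟨x, Subgroup.mem_sup_left hx.1⟩, hE'.cent ⟨Subgroup.mem_subgroupOf.2 hx.1, ?_⟩, rfl⟩
      exact Subgroup.mem_centralizer_iff.2 fun e he => Subtype.ext
        (Subgroup.mem_centralizer_iff.1 hx.2 (e : G) ⟨e, he, rfl⟩)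
    · obtain ⟨h', -, hh', he'⟩ := hE'.ctl (A.subgroupOf H) (Subgroup.comap_mono hA) ⟨g, hg⟩
        (Subgroup.mem_top _) (fun a ha => Subgroup.mem_subgroupOf.2 (hgA _ ha))
      exact ⟨h', h'.2, Subgroup.le_normalizer_map H.subtype ⟨h', hh', rfl⟩, fun a ha =>
        congrArg Subtype.val (he' ⟨a, Subgroup.mem_sup_left (hA ha)⟩ ha)⟩
  obtain ⟨D, hDP, hPD, hDQ, hDctl⟩ := exists_enlarge (isSylowIn_top P) hQP hC hHd hE₀ hPC
  have hND : nrm D ≠ ⊤ := fun h => hDQ
    (Thompson.le_pCore (Subgroup.normalizer_eq_top_iff.1 h) (P.2.to_le hDP))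
  exact good_of_control P hPD (fun A hA g hgA =>
    let ⟨h, _, hh, he⟩ := hDctl A hA g (Subgroup.mem_top _) hgA
    ⟨h, hh, he⟩) (hrec _ hPD hND)

end Cfsg.Agent.T51.Centric
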