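import Cfsg.Agent.Lib.Coprime.Action
import Cfsg.Agent.Lib.Components.Basic
import Mathlib.GroupTheory.PGroup
import Mathlib.GroupTheory.Sylow

/-! Transitivity of centralizers on fixed conjugates of a subgroup. -/

set_option autoImplicit false

namespace Cfsg.Agent.T51.Transitive

variable {G : Type*} [Group G]

/-- The conjugate `g U g⁻¹`. -/
abbrev cj (g : G) (U : Subgroup G) : Subgroup G := U.map (MulAut.conj g).toMonoidHom

theorem cj_mul (g h : G) (U : Subgroup G) : cj (g * h) U = cj g (cj h U) := by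
  rw [cj, cj, cj, Subgroup.map_map]; congr 1; ext x; simp [mul_assoc]

theorem cj_one (U : Subgroup G) : cj 1 U = U := by
  rw [cj]; convert U.map_id; ext x; simp

theorem cj_eq_iff {g : G} {U : Subgroup G} : cj g U = U ↔ g ∈ Subgroup.normalizer (U : Set G) :=
  Components.map_conj_eq_iff_mem_normalizer

theorem cj_inv_cancel (g : G) (U : Subgroup G) : cj g⁻¹ (cj g U) = U := by
  rw [← cj_mul, inv_mul_cancel, cj_one]

theorem cj_le_self_of_mem {g : G} {A : Subgroup G} (h : g ∈ Subgroup.normalizer (A : Set G)) : cj g A ≤ A :=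
  (cj_eq_iff.mpr h).le

/-- Conjugation on subgroups, as an action. -/
@[reducible] def cjAction : MulAction G (Subgroup G) where
  smul g U := cj g U
  one_smul U := cj_one U
  mul_smul g h U := cj_mul g h U

variable [Finite G] {p : ℕ} [hp : Fact p.Prime]

theorem exists_conj_le {Q S D : Subgroup G} (hQS : Q ≤ S) (hQ : IsPGroup p Q) (hidx : ¬ p ∣ Q.relIndex S)
    (hD : IsPGroup p D) (hDS : D ≤ S) : ∃ s ∈ S, cj s D ≤ Q := by
  let Q' : Sylow p S := (hQ.comap_subtype (K := S)).toSylow hidx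
  obtain ⟨R, hR⟩ := (hD.comap_subtype (K := S)).exists_le_sylow
  obtain ⟨y, hy⟩ := MulAction.exists_smul_eq S R Q'
  refine ⟨y, y.2, ?_⟩
  rintro _ ⟨d, hd, rfl⟩
  have hmem : y * ⟨d, hDS hd⟩ * y⁻¹ ∈ (Q' : Subgroup S) := by
    rw [← hy]
    exact ⟨_, hR hd, rfl⟩
  exact hmem

theorem exists_sylow_ge {S A : Subgroup G} (hA : IsPGroup p A) (hAS : A ≤ S) :
    ∃ R : Subgroup G, A ≤ R ∧ R ≤ S ∧ IsPGroup p R ∧ ¬ p ∣ R.relIndex S := by
  obtain ⟨R, hR⟩ := (hA.comap_subtype (K := S)).exists_le_sylow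
  refine ⟨(R : Subgroup S).map S.subtype, fun a ha => ⟨⟨a, hAS ha⟩, hR ha, rfl⟩, Subgroup.map_subtype_le _,
    R.2.map _, ?_⟩
  rw [Subgroup.relIndex, Subgroup.subgroupOf, Subgroup.comap_map_eq_self_of_injective (Subgroup.subtype_injective _)]
  exact R.not_dvd_index

theorem ncard_fixed (S A W : Subgroup G) (hAS : A ≤ S) (hA : IsPGroup p A) (X : Set (Subgroup G))
    (hX : ∀ U, U ∈ X ↔ ∃ s ∈ S, cj s W = U) (hc : ¬ p ∣ X.ncard) :
    ¬ p ∣ {U | U ∈ X ∧ ∀ a ∈ A, cj a U = U}.ncard := by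
  letI := cjAction (G := G)
  letI : MulAction A ↥X :=
    { smul := fun a U => ⟨cj (a : G) U, by
        obtain ⟨s, hs, e⟩ := (hX U).mp U.2
        exact (hX _).mpr ⟨a * s, S.mul_mem (hAS a.2) hs, by rw [cj_mul, e]⟩⟩
      one_smul := fun U => Subtype.ext (cj_one _)
      mul_smul := fun a b U => Subtype.ext (cj_mul _ _ _) }
  have h := hA.card_modEq_card_fixedPoints (α := ↥X)
  have e : Nat.card (MulAction.fixedPoints A ↥X) = {U | U ∈ X ∧ ∀ a ∈ A, cj a U = U}.ncard := by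
    rw [← Nat.card_coe_set_eq]
    exact Nat.card_congr
      { toFun := fun U => ⟨U.1.1, U.1.2, fun a ha => congrArg Subtype.val (U.2 ⟨a, ha⟩)⟩
        invFun := fun U => ⟨⟨U.1, U.2.1⟩, fun a => Subtype.ext (U.2.2 a a.2)⟩
        left_inv := fun U => rfl
        right_inv := fun U => rfl }
  rw [e, Nat.card_coe_set_eq] at h
  exact fun hd => hc ((Nat.modEq_zero_iff_dvd).mp (h.trans (Nat.modEq_zero_iff_dvd.mpr hd)))

theorem index_subgroupOf_eq_ncard (K U : Subgroup G) (Y : Set (Subgroup G))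
    (hY : ∀ U', U' ∈ Y ↔ ∃ k ∈ K, cj k U = U') :
    ((Subgroup.normalizer (U : Set G)).subgroupOf K).index = Y.ncard := by
  letI := cjAction (G := G)
  have h := MulAction.index_stabilizer K U
  have e1 : MulAction.stabilizer K U = (Subgroup.normalizer (U : Set G)).subgroupOf K := by
    ext k
    rw [MulAction.mem_stabilizer_iff, Subgroup.mem_subgroupOf]
    exact cj_eq_iff
  have e2 : MulAction.orbit K U = Y := by
    ext U'
    rw [hY]
    constructor
    · rintro ⟨k, rfl⟩; exact ⟨k, k.2, rfl⟩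
    · rintro ⟨k, hk, rfl⟩; exact ⟨⟨k, hk⟩, rfl⟩
  rwa [e1, e2] at h

/-- Centralizers in `N` of `p`-subgroups are transitive on the fixed conjugates of `W`, once this holds for
`p`-subgroups inside `N`. -/
theorem centralizer_transitive (N W : Subgroup G) [N.Normal]
    (hW : ¬ p ∣ ((Subgroup.normalizer (W : Set G)).subgroupOf N).index)
    (hbase : ∀ B : Subgroup G, IsPGroup p B → B ≤ N → ∀ m ∈ N, ∀ m' ∈ N,
      B ≤ Subgroup.normalizer (cj m W : Set G) → B ≤ Subgroup.normalizer (cj m' W : Set G) →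
      ∃ c ∈ N ⊓ Subgroup.centralizer (B : Set G), cj c (cj m W) = cj m' W) :
    ∀ (n : ℕ) (A : Subgroup G), IsPGroup p A → Nat.card G - Nat.card A = n →
      A ≤ Subgroup.normalizer (W : Set G) → ∀ m ∈ N, ∀ m' ∈ N,
      A ≤ Subgroup.normalizer (cj m W : Set G) → A ≤ Subgroup.normalizer (cj m' W : Set G) →
      ∃ c ∈ N ⊓ Subgroup.centralizer (A : Set G), cj c (cj m W) = cj m' W := by
  intro n
  induction n using Nat.strong_induction_on with
  | _ n ih =>
  intro A hA hn hAW m hm m' hm' hAm hAm'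
  have hnN : ∀ Y : Subgroup G, Y ≤ Subgroup.normalizer (N : Set G) := fun Y =>
    le_top.trans_eq (Subgroup.normalizer_eq_top _).symm
  let X : Set (Subgroup G) := {U | ∃ s ∈ N, cj s W = U}
  have hXc : ¬ p ∣ X.ncard := by rwa [← index_subgroupOf_eq_ncard N W X fun U => Iff.rfl]
  have hXA : ∀ U, U ∈ X ↔ ∃ s ∈ N ⊔ A, cj s W = U := fun U => by
    refine ⟨fun ⟨s, hs, e⟩ => ⟨s, Subgroup.mem_sup_left hs, e⟩, ?_⟩
    rintro ⟨g, hg, rfl⟩
    obtain ⟨k, hk, a, ha, rfl⟩ := Coprime.exists_mul_of_mem_sup (hnN A) hg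
    exact ⟨k, hk, by rw [cj_mul, cj_eq_iff.mpr (hAW ha)]⟩
  set B := A ⊓ N with hB
  set K := N ⊓ Subgroup.centralizer (B : Set G) with hK
  set M := K ⊔ A with hM
  set H := M ⊓ Subgroup.normalizer (A : Set G) with hH
  have hAK : A ≤ Subgroup.normalizer (K : Set G) := Coprime.le_normalizer_inf (hnN A)
    (Coprime.le_normalizer_centralizer (Coprime.le_normalizer_inf Subgroup.le_normalizer (hnN A)))
  have hBp : IsPGroup p B := hA.to_le inf_le_left
  let Y : Set (Subgroup G) := {U | U ∈ X ∧ ∀ b ∈ B, cj b U = U}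
  have hYc : ¬ p ∣ Y.ncard := ncard_fixed N B W inf_le_right hBp X (fun U => Iff.rfl) hXc
  have hKY : ∀ U ∈ Y, ∀ U', U' ∈ Y ↔ ∃ k ∈ K, cj k U = U' := by
    intro U hU U'
    constructor
    · intro hU'
      obtain ⟨s, hs, rfl⟩ := hU.1
      obtain ⟨s', hs', rfl⟩ := hU'.1
      exact hbase B hBp inf_le_right s hs s' hs' (fun b hb => cj_eq_iff.mp (hU.2 b hb))
        (fun b hb => cj_eq_iff.mp (hU'.2 b hb))
    · rintro ⟨k, hk, rfl⟩
      obtain ⟨s, hs, rfl⟩ := hU.1
      refine ⟨⟨k * s, N.mul_mem hk.1 hs, cj_mul _ _ _⟩, fun b hb => ?_⟩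
      rw [← cj_mul, Subgroup.mem_centralizer_iff.mp hk.2 b hb, cj_mul, hU.2 b hb]
  let FA : Set (Subgroup G) := {U | U ∈ X ∧ ∀ a ∈ A, cj a U = U}
  have hFY : ∀ U ∈ FA, U ∈ Y := fun U hU => ⟨hU.1, fun b hb => hU.2 b hb.1⟩
  have hFc : ¬ p ∣ FA.ncard := ncard_fixed (N ⊔ A) A W le_sup_right hA X hXA hXc
  -- maximal p-subgroups of the stabilizers
  have hmax : ∀ U ∈ FA, ∃ R : Subgroup G, A ≤ R ∧ R ≤ M ⊓ Subgroup.normalizer (U : Set G) ∧ IsPGroup p R ∧
      ¬ p ∣ R.relIndex (M ⊓ Subgroup.normalizer (U : Set G)) ∧ ¬ p ∣ R.relIndex M := by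
    intro U hU
    obtain ⟨R, h1, h2, h3, h4⟩ := exists_sylow_ge hA
      (le_inf le_sup_right (fun a ha => cj_eq_iff.mp (hU.2 a ha)) : A ≤ M ⊓ Subgroup.normalizer (U : Set G))
    refine ⟨R, h1, h2, h3, h4, ?_⟩
    have hidx : (Subgroup.normalizer (U : Set G)).relIndex M = Y.ncard := by
      refine index_subgroupOf_eq_ncard M U Y ?_
      intro U'
      rw [hKY U (hFY U hU) U']
      refine ⟨fun ⟨k, hk, e⟩ => ⟨k, Subgroup.mem_sup_left hk, e⟩, ?_⟩
      rintro ⟨g, hg, rfl⟩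
      obtain ⟨k, hk, a, ha, rfl⟩ := Coprime.exists_mul_of_mem_sup hAK hg
      exact ⟨k, hk, by rw [cj_mul, hU.2 a ha]⟩
    rw [← Subgroup.relIndex_mul_relIndex R _ M h2 inf_le_left, Subgroup.inf_relIndex_left, hidx]
    exact fun hd => (hp.out.dvd_mul.mp hd).elim h4 hYc
  -- the normalizer of `A` is transitive
  have hHtrans : ∀ U ∈ FA, ∀ U' ∈ FA, ∃ h ∈ H, cj h U = U' := by
    intro U hU U' hU'
    by_cases hbig : ∃ D : Subgroup G, D ≤ M ∧ IsPGroup p D ∧ Nat.card A < Nat.card D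
    · have hgrow : ∀ V ∈ FA, ∃ A1 : Subgroup G, A < A1 ∧ A1 ≤ H ∧ IsPGroup p A1 ∧
          ∀ a ∈ A1, cj a V = V := by
        intro V hV
        obtain ⟨R, hAR, hRS, hRp, -, hRM⟩ := hmax V hV
        obtain ⟨D, hDM, hDp, hAD⟩ := hbig
        obtain ⟨s, -, hs⟩ := exists_conj_le (hRS.trans inf_le_left) hRp hRM hDp hDM
        have hlt : Nat.card A < Nat.card R := hAD.trans_le (by
          rw [← Subgroup.card_map_of_injective (f := (MulAut.conj s).toMonoidHom) (MulEquiv.injective _)]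
          exact Subgroup.card_le_of_le hs)
        have : Group.IsNilpotent R := hRp.isNilpotent
        have hlt' : A.subgroupOf R < ⊤ := lt_top_iff_ne_top.mpr fun e =>
          absurd (Subgroup.card_le_of_le (Subgroup.subgroupOf_eq_top.mp e)) (not_le.mpr hlt)
        have hn := normalizerCondition_of_isNilpotent (G := R) _ hlt'
        rw [← Subgroup.subgroupOf_normalizer_eq hAR] at hn
        refine ⟨R ⊓ Subgroup.normalizer (A : Set G), lt_of_le_of_ne (le_inf hAR Subgroup.le_normalizer) ?_,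
          inf_le_inf_right _ (hRS.trans inf_le_left), hRp.to_le inf_le_left,
          fun a ha => cj_eq_iff.mpr (hRS ha.1).2⟩
        intro e
        refine hn.ne (le_antisymm hn.le fun x hx => ?_)
        have h : (x : G) ∈ R ⊓ Subgroup.normalizer (A : Set G) := ⟨x.2, hx⟩
        rwa [← e] at h
      -- move to a point fixed by a Sylow subgroup of `H`
      have hmove : ∀ V ∈ FA, ∃ (T : Subgroup G) (Z : Subgroup G), Z ∈ FA ∧ IsPGroup p T ∧ T ≤ H ∧ A < T ∧
          ¬ p ∣ T.relIndex H ∧ (∀ a ∈ T, cj a Z = Z) ∧ ∃ c ∈ H, cj c V = Z := by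
        intro V hV
        obtain ⟨A1, hA1, hA1H, hA1p, hA1f⟩ := hgrow V hV
        obtain ⟨T, hA1T, hTH, hTp, hTi⟩ := exists_sylow_ge hA1p hA1H
        have hTS : T ≤ N ⊔ A := hTH.trans (inf_le_left.trans (sup_le (inf_le_left.trans le_sup_left) le_sup_right))
        have hne : {U | U ∈ X ∧ ∀ a ∈ T, cj a U = U}.ncard ≠ 0 := fun e =>
          ncard_fixed (N ⊔ A) T W hTS hTp X hXA hXc (e ▸ dvd_zero p)
        obtain ⟨Z, hZX, hZ⟩ := Set.nonempty_of_ncard_ne_zero hne
        have hAT : A < T := lt_of_lt_of_le hA1 hA1T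
        obtain ⟨v, hv, rfl⟩ := hV.1
        obtain ⟨z, hz, rfl⟩ := hZX
        -- `A1` fixes both `W`-conjugates; conjugate the statement to `W`
        have hlt : Nat.card A < Nat.card A1 := lt_of_le_of_ne (Subgroup.card_le_of_le hA1.le) fun e =>
          hA1.ne (Subgroup.eq_of_le_of_card_ge hA1.le e.ge)
        set E := cj v⁻¹ A1 with hE
        have hEc : Nat.card E = Nat.card A1 := Subgroup.card_map_of_injective (MulAut.conj v⁻¹).injective
        have hfix : ∀ s : G, (∀ a ∈ A1, cj a (cj s W) = cj s W) → E ≤ Subgroup.normalizer (cj (v⁻¹ * s) W : Set G) := by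
          rintro s hs _ ⟨a, ha, rfl⟩
          refine cj_eq_iff.mp ?_
          show cj (v⁻¹ * a * v⁻¹⁻¹) (cj (v⁻¹ * s) W) = cj (v⁻¹ * s) W
          rw [← cj_mul, show v⁻¹ * a * v⁻¹⁻¹ * (v⁻¹ * s) = v⁻¹ * (a * s) by group, cj_mul, cj_mul, hs a ha, ← cj_mul]
        have hEW : E ≤ Subgroup.normalizer (W : Set G) := by
          have h := hfix v hA1f
          rwa [inv_mul_cancel, cj_one] at h
        have hEcard : Nat.card G - Nat.card E < n := by
          rw [← hn, hEc]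
          have := Subgroup.card_le_card_group A1
          omega
        obtain ⟨c, hc, hce⟩ := ih _ hEcard E (hA1p.map _) rfl hEW 1 N.one_mem (v⁻¹ * z)
          (N.mul_mem (N.inv_mem hv) hz) (by rw [cj_one]; exact hEW) (hfix z fun a ha => hZ a (hA1T ha))
        refine ⟨T, _, ⟨⟨z, hz, rfl⟩, fun a ha => hZ a (hAT.le ha)⟩, hTp, hTH, hAT, hTi, hZ, v * c * v⁻¹, ?_, ?_⟩
        · have hcA : v * c * v⁻¹ ∈ Subgroup.centralizer (A1 : Set G) := Subgroup.mem_centralizer_iff.mpr fun a ha => by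
            have h := Subgroup.mem_centralizer_iff.mp hc.2 _ ⟨a, ha, rfl⟩
            change v⁻¹ * a * v⁻¹⁻¹ * c = c * (v⁻¹ * a * v⁻¹⁻¹) at h
            calc a * (v * c * v⁻¹) = v * (v⁻¹ * a * v⁻¹⁻¹ * c) * v⁻¹ := by group
              _ = _ := by rw [h]; group
          have hcA' : v * c * v⁻¹ ∈ Subgroup.centralizer (A : Set G) := Subgroup.centralizer_le hA1.le hcA
          refine ⟨Subgroup.mem_sup_left ⟨?_, Subgroup.centralizer_le inf_le_left hcA'⟩,
            Subgroup.centralizer_le_normalizer _ hcA'⟩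
          exact (inferInstance : N.Normal).conj_mem c hc.1 v
        · rw [cj_one] at hce
          rw [← cj_mul, show v * c * v⁻¹ * v = v * c by group, cj_mul, hce, ← cj_mul, mul_inv_cancel_left]
      obtain ⟨T, Z, hZF, hTp, hTH, hAT, hTi, hTZ, c, hc, hcZ⟩ := hmove U hU
      obtain ⟨T', Z', hZF', hTp', hTH', hAT', hTi', hTZ', c', hc', hcZ'⟩ := hmove U' hU'
      obtain ⟨h, hh, hle⟩ := exists_conj_le hTH' hTp' hTi' hTp hTH
      have hle' : Nat.card T' ≤ Nat.card T := by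
        obtain ⟨h', -, h2⟩ := exists_conj_le hTH hTp hTi hTp' hTH'
        rw [← Subgroup.card_map_of_injective (f := (MulAut.conj h').toMonoidHom) (MulEquiv.injective _)]
        exact Subgroup.card_le_of_le h2
      have heq : cj h T = T' := Subgroup.eq_of_le_of_card_ge hle
        (hle'.trans (le_of_eq (Subgroup.card_map_of_injective (MulAut.conj h).injective).symm))
      -- `h Z` and `Z'` are both fixed by `T'`
      obtain ⟨z', hz', rfl⟩ := hZF'.1
      have hsN : h ∈ N ⊔ A := (sup_le (inf_le_left.trans le_sup_left) le_sup_right : M ≤ N ⊔ A) hh.1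
      obtain ⟨z, hz, rfl⟩ := hZF.1
      obtain ⟨w, hw, hwe⟩ := (hXA (cj h (cj z W))).mpr (by
        refine ⟨h * z, (N ⊔ A).mul_mem hsN (Subgroup.mem_sup_left hz), cj_mul _ _ _⟩)
      have hfixT : ∀ a ∈ T', cj a (cj w W) = cj w W := by
        rw [← heq]
        rintro _ ⟨a, ha, rfl⟩
        show cj (h * a * h⁻¹) (cj w W) = cj w W
        rw [hwe, ← cj_mul, inv_mul_cancel_right, cj_mul, hTZ a ha]
      set E := cj w⁻¹ T' with hE
      have hEc : Nat.card E = Nat.card T' := Subgroup.card_map_of_injective (MulAut.conj w⁻¹).injective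
      have hfix : ∀ s : G, (∀ a ∈ T', cj a (cj s W) = cj s W) → E ≤ Subgroup.normalizer (cj (w⁻¹ * s) W : Set G) := by
        rintro s hs _ ⟨a, ha, rfl⟩
        refine cj_eq_iff.mp ?_
        show cj (w⁻¹ * a * w⁻¹⁻¹) (cj (w⁻¹ * s) W) = cj (w⁻¹ * s) W
        rw [← cj_mul, show w⁻¹ * a * w⁻¹⁻¹ * (w⁻¹ * s) = w⁻¹ * (a * s) by group, cj_mul, cj_mul, hs a ha, ← cj_mul]
      have hEW : E ≤ Subgroup.normalizer (W : Set G) := by
        have h := hfix w hfixT
        rwa [inv_mul_cancel, cj_one] at h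
      have hlt : Nat.card A < Nat.card T' := lt_of_le_of_ne (Subgroup.card_le_of_le hAT'.le) fun e =>
        hAT'.ne (Subgroup.eq_of_le_of_card_ge hAT'.le e.ge)
      have hEcard : Nat.card G - Nat.card E < n := by
        rw [← hn, hEc]
        have := Subgroup.card_le_card_group T'
        omega
      obtain ⟨d, hd, hde⟩ := ih _ hEcard E (hTp'.map _) rfl hEW 1 N.one_mem (w⁻¹ * z')
        (N.mul_mem (N.inv_mem hw) hz') (by rw [cj_one]; exact hEW) (hfix z' hTZ')
      have hdA : w * d * w⁻¹ ∈ Subgroup.centralizer (A : Set G) := Subgroup.mem_centralizer_iff.mpr fun a ha => by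
        have h := Subgroup.mem_centralizer_iff.mp hd.2 _ ⟨a, hAT'.le ha, rfl⟩
        change w⁻¹ * a * w⁻¹⁻¹ * d = d * (w⁻¹ * a * w⁻¹⁻¹) at h
        calc a * (w * d * w⁻¹) = w * (w⁻¹ * a * w⁻¹⁻¹ * d) * w⁻¹ := by group
          _ = _ := by rw [h]; group
      have hdH : w * d * w⁻¹ ∈ H := ⟨Subgroup.mem_sup_left
        ⟨(inferInstance : N.Normal).conj_mem d hd.1 w, Subgroup.centralizer_le inf_le_left hdA⟩,
        Subgroup.centralizer_le_normalizer _ hdA⟩
      refine ⟨c'⁻¹ * (w * d * w⁻¹) * h * c, H.mul_mem (H.mul_mem (H.mul_mem (H.inv_mem hc') hdH) hh) hc, ?_⟩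
      rw [cj_one] at hde
      rw [cj_mul, hcZ, cj_mul, ← hwe, cj_mul c'⁻¹, ← cj_mul (w * d * w⁻¹) w, show w * d * w⁻¹ * w = w * d by group,
        cj_mul w d, hde, ← cj_mul w, mul_inv_cancel_left, ← hcZ', cj_inv_cancel]
    · push Not at hbig
      obtain ⟨R, hAR, hRS, hRp, hRi, -⟩ := hmax U hU
      have hRA : A = R := Subgroup.eq_of_le_of_card_ge hAR (hbig R (hRS.trans inf_le_left) hRp)
      subst hRA
      obtain ⟨k, hk, hkU⟩ := (hKY U (hFY U hU) U').mp (hFY U' hU')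
      have hkM : k ∈ M := Subgroup.mem_sup_left hk
      have hD : cj k⁻¹ A ≤ M ⊓ Subgroup.normalizer (U : Set G) := by
        rintro _ ⟨a, ha, rfl⟩
        refine ⟨M.mul_mem (M.mul_mem (M.inv_mem hkM) (Subgroup.mem_sup_right ha)) (M.inv_mem (M.inv_mem hkM)),
          cj_eq_iff.mp ?_⟩
        show cj (k⁻¹ * a * k⁻¹⁻¹) U = U
        rw [inv_inv, cj_mul, hkU, cj_mul, hU'.2 a ha, ← hkU, cj_inv_cancel]
      obtain ⟨s, hs, hse⟩ := exists_conj_le hRS hA hRi (hA.map _) hD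
      refine ⟨k * s⁻¹, ⟨M.mul_mem hkM (M.inv_mem hs.1), ?_⟩, by
        rw [cj_mul, cj_eq_iff.mpr (inv_mem hs.2), hkU]⟩
      have : s * k⁻¹ ∈ Subgroup.normalizer (A : Set G) := by
        refine cj_eq_iff.mp (Subgroup.eq_of_le_of_card_ge (by rw [cj_mul]; exact hse)
          (le_of_eq (Subgroup.card_map_of_injective (MulAut.conj (s * k⁻¹)).injective).symm))
      have := inv_mem this
      rwa [mul_inv_rev, inv_inv] at this
  -- from the normalizer to the centralizer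
  set L := K ⊓ Subgroup.normalizer (A : Set G) with hL
  set C := K ⊓ Subgroup.centralizer (A : Set G) with hC
  have hU : cj m W ∈ FA := ⟨⟨m, hm, rfl⟩, fun a ha => cj_eq_iff.mpr (hAm ha)⟩
  have hU' : cj m' W ∈ FA := ⟨⟨m', hm', rfl⟩, fun a ha => cj_eq_iff.mpr (hAm' ha)⟩
  set U := cj m W
  have hLF : ∀ U', U' ∈ FA ↔ ∃ l ∈ L, cj l U = U' := by
    intro U'
    constructor
    · intro hU'
      obtain ⟨h, hh, e⟩ := hHtrans U hU U' hU'
      obtain ⟨k, hk, a, ha, rfl⟩ := Coprime.exists_mul_of_mem_sup hAK hh.1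
      refine ⟨k, ⟨hk, ?_⟩, by rw [cj_mul, hU.2 a ha] at e; exact e⟩
      simpa using (Subgroup.normalizer (A : Set G)).mul_mem hh.2 (Subgroup.le_normalizer (A.inv_mem ha))
    · rintro ⟨l, hl, rfl⟩
      refine ⟨((hKY U (hFY U hU) _).mpr ⟨l, hl.1, rfl⟩).1, fun a ha => ?_⟩
      have ha' : l⁻¹ * a * l ∈ A := (Subgroup.mem_normalizer_iff''.mp hl.2 a).mp ha
      rw [← cj_mul, show a * l = l * (l⁻¹ * a * l) by group, cj_mul, hU.2 _ ha']
  have hCn : (C.subgroupOf L).Normal := (Subgroup.normal_subgroupOf_iff_le_normalizer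
    (inf_le_inf_left K (Subgroup.centralizer_le_normalizer _))).mpr (Coprime.le_normalizer_inf
      (inf_le_left.trans Subgroup.le_normalizer) (inf_le_right.trans (Coprime.le_normalizer_centralizer le_rfl)))
  have hquot : IsPGroup p (L ⧸ C.subgroupOf L) := by
    intro x
    induction x using QuotientGroup.induction_on with | H l => ?_
    obtain ⟨k, hk⟩ := IsPGroup.iff_card.mp hA
    refine ⟨k, ?_⟩
    rw [← QuotientGroup.mk_pow, QuotientGroup.eq_one_iff, Subgroup.mem_subgroupOf, Subgroup.coe_pow]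
    refine ⟨K.pow_mem l.2.1 _, Subgroup.mem_centralizer_iff.mpr fun a ha => ?_⟩
    set c := (l : G) * a * (l : G)⁻¹ * a⁻¹ with hc
    have hcA : c ∈ A := A.mul_mem ((Subgroup.mem_normalizer_iff.mp l.2.2 a).mp ha) (A.inv_mem ha)
    have hcB : c ∈ B := ⟨hcA, by
      show (l : G) * a * (l : G)⁻¹ * a⁻¹ ∈ N
      rw [show (l : G) * a * (l : G)⁻¹ * a⁻¹ = (l : G) * (a * (l : G)⁻¹ * a⁻¹) by group]
      exact N.mul_mem l.2.1.1 ((inferInstance : N.Normal).conj_mem _ (N.inv_mem l.2.1.1) a)⟩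
    have hlc : Commute (l : G) c := (Subgroup.mem_centralizer_iff.mp l.2.1.2 c hcB).symm
    have key : ∀ j : ℕ, (l : G) ^ j * a * ((l : G) ^ j)⁻¹ = c ^ j * a := by
      intro j
      induction j with
      | zero => simp
      | succ j ih =>
        calc (l : G) ^ (j + 1) * a * ((l : G) ^ (j + 1))⁻¹ = (l : G) * ((l : G) ^ j * a * ((l : G) ^ j)⁻¹) * (l : G)⁻¹ := by
              rw [pow_succ', mul_inv_rev]; group
          _ = ((l : G) * c ^ j * (l : G)⁻¹) * (c * a) := by rw [ih, hc]; group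
          _ = c ^ (j + 1) * a := by rw [(hlc.pow_right j).eq, mul_inv_cancel_right, ← mul_assoc, ← pow_succ]
    have h1 := key (p ^ k)
    have hc1 : c ^ p ^ k = 1 := orderOf_dvd_iff_pow_eq_one.mp (hk ▸ Subgroup.orderOf_dvd_natCard A hcA)
    rw [hc1, one_mul] at h1
    exact (mul_inv_eq_iff_eq_mul.mp h1).symm
  set LU := (Subgroup.normalizer (U : Set G)).subgroupOf L with hLU
  have htop : C.subgroupOf L ⊔ LU = ⊤ := by
    rw [← Subgroup.index_eq_one]
    obtain ⟨j, hj⟩ := IsPGroup.iff_card.mp hquot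
    refine Nat.eq_one_of_dvd_coprimes (Nat.Coprime.pow_left j ((hp.out.coprime_iff_not_dvd).mpr hFc))
      (hj ▸ Subgroup.index_dvd_of_le le_sup_left) ?_
    rw [← index_subgroupOf_eq_ncard L U FA hLF]
    exact Subgroup.index_dvd_of_le le_sup_right
  obtain ⟨l, hl, e⟩ := (hLF _).mp hU'
  obtain ⟨c, hc, s, hs, hcs⟩ := Coprime.exists_mul_of_mem_sup
    (le_top.trans_eq (Subgroup.normalizer_eq_top _).symm) (htop.ge (Subgroup.mem_top (⟨l, hl⟩ : L)))
  refine ⟨(c : G), ⟨(show (c : G) ∈ K from (Subgroup.mem_subgroupOf.mp hc).1).1,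
    (Subgroup.mem_subgroupOf.mp hc).2⟩, ?_⟩
  rw [← e, show l = (c : G) * (s : G) from congrArg Subtype.val hcs, cj_mul, cj_eq_iff.mpr (Subgroup.mem_subgroupOf.mp hs)]

end Cfsg.Agent.T51.Transitive
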