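import Cfsg.Agent.T51.OffFactor
import Cfsg.Agent.T51.EFunctor
import Cfsg.Agent.ConjFunctor.FusionReduction

/-!
The pair `Z`, `J` controls strong fusion in every group without a section `S₄`.
-/

set_option autoImplicit false
set_option linter.unusedVariables false
set_option linter.unusedSectionVars false
set_option linter.style.haveILetI false

namespace Cfsg.Agent.T51.Off

open Thompson ConjFunctor

universe u

/-- The centre, as a functor. -/
abbrev funZ (Q : Type u) [Group Q] : Subgroup Q := Subgroup.center Q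

theorem inducedFunctor_funZ {G : Type u} [Group G] (P : Subgroup G) :
    Cfsg.inducedFunctor funZ P = P ⊓ Subgroup.centralizer (P : Set G) := by
  ext x
  constructor
  · rintro ⟨z, hz, rfl⟩
    exact ⟨z.2, Subgroup.mem_centralizer_iff.2 fun p hp =>
      congrArg Subtype.val (Subgroup.mem_center_iff.1 hz ⟨p, hp⟩)⟩
  · rintro ⟨hx, hxc⟩
    exact ⟨⟨x, hx⟩, Subgroup.mem_center_iff.2 fun p =>
      Subtype.ext (Subgroup.mem_centralizer_iff.1 hxc p p.2), rfl⟩

theorem isCharPFunctor_funZ : Cfsg.IsCharPFunctor.{u} 2 funZ := by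
  haveI : Fact (Nat.Prime 2) := ⟨Nat.prime_two⟩
  refine ⟨fun Q _ _ hQ hne h => ?_, fun Q R _ _ _ _ φ => ?_⟩
  · haveI := hne
    haveI := hQ.center_nontrivial
    exact (Subgroup.nontrivial_iff_ne_bot _).1 inferInstance h
  · ext r
    constructor
    · rintro ⟨q, hq, rfl⟩
      refine Subgroup.mem_center_iff.2 fun s => ?_
      obtain ⟨t, rfl⟩ := φ.surjective s
      show φ t * φ q = φ q * φ t
      rw [← map_mul, ← map_mul, Subgroup.mem_center_iff.1 hq t]
    · intro hr
      refine ⟨φ.symm r, Subgroup.mem_center_iff.2 fun t => φ.injective ?_, φ.apply_symm_apply r⟩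
      rw [map_mul, map_mul, φ.apply_symm_apply, Subgroup.mem_center_iff.1 hr]

/-- The two functors. -/
abbrev pairZJ : Set (∀ (Q : Type u) [Group Q], Subgroup Q) := {funZ, EG.funJ}

theorem isCharPFunctor_pair : ∀ W ∈ (pairZJ.{u}), Cfsg.IsCharPFunctor.{u} 2 W := by
  rintro W (rfl | rfl)
  exacts [isCharPFunctor_funZ, EG.isCharPFunctor_funJ]

theorem indFam_pair (X : Type u) [Group X] : indFam pairZJ X =
    ({fun P : Subgroup X => P ⊓ Subgroup.centralizer (P : Set X),
      fun P : Subgroup X => Cfsg.thompsonSubgroupOf 2 P} : Set (Subgroup X → Subgroup X)) := by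
  show _ '' {funZ, EG.funJ} = _
  rw [Set.image_pair, show (fun P : Subgroup X => P ⊓ Subgroup.centralizer (P : Set X)) =
      Cfsg.inducedFunctor funZ from funext fun P => (inducedFunctor_funZ P).symm,
    show (fun P : Subgroup X => Cfsg.thompsonSubgroupOf 2 P) = Cfsg.inducedFunctor EG.funJ from
      funext fun P => (EG.inducedFunctor_funJ P).symm]

/-- In a constrained group a central `Ω₁ Z(S)` forces a central `Z(S)`. -/
theorem center_sylow_le_center {H : Type u} [Group H] [Finite H]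
    (hchar : Subgroup.centralizer (Cfsg.pCore 2 H : Set H) ≤ Cfsg.pCore 2 H) (S : Sylow 2 H)
    (hz : z1 (S : Subgroup H) ≤ Subgroup.center H) :
    (S : Subgroup H) ⊓ Subgroup.centralizer ((S : Subgroup H) : Set H) ≤ Subgroup.center H := by
  classical
  haveI : Fact (Nat.Prime 2) := ⟨Nat.prime_two⟩
  set P := (S : Subgroup H) with hP
  set Q := Cfsg.pCore 2 H with hQ
  have hQP : Q ≤ P := Thompson.isPGroup_pCore.le_sylow_of_normal S
  set D := Q ⊓ Subgroup.centralizer (Q : Set H) with hD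
  haveI : D.Normal := inferInstance
  letI : CommGroup ↥D := { (inferInstance : Group ↥D) with
    mul_comm := fun a b => Subtype.ext (Subgroup.mem_centralizer_iff.1 b.2.2 a a.2.1) }
  suffices key : ∀ (n : ℕ), ∀ x ∈ P ⊓ Subgroup.centralizer (P : Set H), x ^ 2 ^ n = 1 →
      x ∈ Subgroup.center H by
    intro x hx
    obtain ⟨n, hn⟩ := S.2 ⟨x, hx.1⟩
    exact key n x hx (congrArg Subtype.val hn)
  intro n
  induction n with
  | zero =>
    intro x hx h
    rw [pow_zero, pow_one] at h
    rw [h]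
    exact one_mem _
  | succ n ih =>
    intro x hx h
    have hx2 : x ^ 2 ∈ Subgroup.center H :=
      ih _ (pow_mem hx 2) (by rw [← pow_mul, ← pow_succ']; exact h)
    have hxD : x ∈ D :=
      ⟨hchar (Subgroup.centralizer_le hQP hx.2), Subgroup.centralizer_le hQP hx.2⟩
    set C0 := Subgroup.centralizer ({x} : Set H) with hC0
    have hPC : P ≤ C0 := fun s hs => Subgroup.mem_centralizer_singleton_iff.2
      (Subgroup.mem_centralizer_iff.1 hx.2 s hs)
    have hodd : ¬ 2 ∣ C0.index := fun h2 =>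
      S.not_dvd_index (h2.trans (Subgroup.index_dvd_of_le hPC))
    let θ : H →* MulAut ↥D := EG.actHom D
    let f : H ⧸ C0 → ↥D := Quotient.lift (fun g => θ g ⟨x, hxD⟩) fun a b hab => by
      have hm : a⁻¹ * b ∈ C0 := QuotientGroup.leftRel_apply.1 hab
      have e := Subgroup.mem_centralizer_singleton_iff.1 hm
      refine Subtype.ext ?_
      show a * x * a⁻¹ = b * x * b⁻¹
      calc a * x * a⁻¹ = a * (x * (a⁻¹ * b)) * b⁻¹ := by group
        _ = a * ((a⁻¹ * b) * x) * b⁻¹ := by rw [e]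
        _ = b * x * b⁻¹ := by group
    have hf : ∀ g : H, f (g : H ⧸ C0) = θ g ⟨x, hxD⟩ := fun g => rfl
    haveI : Fintype (H ⧸ C0) := Fintype.ofFinite _
    set y : ↥D := ∏ q : H ⧸ C0, f q with hy
    have hyfix : ∀ g : H, θ g y = y := by
      intro g
      rw [hy, map_prod]
      refine Fintype.prod_equiv (MulAction.toPerm g) _ _ fun q => ?_
      induction q using QuotientGroup.induction_on with
      | H a =>
        show θ g (f (a : H ⧸ C0)) = f ((g * a : H) : H ⧸ C0)
        rw [hf, hf, map_mul θ, MulAut.mul_apply]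
    have hyc : (y : H) ∈ Subgroup.center H := Subgroup.mem_center_iff.2 fun g =>
      mul_inv_eq_iff_eq_mul.1 (congrArg Subtype.val (hyfix g))
    set k := C0.index with hk
    have hy2 : y ^ 2 = (⟨x, hxD⟩ : ↥D) ^ (2 * k) := by
      rw [hy, ← Finset.prod_pow, pow_mul, Finset.prod_congr rfl (g := fun _ => (⟨x, hxD⟩ : ↥D) ^ 2)
        fun q _ => ?_, Finset.prod_const, Finset.card_univ, ← Nat.card_eq_fintype_card]
      · rfl
      induction q using QuotientGroup.induction_on with
      | H a =>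
        rw [hf, ← map_pow]
        refine Subtype.ext ?_
        show a * x ^ 2 * a⁻¹ = x ^ 2
        rw [Subgroup.mem_center_iff.1 hx2 a, mul_inv_cancel_right]
    set z : ↥D := y⁻¹ * (⟨x, hxD⟩ : ↥D) ^ k with hzd
    have hz2 : (z : H) ^ 2 = 1 := by
      have e : z ^ 2 = 1 := by
        rw [hzd, mul_pow, inv_pow, hy2, ← pow_mul, mul_comm k 2, inv_mul_cancel]
      simpa using congrArg Subtype.val e
    have hzc : (z : H) ∈ Subgroup.centralizer (P : Set H) := by
      rw [hzd, Subgroup.coe_mul, Subgroup.coe_inv, Subgroup.coe_pow]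
      exact mul_mem (inv_mem (Subgroup.center_le_centralizer _ hyc)) (pow_mem hx.2 k)
    have hzC := hz (mem_omegaOne (show (z : H) ∈ P ⊓ Subgroup.centralizer (P : Set H) from
      ⟨hQP z.2.1, hzc⟩) hz2)
    have hxk : x ^ k ∈ Subgroup.center H := by
      have e : ((⟨x, hxD⟩ : ↥D) ^ k : ↥D) = y * z := by rw [hzd, mul_inv_cancel_left]
      have e' := congrArg Subtype.val e
      rw [Subgroup.coe_pow, Subgroup.coe_mul] at e'
      rw [show x ^ k = (y : H) * z from e']
      exact mul_mem hyc hzC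
    obtain ⟨j, hj⟩ := Nat.not_even_iff_odd.1 (fun he => hodd he.two_dvd)
    rw [hj, pow_succ, pow_mul] at hxk
    exact (mul_mem_cancel_left (pow_mem hx2 j)).1 hxk

/-- The constrained step. -/
theorem controls_constrained {H : Type u} [Group H] [Finite H]
    (hfree : ¬ Cfsg.Involves (Equiv.Perm (Fin 4)) H) (hc : Constr 2 H)
    (hsub : ∀ M : Subgroup H, M ≠ ⊤ → Cfsg.FamilyControlsStrongFusionIn 2 (indFam pairZJ ↥M) ⊤) :
    Cfsg.FamilyControlsStrongFusionIn 2 (indFam pairZJ H) ⊤ := by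
  haveI : Fact (Nat.Prime 2) := ⟨Nat.prime_two⟩
  obtain ⟨S⟩ : Nonempty (Sylow 2 H) := inferInstance
  obtain ⟨C, hCn, hCZ, hfac⟩ := factor hc hfree S
  haveI := hCn
  refine familyControlsStrongFusionIn_iff.2 ⟨_, isSylowIn_top S, ?_⟩
  intro A g _ hA hgA
  set N := nrm (Cfsg.thompsonSubgroupOf 2 (S : Subgroup H)) with hN
  have hNmem : (⊤ : Subgroup H) ⊓ N ∈ locN (indFam pairZJ H) (S : Subgroup H) ⊤ :=
    ⟨_, ⟨EG.funJ, Or.inr rfl, rfl⟩, by
      show ⊤ ⊓ nrm (Cfsg.inducedFunctor EG.funJ (S : Subgroup H)) = ⊤ ⊓ N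
      rw [EG.inducedFunctor_funJ]⟩
  set M := (S : Subgroup H) ⊔ C with hM
  by_cases hMtop : M = ⊤
  · have hz : z1 (S : Subgroup H) ≤ Subgroup.center H := by
      rw [← Subgroup.centralizer_univ, ← Subgroup.coe_top, ← hMtop]
      refine Subgroup.le_centralizer_iff.1 (sup_le ?_ hCZ)
      exact Subgroup.le_centralizer_iff.1 ((Thompson.omegaOne_le _ _).trans inf_le_right)
    have hZ := center_sylow_le_center hc S hz
    refine Fus.single (M := ⊤ ⊓ nrm (Cfsg.inducedFunctor funZ (S : Subgroup H)))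
      ⟨_, ⟨funZ, Or.inl rfl, rfl⟩, rfl⟩ ⟨Subgroup.mem_top g, ?_⟩ hA hgA
    rw [inducedFunctor_funZ]
    refine mem_nrm_of_forall fun x hx => ?_
    rwa [Subgroup.mem_center_iff.1 (hZ hx) g, mul_inv_cancel_right]
  obtain ⟨c, hc', n, hn, rfl⟩ := hfac g
  have hSN : (S : Subgroup H) ≤ N := fun s hs =>
    Thompson.normalizer_le_normalizer_thompsonSubgroupOf _ (Subgroup.le_normalizer hs)
  have hnA : img n A ⊆ ((M ⊓ N : Subgroup H) : Set H) := by
    rintro _ ⟨a, ha, rfl⟩
    refine ⟨?_, N.mul_mem (N.mul_mem hn (hSN (hA ha))) (N.inv_mem hn)⟩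
    have h1 : c * (n * a * n⁻¹) * c⁻¹ ∈ M := by
      have := (le_sup_left : (S : Subgroup H) ≤ M) (hgA ⟨a, ha, rfl⟩)
      simpa [mul_assoc] using this
    have hcM : c ∈ M := (le_sup_right : C ≤ M) hc'
    simpa [mul_assoc] using M.mul_mem (M.mul_mem (M.inv_mem hcM) h1) hcM
  have hp : IsPGroup 2 ↥(Subgroup.closure (img n A)) := by
    rw [closure_img]
    exact isPGroup_cnj (S.2.to_le ((Subgroup.closure_le _).2 hA))
  obtain ⟨m, hm, hmS⟩ := (sylow_isSylowIn S (le_inf le_sup_left hSN :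
    (S : Subgroup H) ≤ M ⊓ N)).exists_cnj_le hp ((Subgroup.closure_le _).2 hnA)
  have hmid : img (m * n) A ⊆ (S : Subgroup H) := by
    rw [← img_img]
    rintro _ ⟨b, hb, rfl⟩
    exact hmS (conj_mem_cnj.2 (Subgroup.subset_closure hb))
  have h1 := Fus.single (T := ((S : Subgroup H) : Set H)) hNmem
    ⟨Subgroup.mem_top _, N.mul_mem hm.2 hn⟩ hA hmid
  have h2 := fus_of_subgroup isCharPFunctor_pair S (le_sup_left : (S : Subgroup H) ≤ M)
    (hsub _ hMtop) (g := c * m⁻¹) (M.mul_mem ((le_sup_right : C ≤ M) hc') (M.inv_mem hm.1)) hmid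
    (by rwa [img_img, ← mul_assoc, inv_mul_cancel_right])
  have h3 := h1.trans h2
  rwa [← mul_assoc, inv_mul_cancel_right] at h3

/-- **The pair `Z`, `J` controls strong fusion in all sections.** -/
theorem controls_pair {G : Type u} [Group G] [Finite G]
    (hfree : ¬ Cfsg.Involves (Equiv.Perm (Fin 4)) G) (H : Type u) [Group H] [Finite H]
    (hH : IsSec G H) : Cfsg.FamilyControlsStrongFusionIn 2 (indFam pairZJ H) ⊤ := by
  haveI : Fact (Nat.Prime 2) := ⟨Nat.prime_two⟩
  refine fusion_induction isCharPFunctor_pair (fun L _ _ hL hc hsub _ => ?_) H hH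
  refine controls_constrained (fun h => hfree ?_) hc hsub
  obtain ⟨K, f, hf⟩ := hL
  exact LocalEven61.involves_trans h
    (LocalEven61.involves_of_hom f hf K.subtype K.subtype_injective)

end Cfsg.Agent.T51.Off
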