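import Cfsg.Agent.T51.EFacBasic

/-!
`G = C(Z(S)) N(J)` and `G = C(Z(S)) N(Ĵ)`.
-/

set_option autoImplicit false
set_option linter.unusedVariables false
set_option linter.unusedSectionVars false
set_option linter.style.haveILetI false

namespace Cfsg.Agent.T51.EG

open Thompson Equiv

universe u

variable {G : Type u} [Group G] [Finite G]

theorem exists_normal_jh_le (hchar : Subgroup.centralizer (Cfsg.pCore 2 G : Set G) ≤ Cfsg.pCore 2 G)
    (hfree : ¬ Cfsg.Involves (Perm (Fin 4)) G) (hc : CompK G) (S : Sylow 2 G) :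
    ∃ C : Subgroup G, C.Normal ∧
      C ≤ Subgroup.centralizer ((((S : Subgroup G) ⊓ Subgroup.centralizer ((S : Subgroup G) : Set G)) :
        Subgroup G) : Set G) ∧ jh (S : Subgroup G) ≤ C := by
  classical
  haveI : Fact (Nat.Prime 2) := ⟨Nat.prime_two⟩
  set P := (S : Subgroup G) with hP
  set Z := P ⊓ Subgroup.centralizer (P : Set G) with hZ
  set Q := Cfsg.pCore 2 G with hQ
  have hQ2 : IsPGroup 2 Q := Thompson.isPGroup_pCore
  have hQP : Q ≤ P := hQ2.le_sylow_of_normal S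
  have hZQ : Z ≤ Subgroup.centralizer (Q : Set G) := inf_le_right.trans (Subgroup.centralizer_le hQP)
  set D := Subgroup.normalClosure (Z : Set G) with hD
  have hDQ : D ≤ Q ⊓ Subgroup.centralizer (Q : Set G) := by
    haveI : (Q ⊓ Subgroup.centralizer (Q : Set G)).Normal := inferInstance
    exact Subgroup.normalClosure_le_normal fun z hz => ⟨hchar (hZQ hz), hZQ hz⟩
  have hDab : IsMulCommutative ↥D := ⟨⟨fun a b => Subtype.ext
    (Subgroup.mem_centralizer_iff.1 (hDQ b.2).2 a (hDQ a.2).1)⟩⟩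
  have hD2 : IsPGroup 2 D := hQ2.to_le (hDQ.trans inf_le_left)
  set V := Cfsg.omegaOne 2 D with hV
  haveI hVn : V.Normal := ⟨fun v hv g => by
    have e : V.map (MulAut.conj g).toMonoidHom = V := by
      rw [hV, Thompson.map_omegaOne _ _ (MulAut.conj g).injective.injOn]
      congr 1
      refine Subgroup.ext fun x => ⟨?_, fun hx => ?_⟩
      · rintro ⟨d, hd, rfl⟩
        exact (inferInstance : D.Normal).conj_mem d hd g
      · exact ⟨g⁻¹ * x * g, by simpa using (inferInstance : D.Normal).conj_mem x hx g⁻¹,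
          by simp [mul_assoc]⟩
    rw [← e]; exact ⟨v, hv, rfl⟩⟩
  have hVe : Cfsg.IsElementaryAbelian 2 V := isElementaryAbelian_omegaOne hDab
  have hVD : V ≤ D := omegaOne_le _ _
  set C := Subgroup.centralizer (V : Set G) with hC
  set CD := Subgroup.centralizer (D : Set G) with hCD
  -- a normal subgroup with odd part and Sylow part centralizing every conjugate of `Z`
  have key : ∀ (L : Subgroup G), L.Normal → CD ≤ L → (∃ k, CD.relIndex L = 2 ^ k) → L ≤ CD := by
    intro L hL hle ⟨k, hk⟩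
    haveI := hL
    have h1 := le_sup_sylow hle hk S
    have h2 : L ≤ Subgroup.centralizer (Z : Set G) := h1.trans (sup_le
      (Subgroup.centralizer_le Subgroup.subset_normalClosure)
      (inf_le_left.trans fun s hs => Subgroup.mem_centralizer_iff.2 fun z hz =>
        (Subgroup.mem_centralizer_iff.1 hz.2 s hs).symm))
    rw [hCD, Subgroup.le_centralizer_iff, hD]
    haveI : (Subgroup.centralizer (L : Set G)).Normal := inferInstance
    exact Subgroup.normalClosure_le_normal (Subgroup.le_centralizer_iff.1 h2)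
  have hCDC : CD ≤ C := Subgroup.centralizer_le hVD
  have hoddC : ∀ x ∈ C, Odd (orderOf x) → x ∈ CD := fun x hx hodd =>
    Subgroup.mem_centralizer_iff.2 fun d hd => (centralizes_of_omega hD2 hDab
      (by rw [Subgroup.normalizer_eq_top_iff.2 inferInstance]; trivial) hodd
      (fun d hd hd2 => (Subgroup.mem_centralizer_iff.1 hx d (mem_omegaOne hd hd2)).symm) d hd).symm
  have hCrel : ∃ k, CD.relIndex C = 2 ^ k := by
    have h : IsPGroup 2 (↥C ⧸ CD.subgroupOf C) := by
      intro y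
      obtain ⟨x, rfl⟩ := QuotientGroup.mk'_surjective _ y
      obtain ⟨a, m, hm, ham⟩ := Nat.exists_eq_two_pow_mul_odd (orderOf_pos (x : G)).ne'
      refine ⟨a, ?_⟩
      rw [← map_pow]
      refine (QuotientGroup.eq_one_iff _).2 (hoddC _ (pow_mem x.2 _) ?_)
      show Odd (orderOf ((x : G) ^ 2 ^ a))
      rw [orderOf_pow_of_dvd (pow_ne_zero _ two_ne_zero) ⟨m, ham⟩, ham,
        Nat.mul_div_cancel_left _ (Nat.two_pow_pos a)]
      exact hm
    obtain ⟨k, hk⟩ := IsPGroup.iff_card.1 h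
    exact ⟨k, hk⟩
  have hCeq : C = CD := le_antisymm (key C inferInstance hCDC hCrel) hCDC
  haveI : C.Normal := inferInstance
  have hO : Cfsg.pCore 2 (G ⧸ C) = ⊥ := by
    set L := (Cfsg.pCore 2 (G ⧸ C)).comap (QuotientGroup.mk' C) with hL
    have hCL : C ≤ L := fun c hc => by
      show QuotientGroup.mk' C c ∈ Cfsg.pCore 2 (G ⧸ C)
      rw [show QuotientGroup.mk' C c = 1 from (QuotientGroup.eq_one_iff c).2 hc]
      exact one_mem _
    obtain ⟨k, hk⟩ := IsPGroup.iff_card.1 (Thompson.isPGroup_pCore (p := 2) (G := G ⧸ C))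
    have hr : C.relIndex L = 2 ^ k := by
      have := Subgroup.relIndex_comap (⊥ : Subgroup (G ⧸ C)) (QuotientGroup.mk' C) L
      rw [MonoidHom.comap_bot, QuotientGroup.ker_mk', Subgroup.relIndex_bot_left,
        Subgroup.map_comap_eq_self_of_surjective (QuotientGroup.mk'_surjective C)] at this
      rw [this, hk]
    have hLC : L ≤ C := hCeq ▸ key L inferInstance (hCeq ▸ hCL) ⟨k, hCeq ▸ hr⟩
    rw [← Subgroup.map_comap_eq_self_of_surjective (QuotientGroup.mk'_surjective C)
      (Cfsg.pCore 2 (G ⧸ C)), ← hL, Subgroup.map_eq_bot_iff, QuotientGroup.ker_mk']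
    exact hLC
  have hQC : Q ≤ C := Subgroup.le_centralizer_iff.1 ((hVD.trans hDQ).trans inf_le_right)
  have hS3 : ¬ Cfsg.Involves (Perm (Fin 3)) (G ⧸ C) := fun h =>
    not_involves_three hchar hfree (LocalEven61.involves_trans h
      (LocalEven61.involves_of_hom (QuotientGroup.map Q C (MonoidHom.id G) hQC)
        (fun y => by
          obtain ⟨x, rfl⟩ := QuotientGroup.mk'_surjective C y
          exact ⟨QuotientGroup.mk' Q x, rfl⟩)
        (MonoidHom.id _) Function.injective_id))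
  have hVP : V ≤ P := (hVD.trans (hDQ.trans inf_le_left)).trans hQP
  have hVnorm : ∀ U : Subgroup G, U ≤ Subgroup.normalizer (V : Set G) := fun U => by
    rw [Subgroup.normalizer_eq_top_iff.2 hVn]; exact le_top
  -- members of `𝒜(S)` centralize `V`
  have hA : ∀ A, IsMaxEAIn 2 A P → A ≤ C ∧ V ≤ A := by
    intro A hA
    have hsq : ∀ r ∈ A, r ^ 2 ∈ C := fun r hr => by rw [hA.2.1.2 r hr]; exact one_mem _
    obtain ⟨hb, -⟩ := bound_normal V hVe hO hS3 hc A hsq
    set A0 := A ⊓ C with hA0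
    have hBe : Cfsg.IsElementaryAbelian 2 (A0 ⊔ V : Subgroup G) :=
      isElementaryAbelian_sup ⟨⟨⟨fun x y => Subtype.ext (elemAb_comm hA.2.1.1 x.2.1 y.2.1)⟩⟩,
        fun x hx => hA.2.1.2 x hx.1⟩ hVe inf_le_right
    have hBc := hA.2.2 _ (sup_le (inf_le_left.trans hA.1) hVP) hBe
    have hint : Nat.card ↥(A0 ⊓ V) ≤ Nat.card ↥(V ⊓ Subgroup.centralizer (A : Set G)) :=
      Subgroup.card_le_of_le (le_inf inf_le_right fun x hx =>
        Subgroup.mem_centralizer_iff.2 fun a ha => elemAb_comm hA.2.1.1 ha hx.1.1)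
    have e := Thompson.card_sup_mul_card_inf (H := V) (K := A0) (hVnorm A0)
    rw [sup_comm, inf_comm] at e
    have h2 : Nat.card V * Nat.card A0 ≤
        Nat.card A * Nat.card ↥(V ⊓ Subgroup.centralizer (A : Set G)) := e ▸ Nat.mul_le_mul hBc hint
    have hAC : A ≤ C := by
      set a := Nat.card A
      set z := Nat.card A0
      set w := Nat.card ↥(V ⊓ Subgroup.centralizer (A : Set G))
      have haw : 0 < a * w := Nat.mul_pos Nat.card_pos Nat.card_pos
      have h3 : a * (a * w) ≤ z * (a * w) :=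
        calc a * (a * w) = a ^ 2 * w := by ring
          _ ≤ Nat.card V * z ^ 2 := hb
          _ = z * (Nat.card V * z) := by ring
          _ ≤ z * (a * w) := Nat.mul_le_mul_left _ h2
      have h4 : a ≤ z := Nat.le_of_mul_le_mul_right h3 haw
      exact (Subgroup.eq_of_le_of_card_ge inf_le_left h4).ge.trans inf_le_right
    refine ⟨hAC, ?_⟩
    have hB : Cfsg.IsElementaryAbelian 2 (A ⊔ V : Subgroup G) :=
      isElementaryAbelian_sup hA.2.1 hVe hAC
    exact le_sup_right.trans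
      (Subgroup.eq_of_le_of_card_ge le_sup_left (hA.2.2 _ (sup_le hA.1 hVP) hB)).ge
  obtain ⟨A₀, hA₀⟩ := exists_isMaxEAIn 2 P
  have hVJ : V ≤ Cfsg.thompsonSubgroupOf 2 P := (hA A₀ hA₀).2.trans (le_thompsonSubgroupOf hA₀)
  refine ⟨C, inferInstance, hCeq ▸ Subgroup.centralizer_le Subgroup.subset_normalClosure, ?_⟩
  rw [jh_eq]
  refine sSup_le fun U hU => hU.2.1 V ⟨hVJ.trans hU.2.2, hVnorm U, hVe, fun R hR _ h2 hn => ?_⟩
  obtain ⟨hb1, hb2⟩ := bound_normal V hVe hO hS3 hc R h2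
  have hlt : Nat.card ↥(R ⊓ C) < Nat.card R := lt_of_le_of_ne (Subgroup.card_le_of_le inf_le_left)
    fun h => hn ((Subgroup.eq_of_le_of_card_ge inf_le_left h.ge).ge.trans inf_le_right)
  have hz : 0 < Nat.card ↥(R ⊓ C) := Nat.card_pos
  set r := Nat.card R
  set z := Nat.card ↥(R ⊓ C)
  set v := Nat.card V
  set w := Nat.card ↥(V ⊓ Subgroup.centralizer (R : Set G))
  have hw : 0 < w := Nat.card_pos
  have hr : 0 < r := Nat.card_pos
  constructor
  · show v ^ 2 * z ^ 3 > r ^ 3 * w ^ 2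
    have h5 : (r ^ 2 * w) ^ 2 * 1 ≤ (v * z ^ 2) ^ 2 * 1 :=
      Nat.mul_le_mul_right _ (Nat.pow_le_pow_left hb1 2)
    have h6 : r ^ 3 * w ^ 2 * z < r ^ 3 * w ^ 2 * r := Nat.mul_lt_mul_of_pos_left hlt (by positivity)
    refine Nat.lt_of_mul_lt_mul_right (a := z) ?_
    calc r ^ 3 * w ^ 2 * z < r ^ 3 * w ^ 2 * r := h6
      _ = (r ^ 2 * w) ^ 2 * 1 := by ring
      _ ≤ (v * z ^ 2) ^ 2 * 1 := h5
      _ = v ^ 2 * z ^ 3 * z := by ring
  · show Nat.card ↥⁅V, R⁆ * z > r
    refine Nat.lt_of_mul_lt_mul_right (a := z) ?_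
    calc r * z < r * r := Nat.mul_lt_mul_of_pos_left hlt hr
      _ = r ^ 2 := by ring
      _ ≤ Nat.card ↥⁅V, R⁆ * z ^ 2 := hb2
      _ = _ := by ring

/-- The first two factorizations. -/
theorem factor_one (hchar : Subgroup.centralizer (Cfsg.pCore 2 G : Set G) ≤ Cfsg.pCore 2 G)
    (hfree : ¬ Cfsg.Involves (Perm (Fin 4)) G) (hc : CompK G) (S : Sylow 2 G) (g : G) :
    ∃ c ∈ Subgroup.centralizer ((((S : Subgroup G) ⊓ Subgroup.centralizer ((S : Subgroup G) : Set G)) :
        Subgroup G) : Set G),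
      ∃ n, n ∈ Subgroup.normalizer (Cfsg.thompsonSubgroupOf 2 (S : Subgroup G) : Set G) ∧
        n ∈ Subgroup.normalizer (jh (S : Subgroup G) : Set G) ∧ g = c * n := by
  haveI : Fact (Nat.Prime 2) := ⟨Nat.prime_two⟩
  obtain ⟨C, hCn, hCZ, hJC⟩ := exists_normal_jh_le hchar hfree hc S
  haveI := hCn
  obtain ⟨R, hR⟩ := exists_sylow_inf S C
  have htop := Sylow.normalizer_sup_eq_top R
  rw [hR] at htop
  set P := (S : Subgroup G) with hP
  set K := P ⊓ C with hK
  have hg : g ∈ C ⊔ Subgroup.normalizer (K : Set G) := by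
    rw [sup_comm, htop]; exact Subgroup.mem_top g
  obtain ⟨c, hc', n, hn, rfl⟩ := Subgroup.mem_sup_of_normal_left.1 hg
  have hJK : jh P ≤ K := le_inf (jh_le P) hJC
  refine ⟨c, hCZ hc', n, ?_, ?_, rfl⟩
  · rw [← Thompson.thompsonSubgroupOf_eq_of_le (p := 2) (inf_le_left : K ≤ P)
      ((thompson_le_jh P).trans hJK)]
    exact Thompson.normalizer_le_normalizer_thompsonSubgroupOf K hn
  · rw [← jh_eq_of_le (inf_le_left : K ≤ P) hJK]
    exact normalizer_le_jh K hn

end Cfsg.Agent.T51.EG
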