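import Cfsg.Agent.T51.EKey
import Cfsg.Agent.T51.EFacOne
import Cfsg.Agent.LocalEven61.Involves

/-!
`G = C(Ω₁ Z(Ĵ)) N(J)`.
-/

set_option autoImplicit false
set_option linter.unusedVariables false
set_option linter.unusedSectionVars false
set_option linter.style.haveILetI false

namespace Cfsg.Agent.T51.EG

open Thompson Equiv

universe u

variable {G : Type u} [Group G] [Finite G]

/-- The elements that factor. -/
abbrev Fac (S : Sylow 2 G) (g : G) : Prop :=
  ∃ c ∈ Subgroup.centralizer (wh (S : Subgroup G) : Set G),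
    ∃ n ∈ Subgroup.normalizer (Cfsg.thompsonSubgroupOf 2 (S : Subgroup G) : Set G), g = c * n

theorem fac_one (S : Sylow 2 G) {g : G}
    (hg : g ∈ Subgroup.normalizer (Cfsg.thompsonSubgroupOf 2 (S : Subgroup G) : Set G)) : Fac S g :=
  ⟨1, one_mem _, g, hg, (one_mul g).symm⟩

theorem fac_of_mem_sylow (S : Sylow 2 G) {g : G} (hg : g ∈ (S : Subgroup G)) : Fac S g :=
  fac_one S (Thompson.normalizer_le_normalizer_thompsonSubgroupOf _ (Subgroup.le_normalizer hg))

theorem fac_mul_normal (S : Sylow 2 G) {N : Subgroup G} [N.Normal] (hN : ∀ x ∈ N, Fac S x)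
    {h x : G} (hh : Fac S h) (hx : x ∈ N) : Fac S (h * x) := by
  obtain ⟨c, hc, m, hm, rfl⟩ := hh
  obtain ⟨c', hc', m', hm', e⟩ := hN _ ((inferInstance : N.Normal).conj_mem x hx m)
  refine ⟨c * c', mul_mem hc hc', m' * m, mul_mem hm' hm, ?_⟩
  calc c * m * x = c * (m * x * m⁻¹) * m := by group
    _ = c * (c' * m') * m := by rw [e]
    _ = _ := by group

theorem fac_mul_normalizer (S : Sylow 2 G) {h x : G} (hh : Fac S h)
    (hx : x ∈ Subgroup.normalizer (Cfsg.thompsonSubgroupOf 2 (S : Subgroup G) : Set G)) :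
    Fac S (h * x) := by
  obtain ⟨c, hc, m, hm, rfl⟩ := hh
  exact ⟨c, hc, m * x, mul_mem hm hx, mul_assoc c m x⟩

/-- The inductive hypothesis, used on a subgroup containing `S`. -/
theorem fac_subgroup (hchar : Subgroup.centralizer (Cfsg.pCore 2 G : Set G) ≤ Cfsg.pCore 2 G)
    (hfree : ¬ Cfsg.Involves (Perm (Fin 4)) G) (S : Sylow 2 G) (H : Subgroup G)
    (hSH : (S : Subgroup G) ≤ H)
    (ih : ∀ T : Sylow 2 ↥H,
      Subgroup.centralizer (Cfsg.pCore 2 ↥H : Set ↥H) ≤ Cfsg.pCore 2 ↥H →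
        ¬ Cfsg.Involves (Perm (Fin 4)) ↥H → ∀ h : ↥H, Fac T h) :
    ∀ h ∈ H, Fac S h := by
  haveI : Fact (Nat.Prime 2) := ⟨Nat.prime_two⟩
  intro h hh
  set T := S.subtype hSH with hT
  have e : (T : Subgroup ↥H).map H.subtype = (S : Subgroup G) := by
    rw [hT, Sylow.coe_subtype, Subgroup.map_subgroupOf_eq_of_le hSH]
  have hQH : Cfsg.pCore 2 G ≤ H := (Thompson.pCore_le_sylow S).trans hSH
  have hle : (Cfsg.pCore 2 G).subgroupOf H ≤ Cfsg.pCore 2 ↥H :=
    Thompson.le_pCore inferInstance ((Thompson.isPGroup_pCore).of_equiv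
      (Subgroup.subgroupOfEquivOfLe hQH).symm)
  have hcharH : Subgroup.centralizer (Cfsg.pCore 2 ↥H : Set ↥H) ≤ Cfsg.pCore 2 ↥H := fun x hx =>
    hle (hchar (Subgroup.mem_centralizer_iff.2 fun q hq =>
      congrArg Subtype.val (Subgroup.mem_centralizer_iff.1 hx ⟨q, hQH hq⟩ (hle hq))))
  obtain ⟨c, hc, m, hm, hcm⟩ := ih T hcharH
    (fun h4 => hfree (LocalEven61.involves_of_subgroup H h4)) ⟨h, hh⟩
  refine ⟨H.subtype c, ?_, H.subtype m, ?_, ?_⟩
  · rw [← e, ← wh_map H.subtype H.subtype_injective, map_mem_centralizer_iff _ H.subtype_injective]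
    exact hc
  · rw [← e, ← thompson_map H.subtype H.subtype_injective]
    exact Subgroup.le_normalizer_map H.subtype ⟨m, hm, rfl⟩
  · rw [← map_mul, ← hcm]
    rfl

theorem factor_three : ∀ (n : ℕ) (G : Type u) [Group G] [Finite G], Nat.card G = n →
    Subgroup.centralizer (Cfsg.pCore 2 G : Set G) ≤ Cfsg.pCore 2 G →
    ¬ Cfsg.Involves (Perm (Fin 4)) G → CompK G → ∀ S : Sylow 2 G, ∀ g : G, Fac S g := by
  intro n
  induction n using Nat.strong_induction_on with
  | _ n ih =>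
    intro G _ _ hn hchar hfree hc S g
    classical
    haveI : Fact (Nat.Prime 2) := ⟨Nat.prime_two⟩
    haveI hP2n : (Cfsg.pResidual 2 G).Normal := pResidual_normal
    set Q := Cfsg.pCore 2 G with hQdef
    set P2 := Cfsg.pResidual 2 G with hP2def
    set J := Cfsg.thompsonSubgroupOf 2 (S : Subgroup G) with hJdef
    have hQS : Q ≤ (S : Subgroup G) := Thompson.pCore_le_sylow S
    have hsub : ∀ H : Subgroup G, (S : Subgroup G) ≤ H → H ≠ ⊤ → CompK ↥H → ∀ h ∈ H, Fac S h := by
      intro H hSH hne hK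
      refine fac_subgroup hchar hfree S H hSH fun T hcH hfH => ih _ ?_ ↥H rfl hcH hfH hK T
      rw [← hn]
      exact lt_of_le_of_ne (Subgroup.card_le_card_group H)
        fun h => hne (Subgroup.eq_top_of_card_eq H h)
    -- a normal subgroup not containing `O²(G)` factors
    have hnormal : ∀ N : Subgroup G, N.Normal → ¬ P2 ≤ N → ∀ x ∈ N, Fac S x := by
      intro N hN hnot x hx
      haveI := hN
      refine hsub (N ⊔ (S : Subgroup G)) le_sup_right (fun htop => hnot ?_)
        (compK_sup_two hc S.2) x (Subgroup.mem_sup_left hx)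
      refine eq_pResidual_le fun y hy => ?_
      obtain ⟨m, hm, s, hs, hys⟩ := Subgroup.mem_sup_of_normal_left.1
        (htop ▸ Subgroup.mem_top y : y ∈ N ⊔ (S : Subgroup G))
      obtain ⟨k, hk⟩ := S.2 ⟨s, hs⟩
      have hk' : s ^ 2 ^ k = 1 := congrArg Subtype.val hk
      have h1 : (QuotientGroup.mk' N y) ^ 2 ^ k = 1 := by
        rw [show QuotientGroup.mk' N y = QuotientGroup.mk' N s by
          rw [← hys, map_mul, show QuotientGroup.mk' N m = 1 from (QuotientGroup.eq_one_iff m).2 hm,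
            one_mul], ← map_pow, hk', map_one]
      refine (QuotientGroup.eq_one_iff y).1 (orderOf_eq_one_iff.1 ?_)
      exact Nat.eq_one_of_dvd_coprimes ((Nat.coprime_two_left.2 hy).pow_left k)
        (orderOf_dvd_of_pow_eq_one h1) (orderOf_map_dvd (QuotientGroup.mk' N) y)
    obtain ⟨s0, hs0, p0, hp0, hg⟩ := exists_eq_mul S g
    by_cases hP2Q : P2 ≤ Q
    · exact fac_of_mem_sylow S (hg ▸ mul_mem hs0 (hQS (hP2Q hp0)))
    by_cases hall : ∀ A, IsMaxEAIn 2 A (S : Subgroup G) → A ≤ Q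
    · have hJQ : J ≤ Q := by
        rw [hJdef, Thompson.thompsonSubgroupOf_eq]
        exact sSup_le hall
      refine fac_one S ?_
      rw [← Thompson.thompsonSubgroupOf_eq_of_le hQS hJQ]
      refine Thompson.normalizer_le_normalizer_thompsonSubgroupOf Q ?_
      rw [Subgroup.normalizer_eq_top_iff.2 inferInstance]
      exact Subgroup.mem_top g
    push Not at hall
    obtain ⟨A, hA, hAQ⟩ := hall
    set P := Q ⊔ P2 with hP
    obtain ⟨P0, ⟨hP0n, hQP0, hP0P, htop⟩, hP0max⟩ := Set.exists_max_image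
      {N : Subgroup G | N.Normal ∧ Q ≤ N ∧ N ≤ P ∧ ¬ P2 ≤ N} (fun N => Nat.card N) (Set.toFinite _)
      ⟨Q, inferInstance, le_rfl, le_sup_left, hP2Q⟩
    haveI := hP0n
    have hgp : g = s0 * p0 * s0⁻¹ * s0 := by rw [hg]; group
    by_cases hmax : ∀ N : Subgroup G, N.Normal → N ≤ P → ¬ P2 ≤ N → N ≤ P0
    swap
    · push Not at hmax
      obtain ⟨N, hNn, hNP, hnot, hN0⟩ := hmax
      haveI := hNn
      have hle : P2 ≤ P0 ⊔ N := by
        by_contra hcon
        exact hN0 (le_sup_right.trans (Subgroup.eq_of_le_of_card_ge le_sup_left (hP0max _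
          ⟨inferInstance, hQP0.trans le_sup_left, sup_le hP0P hNP, hcon⟩)).ge)
      obtain ⟨x, hx, y, hy, hxy⟩ := Subgroup.mem_sup_of_normal_right.1
        (hle (hP2n.conj_mem p0 hp0 s0))
      rw [hgp, ← hxy]
      exact fac_mul_normalizer S (fac_mul_normal S (hnormal N hNn hnot) (hnormal P0 hP0n htop x hx) hy)
        (Thompson.normalizer_le_normalizer_thompsonSubgroupOf _ (Subgroup.le_normalizer hs0))
    by_cases hker : ∀ s ∈ (S : Subgroup G), (∀ x ∈ P2, s * x * s⁻¹ * x⁻¹ ∈ P0) → s ∈ Q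
    · have hR : Red S P0 := ⟨hP0n, hQP0, hP0P, htop, hmax, hker⟩
      have hW := residual_centralizes_wh hchar hfree hc hR hA hAQ
      rw [hgp]
      exact ⟨_, hW (hP2n.conj_mem p0 hp0 s0), s0,
        Thompson.normalizer_le_normalizer_thompsonSubgroupOf _ (Subgroup.le_normalizer hs0), rfl⟩
    push Not at hker
    obtain ⟨s1, hs1S, hs1, hs1Q⟩ := hker
    set π := QuotientGroup.mk' P0 with hπ
    haveI : (P2.map π).Normal := hP2n.map π (QuotientGroup.mk'_surjective P0)
    set K := (Subgroup.centralizer ((P2.map π : Subgroup (G ⧸ P0)) : Set (G ⧸ P0))).comap π with hK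
    have hKmem : ∀ k, k ∈ K ↔ ∀ x ∈ P2, k * x * k⁻¹ * x⁻¹ ∈ P0 := by
      intro k
      rw [hK, Subgroup.mem_comap, Subgroup.mem_centralizer_iff]
      constructor
      · intro h x hx
        refine (QuotientGroup.eq_one_iff _).1 ?_
        show π (k * x * k⁻¹ * x⁻¹) = 1
        rw [map_mul, map_mul, map_mul, map_inv, map_inv, ← h (π x) ⟨x, hx, rfl⟩, mul_inv_cancel_right,
          mul_inv_cancel]
      · rintro h _ ⟨x, hx, rfl⟩
        have h1 : π (k * x * k⁻¹ * x⁻¹) = 1 := (QuotientGroup.eq_one_iff _).2 (h x hx)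
        rw [map_mul, map_mul, map_mul, map_inv, map_inv, mul_inv_eq_one, mul_inv_eq_iff_eq_mul] at h1
        exact h1.symm
    set T1 := (S : Subgroup G) ⊓ K with hT1
    have hT1S : T1 ≤ (S : Subgroup G) := inf_le_left
    have hSN : (S : Subgroup G) ≤ Subgroup.normalizer (T1 : Set G) := by
      intro s hs
      refine Subgroup.mem_normalizer_iff.2 fun x => ⟨fun hx =>
        ⟨(S : Subgroup G).mul_mem ((S : Subgroup G).mul_mem hs hx.1) ((S : Subgroup G).inv_mem hs),
          (inferInstance : K.Normal).conj_mem x hx.2 s⟩,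
        fun hx => ⟨?_, ?_⟩⟩
      · have h1 := (S : Subgroup G).mul_mem ((S : Subgroup G).mul_mem ((S : Subgroup G).inv_mem hs) hx.1) hs
        rwa [show s⁻¹ * (s * x * s⁻¹) * s = x by group] at h1
      · have h1 := (inferInstance : K.Normal).conj_mem _ hx.2 s⁻¹
        rwa [show s⁻¹ * (s * x * s⁻¹) * s⁻¹⁻¹ = x by group] at h1
    set L := P0 ⊔ T1 with hL
    have hLn : L.Normal := by
      refine Subgroup.normalizer_eq_top_iff.1 (top_le_iff.1 ?_)
      rw [← sup_pResidual_eq_top S]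
      have hgen : ∀ H : Subgroup G, (∀ a ∈ H, ∀ t ∈ T1, a * t * a⁻¹ ∈ L) →
          H ≤ Subgroup.normalizer (L : Set G) := by
        intro H hH a ha
        have hmap : ∀ b ∈ H, L.map (MulAut.conj b).toMonoidHom ≤ L := by
          intro b hb
          rw [hL, Subgroup.map_sup]
          refine sup_le ?_ ?_
          · rintro _ ⟨x, hx, rfl⟩
            exact Subgroup.mem_sup_left (hP0n.conj_mem x hx b)
          · rintro _ ⟨t, ht, rfl⟩
            exact hH b hb t ht
        refine Subgroup.mem_normalizer_iff.2 fun x => ⟨fun hx => hmap a ha ⟨x, hx, rfl⟩, fun hx => ?_⟩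
        have := hmap a⁻¹ (H.inv_mem ha) ⟨_, hx, rfl⟩
        simpa [mul_assoc] using this
      refine sup_le (hgen _ fun a ha t ht =>
        Subgroup.mem_sup_right ((Subgroup.mem_normalizer_iff.1 (hSN ha) t).1 ht))
        (hgen _ fun a ha t ht => ?_)
      have h1 := P0.inv_mem ((hKmem t).1 ht.2 a ha)
      rw [show a * t * a⁻¹ = (t * a * t⁻¹ * a⁻¹)⁻¹ * t by group]
      exact mul_mem (Subgroup.mem_sup_left h1) (Subgroup.mem_sup_right ht)
    haveI := hLn
    have hLK : L ≤ K := sup_le (fun x hx => (hKmem x).2 fun y hy => by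
      rw [mul_assoc x, mul_assoc x]
      exact P0.mul_mem hx (hP0n.conj_mem _ (P0.inv_mem hx) y)) inf_le_right
    have hSL : (S : Subgroup G) ⊓ L = T1 :=
      le_antisymm (inf_le_inf_left _ hLK) (le_inf inf_le_left le_sup_right)
    obtain ⟨R, hR⟩ := exists_sylow_inf S L
    have hfr := Sylow.normalizer_sup_eq_top R
    rw [hR, hSL] at hfr
    set H := Subgroup.normalizer (T1 : Set G) with hH
    have hHtop : H ⊔ P0 = ⊤ := top_le_iff.1 (hfr ▸ sup_le le_sup_left
      (sup_le le_sup_right ((Subgroup.le_normalizer).trans le_sup_left)))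
    have hHne : H ≠ ⊤ := fun h => hs1Q
      (Thompson.le_pCore (Subgroup.normalizer_eq_top_iff.1 h) (S.2.to_le hT1S)
        ⟨hs1S, (hKmem s1).2 hs1⟩)
    have hsol : Group.IsSolvable ↥(P0.subgroupOf H) := by
      obtain ⟨R0, hR0⟩ := exists_sylow_inf S P0
      haveI := isSolvable_normalizer_sylow _ ↥P0 rfl (compK_subnormal hP0n.isSubnormal hc) R0
      have hmem : ∀ x : ↥(P0.subgroupOf H), (⟨((x : ↥H) : G), x.2⟩ : ↥P0) ∈
          Subgroup.normalizer ((R0 : Subgroup ↥P0) : Set ↥P0) := by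
        rintro ⟨⟨x, hxH⟩, hxP⟩
        have key : ∀ z : ↥P0, z ∈ (R0 : Subgroup ↥P0) ↔ (z : G) ∈ T1 := by
          intro z
          rw [← Subgroup.mem_map_iff_mem P0.subtype_injective, hR0]
          exact ⟨fun h => hSL.le ⟨h.1, Subgroup.mem_sup_left h.2⟩, fun h => ⟨hT1S h, z.2⟩⟩
        refine Subgroup.mem_normalizer_iff.2 fun z => ?_
        rw [key, key]
        exact Subgroup.mem_normalizer_iff.1 hxH (z : G)
      let f : ↥(P0.subgroupOf H) →* ↥(Subgroup.normalizer ((R0 : Subgroup ↥P0) : Set ↥P0)) :=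
        MonoidHom.mk' (fun x => ⟨⟨((x : ↥H) : G), x.2⟩, hmem x⟩) (fun _ _ => rfl)
      exact Group.isSolvable_of_isSolvable_injective (f := f) fun a b h =>
        Subtype.ext (Subtype.ext (congrArg (fun z : ↥(Subgroup.normalizer
          ((R0 : Subgroup ↥P0) : Set ↥P0)) => ((z : ↥P0) : G)) h))
    have hHfac := hsub H hSN hHne (compK_cover hc hHtop hsol)
    obtain ⟨h, hh, x, hx, hhx⟩ := Subgroup.mem_sup_of_normal_right.1
      (hHtop ▸ Subgroup.mem_top g : g ∈ H ⊔ P0)
    rw [← hhx]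
    exact fac_mul_normal S (hnormal P0 hP0n htop) (hHfac h hh) hx

end Cfsg.Agent.T51.EG
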