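import Cfsg.Agent.T51.BndPSL
import Cfsg.Agent.T51.BndDual

/-!
Closure properties of the composition condition, and the solvability of the normalizer of a Sylow
2-subgroup under that condition.
-/

set_option autoImplicit false
set_option linter.unusedVariables false
set_option linter.unusedSectionVars false
set_option linter.style.haveILetI false

namespace Cfsg.Agent.T51.EG

open Equiv Matrix
open Cfsg.Agent.T51.Bnd

universe u

/-- The composition condition. -/
abbrev CompK (X : Type u) [Group X] : Prop :=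
  Cfsg.IsCompositionKGroupWith Cfsg.IsSuzukiOrPSL2OddPowerThree X

variable {G : Type u} [Group G]

/-- A simple quotient is reached from a homomorphism. -/
theorem isK_of_surjective {A B : Type u} [Group A] [Group B] [IsSimpleGroup B] (f : A →* B)
    (hf : Function.Surjective f) (hnc : ¬ IsMulCommutative B) (hA : CompK A) :
    Cfsg.IsSuzukiOrPSL2OddPowerThree B := by
  have h := composition_surjective f hf hA ⊤ Subgroup.IsSubnormal.top ⊥
  let e : ↥(⊤ : Subgroup B) ⧸ (⊥ : Subgroup ↥(⊤ : Subgroup B)) ≃* B :=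
    QuotientGroup.quotientBot.trans Subgroup.topEquiv
  haveI := MulEquiv.isSimpleGroup e
  refine isK_congr e (h (MulEquiv.isSimpleGroup e) fun hc => hnc ⟨⟨fun x y => ?_⟩⟩)
  apply e.symm.injective
  rw [map_mul, map_mul]
  exact mul_comm' _ _

theorem compK_subnormal {H : Subgroup G} (hH : H.IsSubnormal) (hG : CompK G) : CompK ↥H := by
  intro A hA N hN hs hnc
  have hA' := hA.trans' hH
  let e : ↥A ≃* ↥(A.map H.subtype) := A.equivMapOfInjective _ H.subtype_injective
  haveI := hs
  haveI : (N.map e.toMonoidHom).Normal := hN.map _ e.surjective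
  let e' : ↥A ⧸ N ≃* ↥(A.map H.subtype) ⧸ N.map e.toMonoidHom :=
    QuotientGroup.congr N _ e rfl
  haveI := MulEquiv.isSimpleGroup e'.symm
  refine isK_congr e'.symm (hG _ hA' _ (MulEquiv.isSimpleGroup e'.symm) fun hc => hnc ⟨⟨fun x y => ?_⟩⟩)
  apply e'.injective
  rw [map_mul, map_mul]
  exact mul_comm' _ _

theorem compK_extension (M : Subgroup G) [hM : M.Normal] (h1 : CompK ↥M) (h2 : CompK (G ⧸ M)) :
    CompK G := by
  intro H hH N hN hs hnc
  haveI := hs
  let q := QuotientGroup.mk' N
  rcases IsSimpleGroup.eq_bot_or_eq_top_of_normal ((M.subgroupOf H).map q)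
      ((inferInstance : (M.subgroupOf H).Normal).map q (QuotientGroup.mk'_surjective N)) with hb | ht
  · -- the quotient is seen in `G/M`
    let f := (QuotientGroup.mk' M).subgroupMap H
    have hf : Function.Surjective f := (QuotientGroup.mk' M).subgroupMap_surjective H
    have hker : f.ker ≤ N := by
      intro x hx
      have h' : q x = 1 := by
        rw [← Subgroup.mem_bot, ← hb]
        refine ⟨x, ?_, rfl⟩
        exact (QuotientGroup.eq_one_iff (N := M) (x : G)).1 (congrArg Subtype.val hx)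
      exact (QuotientGroup.eq_one_iff x).1 h'
    let g : ↥(H.map (QuotientGroup.mk' M)) →* ↥H ⧸ N :=
      f.liftOfRightInverse (Function.surjInv hf) (Function.rightInverse_surjInv hf)
        ⟨q, fun x hx => (QuotientGroup.eq_one_iff x).2 (hker hx)⟩
    have hg : Function.Surjective g := by
      intro y
      obtain ⟨x, rfl⟩ := QuotientGroup.mk'_surjective N y
      refine ⟨f x, ?_⟩
      show f.liftOfRightInverse _ _ ⟨q, _⟩ (f x) = q x
      exact MonoidHom.liftOfRightInverse_comp_apply f _ _ _ x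
    exact isK_of_surjective g hg hnc
      (compK_subnormal (hH.map (QuotientGroup.mk'_surjective M)) h2)
  · let j : ↥(M.subgroupOf H) →* ↥M :=
      (H.subtype.comp (M.subgroupOf H).subtype).codRestrict M fun x => x.2
    let A : Subgroup ↥M := H.subgroupOf M
    let g : ↥A →* ↥H ⧸ N := q.comp
      ((M.subtype.comp A.subtype).codRestrict H fun x => x.2)
    have hg : Function.Surjective g := by
      intro y
      have hy : y ∈ (M.subgroupOf H).map q := ht ▸ Subgroup.mem_top y
      obtain ⟨x, hx, rfl⟩ := hy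
      exact ⟨⟨⟨(x : G), hx⟩, x.2⟩, rfl⟩
    exact isK_of_surjective g hg hnc (compK_subnormal (hH.comap M.subtype) h1)

theorem compK_of_isSolvable (X : Type u) [Group X] [Group.IsSolvable X] : CompK X := by
  intro H _ N hN hs hnc
  haveI := hs
  exact absurd ⟨⟨fun a b => IsSimpleGroup.comm_iff_isSolvable.2 inferInstance a b⟩⟩ hnc

theorem compK_congr {A B : Type u} [Group A] [Group B] (e : A ≃* B) (h : CompK A) : CompK B :=
  composition_surjective e.toMonoidHom e.surjective h

/-- A subgroup mapping onto a quotient with solvable kernel. -/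
theorem compK_subgroup {H N : Subgroup G} [N.Normal] (hsol : Group.IsSolvable ↥(N.subgroupOf H))
    (hQ : CompK ↥(H.map (QuotientGroup.mk' N))) : CompK ↥H := by
  refine compK_extension (N.subgroupOf H) (@compK_of_isSolvable _ _ hsol) ?_
  have hker : ((QuotientGroup.mk' N).subgroupMap H).ker = N.subgroupOf H := by
    ext x
    rw [MonoidHom.mem_ker, Subgroup.mem_subgroupOf]
    exact ⟨fun h => (QuotientGroup.eq_one_iff _).1 (congrArg Subtype.val h),
      fun h => Subtype.ext ((QuotientGroup.eq_one_iff _).2 h)⟩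
  exact compK_congr ((QuotientGroup.quotientMulEquivOfEq hker.symm).trans
    (QuotientGroup.quotientKerEquivOfSurjective _
      ((QuotientGroup.mk' N).subgroupMap_surjective H))).symm hQ

/-- The same for a subgroup covering the whole quotient. -/
theorem compK_cover {H N : Subgroup G} [N.Normal] (hG : CompK G) (hHN : H ⊔ N = ⊤)
    (hsol : Group.IsSolvable ↥(N.subgroupOf H)) : CompK ↥H := by
  refine compK_subgroup hsol ?_
  have htop : H.map (QuotientGroup.mk' N) = ⊤ := by
    rw [← Subgroup.map_top_of_surjective _ (QuotientGroup.mk'_surjective N), ← hHN, Subgroup.map_sup,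
      show N.map (QuotientGroup.mk' N) = ⊥ from QuotientGroup.map_mk'_self N, sup_bot_eq]
  exact compK_congr (Subgroup.topEquiv.symm.trans (MulEquiv.subgroupCongr htop.symm))
    (composition_surjective _ (QuotientGroup.mk'_surjective N) hG)

/-- A normal subgroup followed by a 2-group. -/
theorem compK_sup_two {N P : Subgroup G} [hN : N.Normal] [Finite G] (hG : CompK G)
    (hP : IsPGroup 2 P) : CompK ↥(N ⊔ P : Subgroup G) := by
  haveI : Fact (Nat.Prime 2) := ⟨Nat.prime_two⟩
  refine compK_extension (N.subgroupOf (N ⊔ P)) ?_ ?_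
  · exact compK_congr (Subgroup.subgroupOfEquivOfLe le_sup_left).symm
      (compK_subnormal hN.isSubnormal hG)
  · let j : ↥P →* ↥(N ⊔ P : Subgroup G) ⧸ N.subgroupOf (N ⊔ P) :=
      (QuotientGroup.mk' _).comp (Subgroup.inclusion le_sup_right)
    have hj : Function.Surjective j := by
      intro y
      obtain ⟨x, rfl⟩ := QuotientGroup.mk'_surjective _ y
      obtain ⟨n, hn, p, hp, he⟩ := Subgroup.mem_sup_of_normal_left.1 x.2
      refine ⟨⟨p, hp⟩, (QuotientGroup.eq).2 ?_⟩
      rw [Subgroup.mem_subgroupOf, Subgroup.coe_mul, Subgroup.coe_inv]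
      show p⁻¹ * (x : G) ∈ N
      rw [← he, ← mul_assoc]
      simpa using hN.conj_mem n hn p⁻¹
    haveI : Group.IsNilpotent ↥P := hP.isNilpotent
    haveI : Group.IsSolvable (↥(N ⊔ P : Subgroup G) ⧸ N.subgroupOf (N ⊔ P)) :=
      Group.isSolvable_of_surjective hj
    exact compK_of_isSolvable _

variable [Finite G]

theorem isSolvable_normalizer_conj {P Q : Subgroup G} (g : G)
    (h : Q.map (MulAut.conj g).toMonoidHom = P)
    (hQ : Group.IsSolvable ↥(Subgroup.normalizer (Q : Set G))) :
    Group.IsSolvable ↥(Subgroup.normalizer (P : Set G)) := by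
  have e : Subgroup.normalizer (P : Set G) =
      (Subgroup.normalizer (Q : Set G)).map (MulAut.conj g).toMonoidHom := by
    rw [← h, Subgroup.map_equiv_normalizer_eq]
  haveI := hQ
  exact Group.isSolvable_of_surjective (f := (MulEquiv.subgroupCongr e.symm).toMonoidHom.comp
    ((MulAut.conj g).toMonoidHom.subgroupMap _))
    ((MulEquiv.subgroupCongr e.symm).surjective.comp
      ((MulAut.conj g).toMonoidHom.subgroupMap_surjective _))

section Suzuki

variable {F : Type} [Field F] [Fintype F] {m : ℕ}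

theorem isSolvable_normalizer_suzuki (hm : 1 ≤ m) (hF : Fintype.card F = 2 ^ (2 * m + 1))
    (T : Sylow 2 (Cfsg.Sz F m)) :
    Group.IsSolvable ↥(Subgroup.normalizer ((T : Subgroup (Cfsg.Sz F m)) : Set (Cfsg.Sz F m))) := by
  classical
  haveI : Fact (Nat.Prime 2) := ⟨Nat.prime_two⟩
  have hq1 : (2 ^ (2 * m + 1) - 1) % 2 = 1 := by
    rw [Nat.pow_succ']; have := Nat.two_pow_pos (2 * m); omega
  have hU : ∃ T₀ : Sylow 2 (Cfsg.Sz F m), (T₀ : Subgroup (Cfsg.Sz F m)) = Suzuki.USub hF := by
    have hc : Nat.card (Suzuki.USub hF) = (2 ^ (2 * m + 1)) ^ 2 := by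
      rw [Suzuki.card_USub, ← hF]
    have hp : IsPGroup 2 (Suzuki.USub hF) := IsPGroup.of_card (n := (2 * m + 1) * 2) (by
      rw [hc, ← pow_mul])
    refine ⟨hp.toSylow fun h2 => ?_, rfl⟩
    have hi := Subgroup.card_mul_index (Suzuki.USub hF)
    rw [hc, Suzuki.card_Sz hF hm] at hi
    obtain ⟨k, hk⟩ := h2
    have hi2 : (Suzuki.USub hF).index =
        ((2 ^ (2 * m + 1)) ^ 2 + 1) * (2 ^ (2 * m + 1) - 1) :=
      Nat.eq_of_mul_eq_mul_left (show 0 < (2 ^ (2 * m + 1)) ^ 2 by positivity) (by rw [hi]; ring)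
    rw [hk] at hi2
    have : (((2 ^ (2 * m + 1)) ^ 2 + 1) * (2 ^ (2 * m + 1) - 1)) % 2 = 1 := by
      rw [Nat.mul_mod, hq1, show ((2 ^ (2 * m + 1)) ^ 2 + 1) % 2 = 1 by
        rw [← pow_mul, Nat.succ_mod_two_eq_one_iff, Nat.pow_mod]; simp]
    omega
  obtain ⟨T₀, hT₀⟩ := hU
  obtain ⟨g, hg⟩ := MulAction.exists_smul_eq (Cfsg.Sz F m) T₀ T
  refine isSolvable_normalizer_conj g (Q := Suzuki.USub hF) ?_ ?_
  · rw [← hT₀, ← hg, Sylow.coe_subgroup_smul]
    rfl
  set B := Subgroup.normalizer ((Suzuki.USub hF : Subgroup _) : Set (Cfsg.Sz F m)) with hB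
  haveI : Group.IsNilpotent ↥(Suzuki.USub hF) :=
    (IsPGroup.of_card (n := (2 * m + 1) * 2) (by rw [Suzuki.card_USub]; simp [← pow_mul]) :
      IsPGroup 2 ↥(Suzuki.USub hF)).isNilpotent
  have hTB : ∀ k, Suzuki.T hF k ∈ B := fun k => by
    rw [hB, Suzuki.normalizer_USub hF hm, MulAction.mem_stabilizer_iff, Suzuki.T_smul_inf]
  set U' := (Suzuki.USub hF).subgroupOf B with hU'
  let τ : Fˣ →* ↥B ⧸ U' := (QuotientGroup.mk' U').comp ((Suzuki.THom hF).codRestrict B hTB)
  have hτ : Function.Surjective τ := by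
    intro y
    obtain ⟨x, rfl⟩ := QuotientGroup.mk'_surjective U' y
    have hx : (x : Cfsg.Sz F m) ∈ MulAction.stabilizer (Cfsg.Sz F m) (Cfsg.suzukiPointInfinity F) :=
      Suzuki.normalizer_USub hF hm ▸ x.2
    obtain ⟨a, b, k, e⟩ := Suzuki.eq_U_T_of_fix hF hm (x : Cfsg.Sz F m) hx
    refine ⟨k, (QuotientGroup.eq).2 ?_⟩
    rw [Subgroup.mem_subgroupOf, Subgroup.coe_mul, Subgroup.coe_inv]
    show (Suzuki.T hF k)⁻¹ * (x : Cfsg.Sz F m) ∈ Suzuki.USub hF
    rw [e]
    have h1 := (Subgroup.mem_normalizer_iff.1 (B.inv_mem (hTB k)) (Suzuki.U hF a b)).1 ⟨a, b, rfl⟩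
    rwa [inv_inv, mul_assoc] at h1
  haveI : Group.IsSolvable ↥U' := Group.isSolvable_of_surjective
    (f := (Subgroup.subgroupOfEquivOfLe
      (Subgroup.le_normalizer (H := Suzuki.USub hF))).symm.toMonoidHom) (MulEquiv.surjective _)
  haveI : Group.IsSolvable (↥B ⧸ U') := Group.isSolvable_of_surjective hτ
  exact Group.isSolvable_of_ker_le_range U'.subtype (QuotientGroup.mk' U') (by
    rw [QuotientGroup.ker_mk', Subgroup.range_subtype])

end Suzuki

section Linear

variable {F : Type} [Field F] [Fintype F]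

theorem isSolvable_normalizer_psl {n : ℕ} (hF : Fintype.card F = 3 ^ (2 * n + 1))
    [IsSimpleGroup (ProjectiveSpecialLinearGroup (Fin 2) F)]
    [Group.IsPerfect (ProjectiveSpecialLinearGroup (Fin 2) F)]
    (T : Sylow 2 (ProjectiveSpecialLinearGroup (Fin 2) F)) :
    Group.IsSolvable ↥(Subgroup.normalizer
      ((T : Subgroup (ProjectiveSpecialLinearGroup (Fin 2) F)) :
        Set (ProjectiveSpecialLinearGroup (Fin 2) F))) := by
  classical
  haveI : Fact (Nat.Prime 2) := ⟨Nat.prime_two⟩
  have hn := not_solvable_rank hF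
  set P := ProjectiveSpecialLinearGroup (Fin 2) F with hP
  have h3F : (3 : F) = 0 := by
    have := FiniteField.cast_card_eq_zero F
    rw [hF] at this
    push_cast at this
    exact eq_zero_of_pow_eq_zero this
  have h2F : (2 : F) ≠ 0 := fun h => one_ne_zero (α := F) (by linear_combination h3F - h)
  -- order four
  have hcardG : ∃ k, Nat.card P = 4 * k ∧ Odd k := by
    have h1 := LinearGroup.gcd_mul_card_PSL_two (F := F)
    have h8 := three_pow_mod_eight n
    rw [Nat.card_eq_fintype_card (α := F), hF] at h1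
    obtain ⟨j, hj⟩ : ∃ j, 3 ^ (2 * n + 1) = 8 * j + 3 := ⟨3 ^ (2 * n + 1) / 8, by omega⟩
    rw [hj, show Nat.gcd 2 (8 * j + 3 - 1) = 2 from Nat.gcd_eq_left ⟨4 * j + 1, by omega⟩] at h1
    refine ⟨(8 * j + 3) * (4 * j + 1) * (2 * j + 1), ?_, ?_⟩
    · have : (8 * j + 3) ^ 2 - 1 = 8 * ((4 * j + 1) * (2 * j + 1)) := by
        refine Nat.sub_eq_of_eq_add ?_
        ring
      rw [this] at h1
      linarith
    · exact ((Odd.mul ⟨4 * j + 1, by ring⟩ ⟨2 * j, by ring⟩).mul ⟨j, by ring⟩)
  obtain ⟨k, hk, hkodd⟩ := hcardG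
  have hT4 : Nat.card T = 4 := by
    rw [Sylow.card_eq_multiplicity, show (ProjectiveSpecialLinearGroup (Fin 2) F) = P from rfl, hk,
      Nat.factorization_mul (by norm_num) (Nat.pos_of_ne_zero fun h => by simp [h] at hkodd).ne',
      Finsupp.add_apply, show (4 : ℕ) = 2 ^ 2 from rfl, Nat.prime_two.factorization_pow,
      Finsupp.single_eq_same, Nat.factorization_eq_zero_of_not_dvd hkodd.not_two_dvd_nat]
  set Ts : Subgroup P := (T : Subgroup P) with hTs
  have hTcomm : ∀ x ∈ Ts, ∀ y ∈ Ts, x * y = y * x := fun x hx y hy =>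
    congrArg Subtype.val ((IsPGroup.isMulCommutative_of_card_eq_prime_sq (G := ↥T) (p := 2)
      (show Nat.card ↥T = 2 ^ 2 from hT4)).is_comm.comm ⟨x, hx⟩ ⟨y, hy⟩)
  -- two involutions
  obtain ⟨a, ha, b, hb, ha2, hb2, ha1, hb1, hab⟩ :
      ∃ a ∈ Ts, ∃ b ∈ Ts, a * a = 1 ∧ b * b = 1 ∧ a ≠ 1 ∧ b ≠ 1 ∧ a ≠ b := by
    by_cases hcyc : IsCyclic ↥T
    · exfalso
      haveI : IsCyclic ↥(T : Subgroup P) := hcyc
      have hmin : (Nat.card P).minFac = 2 := by
        rw [Nat.minFac_eq_two_iff, hk]; exact ⟨2 * k, by ring⟩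
      have hcompl := MonoidHom.ker_transferSylow_isComplement' T
        (IsCyclic.normalizer_le_centralizer hmin hcyc)
      have hc1 := hcompl.card_mul_card
      rcases IsSimpleGroup.eq_bot_or_eq_top_of_normal _
          (MonoidHom.normal_ker (MonoidHom.transferSylow T (IsCyclic.normalizer_le_centralizer hmin hcyc)))
        with h | h
      · rw [h, Subgroup.card_bot, one_mul, hT4] at hc1
        haveI : Group.IsSolvable P := by
          haveI : Group.IsNilpotent P := (IsPGroup.of_card (p := 2) (n := 2) hc1.symm).isNilpotent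
          infer_instance
        exact Group.IsPerfect.not_isSolvable P inferInstance
      · rw [h, Subgroup.card_top, hT4] at hc1
        have := Nat.card_pos (α := ProjectiveSpecialLinearGroup (Fin 2) F)
        omega
    · haveI : IsMulCommutative ↥Ts := ⟨⟨fun x y => Subtype.ext (hTcomm x x.2 y y.2)⟩⟩
      obtain ⟨r, hr, hrd, a, ha, b, hb, har, hbr, ha1, hba⟩ :=
        Coprime.exists_independent_of_not_isCyclic Ts hcyc
      rw [hT4] at hrd
      obtain rfl : r = 2 := (Nat.prime_dvd_prime_iff_eq hr Nat.prime_two).1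
        (hr.dvd_of_dvd_pow (show r ∣ 2 ^ 2 from hrd))
      rw [pow_two] at har hbr
      exact ⟨a, ha, b, hb, har, hbr, ha1, fun h => hba (h ▸ one_mem _),
        fun h => hba (h ▸ Subgroup.mem_zpowers a)⟩
  -- the centralizer has exponent two
  have hCsq : ∀ x ∈ Subgroup.centralizer (Ts : Set P), x * x = 1 := by
    intro x hx
    obtain ⟨A, rfl⟩ := QuotientGroup.mk'_surjective _ a
    obtain ⟨B, rfl⟩ := QuotientGroup.mk'_surjective _ b
    obtain ⟨X, rfl⟩ := QuotientGroup.mk'_surjective _ x
    have hlift : ∀ u v : Matrix.SpecialLinearGroup (Fin 2) F,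
        QuotientGroup.mk' (Subgroup.center _) u = QuotientGroup.mk' (Subgroup.center _) v →
        ∃ r : F, r * r = 1 ∧ (u : Matrix (Fin 2) (Fin 2) F) = r • (v : Matrix (Fin 2) (Fin 2) F) := by
      intro u v h
      have h' : v⁻¹ * u ∈ Subgroup.center (Matrix.SpecialLinearGroup (Fin 2) F) :=
        QuotientGroup.eq.1 h.symm
      obtain ⟨r, hr, he⟩ := Matrix.SpecialLinearGroup.mem_center_iff.1 h'
      refine ⟨r, by rw [Fintype.card_fin, pow_two] at hr; exact hr, ?_⟩
      calc (u : Matrix (Fin 2) (Fin 2) F)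
          = ((v * (v⁻¹ * u) : Matrix.SpecialLinearGroup (Fin 2) F) : Matrix (Fin 2) (Fin 2) F) := by
            rw [mul_inv_cancel_left]
        _ = _ := by
            rw [Matrix.SpecialLinearGroup.coe_mul, ← he, Matrix.scalar_apply,
              ← Matrix.smul_one_eq_diagonal, Matrix.mul_smul, mul_one]
    have hns : ∀ u : Matrix.SpecialLinearGroup (Fin 2) F,
        QuotientGroup.mk' (Subgroup.center (Matrix.SpecialLinearGroup (Fin 2) F)) u ≠ 1 →
        ∀ c : F, (u : Matrix (Fin 2) (Fin 2) F) ≠ c • 1 := by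
      intro u hu c hc
      refine hu ((QuotientGroup.eq_one_iff u).2 (Matrix.SpecialLinearGroup.mem_center_iff.2 ⟨c, ?_, ?_⟩))
      · have := u.2
        rwa [hc, Matrix.det_smul, Matrix.det_one, mul_one] at this
      · rw [hc, Matrix.smul_one_eq_diagonal]; rfl
    have e1 := hlift (A * A) 1 (by rw [map_one, map_mul, ha2])
    have e2 := hlift (B * B) 1 (by rw [map_one, map_mul, hb2])
    obtain ⟨r1, -, hA2⟩ := e1
    obtain ⟨r2, -, hB2⟩ := e2
    rw [Matrix.SpecialLinearGroup.coe_mul, Matrix.SpecialLinearGroup.coe_one] at hA2 hB2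
    set M := (A : Matrix (Fin 2) (Fin 2) F) with hM
    set N := (B : Matrix (Fin 2) (Fin 2) F) with hN
    set Y := (X : Matrix (Fin 2) (Fin 2) F) with hY
    have trM := traceless_of_sq hA2 (hns A ha1)
    have trN := traceless_of_sq hB2 (hns B hb1)
    have hM0 : M ≠ 0 := fun h => hns A ha1 0 (by rw [zero_smul]; exact h)
    -- `A` and `B` anticommute
    obtain ⟨r, hr, he⟩ := hlift (A * B) (B * A) (by rw [map_mul, map_mul, hTcomm _ ha _ hb])
    rw [Matrix.SpecialLinearGroup.coe_mul, Matrix.SpecialLinearGroup.coe_mul] at he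
    have hr1 : r = -1 := by
      rcases mul_self_eq_one_iff.1 hr with rfl | h
      · exfalso
        rw [one_smul] at he
        obtain ⟨c, hc⟩ := eq_smul_of_comm h2F trM trN hM0 he
        apply hab
        refine (QuotientGroup.eq).2 (Matrix.SpecialLinearGroup.mem_center_iff.2 ⟨c, ?_, ?_⟩)
        · have := B.2
          rw [show (B : Matrix (Fin 2) (Fin 2) F) = N from rfl, hc, Matrix.det_smul, A.2,
            mul_one] at this
          exact this
        · rw [Matrix.SpecialLinearGroup.coe_mul, show (B : Matrix (Fin 2) (Fin 2) F) = N from rfl, hc,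
            Matrix.mul_smul, hM, ← Matrix.SpecialLinearGroup.coe_mul, inv_mul_cancel,
            Matrix.SpecialLinearGroup.coe_one, Matrix.smul_one_eq_diagonal]
          rfl
      · exact h
    rw [hr1, neg_smul, one_smul] at he
    have hcm : ∀ u : Matrix.SpecialLinearGroup (Fin 2) F,
        QuotientGroup.mk' (Subgroup.center (Matrix.SpecialLinearGroup (Fin 2) F)) u ∈ Ts →
        Y * Y * (u : Matrix (Fin 2) (Fin 2) F) = (u : Matrix (Fin 2) (Fin 2) F) * (Y * Y) := by
      intro u hu
      obtain ⟨s, hs, hse⟩ := hlift (X * u) (u * X) (by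
        rw [map_mul, map_mul, ← Subgroup.mem_centralizer_iff.1 hx _ hu])
      rw [Matrix.SpecialLinearGroup.coe_mul, Matrix.SpecialLinearGroup.coe_mul] at hse
      rw [mul_assoc, hse, Matrix.mul_smul, ← mul_assoc, hse, Matrix.smul_mul, smul_smul, hs, one_smul,
        mul_assoc]
    have hPM := hcm A ha
    have hPN := hcm B hb
    set Z := Y * Y - ((Y * Y).trace / 2) • (1 : Matrix (Fin 2) (Fin 2) F) with hZ
    have trZ : Z 1 1 = -Z 0 0 := by
      rw [hZ]
      simp [Matrix.trace_fin_two]
      field_simp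
      ring
    have hMZ : M * Z = Z * M := by
      rw [hZ, mul_sub, sub_mul, Matrix.mul_smul, Matrix.smul_mul, mul_one, one_mul, ← hPM]
    have hNZ : N * Z = Z * N := by
      rw [hZ, mul_sub, sub_mul, Matrix.mul_smul, Matrix.smul_mul, mul_one, one_mul, ← hPN]
    obtain ⟨t, ht⟩ := eq_smul_of_comm h2F trM trZ hM0 hMZ
    have ht0 : t = 0 := by
      by_contra ht0
      rw [ht, Matrix.mul_smul, Matrix.smul_mul, smul_right_inj ht0, he] at hNZ
      have hMN : N * M = 0 := by
        have h2' : (2 : F) • (N * M) = 0 := by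
          rw [two_smul]
          exact eq_neg_iff_add_eq_zero.1 hNZ
        exact (smul_eq_zero.1 h2').resolve_left h2F
      have := congrArg Matrix.det hMN
      rw [Matrix.det_mul, Matrix.det_zero, show M.det = 1 from A.2, show N.det = 1 from B.2, one_mul] at this
      exact one_ne_zero this
    rw [ht0, zero_smul, hZ, sub_eq_zero] at ht
    rw [← map_mul]
    refine (QuotientGroup.eq_one_iff _).2
      (Matrix.SpecialLinearGroup.mem_center_iff.2 ⟨(Y * Y).trace / 2, ?_, ?_⟩)
    · have := (X * X).2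
      rw [Matrix.SpecialLinearGroup.coe_mul, ht, Matrix.det_smul, Matrix.det_one, mul_one] at this
      exact this
    · rw [Matrix.SpecialLinearGroup.coe_mul, ← hY, Matrix.scalar_apply, ← Matrix.smul_one_eq_diagonal]
      exact ht.symm
  set NT := Subgroup.normalizer (Ts : Set P) with hNT
  let φ : ↥NT →* Perm ↥Ts :=
    (MulAut.toPerm ↥Ts).comp Ts.normalizerMonoidHom
  have hker : ∀ x ∈ φ.ker, ((x : ↥NT) : P) ∈ Subgroup.centralizer (Ts : Set P) := by
    intro x hx
    refine Subgroup.mem_centralizer_iff.2 fun t ht => ?_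
    have h1 := congrArg Subtype.val (DFunLike.congr_fun (MonoidHom.mem_ker.1 hx) (⟨t, ht⟩ : ↥Ts))
    exact (mul_inv_eq_iff_eq_mul.1 h1).symm
  haveI : Group.IsSolvable ↥φ.ker := by
    refine Group.isSolvable_of_comm fun x y => Subtype.ext (Subtype.ext ?_)
    have hu := hker x x.2
    have hv := hker y y.2
    show (((x : ↥φ.ker) : ↥NT) : P) * ((y : ↥NT) : P) = ((y : ↥NT) : P) * ((x : ↥NT) : P)
    rw [← inv_eq_of_mul_eq_one_right (hCsq _ (mul_mem hu hv)), _root_.mul_inv_rev,
      inv_eq_of_mul_eq_one_right (hCsq _ hu), inv_eq_of_mul_eq_one_right (hCsq _ hv)]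
  haveI : Group.IsSolvable (Perm ↥Ts) := by
    refine CharCore.isSolvable_of_card_eq_prime_pow_mul Nat.prime_two Nat.prime_three 24 _ 3 1 ?_
      (by norm_num)
    rw [Nat.card_perm, hT4]
    rfl
  exact Group.isSolvable_of_ker_le_range φ.ker.subtype φ (by rw [Subgroup.range_subtype])

end Linear

omit [Finite G] in
/-- A Sylow subgroup meets a normal subgroup in a Sylow subgroup. -/
theorem exists_sylow_inf [Finite G] {p : ℕ} [Fact p.Prime] (P : Sylow p G) (C : Subgroup G)
    [C.Normal] : ∃ R : Sylow p C, (R : Subgroup C).map C.subtype = (P : Subgroup G) ⊓ C := by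
  obtain ⟨R, hR⟩ := (P.2.comap_subtype (K := C)).exists_le_sylow
  obtain ⟨P', hP'⟩ := (R.2.map C.subtype).exists_le_sylow
  refine ⟨R, ?_⟩
  have hle : (P : Subgroup G) ⊓ C ≤ (R : Subgroup C).map C.subtype := fun x hx =>
    ⟨⟨x, hx.2⟩, hR hx.1, rfl⟩
  obtain ⟨k, hk⟩ := MulAction.exists_smul_eq G P' P
  refine (Subgroup.eq_of_le_of_card_ge hle ?_).symm
  have hsub : ((R : Subgroup C).map C.subtype).map (MulAut.conj k).toMonoidHom ≤
      (P : Subgroup G) ⊓ C := by
    rintro _ ⟨x, hx, rfl⟩
    refine ⟨?_, (inferInstance : C.Normal).conj_mem x (Subgroup.map_subtype_le _ hx) k⟩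
    rw [← hk, SetLike.mem_coe, Sylow.coe_subgroup_smul]
    exact ⟨x, hP' hx, rfl⟩
  exact (Nat.card_congr (Subgroup.equivMapOfInjective _ _ (MulAut.conj k).injective).toEquiv).le.trans
    (Subgroup.card_le_of_le hsub)

/-- Transport of the normalizer statement along an isomorphism. -/
theorem isSolvable_normalizer_equiv {A : Type u} {B : Type} [Group A] [Finite A] [Group B]
    [Finite B] (e : A ≃* B) (T : Sylow 2 A)
    (h : ∀ T' : Sylow 2 B, Group.IsSolvable ↥(Subgroup.normalizer ((T' : Subgroup B) : Set B))) :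
    Group.IsSolvable ↥(Subgroup.normalizer ((T : Subgroup A) : Set A)) := by
  haveI : Fact (Nat.Prime 2) := ⟨Nat.prime_two⟩
  haveI := h (T.mapSurjective (f := e.toMonoidHom) e.surjective)
  have hmem : ∀ x : ↥(Subgroup.normalizer ((T : Subgroup A) : Set A)), e x ∈ Subgroup.normalizer
      (((T.mapSurjective (f := e.toMonoidHom) e.surjective : Sylow 2 B) : Subgroup B) : Set B) :=
    fun x => Subgroup.le_normalizer_map (H := (T : Subgroup A)) e.toMonoidHom ⟨_, x.2, rfl⟩
  exact Group.isSolvable_of_isSolvable_injective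
    (f := MonoidHom.mk' (fun x => (⟨e x, hmem x⟩ : ↥(Subgroup.normalizer
      (((T.mapSurjective (f := e.toMonoidHom) e.surjective : Sylow 2 B) : Subgroup B) : Set B))))
      fun x y => Subtype.ext (map_mul e x.1 y.1))
    fun a b hab => Subtype.ext (e.injective (congrArg Subtype.val hab))

/-- The normalizer of a Sylow 2-subgroup is solvable. -/
theorem isSolvable_normalizer_sylow :
    ∀ (n : ℕ) (X : Type u) [Group X] [Finite X], Nat.card X = n → CompK X →
      ∀ T : Sylow 2 X, Group.IsSolvable ↥(Subgroup.normalizer ((T : Subgroup X) : Set X)) := by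
  haveI : Fact (Nat.Prime 2) := ⟨Nat.prime_two⟩
  intro n
  induction n using Nat.strong_induction_on with
  | _ n ih =>
    intro X _ _ hn hX T
    by_cases htriv : Nat.card X = 1
    · haveI : Subsingleton X := (Nat.card_eq_one_iff_unique.1 htriv).1
      infer_instance
    by_cases hsimple : IsSimpleGroup X
    · by_cases hcomm : IsMulCommutative X
      · haveI := hcomm
        exact Group.isSolvable_of_comm fun x y => Subtype.ext (mul_comm' _ _)
      rcases isK_of_surjective (MonoidHom.id X) Function.surjective_id hcomm hX with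
        ⟨F, i1, i2, m, hm, hF, ⟨e⟩⟩ | ⟨F, i1, i2, r, hF, ⟨e⟩⟩
      · exact isSolvable_normalizer_equiv (e.trans (RankOne.SzBridge.szEquiv hF hm).symm) T
          (isSolvable_normalizer_suzuki hm hF)
      · haveI : IsSimpleGroup (ProjectiveSpecialLinearGroup (Fin 2) F) :=
          MulEquiv.isSimpleGroup e.symm
        haveI : Group.IsPerfect (ProjectiveSpecialLinearGroup (Fin 2) F) := ⟨by
          rcases IsSimpleGroup.eq_bot_or_eq_top_of_normal
              (commutator (ProjectiveSpecialLinearGroup (Fin 2) F)) inferInstance with h | h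
          · refine absurd ⟨⟨fun x y => e.injective ?_⟩⟩ hcomm
            rw [map_mul, map_mul]
            exact commutatorElement_eq_one_iff_mul_comm.1 (Subgroup.mem_bot.1
              (h ▸ Subgroup.commutator_mem_commutator (Subgroup.mem_top _) (Subgroup.mem_top _)))
          · exact h⟩
        exact isSolvable_normalizer_equiv e T (isSolvable_normalizer_psl hF)
    haveI : Nontrivial X := Finite.one_lt_card_iff_nontrivial.1
      (lt_of_le_of_ne Nat.card_pos (Ne.symm htriv))
    obtain ⟨N, hN, hNb, hNt⟩ : ∃ N : Subgroup X, N.Normal ∧ N ≠ ⊥ ∧ N ≠ ⊤ := by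
      by_contra h
      push Not at h
      exact hsimple ⟨fun K hK => or_iff_not_imp_left.2 (h K hK)⟩
    haveI := hN
    set NT := Subgroup.normalizer ((T : Subgroup X) : Set X) with hNT
    obtain ⟨TN, hTN⟩ := exists_sylow_inf T N
    have hlt : Nat.card ↥N < n := hn ▸ (Subgroup.card_le_card_group N).lt_of_ne fun h =>
      hNt (Subgroup.eq_top_of_card_eq N h)
    haveI := ih _ hlt ↥N rfl (compK_subnormal hN.isSubnormal hX) TN
    set Tq := (T.mapSurjective (QuotientGroup.mk'_surjective N)) with hTq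
    have hlt' : Nat.card (X ⧸ N) < n := by
      have h1 := Subgroup.card_eq_card_quotient_mul_card_subgroup N
      have h2 : 1 < Nat.card ↥N := (Subgroup.one_lt_card_iff_ne_bot N).2 hNb
      have h3 := Nat.card_pos (α := X ⧸ N)
      nlinarith
    haveI := ih _ hlt' (X ⧸ N) rfl
      (composition_surjective _ (QuotientGroup.mk'_surjective N) hX) Tq
    haveI : Group.IsSolvable ↥(N.subgroupOf NT) := by
      have hmem : ∀ x : ↥(N.subgroupOf NT), (⟨((x : ↥NT) : X), x.2⟩ : ↥N) ∈
          Subgroup.normalizer ((TN : Subgroup ↥N) : Set ↥N) := by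
        intro x
        refine Subgroup.mem_normalizer_iff.2 fun t => ?_
        have hmem2 : ∀ s : ↥N, s ∈ (TN : Subgroup ↥N) ↔ (s : X) ∈ (T : Subgroup X) := fun s => by
          rw [← Subgroup.mem_map_iff_mem (f := N.subtype) N.subtype_injective, hTN]
          exact ⟨fun h => h.1, fun h => ⟨h, s.2⟩⟩
        rw [hmem2, hmem2]
        exact Subgroup.mem_normalizer_iff.1 (x : ↥NT).2 (t : X)
      exact Group.isSolvable_of_isSolvable_injective
        (f := MonoidHom.mk' (fun x => (⟨_, hmem x⟩ :
          ↥(Subgroup.normalizer ((TN : Subgroup ↥N) : Set ↥N)))) fun _ _ => rfl)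
        fun a b h => Subtype.ext (Subtype.ext
          (congrArg (fun z => ((z : ↥N) : X)) (congrArg Subtype.val h)))
    have hmem' : ∀ x : ↥NT, QuotientGroup.mk' N (x : X) ∈
        Subgroup.normalizer ((Tq : Subgroup (X ⧸ N)) : Set (X ⧸ N)) := fun x => by
      rw [hTq, Sylow.coe_mapSurjective]
      exact Subgroup.le_normalizer_map _ ⟨_, x.2, rfl⟩
    exact Group.isSolvable_of_ker_le_range (N.subgroupOf NT).subtype
      (((QuotientGroup.mk' N).comp NT.subtype).codRestrict _ hmem') (by
        intro x hx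
        rw [Subgroup.range_subtype]
        exact (QuotientGroup.eq_one_iff (N := N) (x : X)).1 (congrArg Subtype.val hx))

/-- A group of odd order with the composition condition is solvable. -/
theorem isSolvable_of_odd {X : Type u} [Group X] [Finite X] (hX : CompK X)
    (h : Odd (Nat.card X)) : Group.IsSolvable X := by
  haveI : Fact (Nat.Prime 2) := ⟨Nat.prime_two⟩
  haveI : Inhabited (Sylow 2 X) := ⟨Classical.choice inferInstance⟩
  have T : Sylow 2 X := default
  have hbot : (T : Subgroup X) = ⊥ := by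
    rw [← Subgroup.card_eq_one, Sylow.card_eq_multiplicity,
      Nat.factorization_eq_zero_of_not_dvd h.not_two_dvd_nat, pow_zero]
  have := isSolvable_normalizer_sylow _ X rfl hX T
  have htop : Subgroup.normalizer ((T : Subgroup X) : Set X) = ⊤ :=
    Subgroup.normalizer_eq_top_iff.2 (hbot ▸ inferInstance)
  haveI := this
  exact Group.isSolvable_of_surjective
    (f := ((Subgroup.topEquiv (G := X)).toMonoidHom.comp (MulEquiv.subgroupCongr htop).toMonoidHom))
    ((Subgroup.topEquiv (G := X)).surjective.comp (MulEquiv.subgroupCongr htop).surjective)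

end Cfsg.Agent.T51.EG
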