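import Cfsg.Agent.T51.EGroup
import Cfsg.Agent.T51.EComp
import Cfsg.Agent.LocalEven61.PermFour

/-!
Transport of `Ĵ` and `Ω₁Z(Ĵ)` along injective homomorphisms, and general tools for the
factorization: the bound for a group acting on a normal elementary abelian subgroup, Sylow
decompositions of normal subgroups.
-/

set_option autoImplicit false
set_option linter.unusedVariables false
set_option linter.unusedSectionVars false
set_option linter.style.haveILetI false

namespace Cfsg.Agent.T51.EG

open Thompson Equiv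
open Cfsg.Agent.T51.Bnd

universe u

variable {G : Type u} [Group G]

theorem thompson_map {H : Type u} [Group H] (f : H →* G) (hf : Function.Injective f) (P : Subgroup H) :
    (Cfsg.thompsonSubgroupOf 2 P).map f = Cfsg.thompsonSubgroupOf 2 (P.map f) :=
  thompsonSubgroupOf_map f P hf.injOn

theorem jh_map {H : Type u} [Group H] (f : H →* G) (hf : Function.Injective f) (P : Subgroup H) :
    (jh P).map f = jh (P.map f) := by
  rw [jh_eq, jh_eq]
  apply le_antisymm
  · rw [Subgroup.map_le_iff_le_comap]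
    refine sSup_le fun U hU => ?_
    rw [← Subgroup.map_le_iff_le_comap]
    exact le_sSup ⟨Subgroup.map_mono hU.1, (eForm_map_iff f hf U).2 hU.2.1,
      (thompson_map f hf P).ge.trans (Subgroup.map_mono hU.2.2)⟩
  · refine sSup_le fun U' hU => ?_
    obtain ⟨U, rfl⟩ : ∃ U : Subgroup H, U.map f = U' :=
      ⟨U'.comap f, Subgroup.map_comap_eq_self (hU.1.trans (Subgroup.map_le_range f P))⟩
    refine Subgroup.map_mono (le_sSup ⟨(Subgroup.map_le_map_iff_of_injective hf).1 hU.1,
      (eForm_map_iff f hf U).1 hU.2.1, ?_⟩)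
    refine (Subgroup.map_le_map_iff_of_injective hf).1 ?_
    rw [thompson_map f hf P]
    exact hU.2.2

theorem wh_map {H : Type u} [Group H] (f : H →* G) (hf : Function.Injective f) (P : Subgroup H) :
    (wh P).map f = wh (P.map f) := by
  show (Cfsg.omegaOne 2 _).map f = Cfsg.omegaOne 2 _
  rw [Thompson.map_omegaOne f _ hf.injOn, ← map_centralizer_inf f hf, jh_map f hf]

theorem normalizer_le_of_map {P X : Subgroup G}
    (h : ∀ g : G, P.map (MulAut.conj g).toMonoidHom = P →
      X.map (MulAut.conj g).toMonoidHom = X) :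
    Subgroup.normalizer (P : Set G) ≤ Subgroup.normalizer (X : Set G) := by
  intro g hg
  have hP : P.map (MulAut.conj g).toMonoidHom = P := by
    ext x
    constructor
    · rintro ⟨y, hy, rfl⟩; exact (Subgroup.mem_normalizer_iff.1 hg y).1 hy
    · intro hx
      exact ⟨g⁻¹ * x * g, (Subgroup.mem_normalizer_iff.1 hg _).2 (by simpa [mul_assoc] using hx),
        by simp [mul_assoc]⟩
  have hX := h g hP
  refine Subgroup.mem_normalizer_iff.2 fun x => ⟨fun hx => ?_, fun hx => ?_⟩
  · rw [← hX]; exact ⟨x, hx, rfl⟩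
  · rw [← hX] at hx
    obtain ⟨y, hy, hxy⟩ := hx
    rwa [← (MulAut.conj g).injective hxy]

theorem normalizer_le_jh (P : Subgroup G) :
    Subgroup.normalizer (P : Set G) ≤ Subgroup.normalizer (jh P : Set G) :=
  normalizer_le_of_map fun g hg => by rw [jh_map _ (MulAut.conj g).injective, hg]

theorem normalizer_jh_le_wh (P : Subgroup G) :
    Subgroup.normalizer (jh P : Set G) ≤ Subgroup.normalizer (wh P : Set G) :=
  normalizer_le_of_map fun g hg => by
    show (Cfsg.omegaOne 2 _).map _ = Cfsg.omegaOne 2 _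
    rw [Thompson.map_omegaOne _ _ (MulAut.conj g).injective.injOn,
      ← map_centralizer_inf _ (MulAut.conj g).injective, hg]

theorem jh_eq_of_le [Finite G] {P K : Subgroup G} (hKP : K ≤ P) (hJ : jh P ≤ K) : jh K = jh P := by
  have hT := Thompson.thompsonSubgroupOf_eq_of_le (p := 2) hKP ((thompson_le_jh P).trans hJ)
  rw [jh_eq K, hT, jh_eq P]
  apply le_antisymm
  · exact sSup_le_sSup fun U hU => ⟨hU.1.trans hKP, hU.2⟩
  · exact sSup_le fun U hU => le_sSup ⟨(le_jh hU.1 hU.2.1 hU.2.2).trans hJ, hU.2⟩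

/-- The action on a normal subgroup. -/
def actHom (V : Subgroup G) [hV : V.Normal] : G →* MulAut ↥V :=
  MonoidHom.mk' (fun g =>
    { toFun := fun v => ⟨g * v * g⁻¹, hV.conj_mem v v.2 g⟩
      invFun := fun v => ⟨g⁻¹ * v * g, by simpa using hV.conj_mem v v.2 g⁻¹⟩
      left_inv := fun v => Subtype.ext (by simp [mul_assoc])
      right_inv := fun v => Subtype.ext (by simp [mul_assoc])
      map_mul' := fun v w => Subtype.ext (by simp [mul_assoc]) })
    fun g h => MulEquiv.ext fun v => Subtype.ext (by simp [mul_assoc])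

theorem actHom_apply (V : Subgroup G) [V.Normal] (g : G) (v : ↥V) :
    ((actHom V g v : ↥V) : G) = g * v * g⁻¹ := rfl

theorem actHom_ker (V : Subgroup G) [V.Normal] :
    (actHom V).ker = Subgroup.centralizer (V : Set G) := by
  ext g
  rw [MonoidHom.mem_ker, Subgroup.mem_centralizer_iff]
  constructor
  · intro h v hv
    exact (mul_inv_eq_iff_eq_mul.1
      (congrArg Subtype.val (DFunLike.congr_fun h (⟨v, hv⟩ : ↥V)))).symm
  · intro h
    exact MulEquiv.ext fun v => Subtype.ext (mul_inv_eq_iff_eq_mul.2 (h v v.2).symm)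

variable [Finite G]

/-- Both bounds for an elementary abelian section acting on a normal subgroup. -/
theorem bound_normal (V : Subgroup G) [V.Normal] (hV : Cfsg.IsElementaryAbelian 2 V)
    (hO : Cfsg.pCore 2 (G ⧸ Subgroup.centralizer (V : Set G)) = ⊥)
    (hS3 : ¬ Cfsg.Involves (Perm (Fin 3)) (G ⧸ Subgroup.centralizer (V : Set G)))
    (hc : CompK G) (R : Subgroup G)
    (hR2 : ∀ r ∈ R, r ^ 2 ∈ Subgroup.centralizer (V : Set G)) :
    Nat.card R ^ 2 * Nat.card ↥(V ⊓ Subgroup.centralizer (R : Set G)) ≤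
        Nat.card V * Nat.card ↥(R ⊓ Subgroup.centralizer (V : Set G)) ^ 2 ∧
      Nat.card R ^ 2 ≤ Nat.card ↥⁅V, R⁆ * Nat.card ↥(R ⊓ Subgroup.centralizer (V : Set G)) ^ 2 := by
  letI : CommGroup ↥V := { (inferInstance : Group ↥V) with mul_comm := hV.1.is_comm.comm }
  haveI := finite_aut (V := ↥V)
  have h2 : ∀ v : ↥V, v * v = 1 := fun v => Subtype.ext (by
    rw [Subgroup.coe_mul, ← pow_two, hV.2 v v.2, Subgroup.coe_one])
  let θ : G →* MulAut ↥V := actHom V
  have hker : θ.ker = Subgroup.centralizer (V : Set G) := actHom_ker V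
  let e : G ⧸ Subgroup.centralizer (V : Set G) ≃* θ.range :=
    (QuotientGroup.quotientMulEquivOfEq hker.symm).trans (QuotientGroup.quotientKerEquivRange θ)
  obtain ⟨hO', hS3', hc'⟩ := transfer e hO hS3
    (composition_surjective _ (QuotientGroup.mk'_surjective _) hc)
  set A := R.map θ with hA
  have hAX : A ≤ θ.range := Subgroup.map_le_range _ _
  have hA2 : ∀ a ∈ A, a * a = 1 := by
    rintro _ ⟨r, hr, rfl⟩
    rw [← map_mul, ← MonoidHom.mem_ker, hker, ← pow_two]
    exact hR2 r hr
  have hcard : Nat.card A * Nat.card ↥(R ⊓ Subgroup.centralizer (V : Set G)) = Nat.card R := by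
    let q : ↥R →* MulAut ↥V := θ.comp R.subtype
    have hr : q.range = A := by rw [MonoidHom.range_comp, Subgroup.range_subtype]
    have hk : q.ker = (Subgroup.centralizer (V : Set G)).subgroupOf R := by
      rw [← hker]; ext x; rfl
    rw [Subgroup.card_eq_card_quotient_mul_card_subgroup q.ker,
      Nat.card_congr (QuotientGroup.quotientKerEquivRange q).toEquiv, hr, hk,
      ← Subgroup.inf_subgroupOf_right, inf_comm R,
      Nat.card_congr (Subgroup.subgroupOfEquivOfLe
        (inf_le_right : Subgroup.centralizer (V : Set G) ⊓ R ≤ R)).toEquiv]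
  constructor
  · have h1 := bound_of_composition h2 hO' hS3' hc' A hAX hA2
    have h3 : Nat.card ↥(V ⊓ Subgroup.centralizer (R : Set G)) ≤ Nat.card (QOff.fixSub A) := by
      refine (Subgroup.card_le_of_le (K := (QOff.fixSub A).map V.subtype) ?_).trans
        (Subgroup.card_map_of_injective V.subtype_injective).le
      rintro v ⟨hv, hvc⟩
      refine ⟨⟨v, hv⟩, ?_, rfl⟩
      rintro _ ⟨r, hr, rfl⟩
      refine Subtype.ext ?_
      show r * v * r⁻¹ = v
      rw [Subgroup.mem_centralizer_iff.1 hvc r hr, mul_inv_cancel_right]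
    rw [← hcard, mul_pow, mul_right_comm]
    exact Nat.mul_le_mul_right _ (le_trans (Nat.mul_le_mul_left _ h3) h1)
  · have h1 := sq_card_le_commutator h2 hO' hS3' hc' hAX hA2
    rw [← hcard, mul_pow]
    refine Nat.mul_le_mul_right _ (h1.trans ((Subgroup.card_map_of_injective V.subtype_injective).ge.trans
      (Subgroup.card_le_of_le ?_)))
    rw [Subgroup.map_le_iff_le_comap, Subgroup.closure_le]
    rintro _ ⟨_, ⟨r, hr, rfl⟩, v, rfl⟩
    show ((θ r v * v⁻¹ : ↥V) : G) ∈ ⁅V, R⁆
    rw [Subgroup.coe_mul, Subgroup.coe_inv, actHom_apply, ← commutatorElement_def,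
      Subgroup.commutator_comm]
    exact Subgroup.commutator_mem_commutator hr v.2

/-- A normal subgroup with a 2-quotient over `C` is covered by `C` and a Sylow intersection. -/
theorem le_sup_sylow {C L : Subgroup G} [hC : C.Normal] [L.Normal] (hCL : C ≤ L) {k : ℕ}
    (hk : C.relIndex L = 2 ^ k) (S : Sylow 2 G) : L ≤ C ⊔ ((S : Subgroup G) ⊓ L) := by
  haveI : Fact (Nat.Prime 2) := ⟨Nat.prime_two⟩
  obtain ⟨R, hR⟩ := exists_sylow_inf S L
  set U := C ⊔ ((S : Subgroup G) ⊓ L) with hU
  have h1 : U.relIndex L ∣ 2 ^ k := hk ▸ Subgroup.relIndex_dvd_of_le_left L le_sup_left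
  have h2 : ¬ 2 ∣ U.relIndex L := fun h => R.not_dvd_index (h.trans (by
    have : ((S : Subgroup G) ⊓ L).relIndex L = (R : Subgroup ↥L).index := by
      rw [← hR, Subgroup.relIndex, Subgroup.subgroupOf,
        Subgroup.comap_map_eq_self_of_injective L.subtype_injective]
    rw [← this]
    exact Subgroup.relIndex_dvd_of_le_left L le_sup_right))
  obtain ⟨j, -, hj⟩ := (Nat.dvd_prime_pow Nat.prime_two).1 h1
  rw [← Subgroup.relIndex_eq_one, hj]
  rcases j with - | j
  · rfl
  · exact absurd (hj ▸ dvd_pow_self 2 (Nat.succ_ne_zero j)) h2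

/-- An element of odd order fixing the involutions of an invariant abelian 2-group. -/
theorem centralizes_of_omega {D : Subgroup G} (hD : IsPGroup 2 D) (hab : IsMulCommutative ↥D)
    {x : G} (hxD : x ∈ Subgroup.normalizer (D : Set G)) (hodd : Odd (orderOf x))
    (hfix : ∀ d ∈ D, d ^ 2 = 1 → x * d = d * x) : ∀ d ∈ D, x * d = d * x := by
  suffices ∀ (k : ℕ), ∀ d ∈ D, d ^ 2 ^ k = 1 → x * d = d * x by
    intro d hd
    obtain ⟨k, hk⟩ := hD ⟨d, hd⟩
    exact this k d hd (congrArg Subtype.val hk)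
  intro k
  induction k with
  | zero =>
    intro d _ h
    rw [pow_zero, pow_one] at h
    rw [h, mul_one, one_mul]
  | succ k ih =>
    intro d hd h
    have h1 : x * d ^ 2 = d ^ 2 * x := ih _ (D.pow_mem hd 2) (by rw [← pow_mul, ← pow_succ']; exact h)
    have hd' : x * d * x⁻¹ ∈ D := (Subgroup.mem_normalizer_iff.1 hxD d).1 hd
    set e := d⁻¹ * (x * d * x⁻¹) with he
    have heD : e ∈ D := mul_mem (D.inv_mem hd) hd'
    have hde : Commute d⁻¹ (x * d * x⁻¹) :=
      Thompson.elemAb_comm hab (D.inv_mem hd) hd'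
    have he2 : e ^ 2 = 1 := by
      rw [he, hde.mul_pow, conj_pow, h1, mul_inv_cancel_right, inv_pow, inv_mul_cancel]
    have hec : x * e = e * x := hfix e heD he2
    have hn : ∀ n : ℕ, x ^ n * d * (x ^ n)⁻¹ = d * e ^ n := by
      intro n
      induction n with
      | zero => simp
      | succ n ihn =>
        rw [pow_succ' x, mul_inv_rev,
          show x * x ^ n * d * ((x ^ n)⁻¹ * x⁻¹) = x * (x ^ n * d * (x ^ n)⁻¹) * x⁻¹ by group, ihn,
          show x * (d * e ^ n) * x⁻¹ = (x * d * x⁻¹) * (x * e ^ n * x⁻¹) by group,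
          ((show Commute x e from hec).pow_right n).eq, mul_inv_cancel_right,
          show x * d * x⁻¹ = d * e by rw [he, mul_inv_cancel_left], mul_assoc, pow_succ']
    have h3 := hn (orderOf x)
    rw [pow_orderOf_eq_one, one_mul, inv_one, mul_one] at h3
    have h4 : e ^ orderOf x = 1 := by simpa using h3.symm
    obtain ⟨j, hj⟩ := hodd
    rw [hj, pow_succ, pow_mul, he2, one_pow, one_mul] at h4
    rw [he, inv_mul_eq_one] at h4
    exact mul_inv_eq_iff_eq_mul.1 h4.symm

/-- `G/O₂(G)` does not involve `S₃` when `G` does not involve `S₄`. -/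
theorem not_involves_three (hchar : Subgroup.centralizer (Cfsg.pCore 2 G : Set G) ≤ Cfsg.pCore 2 G)
    (hfree : ¬ Cfsg.Involves (Perm (Fin 4)) G) :
    ¬ Cfsg.Involves (Perm (Fin 3)) (G ⧸ Cfsg.pCore 2 G) := by
  haveI : Fact (Nat.Prime 2) := ⟨Nat.prime_two⟩
  intro h
  set Q := Cfsg.pCore 2 G with hQ
  set N := Subgroup.normalizer (Q : Set G) with hN
  have hNt : N = ⊤ := Subgroup.normalizer_eq_top_iff.2 inferInstance
  let C := (Subgroup.centralizer (Q : Set G)).subgroupOf N
  let q : ↥N →* G ⧸ Q := (QuotientGroup.mk' Q).comp N.subtype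
  have hq : Function.Surjective q := fun y => by
    obtain ⟨x, rfl⟩ := QuotientGroup.mk'_surjective Q y
    exact ⟨⟨x, hNt ▸ Subgroup.mem_top x⟩, rfl⟩
  let f : ↥N ⧸ C →* G ⧸ Q := QuotientGroup.lift C q fun x hx =>
    (QuotientGroup.eq_one_iff _).2 (hchar hx)
  refine hfree (LocalEven61.involves_perm4_of_two_local Q Thompson.isPGroup_pCore
    (LocalEven61.involves_trans h (LocalEven61.involves_of_hom f (fun y => ?_) (MonoidHom.id _)
      Function.injective_id)))
  obtain ⟨x, rfl⟩ := hq y
  exact ⟨QuotientGroup.mk' C x, rfl⟩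

end Cfsg.Agent.T51.EG
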