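import Cfsg.Agent.T51.BndBasic
import Cfsg.Agent.LocalEven61.FreeOrbit
import Cfsg.Agent.Lib.Components.GenFitting
import Cfsg.Agent.AutPSL.Basic

/-!
Perfect groups of automorphisms with a prescribed central quotient, the action of a normalizing
elementary abelian 2-group on the quotient, and bounds from elements of prime power order.
-/

set_option autoImplicit false
set_option linter.unusedVariables false
set_option linter.unusedSectionVars false
set_option linter.style.haveILetI false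

namespace Cfsg.Agent.T51.Bnd

open QOff Equiv

universe u

variable {V : Type u} [CommGroup V]

/-- `H` is a perfect central extension of `Q` by a group of odd order. -/
structure Good {Q : Type*} [Group Q] (H : Subgroup (MulAut V)) (ψ : ↥H →* Q) : Prop where
  surj : Function.Surjective ψ
  ker : ψ.ker = Subgroup.center ↥H
  perfect : ⁅H, H⁆ = H
  odd : Odd (Nat.card (Subgroup.center ↥H))

variable {Q : Type*} [Group Q] {H : Subgroup (MulAut V)} {ψ : ↥H →* Q}

theorem Good.eq_top_of_solvable_map (hG : Good H ψ) : Group.IsPerfect Q := by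
  haveI : Group.IsPerfect ↥H := Subgroup.isPerfect_iff.2 hG.perfect
  refine ⟨?_⟩
  rw [commutator_def, eq_top_iff]
  calc (⊤ : Subgroup Q) = Subgroup.map ψ ⁅(⊤ : Subgroup ↥H), (⊤ : Subgroup ↥H)⁆ := by
        rw [← commutator_def, Group.IsPerfect.commutator_eq_top,
          Subgroup.map_top_of_surjective ψ hG.surj]
    _ ≤ _ := by
        rw [Subgroup.map_commutator]
        exact Subgroup.commutator_mono le_top le_top

theorem Good.not_isPGroup [Finite V] (hG : Good H ψ) [IsSimpleGroup Q] : ¬ IsPGroup 2 Q := by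
  intro h
  haveI := finite_aut (V := V)
  haveI : Finite Q := Finite.of_surjective ψ hG.surj
  haveI : Fact (Nat.Prime 2) := ⟨Nat.prime_two⟩
  haveI := h.isNilpotent
  haveI := hG.eq_top_of_solvable_map
  exact Group.IsPerfect.not_isSolvable Q inferInstance

/-- A normal 2-subgroup is trivial. -/
theorem Good.eq_bot_of_normal [Finite V] (hG : Good H ψ) [IsSimpleGroup Q] {N : Subgroup ↥H}
    (hN : N.Normal) (hN2 : IsPGroup 2 N) : N = ⊥ := by
  haveI := finite_aut (V := V)
  haveI : Fact (Nat.Prime 2) := ⟨Nat.prime_two⟩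
  rcases (hN.map ψ hG.surj).eq_bot_or_eq_top with h | h
  · rw [Subgroup.map_eq_bot_iff, hG.ker] at h
    refine Subgroup.eq_bot_of_card_eq N ?_
    obtain ⟨k, hk⟩ := IsPGroup.iff_card.1 hN2
    have hdvd := Subgroup.card_dvd_of_le h
    rw [hk] at hdvd ⊢
    rcases Nat.eq_zero_or_pos k with rfl | hk0
    · rfl
    · exact absurd (even_iff_two_dvd.2 ((dvd_pow_self 2 hk0.ne').trans hdvd))
        (Nat.not_even_iff_odd.2 hG.odd)
  · refine absurd ?_ hG.not_isPGroup
    have h1 := hN2.map ψ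
    rw [h] at h1
    exact h1.of_surjective (Subgroup.topEquiv (G := Q)).toMonoidHom (Subgroup.topEquiv (G := Q)).surjective

/-- A normalizing element induces an automorphism of the quotient. -/
theorem Good.exists_aut (hG : Good H ψ) {a : MulAut V}
    (ha : a ∈ Subgroup.normalizer (H : Set (MulAut V))) :
    ∃ α : MulAut Q, ∀ h h' : ↥H, (h' : MulAut V) = a * h * a⁻¹ → ψ h' = α (ψ h) := by
  let θ : ↥H ≃* ↥H := ((MulAut.conj a).subgroupMap H).trans
    (MulEquiv.subgroupCongr (FacGen.cj_eq_self ha))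
  let e : ↥H ⧸ Subgroup.center ↥H ≃* Q := (QuotientGroup.quotientMulEquivOfEq hG.ker.symm).trans
    (QuotientGroup.quotientKerEquivOfSurjective ψ hG.surj)
  have he : ∀ h : ↥H, e (QuotientGroup.mk h) = ψ h := fun h => rfl
  refine ⟨e.symm.trans ((QuotientGroup.congr _ _ θ (AutPSL.center_map_equiv θ)).trans e),
    fun h h' hh' => ?_⟩
  show ψ h' = e (QuotientGroup.congr _ _ θ (AutPSL.center_map_equiv θ) (e.symm (ψ h)))
  rw [← he h, MulEquiv.symm_apply_apply, show h' = θ h from Subtype.ext hh', ← he]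
  rfl

/-- The action on the quotient of an elementary abelian group normalizing `H`. -/
theorem Good.exists_hom (hG : Good H ψ) {A : Subgroup (MulAut V)}
    (hAH : A ≤ Subgroup.normalizer (H : Set (MulAut V)))
    (hC : A ⊓ Subgroup.centralizer (H : Set (MulAut V)) = ⊥) :
    ∃ β : ↥A →* MulAut Q, Function.Injective β ∧
      ∀ (a : ↥A) (h h' : ↥H), (h' : MulAut V) = (a : MulAut V) * h * (a : MulAut V)⁻¹ →
        ψ h' = β a (ψ h) := by
  choose β hβ using fun a : ↥A => hG.exists_aut (hAH a.2)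
  have hmem : ∀ (a : ↥A) (h : ↥H), (a : MulAut V) * h * (a : MulAut V)⁻¹ ∈ H := fun a h =>
    (Subgroup.mem_normalizer_iff.1 (hAH a.2) _).1 h.2
  have hmul : ∀ a b : ↥A, β (a * b) = β a * β b := by
    intro a b
    refine MulEquiv.ext fun q => ?_
    obtain ⟨h, rfl⟩ := hG.surj q
    rw [MulAut.mul_apply, ← hβ b h ⟨_, hmem b h⟩ rfl, ← hβ a ⟨_, hmem b h⟩ ⟨_, hmem a ⟨_, hmem b h⟩⟩ rfl]
    refine (hβ (a * b) h _ ?_).symm
    show (a : MulAut V) * ((b : MulAut V) * h * (b : MulAut V)⁻¹) * (a : MulAut V)⁻¹ = _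
    rw [Subgroup.coe_mul]
    group
  refine ⟨MonoidHom.mk' β hmul, (injective_iff_map_eq_one _).2 fun a ha => ?_, hβ⟩
  change β a = 1 at ha
  have hc : (a : MulAut V) ∈ A ⊓ Subgroup.centralizer (H : Set (MulAut V)) := by
    refine ⟨a.2, Components.mem_centralizer_of_commutator_mem_centralizer hG.perfect (hAH a.2) ?_⟩
    intro l hl
    have h1 := hβ a ⟨l, hl⟩ ⟨_, hmem a ⟨l, hl⟩⟩ rfl
    rw [ha, MulAut.one_apply] at h1
    have h3 : (⟨_, hmem a ⟨l, hl⟩⟩ * (⟨l, hl⟩ : ↥H)⁻¹ : ↥H) ∈ Subgroup.center ↥H := by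
      rw [← hG.ker, MonoidHom.mem_ker, map_mul, map_inv, h1, mul_inv_cancel]
    exact Subgroup.mem_centralizer_iff.2 fun k hk =>
      congrArg Subtype.val (Subgroup.mem_center_iff.1 h3 ⟨k, hk⟩)
  rw [hC, Subgroup.mem_bot] at hc
  exact Subtype.ext hc

/-- Lifting an element of odd order with prescribed action of two commuting involutions. -/
theorem Good.exists_lift [Finite V] (hG : Good H ψ) {a b : MulAut V}
    (ha : a * a = 1) (hb : b * b = 1) (hab : a * b = b * a)
    (haH : a ∈ Subgroup.normalizer (H : Set (MulAut V)))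
    (hbH : b ∈ Subgroup.normalizer (H : Set (MulAut V))) {α β : MulAut Q}
    (hα : ∀ h h' : ↥H, (h' : MulAut V) = a * h * a⁻¹ → ψ h' = α (ψ h))
    (hβ : ∀ h h' : ↥H, (h' : MulAut V) = b * h * b⁻¹ → ψ h' = β (ψ h))
    {q : Q} (hq : Odd (orderOf q)) (hq1 : q ≠ 1) (hαq : α q = q⁻¹) (hβq : β q = q) :
    ∃ x ∈ H, x ≠ 1 ∧ Odd (orderOf x) ∧ b * x = x * b ∧ a * x * a⁻¹ = x⁻¹ := by
  haveI := finite_aut (V := V)
  obtain ⟨h0, h0q⟩ := hG.surj q
  set Z := Subgroup.center ↥H with hZ
  set P : Subgroup ↥H := Subgroup.zpowers h0 ⊔ Z with hP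
  haveI hPc : IsMulCommutative P := by
    have hle : P ≤ Subgroup.centralizer (Subgroup.zpowers h0 : Set ↥H) := by
      refine sup_le (fun z hz => ?_) (fun z hz => ?_)
      · obtain ⟨i, rfl⟩ := Subgroup.mem_zpowers_iff.1 hz
        exact Subgroup.mem_centralizer_iff.2 fun w hw => by
          obtain ⟨j, rfl⟩ := Subgroup.mem_zpowers_iff.1 hw
          rw [← zpow_add, ← zpow_add, add_comm]
      · exact Subgroup.center_le_centralizer _ hz
    refine ⟨⟨fun s t => Subtype.ext ?_⟩⟩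
    have hs : (s : ↥H) ∈ Subgroup.centralizer (P : Set ↥H) := by
      refine (sup_le ?_ (Subgroup.center_le_centralizer _) : P ≤ Subgroup.centralizer (P : Set ↥H)) s.2
      rw [Subgroup.le_centralizer_iff]
      exact hle
    exact (Subgroup.mem_centralizer_iff.1 hs t t.2).symm
  have hPodd : Odd (Nat.card P) := by
    let f := ψ.comp P.subtype
    have e : Nat.card P = Nat.card f.range * Nat.card f.ker := (QOff.card_map_mul_card_ker f).symm
    have hr : f.range = Subgroup.zpowers q := by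
      rw [MonoidHom.range_comp, Subgroup.range_subtype, hP, Subgroup.map_sup,
        MonoidHom.map_zpowers, h0q, (Subgroup.map_eq_bot_iff Z).2 hG.ker.ge, sup_bot_eq]
    have hk : Nat.card f.ker ∣ Nat.card Z := by
      refine Subgroup.card_dvd_of_injective
        (f := ((P.subtype.comp f.ker.subtype).codRestrict Z fun z => by
          rw [hZ, ← hG.ker]; exact z.2)) fun z w hzw => ?_
      have e0 := Subtype.ext_iff.1 hzw
      have e1 : P.subtype (f.ker.subtype z) = P.subtype (f.ker.subtype w) := e0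
      exact f.ker.subtype_injective (P.subtype_injective e1)
    rw [e, hr, Nat.card_zpowers]
    exact hq.mul (Odd.of_dvd_nat hG.odd hk)
  -- conjugation by an involution preserves `P`
  have hstab : ∀ (c : MulAut V) (γ : MulAut Q), c ∈ Subgroup.normalizer (H : Set (MulAut V)) →
      (∀ h h' : ↥H, (h' : MulAut V) = c * h * c⁻¹ → ψ h' = γ (ψ h)) →
      (γ q = q ∨ γ q = q⁻¹) → ∀ p ∈ P, ∃ p' ∈ P, (p' : MulAut V) = c * p * c⁻¹ := by
    intro c γ hc hγ hcases p hp
    have hm : c * (p : MulAut V) * c⁻¹ ∈ H := (Subgroup.mem_normalizer_iff.1 hc _).1 p.2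
    refine ⟨⟨_, hm⟩, ?_, rfl⟩
    have h1 := hγ p ⟨_, hm⟩ rfl
    have h3 : ψ p ∈ Subgroup.zpowers q := by
      have := Subgroup.mem_map_of_mem ψ hp
      rwa [hP, Subgroup.map_sup, MonoidHom.map_zpowers, h0q,
        (Subgroup.map_eq_bot_iff Z).2 hG.ker.ge, sup_bot_eq] at this
    obtain ⟨i, hi⟩ := Subgroup.mem_zpowers_iff.1 h3
    have h4 : ψ ⟨_, hm⟩ ∈ (Subgroup.zpowers h0).map ψ := by
      rw [h1, ← hi, map_zpow, MonoidHom.map_zpowers, h0q]
      rcases hcases with h | h <;> rw [h]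
      · exact Subgroup.zpow_mem_zpowers q i
      · exact Subgroup.zpow_mem _ (Subgroup.inv_mem _ (Subgroup.mem_zpowers q)) i
    obtain ⟨w, hw, hwe⟩ := h4
    have hz : w⁻¹ * (⟨_, hm⟩ : ↥H) ∈ Z := by
      rw [hZ, ← hG.ker, MonoidHom.mem_ker, map_mul, map_inv, hwe, inv_mul_cancel]
    have := P.mul_mem (Subgroup.mem_sup_left hw) (Subgroup.mem_sup_right hz)
    rwa [mul_inv_cancel_left] at this
  obtain ⟨ha0, ha0P, ha0e⟩ := hstab a α haH hα (Or.inr hαq) h0 (Subgroup.mem_sup_left (Subgroup.mem_zpowers h0))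
  have hai : a⁻¹ = a := inv_eq_of_mul_eq_one_right ha
  have hbi : b⁻¹ = b := inv_eq_of_mul_eq_one_right hb
  have hcommP : ∀ s ∈ P, ∀ t ∈ P, (s : MulAut V) * t = t * s := fun s hs t ht =>
    congrArg Subtype.val (congrArg Subtype.val (mul_comm' (⟨s, hs⟩ : P) ⟨t, ht⟩))
  -- the element inverted by `a`
  set y : ↥H := h0 * ha0⁻¹ with hy
  have hyP : y ∈ P := P.mul_mem (Subgroup.mem_sup_left (Subgroup.mem_zpowers h0)) (P.inv_mem ha0P)
  have hya : a * (y : MulAut V) * a⁻¹ = (y : MulAut V)⁻¹ := by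
    rw [hy, Subgroup.coe_mul, Subgroup.coe_inv, ha0e]
    calc a * ((h0 : MulAut V) * (a * (h0 : MulAut V) * a⁻¹)⁻¹) * a⁻¹
        = a * (h0 : MulAut V) * a * (h0 : MulAut V)⁻¹ * (a * a)⁻¹ := by group
      _ = a * (h0 : MulAut V) * a⁻¹ * (h0 : MulAut V)⁻¹ := by rw [ha, hai, inv_one, mul_one]
      _ = _ := by group
  obtain ⟨yb, hybP, hybe⟩ := hstab b β hbH hβ (Or.inl hβq) y hyP
  refine ⟨(y : MulAut V) * yb, H.mul_mem y.2 yb.2, ?_, ?_, ?_, ?_⟩
  · intro h
    have h1 : ψ (y * yb) = 1 := by rw [show y * yb = 1 from Subtype.ext h, map_one]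
    have hyq : ψ y = q * q := by
      rw [hy, map_mul, map_inv, hα h0 ha0 ha0e, h0q, hαq, inv_inv]
    rw [map_mul, hβ y yb hybe, hyq, map_mul, hβq] at h1
    refine hq1 (orderOf_eq_one_iff.1 ?_)
    have h4 : orderOf q ∣ 4 := orderOf_dvd_of_pow_eq_one (by
      rw [show q ^ 4 = q * q * (q * q) by rw [show 4 = 2 + 2 from rfl, pow_add, pow_two], h1])
    exact Nat.Coprime.eq_one_of_dvd
      (by rw [show (4 : ℕ) = 2 ^ 2 from rfl]; exact (Nat.coprime_two_right.2 hq).pow_right 2) h4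
  · rw [show (y : MulAut V) * yb = ((y * yb : ↥H) : MulAut V) from rfl, Subgroup.orderOf_coe]
    exact Odd.of_dvd_nat hPodd (Subgroup.orderOf_dvd_natCard P (P.mul_mem hyP hybP))
  · rw [hybe, hbi]
    calc b * ((y : MulAut V) * (b * (y : MulAut V) * b))
        = (b * (y : MulAut V) * b) * ((y : MulAut V) * b) := by group
      _ = _ := by
          rw [← mul_assoc (b * (y : MulAut V) * b)]
          rw [show b * (y : MulAut V) * b = (yb : MulAut V) by rw [hybe, hbi]]
          rw [hcommP yb hybP y hyP]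
  · have hyinv : a * (yb : MulAut V) * a⁻¹ = (yb : MulAut V)⁻¹ := by
      rw [hybe]
      calc a * (b * (y : MulAut V) * b⁻¹) * a⁻¹ = (a * b) * (y : MulAut V) * (b⁻¹ * a⁻¹) := by group
        _ = (b * a) * (y : MulAut V) * (a⁻¹ * b⁻¹) := by
            rw [hab, show b⁻¹ * a⁻¹ = a⁻¹ * b⁻¹ by rw [← mul_inv_rev, ← mul_inv_rev, hab]]
        _ = b * (a * (y : MulAut V) * a⁻¹) * b⁻¹ := by group
        _ = _ := by rw [hya]; group
    calc a * ((y : MulAut V) * yb) * a⁻¹
        = (a * (y : MulAut V) * a⁻¹) * (a * (yb : MulAut V) * a⁻¹) := by group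
      _ = (yb * y : MulAut V)⁻¹ := by rw [hya, hyinv, mul_inv_rev]
      _ = _ := by rw [hcommP yb hybP y hyP]

/-- An element of prime power order acting with many fixed points. -/
theorem pow_mul_card_fx_le [Finite V] (h2 : ∀ v : V, v * v = 1) {ℓ e d : ℕ} (hℓ : ℓ.Prime)
    (hℓ2 : ℓ ≠ 2) {y : MulAut V} (hord : orderOf y = ℓ ^ (e + 1))
    (hprim : ∀ k, 0 < k → ℓ ^ (e + 1) ∣ 2 ^ k - 1 → d ≤ k) :
    2 ^ d * Nat.card (fx (y ^ ℓ ^ e)) ≤ Nat.card V := by
  haveI := finite_aut (V := V)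
  haveI : Fact (Nat.Prime 2) := ⟨Nat.prime_two⟩
  let P := SemidirectProduct V (MulAut V) (MonoidHom.id (MulAut V))
  haveI : Finite P := Finite.of_injective (fun x : P => (x.left, x.right))
    fun x y h => SemidirectProduct.ext (congrArg Prod.fst h) (congrArg Prod.snd h)
  let i : V →* P := SemidirectProduct.inl
  let j : MulAut V →* P := SemidirectProduct.inr
  have hij : ∀ (x : MulAut V) (v : V), j x * i v * (j x)⁻¹ = i (x v) := fun x v => by
    rw [← map_inv]
    exact (SemidirectProduct.inl_aut _ _).symm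
  have hii : Function.Injective i := SemidirectProduct.inl_injective
  set z := y ^ ℓ ^ e with hz
  have hjz : (j y) ^ ℓ ^ e = j z := by rw [hz, map_pow]
  have hz1 : z ≠ 1 := by
    intro h
    have := Nat.le_of_dvd (pow_pos hℓ.pos e) (hord ▸ orderOf_dvd_of_pow_eq_one h)
    exact absurd this (not_le.2 (Nat.pow_lt_pow_right hℓ.one_lt (Nat.lt_succ_self e)))
  have hV2 : IsPGroup 2 i.range := fun x => by
    obtain ⟨_, v, rfl⟩ := x
    exact ⟨1, Subtype.ext (by rw [pow_one, pow_two]; show i v * i v = 1; rw [← map_mul, h2, map_one])⟩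
  have hyn : j y ∈ Subgroup.normalizer (i.range : Set P) := by
    refine Subgroup.mem_normalizer_iff.2 fun w => ⟨?_, ?_⟩
    · rintro ⟨v, rfl⟩
      exact ⟨y v, (hij y v).symm⟩
    · rintro ⟨v, hv⟩
      refine ⟨y⁻¹ v, ?_⟩
      rw [← hij, map_inv, hv]
      simp [mul_assoc]
  obtain ⟨k, hk0, hk, hdvd⟩ := LocalEven61.dvd_pow_relIndex_sub_one hℓ hℓ2 i.range hV2 (j y) hyn
    (by rw [orderOf_injective j SemidirectProduct.inr_injective, hord]) (fun hc => hz1 (MulEquiv.ext fun v => hii (by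
      rw [hjz] at hc
      rw [← hij, MulAut.one_apply, ← Subgroup.mem_centralizer_iff.1 hc (i v) ⟨v, rfl⟩,
        mul_inv_cancel_right])))
  rw [hjz] at hk
  have e1 : i.range ⊓ Subgroup.centralizer ({j z} : Set P) = (fx z).map i := by
    ext w
    constructor
    · rintro ⟨⟨v, rfl⟩, hw⟩
      refine ⟨v, mem_fx.2 (hii ?_), rfl⟩
      rw [← hij, ← Subgroup.mem_centralizer_singleton_iff.1 hw, mul_inv_cancel_right]
    · rintro ⟨v, hv, rfl⟩
      refine ⟨⟨v, rfl⟩, Subgroup.mem_centralizer_singleton_iff.2 (Eq.symm ?_)⟩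
      exact mul_inv_eq_iff_eq_mul.1 (by rw [hij, mem_fx.1 hv])
  rw [e1] at hk
  have e3 := Subgroup.relIndex_mul_relIndex (⊥ : Subgroup P) ((fx z).map i) i.range bot_le
    (Subgroup.map_le_range i _)
  rw [Subgroup.relIndex_bot_left, Subgroup.relIndex_bot_left, hk,
    Subgroup.card_map_of_injective hii, MonoidHom.range_eq_map, Subgroup.card_map_of_injective hii,
    Subgroup.card_top] at e3
  rw [← e3, mul_comm]
  exact Nat.mul_le_mul_left _ (Nat.pow_le_pow_right two_pos (hprim k hk0 hdvd))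

end Cfsg.Agent.T51.Bnd
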