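import Cfsg.Agent.T51.FacGenBasic
import Cfsg.Agent.Lib.Coprime.Generation

/-!
Elementary abelian groups of automorphisms of a group of exponent two: the bound
`|A|² |C_V(A)| ≤ |V|`. A minimal violation centralizes every invariant subgroup of odd order.
-/

set_option autoImplicit false
set_option linter.unusedVariables false
set_option linter.unusedSectionVars false
set_option linter.style.haveILetI false

namespace Cfsg.Agent.T51.Bnd

open QOff Equiv

universe u

variable {V : Type u} [CommGroup V]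

/-- The bound. -/
def Bound (A : Subgroup (MulAut V)) : Prop :=
  Nat.card A ^ 2 * Nat.card (fixSub A) ≤ Nat.card V

/-- The fixed points of one automorphism. -/
abbrev fx (a : MulAut V) : Subgroup V := fixSub (Subgroup.zpowers a)

theorem mem_fx {a : MulAut V} {v : V} : v ∈ fx a ↔ a v = v := by
  constructor
  · intro h
    exact h a (Subgroup.mem_zpowers a)
  · intro h b hb
    obtain ⟨k, rfl⟩ := Subgroup.mem_zpowers_iff.1 hb
    induction k using Int.induction_on with
    | zero => simp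
    | succ k ih => rw [zpow_add_one, MulAut.mul_apply, h, ih (Subgroup.zpow_mem_zpowers _ _)]
    | pred k ih =>
      rw [zpow_sub_one, MulAut.mul_apply]
      conv_lhs => rw [← h, MulAut.inv_apply_self]
      exact ih (Subgroup.zpow_mem_zpowers _ _)

theorem finite_aut [Finite V] : Finite (MulAut V) :=
  Finite.of_injective (fun e : MulAut V => (e : V → V)) DFunLike.coe_injective

theorem isPGroup_two (h2 : ∀ v : V, v * v = 1) : IsPGroup 2 V :=
  fun v => ⟨1, by rw [pow_one, pow_two, h2]⟩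

theorem bound_bot [Finite V] : Bound (⊥ : Subgroup (MulAut V)) := by
  show Nat.card (⊥ : Subgroup (MulAut V)) ^ 2 * _ ≤ _
  rw [Subgroup.card_bot, one_pow, one_mul]
  exact Subgroup.card_le_card_group _

variable [Finite V]

/-- An element of prime order with many fixed points. -/
theorem eq_one_of_prime (h2 : ∀ v : V, v * v = 1) {p : ℕ} [hp : Fact p.Prime] (hp2 : p ≠ 2)
    (hp3 : p ≠ 3) {y : MulAut V} (hy : y ^ p = 1) {F : Subgroup V} (hF : ∀ v ∈ F, y v = v)
    (hle : Nat.card V ≤ 4 * Nat.card F) : y = 1 := by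
  haveI := finite_aut (V := V)
  haveI : Fact (Nat.Prime 2) := ⟨Nat.prime_two⟩
  have hyp : IsPGroup p (Subgroup.zpowers y) := by
    intro g
    obtain ⟨k, hk⟩ := Subgroup.mem_zpowers_iff.1 g.2
    refine ⟨1, Subtype.ext ?_⟩
    rw [pow_one, SubmonoidClass.coe_pow, ← hk, ← zpow_natCast, ← zpow_mul, mul_comm, zpow_mul,
      zpow_natCast, hy, one_zpow, Subgroup.coe_one]
  have hmod := hyp.card_modEq_card_fixedPoints V
  have e : Nat.card (MulAction.fixedPoints (Subgroup.zpowers y) V) = Nat.card (fx y) :=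
    Nat.card_congr (Equiv.setCongr (Set.ext fun v =>
      ⟨fun h b hb => h ⟨b, hb⟩, fun h b => h b b.2⟩))
  rw [e] at hmod
  obtain ⟨i, hi⟩ := IsPGroup.iff_card.1 (isPGroup_two h2)
  obtain ⟨j, hj⟩ := IsPGroup.iff_card.1 ((isPGroup_two h2).to_subgroup (fx y))
  have hle' : Nat.card V ≤ 4 * Nat.card (fx y) :=
    hle.trans (Nat.mul_le_mul_left _ (Subgroup.card_le_of_le fun v hv => mem_fx.2 (hF v hv)))
  have hji : j ≤ i :=
    (Nat.pow_le_pow_iff_right (by norm_num : 1 < 2)).1 (hi ▸ hj ▸ Subgroup.card_le_card_group (fx y))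
  have hij : i ≤ j + 2 := by
    refine (Nat.pow_le_pow_iff_right (by norm_num : 1 < 2)).1 ?_
    rw [pow_add, ← hi, ← hj]
    omega
  rw [hi, hj] at hmod
  obtain ⟨d, hd⟩ := Nat.exists_eq_add_of_le hji
  have hdvd : p ∣ 2 ^ j * (2 ^ d - 1) := by
    rw [Nat.mul_sub, mul_one, ← pow_add, ← hd]
    exact (Nat.modEq_iff_dvd' (Nat.pow_le_pow_right (by norm_num) hji)).1 hmod.symm
  have hcop : Nat.Coprime p (2 ^ j) :=
    Nat.Coprime.pow_right _ ((Nat.coprime_primes hp.out Nat.prime_two).2 hp2)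
  have hd' := hcop.dvd_of_dvd_mul_left hdvd
  have hd2 : d ≤ 2 := by omega
  interval_cases d
  · refine MulEquiv.ext fun v => mem_fx.1 ?_
    rw [Subgroup.eq_top_of_card_eq (fx y) (by rw [hi, hj, hd, add_zero])]
    exact Subgroup.mem_top v
  · exact absurd (Nat.le_of_dvd (by norm_num) hd') (not_le.2 hp.out.one_lt)
  · exact absurd ((Nat.prime_dvd_prime_iff_eq hp.out Nat.prime_three).1 (by simpa using hd')) hp3

/-- An inverted element of odd order of an involution with a fixed hyperplane. -/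
theorem inverted_small (h2 : ∀ v : V, v * v = 1) {X : Subgroup (MulAut V)}
    (hS3 : ¬ Cfsg.Involves (Perm (Fin 3)) ↥X) {a x : MulAut V} (ha : a ∈ X) (hx : x ∈ X)
    (ha2 : a * a = 1) (hodd : Odd (orderOf x)) (hax : a * x * a⁻¹ = x⁻¹)
    (hC : Nat.card V ≤ 2 * Nat.card (fx a)) : x = 1 := by
  haveI := finite_aut (V := V)
  by_contra hx1
  set n := orderOf x with hn
  set p := n.minFac with hp
  have hn1 : n ≠ 1 := fun h => hx1 (orderOf_eq_one_iff.1 h)
  haveI hpp : Fact p.Prime := ⟨Nat.minFac_prime hn1⟩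
  have hp2 : p ≠ 2 := fun h => by
    have := Nat.minFac_dvd n
    rw [← hp, h] at this
    exact Nat.not_even_iff_odd.2 hodd (even_iff_two_dvd.2 this)
  set y := x ^ (n / p) with hy
  have hyo : orderOf y = p := orderOf_pow_orderOf_div (orderOf_pos x).ne' (Nat.minFac_dvd n)
  have hyX : y ∈ X := X.pow_mem hx _
  have hay : a * y * a⁻¹ = y⁻¹ := by rw [hy, ← conj_pow, hax, inv_pow]
  by_cases hp3 : p = 3
  · refine hS3 (involves_perm_three_of_pair (a := ⟨a, ha⟩) (x := ⟨y, hyX⟩) ?_ ?_ (Subtype.ext hay))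
    · rw [← Subgroup.orderOf_coe]
      refine orderOf_eq_prime (by rw [pow_two]; exact ha2) fun h1 => ?_
      rw [show a = 1 from h1, one_mul, inv_one, mul_one] at hay
      have h3 : y ^ 2 = 1 := by rw [pow_two]; exact mul_eq_one_iff_eq_inv.2 hay
      have := orderOf_dvd_of_pow_eq_one h3
      rw [hyo, hp3] at this
      omega
    · rw [← Subgroup.orderOf_coe]
      exact hyo.trans hp3
  set b := y * a * y⁻¹ with hb
  have hab : a * b = (y * y)⁻¹ := by
    rw [hb, mul_inv_rev, show a * (y * a * y⁻¹) = (a * y * a⁻¹) * (a * a) * y⁻¹ by group, hay, ha2,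
      mul_one]
  have hF : ∀ v ∈ fx a ⊓ fx b, (y * y) v = v := by
    rintro v ⟨h1, h3⟩
    have e : (y * y)⁻¹ v = v := by
      rw [← hab, MulAut.mul_apply, mem_fx.1 h3, mem_fx.1 h1]
    conv_lhs => rw [← e]
    exact MulAut.apply_inv_self V _ _
  have hcb : Nat.card (fx b) = Nat.card (fx a) := by
    rw [← card_fixSub_cj y (Subgroup.zpowers a)]
    congr 3
    rw [QOff.cj, MonoidHom.map_zpowers]
    rfl
  have hcard : Nat.card V ≤ 4 * Nat.card ↥(fx a ⊓ fx b) := by
    have e := Thompson.card_sup_mul_card_inf (H := fx a) (K := fx b)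
      Subgroup.le_normalizer_of_normal
    rw [hcb] at e
    have h4 : Nat.card V * Nat.card V ≤ Nat.card V * (4 * Nat.card ↥(fx a ⊓ fx b)) := by
      calc Nat.card V * Nat.card V ≤ 2 * Nat.card (fx a) * (2 * Nat.card (fx a)) :=
            Nat.mul_le_mul hC hC
        _ = 4 * (Nat.card ↥(fx a ⊔ fx b) * Nat.card ↥(fx a ⊓ fx b)) := by rw [e]; ring
        _ ≤ 4 * (Nat.card V * Nat.card ↥(fx a ⊓ fx b)) :=
            Nat.mul_le_mul_left _ (Nat.mul_le_mul_right _ (Subgroup.card_le_card_group _))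
        _ = _ := by ring
    exact Nat.le_of_mul_le_mul_left h4 Nat.card_pos
  have hy1 : y * y = 1 := eq_one_of_prime h2 hp2 hp3
    (by rw [← pow_two, ← pow_mul, mul_comm, pow_mul, ← hyo, pow_orderOf_eq_one, one_pow]) hF hcard
  have := orderOf_dvd_of_pow_eq_one (n := 2) (by rw [pow_two]; exact hy1 : y ^ 2 = 1)
  rw [hyo] at this
  exact hp2 ((Nat.prime_dvd_prime_iff_eq hpp.out Nat.prime_two).1 this)

/-- The same on an invariant subgroup. -/
theorem inverted_small_sub (h2 : ∀ v : V, v * v = 1) {X : Subgroup (MulAut V)}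
    (hS3 : ¬ Cfsg.Involves (Perm (Fin 3)) ↥X) {a x : MulAut V} (ha : a ∈ X) (hx : x ∈ X)
    (ha2 : a * a = 1) (hodd : Odd (orderOf x)) (hax : a * x * a⁻¹ = x⁻¹) {R : Subgroup V}
    (haR : ∀ v ∈ R, a v ∈ R) (hxR : ∀ v ∈ R, x v ∈ R)
    (hC : Nat.card R ≤ 2 * Nat.card ↥(R ⊓ fx a)) : ∀ v ∈ R, x v = v := by
  haveI := finite_aut (V := V)
  let St : Subgroup (MulAut V) :=
    { carrier := {z | ∀ v, z v ∈ R ↔ v ∈ R}
      one_mem' := fun v => Iff.rfl
      mul_mem' := fun {z w} hz hw v => (hz (w v)).trans (hw v)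
      inv_mem' := fun {z} hz v => by
        have h := hz (z⁻¹ v)
        rw [MulAut.apply_inv_self] at h
        exact h.symm }
  have hst : ∀ z : MulAut V, (∀ v ∈ R, z v ∈ R) → z ∈ St := by
    intro z hz v
    refine ⟨fun h => ?_, hz v⟩
    have e : R.map z.toMonoidHom = R := Subgroup.eq_of_le_of_card_ge
      (Subgroup.map_le_iff_le_comap.2 hz)
      (Subgroup.card_map_of_injective (f := z.toMonoidHom) z.injective).ge
    rw [← e] at h
    obtain ⟨w, hw, hwe⟩ := h
    rwa [← z.injective hwe]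
  set Y := X ⊓ St with hY
  have hinv : ∀ z ∈ Y, ∀ v ∈ R, z v ∈ R := fun z hz v hv => (hz.2 v).2 hv
  set q := subAct hinv with hq
  have hS3' : ¬ Cfsg.Involves (Perm (Fin 3)) ↥q.range := fun h =>
    hS3 (involves_of_le inf_le_left (involves_of_range q h))
  have haY : a ∈ Y := ⟨ha, hst a haR⟩
  have hxY : x ∈ Y := ⟨hx, hst x hxR⟩
  have hfix : Nat.card ↥(R ⊓ fx a) ≤ Nat.card (fx (q ⟨a, haY⟩)) := by
    refine (Subgroup.card_le_of_le (K := (fx (q ⟨a, haY⟩)).map R.subtype) ?_).trans
      (Subgroup.card_map_of_injective R.subtype_injective).le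
    rintro v ⟨hvR, hv⟩
    exact ⟨⟨v, hvR⟩, mem_fx.2 (Subtype.ext (mem_fx.1 hv)), rfl⟩
  have h1 := inverted_small (V := ↥R) (fun r => Subtype.ext (h2 r)) hS3' (a := q ⟨a, haY⟩)
    (x := q ⟨x, hxY⟩) ⟨_, rfl⟩ ⟨_, rfl⟩ ?_ ?_ ?_ (hC.trans (Nat.mul_le_mul_left _ hfix))
  · intro v hv
    exact congrArg Subtype.val (DFunLike.congr_fun h1 (⟨v, hv⟩ : R))
  · rw [← map_mul, show (⟨a, haY⟩ : ↥Y) * ⟨a, haY⟩ = 1 from Subtype.ext ha2, map_one]
  · refine Odd.of_dvd_nat hodd ?_
    rw [← Subgroup.orderOf_mk x hxY]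
    exact orderOf_map_dvd q _
  · rw [← map_inv, ← map_mul, ← map_mul, ← map_inv]
    exact congrArg q (Subtype.ext hax)

/-- An element of odd order fixing the fixed points of a 2-group normalizing it is trivial. -/
theorem eq_one_of_fix (h2 : ∀ v : V, v * v = 1) {A : Subgroup (MulAut V)} (hA : IsPGroup 2 A)
    {x : MulAut V} (hodd : Odd (orderOf x))
    (hAx : A ≤ Subgroup.normalizer (Subgroup.zpowers x : Set (MulAut V)))
    (hfix : ∀ v ∈ fixSub A, x v = v) : x = 1 := by
  classical
  haveI := finite_aut (V := V)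
  haveI : Fact (Nat.Prime 2) := ⟨Nat.prime_two⟩
  haveI : Fintype ↥(Subgroup.zpowers x) := Fintype.ofFinite _
  let N : V →* V :=
    { toFun := fun v => ∏ y : ↥(Subgroup.zpowers x), (y : MulAut V) v
      map_one' := by simp
      map_mul' := fun v w => by simp [Finset.prod_mul_distrib] }
  have hN : ∀ v, N v = ∏ y : ↥(Subgroup.zpowers x), (y : MulAut V) v := fun v => rfl
  have hxN : ∀ v, N (x v) = N v := by
    intro v
    rw [hN, hN]
    refine Fintype.prod_equiv (Equiv.mulRight ⟨x, Subgroup.mem_zpowers x⟩) _ _ fun y => ?_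
    rfl
  have haN : ∀ a ∈ A, ∀ v, N (a v) = a (N v) := by
    intro a ha v
    rw [hN, hN, map_prod]
    have hn := Subgroup.mem_normalizer_iff.1 (A.inv_mem ha |> fun h => hAx h)
    refine Fintype.prod_bijective
      (fun y : ↥(Subgroup.zpowers x) => (⟨a⁻¹ * y * a⁻¹⁻¹, (hn y).1 y.2⟩ : ↥(Subgroup.zpowers x)))
      ?_ _ _ fun y => ?_
    · refine (Finite.injective_iff_bijective).1 fun y z h => Subtype.ext ?_
      exact mul_left_cancel (mul_right_cancel (Subtype.ext_iff.1 h))
    · show (y : MulAut V) (a v) = a ((a⁻¹ * (y : MulAut V) * a⁻¹⁻¹) v)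
      rw [inv_inv, MulAut.mul_apply, MulAut.mul_apply, MulAut.apply_inv_self]
  have hfixN : ∀ v, x v = v → N v = v := by
    intro v hv
    rw [hN, Finset.prod_congr rfl (fun (y : ↥(Subgroup.zpowers x)) _ =>
      (show (y : MulAut V) v = v from mem_fx.2 hv (y : MulAut V) y.2)),
      Finset.prod_const, Finset.card_univ, Fintype.card_eq_nat_card, Nat.card_zpowers]
    obtain ⟨k, hk⟩ := hodd
    rw [hk, pow_succ, pow_mul, pow_two, h2, one_pow, one_mul]
  set W := N.ker with hW
  have hAW : ∀ a ∈ A, ∀ w ∈ W, a w ∈ W := by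
    intro a ha w hw
    show N (a w) = 1
    rw [haN a ha, show N w = 1 from hw, map_one]
  by_cases hWb : W = ⊥
  · refine MulEquiv.ext fun v => ?_
    have h1 : x v * v ∈ W := by
      show N (x v * v) = 1
      rw [map_mul, hxN, ← map_mul, h2, map_one]
    rw [hWb, Subgroup.mem_bot] at h1
    rw [MulAut.one_apply]
    exact (QOff.mul_eq_one_iff_eq h2).1 h1
  letI : MulAction ↥A ↥W :=
    { smul := fun a w => ⟨(a : MulAut V) w, hAW a a.2 w w.2⟩
      one_smul := fun w => Subtype.ext rfl
      mul_smul := fun a b w => Subtype.ext rfl }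
  have hdvd : 2 ∣ Nat.card W := by
    obtain ⟨k, hk⟩ := IsPGroup.iff_card.1 ((isPGroup_two h2).to_subgroup W)
    rcases Nat.eq_zero_or_pos k with rfl | hk0
    · exact absurd (Subgroup.eq_bot_of_card_eq W (by rw [hk, pow_zero])) hWb
    · exact hk ▸ dvd_pow_self 2 hk0.ne'
  have h1W : (1 : ↥W) ∈ MulAction.fixedPoints ↥A ↥W := fun a => Subtype.ext (map_one (a : MulAut V))
  obtain ⟨w, hw, hw1⟩ := hA.exists_fixed_point_of_prime_dvd_card_of_fixed_point ↥W hdvd h1W
  refine absurd (Subtype.ext ?_) hw1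
  have hxw : x (w : V) = w := hfix w fun a ha => congrArg Subtype.val (hw ⟨a, ha⟩)
  have : N (w : V) = 1 := w.2
  rw [hfixN _ hxw] at this
  exact this.symm

variable {X A : Subgroup (MulAut V)}

/-- A subgroup of index two of a minimal violation. -/
theorem eq_one_of_minimal (h2 : ∀ v : V, v * v = 1) (hS3 : ¬ Cfsg.Involves (Perm (Fin 3)) ↥X)
    (hAX : A ≤ X) (hA : ∀ a ∈ A, a * a = 1) (hmin : ∀ B < A, Bound B) (hnb : ¬ Bound A)
    {B : Subgroup (MulAut V)} (hBA : B ≤ A) {a : MulAut V} (ha : a ∈ A) (haB : a ∉ B)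
    (hcard : Nat.card A ≤ 2 * Nat.card B) {x : MulAut V} (hx : x ∈ X) (hodd : Odd (orderOf x))
    (hxB : ∀ b ∈ B, b * x = x * b) (hax : a * x * a⁻¹ = x⁻¹) : x = 1 := by
  haveI := finite_aut (V := V)
  haveI : Fact (Nat.Prime 2) := ⟨Nat.prime_two⟩
  have hlt : B < A := lt_of_le_of_ne hBA fun e => haB (e ▸ ha)
  have hle : B ⊔ Subgroup.zpowers a ≤ A := sup_le hBA (Subgroup.zpowers_le.2 ha)
  have hA2 : IsPGroup 2 A := fun g => ⟨1, Subtype.ext (by
    rw [pow_one, pow_two]; exact hA g g.2)⟩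
  have hsup : B ⊔ Subgroup.zpowers a = A := by
    refine Subgroup.eq_of_le_of_card_ge hle ?_
    obtain ⟨i, hi⟩ := IsPGroup.iff_card.1 (hA2.to_le hBA)
    obtain ⟨j, hj⟩ := IsPGroup.iff_card.1 (hA2.to_le hle)
    have h3 : Nat.card B < Nat.card ↥(B ⊔ Subgroup.zpowers a) := by
      by_contra hge
      exact haB ((Subgroup.eq_of_le_of_card_ge le_sup_left (not_lt.1 hge)).ge
        (Subgroup.mem_sup_right (Subgroup.mem_zpowers a)))
    refine hcard.trans ?_
    rw [hi, hj] at h3 ⊢
    rw [← pow_succ']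
    exact Nat.pow_le_pow_right (by norm_num) ((Nat.pow_lt_pow_iff_right (by norm_num)).1 h3)
  set R := fixSub B with hR
  have hfix : fixSub A = R ⊓ fx a := by
    refine le_antisymm (le_inf (fixSub_anti hBA) (fixSub_anti (Subgroup.zpowers_le.2 ha))) ?_
    rintro v ⟨h1, h3⟩
    rw [← hsup]
    exact fixSub_sup h1 h3
  have hRC : Nat.card R ≤ 2 * Nat.card (fixSub A) := by
    obtain ⟨i, hi⟩ := IsPGroup.iff_card.1 ((isPGroup_two h2).to_subgroup R)
    obtain ⟨j, hj⟩ := IsPGroup.iff_card.1 ((isPGroup_two h2).to_subgroup (fixSub A))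
    have h1 := hmin B hlt
    have h3 : Nat.card V < Nat.card A ^ 2 * Nat.card (fixSub A) := not_le.1 hnb
    have h4 : Nat.card B ^ 2 * Nat.card R < Nat.card B ^ 2 * (4 * Nat.card (fixSub A)) :=
      calc Nat.card B ^ 2 * Nat.card R ≤ Nat.card V := h1
        _ < Nat.card A ^ 2 * Nat.card (fixSub A) := h3
        _ ≤ (2 * Nat.card B) ^ 2 * Nat.card (fixSub A) :=
            Nat.mul_le_mul_right _ (Nat.pow_le_pow_left hcard 2)
        _ = _ := by ring
    have h5 := Nat.lt_of_mul_lt_mul_left h4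
    rw [hi, hj] at h5 ⊢
    rw [show 4 * 2 ^ j = 2 ^ (j + 2) by ring, Nat.pow_lt_pow_iff_right (by norm_num)] at h5
    rw [← pow_succ']
    exact Nat.pow_le_pow_right (by norm_num) (by omega)
  have hcomm := FacGen.isMulCommutative_of_sq hA
  have hinvR : ∀ z : MulAut V, (∀ b ∈ B, b * z = z * b) → ∀ v ∈ R, z v ∈ R := by
    intro z hz v hv b hb
    rw [← MulAut.mul_apply, hz b hb, MulAut.mul_apply, hv b hb]
  have hxR := inverted_small_sub h2 hS3 (hAX ha) hx (hA a ha) hodd hax
    (hinvR a fun b hb => hcomm b (hBA hb) a ha) (hinvR x hxB) (hfix ▸ hRC)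
  refine eq_one_of_fix h2 hA2 hodd ?_ fun v hv => hxR v (fixSub_anti hBA hv)
  rw [← hsup]
  refine sup_le (fun b hb => ?_) (Subgroup.zpowers_le.2 ?_)
  · refine Subgroup.centralizer_le_normalizer _ (Subgroup.mem_centralizer_iff.2 fun z hz => ?_)
    obtain ⟨k, rfl⟩ := Subgroup.mem_zpowers_iff.1 hz
    exact ((show Commute b x from hxB b hb).zpow_right k).symm
  · refine FacGen.mem_normalizer_of_cj ?_
    rw [QOff.cj, MonoidHom.map_zpowers, show (MulAut.conj a).toMonoidHom x = x⁻¹ from hax,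
      Subgroup.zpowers_inv]

/-- A minimal violation centralizes every invariant subgroup of odd order. -/
theorem centralizes_odd (h2 : ∀ v : V, v * v = 1) (hS3 : ¬ Cfsg.Involves (Perm (Fin 3)) ↥X)
    (hAX : A ≤ X) (hA : ∀ a ∈ A, a * a = 1) (hmin : ∀ B < A, Bound B) (hnb : ¬ Bound A)
    {N : Subgroup (MulAut V)} (hNX : N ≤ X) (hN : Odd (Nat.card N))
    (hAN : A ≤ Subgroup.normalizer (N : Set (MulAut V))) :
    N ≤ Subgroup.centralizer (A : Set (MulAut V)) := by
  haveI := finite_aut (V := V)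
  haveI : Fact (Nat.Prime 2) := ⟨Nat.prime_two⟩
  have hcomm := FacGen.isMulCommutative_of_sq hA
  suffices key : ∀ (k : ℕ) (B : Subgroup (MulAut V)), B ≤ A → Nat.card A ≤ Nat.card B + k →
      N ⊓ Subgroup.centralizer (B : Set (MulAut V)) ≤ Subgroup.centralizer (A : Set (MulAut V)) by
    intro x hx
    refine key (Nat.card A) ⊥ bot_le le_add_self ⟨hx, Subgroup.mem_centralizer_iff.2 ?_⟩
    intro b hb
    rw [SetLike.mem_coe, Subgroup.mem_bot] at hb
    subst hb
    rw [one_mul, mul_one]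
  intro k
  induction k using Nat.strong_induction_on with
  | _ k ih =>
    intro B hBA hk
    by_cases hBA' : B = A
    · rw [hBA']
      exact inf_le_right
    obtain ⟨a, ha, haB⟩ := SetLike.exists_of_lt (lt_of_le_of_ne hBA hBA')
    set B1 := B ⊔ Subgroup.zpowers a with hB1
    have hB1A : B1 ≤ A := sup_le hBA (Subgroup.zpowers_le.2 ha)
    have hbig : ∀ e ∈ A, e ∉ B → ∀ x ∈ N, (∀ b ∈ B, b * x = x * b) → e * x = x * e →
        x ∈ Subgroup.centralizer (A : Set (MulAut V)) := by
      intro e he heB x hx hxB hxe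
      have hlt : B < B ⊔ Subgroup.zpowers e := lt_of_le_of_ne le_sup_left fun h =>
        heB (h.ge (Subgroup.mem_sup_right (Subgroup.mem_zpowers e)))
      have hc : Nat.card B < Nat.card ↥(B ⊔ Subgroup.zpowers e) := by
        by_contra hge
        exact hlt.ne (Subgroup.eq_of_le_of_card_ge hlt.le (not_lt.1 hge))
      have hle : B ⊔ Subgroup.zpowers e ≤ A := sup_le hBA (Subgroup.zpowers_le.2 he)
      have hc' := Subgroup.card_le_of_le hle
      refine ih (Nat.card A - Nat.card ↥(B ⊔ Subgroup.zpowers e)) (by omega) _ hle (by omega)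
        ⟨hx, ?_⟩
      have hxc : x ∈ Subgroup.centralizer ((B ⊔ Subgroup.zpowers e : Subgroup (MulAut V)) : Set (MulAut V)) := by
        rw [← Subgroup.zpowers_le, Subgroup.le_centralizer_iff]
        refine sup_le (fun b hb => ?_) (Subgroup.zpowers_le.2 ?_)
        · exact Subgroup.mem_centralizer_iff.2 fun z hz => by
            obtain ⟨j, rfl⟩ := Subgroup.mem_zpowers_iff.1 hz
            exact ((show Commute b x from hxB b hb).zpow_right j).symm
        · exact Subgroup.mem_centralizer_iff.2 fun z hz => by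
            obtain ⟨j, rfl⟩ := Subgroup.mem_zpowers_iff.1 hz
            exact ((show Commute e x from hxe).zpow_right j).symm
      exact hxc
    by_cases hhalf : B1 = A
    · -- index two: use the inverted elements
      rintro x ⟨hx, hxB⟩
      have hxB' : ∀ b ∈ B, b * x = x * b := fun b hb => Subgroup.mem_centralizer_iff.1 hxB b hb
      refine hbig a ha haB x hx hxB' ?_
      set y := x⁻¹ * (a * x * a⁻¹) with hy
      have hai : a⁻¹ = a := inv_eq_of_mul_eq_one_right (hA a ha)
      have hyN : y ∈ N := N.mul_mem (N.inv_mem hx) ((Subgroup.mem_normalizer_iff.1 (hAN ha) x).1 hx)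
      have hy1 : y = 1 := by
        refine eq_one_of_minimal h2 hS3 hAX hA hmin hnb hBA ha haB ?_ (hNX hyN)
          (Odd.of_dvd_nat hN (Subgroup.orderOf_dvd_natCard N hyN)) (fun b hb => ?_) ?_
        · rw [← hhalf, hB1]
          have e : Nat.card ↥(B ⊔ Subgroup.zpowers a) ≤ Nat.card B * Nat.card (Subgroup.zpowers a) := by
            rw [← Thompson.card_sup_mul_card_inf (H := B) (K := Subgroup.zpowers a) ?_]
            · exact Nat.le_mul_of_pos_right _ Nat.card_pos
            · intro b hb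
              try simp only at hb
              refine Subgroup.centralizer_le_normalizer _ (Subgroup.mem_centralizer_iff.2 fun z hz => ?_)
              first
              | exact hcomm z (Subgroup.zpowers_le.2 ha hz) b (hBA hb)
              | exact hcomm z (hBA hz) b (Subgroup.zpowers_le.2 ha hb)
          refine e.trans (le_of_le_of_eq (Nat.mul_le_mul_left _ ?_) (mul_comm _ _))
          rw [Nat.card_zpowers]
          exact Nat.le_of_dvd two_pos (orderOf_dvd_of_pow_eq_one (by rw [pow_two]; exact hA a ha))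
        · have hba : Commute b a := hcomm b (hBA hb) a ha
          exact ((show Commute b x from hxB' b hb).inv_right.mul_right
            ((hba.mul_right (hxB' b hb)).mul_right hba.inv_right)).eq
        · rw [hy, mul_inv_rev, mul_inv_rev, mul_inv_rev, inv_inv, inv_inv, hai]
          calc a * (x⁻¹ * (a * x * a)) * a = a * x⁻¹ * a * x * (a * a) := by group
            _ = a * (x⁻¹ * a) * x := by rw [hA a ha, mul_one]; group
            _ = _ := by group
      rw [hy, inv_mul_eq_one] at hy1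
      exact (mul_inv_eq_iff_eq_mul.1 hy1.symm)
    · -- index at least four: coprime generation by a four-group
      obtain ⟨b, hb, hbB1⟩ := SetLike.exists_of_lt (lt_of_le_of_ne hB1A hhalf)
      set Q := Subgroup.zpowers a ⊔ Subgroup.zpowers b with hQ
      have hQA : Q ≤ A := sup_le (Subgroup.zpowers_le.2 ha) (Subgroup.zpowers_le.2 hb)
      haveI : IsMulCommutative Q :=
        ⟨⟨fun s t => Subtype.ext (hcomm s (hQA s.2) t (hQA t.2))⟩⟩
      have haQ : a ∈ Q := Subgroup.mem_sup_left (Subgroup.mem_zpowers a)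
      have hbQ : b ∈ Q := Subgroup.mem_sup_right (Subgroup.mem_zpowers b)
      have hcyc : ¬ IsCyclic Q := by
        intro hc
        obtain ⟨g, hg⟩ := hc.exists_generator
        have hg2 : g * g = 1 := Subtype.ext (hA g (hQA g.2))
        have hpow : ∀ z : Q, z = 1 ∨ z = g := by
          intro z
          obtain ⟨j, rfl⟩ := Subgroup.mem_zpowers_iff.1 (hg z)
          rcases Int.even_or_odd' j with ⟨i, hi | hi⟩
          · left; rw [hi, zpow_mul, zpow_two, hg2, one_zpow]
          · right; rw [hi, zpow_add_one, zpow_mul, zpow_two, hg2, one_zpow, one_mul]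
        rcases hpow ⟨a, haQ⟩ with h | h
        · have e : a = 1 := congrArg Subtype.val h
          exact haB (e.symm ▸ B.one_mem)
        rcases hpow ⟨b, hbQ⟩ with h' | h'
        · have e : b = 1 := congrArg Subtype.val h'
          exact hbB1 (e.symm ▸ B1.one_mem)
        · have e : b = a := congrArg Subtype.val (h'.trans h.symm)
          exact hbB1 (e.symm ▸ Subgroup.mem_sup_right (Subgroup.mem_zpowers a))
      set K := N ⊓ Subgroup.centralizer (B : Set (MulAut V)) with hK
      have hQK : Q ≤ Subgroup.normalizer (K : Set (MulAut V)) := by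
        refine hQA.trans fun e he => ?_
        refine Subgroup.inf_normalizer_le_normalizer_inf ⟨hAN he, Subgroup.le_normalizer ?_⟩
        exact Subgroup.mem_centralizer_iff.2 fun z hz => hcomm z (hBA hz) e he
      have hcop : (Nat.card Q).Coprime (Nat.card K) := by
        have hA2 : IsPGroup 2 A := fun g => ⟨1, Subtype.ext (by
          rw [pow_one, pow_two]; exact hA g g.2)⟩
        obtain ⟨i, hi⟩ := IsPGroup.iff_card.1 (hA2.to_le hQA)
        rw [hi]
        exact Nat.Coprime.pow_left _ (Nat.coprime_two_left.2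
          (Odd.of_dvd_nat hN (Subgroup.card_dvd_of_le inf_le_left)))
      refine Coprime.le_of_centralizer_le Q K _ hcyc hQK hcop fun e he he1 => ?_
      rintro x ⟨⟨hx, hxB⟩, hxe⟩
      refine hbig e (hQA he) (fun heB => ?_) x hx
        (fun z hz => Subgroup.mem_centralizer_iff.1 hxB z hz)
        (Subgroup.mem_centralizer_singleton_iff.1 hxe).symm
      obtain ⟨s, hs, t, ht, rfl⟩ : ∃ s ∈ Subgroup.zpowers a, ∃ t ∈ Subgroup.zpowers b, s * t = e := by
        have hn : Subgroup.zpowers a ≤ Subgroup.normalizer (Subgroup.zpowers b : Set (MulAut V)) :=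
          fun s hs => Subgroup.centralizer_le_normalizer _ (Subgroup.mem_centralizer_iff.2 fun z hz =>
            hcomm z (Subgroup.zpowers_le.2 hb hz) s (Subgroup.zpowers_le.2 ha hs))
        have : e ∈ ((Subgroup.zpowers a ⊔ Subgroup.zpowers b : Subgroup (MulAut V)) : Set (MulAut V)) := he
        rw [Subgroup.coe_mul_of_left_le_normalizer_right _ _ hn] at this
        exact this
      have htB1 : t ∈ B1 := by
        have h1 : s * t ∈ B1 := Subgroup.mem_sup_left heB
        exact (B1.mul_mem_cancel_left (Subgroup.mem_sup_right hs)).1 h1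
      obtain ⟨j, rfl⟩ := Subgroup.mem_zpowers_iff.1 ht
      rcases Int.even_or_odd' j with ⟨i, hi | hi⟩
      · rw [hi, zpow_mul, zpow_two, hA b hb, one_zpow, mul_one] at heB he1
        obtain ⟨l, rfl⟩ := Subgroup.mem_zpowers_iff.1 hs
        rcases Int.even_or_odd' l with ⟨r, hr | hr⟩
        · exact he1 (by rw [hr, zpow_mul, zpow_two, hA a ha, one_zpow])
        · rw [hr, zpow_add_one, zpow_mul, zpow_two, hA a ha, one_zpow, one_mul] at heB
          exact haB heB
      · rw [hi, zpow_add_one, zpow_mul, zpow_two, hA b hb, one_zpow, one_mul] at htB1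
        exact hbB1 htB1

end Cfsg.Agent.T51.Bnd
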