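import Cfsg.Agent.T51.BndPSL
import Cfsg.Agent.Lib.Components.GenFitting

/-!
The bound `|A|² |C_V(A)| ≤ |V|` for groups free of `S₃` whose composition factors are Suzuki
groups or `PSL₂(3^(2n+1))`.
-/

set_option autoImplicit false
set_option linter.unusedVariables false
set_option linter.unusedSectionVars false
set_option linter.style.haveILetI false

namespace Cfsg.Agent.T51.Bnd

open QOff Equiv

universe u

variable {V : Type u} [CommGroup V] [Finite V] {H X : Subgroup (MulAut V)} {Q : Type u} [Group Q]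
  {ψ : ↥H →* Q}

theorem Good.comp (hG : Good H ψ) {Q' : Type*} [Group Q'] (e : Q ≃* Q') :
    Good H (e.toMonoidHom.comp ψ) where
  surj := e.surjective.comp hG.surj
  ker := by
    rw [← hG.ker]
    ext z
    simp [MonoidHom.mem_ker]
  perfect := hG.perfect
  odd := hG.odd

/-- A group acting faithfully on `H`. -/
theorem bound_faithful [IsSimpleGroup Q] (hK : Cfsg.IsSuzukiOrPSL2OddPowerThree Q) (hG : Good H ψ)
    (h2 : ∀ v : V, v * v = 1) (hS3 : ¬ Cfsg.Involves (Perm (Fin 3)) ↥X) (hHX : H ≤ X) :
    ∀ A : Subgroup (MulAut V), A ≤ X → (∀ a ∈ A, a * a = 1) →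
      A ≤ Subgroup.normalizer (H : Set (MulAut V)) →
      A ⊓ Subgroup.centralizer (H : Set (MulAut V)) = ⊥ → Bound A := by
  haveI := finite_aut (V := V)
  intro A
  induction A using WellFoundedLT.induction with
  | _ A ih =>
    intro hAX hA hAH hC
    have hmin : ∀ B < A, Bound B := fun B hB => ih B hB (hB.le.trans hAX) (fun b hb => hA b (hB.le hb))
      (hB.le.trans hAH) (eq_bot_iff.2 ((inf_le_inf_right _ hB.le).trans hC.le))
    rcases hK with ⟨F, _, _, m, hm, hF, ⟨e⟩⟩ | ⟨F, _, _, n, hF, ⟨e⟩⟩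
    · exact bound_sz hm hF (hG.comp (e.trans (RankOne.SzBridge.szEquiv hF hm).symm)) h2 hA hAH hC
    · haveI : IsSimpleGroup (Matrix.ProjectiveSpecialLinearGroup (Fin 2) F) :=
        MulEquiv.isSimpleGroup e.symm
      exact bound_psl hF (hG.comp e) h2 hS3 hHX hAX hA hmin hAH hC

/-- A minimal violation normalizing `H` centralizes it. -/
theorem bound_of_normalized [IsSimpleGroup Q] (hK : Cfsg.IsSuzukiOrPSL2OddPowerThree Q)
    (hG : Good H ψ) (h2 : ∀ v : V, v * v = 1) (hS3 : ¬ Cfsg.Involves (Perm (Fin 3)) ↥X) (hHX : H ≤ X)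
    {A : Subgroup (MulAut V)} (hAX : A ≤ X) (hA : ∀ a ∈ A, a * a = 1) (hmin : ∀ B < A, Bound B)
    (hAH : A ≤ Subgroup.normalizer (H : Set (MulAut V)))
    (hnc : ¬ A ≤ Subgroup.centralizer (H : Set (MulAut V))) : Bound A := by
  haveI := finite_aut (V := V)
  haveI : Fact (Nat.Prime 2) := ⟨Nat.prime_two⟩
  set A1 := A ⊓ Subgroup.centralizer (H : Set (MulAut V)) with hA1
  have hlt : A1 < A := lt_of_le_of_ne inf_le_left fun h => hnc (h ▸ inf_le_right)
  set U := fixSub A1 with hU
  let St : Subgroup (MulAut V) :=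
    { carrier := {z | ∀ v, z v ∈ U ↔ v ∈ U}
      one_mem' := fun v => Iff.rfl
      mul_mem' := fun {z w} hz hw v => (hz (w v)).trans (hw v)
      inv_mem' := fun {z} hz v => by
        have h := hz (z⁻¹ v)
        rw [MulAut.apply_inv_self] at h
        exact h.symm }
  have hcs : ∀ z : MulAut V, (∀ b ∈ A1, b * z = z * b) → z ∈ St := by
    intro z hz v
    constructor
    · intro hv b hb
      refine z.injective ?_
      rw [← MulAut.mul_apply, ← hz b hb, MulAut.mul_apply, hv b hb]
    · intro hv b hb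
      rw [← MulAut.mul_apply, hz b hb, MulAut.mul_apply, hv b hb]
  have hcomm := FacGen.isMulCommutative_of_sq hA
  have hAS : A ≤ St := fun z hz => hcs z fun b hb => hcomm b hb.1 z hz
  have hHc : ∀ h ∈ H, ∀ b ∈ A1, b * h = h * b := fun h hh b hb =>
    (Subgroup.mem_centralizer_iff.1 hb.2 h hh).symm
  have hHS : H ≤ St := fun h hh => hcs h (hHc h hh)
  set Y := X ⊓ St with hY
  have hinv : ∀ z ∈ Y, ∀ v ∈ U, z v ∈ U := fun z hz v hv => (hz.2 v).2 hv
  set q := subAct hinv with hq
  have hS3' : ¬ Cfsg.Involves (Perm (Fin 3)) ↥q.range := fun h =>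
    hS3 (involves_of_le inf_le_left (involves_of_range q h))
  have hHY : H ≤ Y := le_inf hHX hHS
  have hAY : A ≤ Y := le_inf hAX hAS
  set qH := q.comp (Subgroup.inclusion hHY) with hqH
  have hfix : ∀ (z : MulAut V) (hz : z ∈ Y), q ⟨z, hz⟩ = 1 → ∀ v ∈ U, z v = v := fun z hz h v hv =>
    congrArg Subtype.val (DFunLike.congr_fun h (⟨v, hv⟩ : ↥U))
  have hqi : Function.Injective qH := by
    rw [← MonoidHom.ker_eq_bot_iff]
    refine hG.eq_bot_of_normal inferInstance ?_
    intro k
    obtain ⟨i, m, hm, hkm⟩ := Nat.exists_eq_two_pow_mul_odd (orderOf_pos k).ne'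
    refine ⟨i, ?_⟩
    set x := k ^ 2 ^ i with hx
    have hxo : orderOf x = m := by
      rw [hx, orderOf_pow_of_dvd (pow_ne_zero _ two_ne_zero) ⟨m, hkm⟩, hkm,
        Nat.mul_div_cancel_left _ (Nat.two_pow_pos i)]
    have hxo' : orderOf ((x : ↥H) : MulAut V) = m := by
      rw [Subgroup.orderOf_coe, Subgroup.orderOf_coe, hxo]
    have hA12 : IsPGroup 2 A1 := fun g => ⟨1, Subtype.ext (by
      rw [pow_one, pow_two]; exact hA g g.2.1)⟩
    have h1 : ((x : ↥H) : MulAut V) = 1 := by
      refine eq_one_of_fix h2 hA12 (hxo' ▸ hm) (fun b hb => ?_)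
        (hfix _ (hHY (x : ↥H).2) (x.2 : qH (x : ↥H) = 1))
      refine Subgroup.centralizer_le_normalizer _ (Subgroup.mem_centralizer_iff.2 fun z hz => ?_)
      obtain ⟨j, rfl⟩ := Subgroup.mem_zpowers_iff.1 hz
      exact ((show Commute b ((x : ↥H) : MulAut V) from hHc _ (x : ↥H).2 b hb).zpow_right j).symm
    exact Subtype.ext (Subtype.ext h1)
  let e : ↥H ≃* ↥qH.range := MonoidHom.ofInjective hqi
  have hG' : Good qH.range (ψ.comp e.symm.toMonoidHom) :=
    { surj := hG.surj.comp e.symm.surjective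
      ker := by
        rw [← MonoidHom.comap_ker, hG.ker]
        ext z
        rw [Subgroup.mem_comap, Subgroup.mem_center_iff, Subgroup.mem_center_iff]
        constructor
        · intro h w
          have := congrArg e (h (e.symm w))
          simpa using this
        · intro h w
          apply e.injective
          simpa using h (e w)
      perfect := by
        rw [MonoidHom.range_eq_map, ← Subgroup.map_commutator]
        congr 1
        haveI : Group.IsPerfect ↥H := Subgroup.isPerfect_iff.2 hG.perfect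
        rw [← commutator_def]
        exact Group.IsPerfect.commutator_eq_top
      odd := by rw [Nat.card_congr (Subgroup.centerCongr e.symm).toEquiv]; exact hG.odd }
  set qA := q.comp (Subgroup.inclusion hAY) with hqA
  have hHle : qH.range ≤ q.range := by
    rintro _ ⟨h, rfl⟩; exact ⟨_, rfl⟩
  have hA'X : qA.range ≤ q.range := by
    rintro _ ⟨h, rfl⟩; exact ⟨_, rfl⟩
  have hA' : ∀ a ∈ qA.range, a * a = 1 := by
    rintro _ ⟨a, rfl⟩
    rw [← map_mul, show a * a = 1 from Subtype.ext (hA a a.2), map_one]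
  have hA'H : qA.range ≤ Subgroup.normalizer (qH.range : Set (MulAut ↥U)) := by
    have key : ∀ a : ↥A, ∀ w ∈ qH.range, qA a * w * (qA a)⁻¹ ∈ qH.range := by
      rintro a _ ⟨h, rfl⟩
      refine ⟨⟨(a : MulAut V) * h * (a : MulAut V)⁻¹,
        (Subgroup.mem_normalizer_iff.1 (hAH a.2) _).1 h.2⟩, ?_⟩
      show q _ = q _ * q _ * (q _)⁻¹
      rw [← map_inv, ← map_mul, ← map_mul]
      rfl
    rintro _ ⟨a, rfl⟩
    refine Subgroup.mem_normalizer_iff.2 fun w => ⟨key a w, fun hw => ?_⟩
    have := key a⁻¹ _ hw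
    rwa [map_inv, show (qA a)⁻¹ * (qA a * w * (qA a)⁻¹) * (qA a)⁻¹⁻¹ = w by group] at this
  have hker : ∀ a : ↥A, qA a = 1 ↔ (a : MulAut V) ∈ A1 := by
    intro a
    refine ⟨fun h => ⟨a.2, Subgroup.mem_centralizer_iff.2 fun x hx => ?_⟩, fun h => ?_⟩
    · have hm : (a : MulAut V) * x * (a : MulAut V)⁻¹ ∈ H :=
        (Subgroup.mem_normalizer_iff.1 (hAH a.2) x).1 hx
      have e1 : qH ⟨_, hm⟩ = qH ⟨x, hx⟩ := by
        have : qH ⟨_, hm⟩ = qA a * qH ⟨x, hx⟩ * (qA a)⁻¹ := by
          show q _ = q _ * q _ * (q _)⁻¹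
          rw [← map_inv, ← map_mul, ← map_mul]
          rfl
        rw [this, h, one_mul, inv_one, mul_one]
      exact (mul_inv_eq_iff_eq_mul.1 (congrArg Subtype.val (hqi e1))).symm
    · refine MulEquiv.ext fun v => Subtype.ext ?_
      exact v.2 (a : MulAut V) h
  have hC' : qA.range ⊓ Subgroup.centralizer (qH.range : Set (MulAut ↥U)) = ⊥ := by
    rw [eq_bot_iff]
    rintro _ ⟨⟨a, rfl⟩, hc⟩
    rw [Subgroup.mem_bot, hker]
    refine ⟨a.2, Subgroup.mem_centralizer_iff.2 fun x hx => ?_⟩
    have hm : (a : MulAut V) * x * (a : MulAut V)⁻¹ ∈ H :=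
      (Subgroup.mem_normalizer_iff.1 (hAH a.2) x).1 hx
    have e1 : qH ⟨_, hm⟩ = qH ⟨x, hx⟩ := by
      have : qH ⟨_, hm⟩ = qA a * qH ⟨x, hx⟩ * (qA a)⁻¹ := by
        show q _ = q _ * q _ * (q _)⁻¹
        rw [← map_inv, ← map_mul, ← map_mul]
        rfl
      rw [this, ← Subgroup.mem_centralizer_iff.1 hc _ ⟨_, rfl⟩, mul_inv_cancel_right]
    exact (mul_inv_eq_iff_eq_mul.1 (congrArg Subtype.val (hqi e1))).symm
  have hb : Bound qA.range := bound_faithful (X := q.range) hK hG'
    (fun r => Subtype.ext (h2 r)) hS3' hHle _ hA'X hA' hA'H hC'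
  have h1 : Bound A1 := hmin A1 hlt
  have hcard : Nat.card A = Nat.card A1 * Nat.card qA.range := by
    rw [← QOff.card_map_mul_card_ker qA, mul_comm]
    congr 1
    have : qA.ker = A1.subgroupOf A := by
      ext a
      rw [MonoidHom.mem_ker, hker, Subgroup.mem_subgroupOf]
    rw [this, Nat.card_congr (Subgroup.subgroupOfEquivOfLe hlt.le).toEquiv]
  have hfixle : Nat.card (fixSub A) ≤ Nat.card (fixSub qA.range) := by
    refine (Subgroup.card_le_of_le (K := (fixSub qA.range).map U.subtype) ?_).trans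
      (Subgroup.card_map_of_injective U.subtype_injective).le
    intro v hv
    refine ⟨⟨v, fixSub_anti hlt.le hv⟩, ?_, rfl⟩
    rintro _ ⟨a, rfl⟩
    exact Subtype.ext (hv a a.2)
  calc Nat.card A ^ 2 * Nat.card (fixSub A)
      ≤ Nat.card A ^ 2 * Nat.card (fixSub qA.range) := Nat.mul_le_mul_left _ hfixle
    _ = Nat.card A1 ^ 2 * (Nat.card qA.range ^ 2 * Nat.card (fixSub qA.range)) := by rw [hcard]; ring
    _ ≤ Nat.card A1 ^ 2 * Nat.card U := Nat.mul_le_mul_left _ hb
    _ ≤ _ := h1

/-- A minimal violation centralizes each member of a commuting family of conjugates. -/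
theorem centralizes_orbit (h2 : ∀ v : V, v * v = 1) (hS3 : ¬ Cfsg.Involves (Perm (Fin 3)) ↥X)
    {A : Subgroup (MulAut V)} (hAX : A ≤ X) (hA : ∀ a ∈ A, a * a = 1) (hmin : ∀ B < A, Bound B)
    (hnb : ¬ Bound A) (hK : Cfsg.IsSuzukiOrPSL2OddPowerThree Q) [IsSimpleGroup Q] :
    ∀ (k : ℕ) (H : Subgroup (MulAut V)) (ψ : ↥H →* Q), Good H ψ → H ≤ X →
      (∀ b ∈ A, b ∉ Subgroup.normalizer (H : Set (MulAut V)) →
        ∀ x ∈ H, ∀ y ∈ H, x * (b * y * b⁻¹) = (b * y * b⁻¹) * x) →
      Nat.card A ≤ Nat.card ↥(A ⊓ Subgroup.normalizer (H : Set (MulAut V))) + k →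
      A ≤ Subgroup.centralizer (H : Set (MulAut V)) := by
  haveI := finite_aut (V := V)
  haveI : Fact (Nat.Prime 2) := ⟨Nat.prime_two⟩
  intro k
  induction k using Nat.strong_induction_on with
  | _ k ih =>
    intro H ψ hG hHX horb hk
    by_contra hnc
    set N0 := A ⊓ Subgroup.normalizer (H : Set (MulAut V)) with hN0
    by_cases hall : N0 = A
    · exact hnb (bound_of_normalized hK hG h2 hS3 hHX hAX hA hmin (hall ▸ inf_le_right) hnc)
    obtain ⟨a, ha, haN0⟩ := SetLike.exists_of_lt (lt_of_le_of_ne inf_le_left hall)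
    have haH : a ∉ Subgroup.normalizer (H : Set (MulAut V)) := fun h => haN0 ⟨ha, h⟩
    have hai : a⁻¹ = a := inv_eq_of_mul_eq_one_right (hA a ha)
    have hcomm := FacGen.isMulCommutative_of_sq hA
    have hab : ∀ x ∈ H, ∀ y ∈ H, Commute x (a * y * a⁻¹) := fun x hx y hy => horb a ha haH x hx y hy
    have hax : ∀ x ∈ H, a * (a * x * a⁻¹) * a⁻¹ = x := fun x hx => by
      rw [show a * (a * x * a⁻¹) * a⁻¹ = (a * a) * x * (a * a)⁻¹ by group, hA a ha]; group
    have haX := hAX ha
    by_cases hcase : N0 ≤ Subgroup.centralizer (H : Set (MulAut V)) ∧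
        Nat.card A ≤ 2 * Nat.card N0
    · -- a hyperplane centralizes `H`
      obtain ⟨h0, hh0, hodd⟩ : ∃ h0 : ↥H, ψ h0 ≠ 1 ∧ Odd (orderOf h0) := by
        haveI : Finite Q := Finite.of_surjective ψ hG.surj
        obtain ⟨p, hp, hp2, hpd⟩ : ∃ p, p.Prime ∧ p ≠ 2 ∧ p ∣ Nat.card Q := by
          by_contra hno
          push Not at hno
          refine hG.not_isPGroup (IsPGroup.iff_card.2 ⟨(Nat.card Q).primeFactorsList.length, ?_⟩)
          exact Nat.eq_prime_pow_of_unique_prime_dvd Nat.card_pos.ne' fun {d} hd hdd =>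
            by_contra fun h => hno d hd h hdd
        haveI := Fact.mk hp
        obtain ⟨q, hq⟩ := exists_prime_orderOf_dvd_card' (G := Q) p hpd
        obtain ⟨h, rfl⟩ := hG.surj q
        obtain ⟨i, m, hm, hkm⟩ := Nat.exists_eq_two_pow_mul_odd (orderOf_pos h).ne'
        refine ⟨h ^ 2 ^ i, fun h1 => ?_, ?_⟩
        · rw [map_pow] at h1
          have := orderOf_dvd_of_pow_eq_one h1
          rw [hq] at this
          exact hp2 ((Nat.prime_dvd_prime_iff_eq hp Nat.prime_two).1 (hp.dvd_of_dvd_pow this))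
        · rw [orderOf_pow_of_dvd (pow_ne_zero _ two_ne_zero) ⟨m, hkm⟩, hkm,
            Nat.mul_div_cancel_left _ (Nat.two_pow_pos i)]
          exact hm
      set x := (h0 : MulAut V) with hx
      set y := x * (a * x * a⁻¹)⁻¹ with hy
      have hcx : Commute x (a * x * a⁻¹) := hab x h0.2 x h0.2
      have hy1 : y = 1 := by
        refine eq_one_of_minimal h2 hS3 hAX hA hmin hnb (inf_le_left : N0 ≤ A) ha haN0 hcase.2
          (X.mul_mem (hHX h0.2) (X.inv_mem (X.mul_mem (X.mul_mem haX (hHX h0.2)) (X.inv_mem haX))))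
          ?_ ?_ ?_
        · refine Odd.of_dvd_nat ?_ hcx.inv_right.orderOf_mul_dvd_lcm
          rw [orderOf_inv, show orderOf (a * x * a⁻¹) = orderOf x from
            (MulAut.conj a).orderOf_eq x, Nat.lcm_self, Subgroup.orderOf_coe]
          exact hodd
        · intro b hb
          have hbx : Commute b x := (Subgroup.mem_centralizer_iff.1 (hcase.1 hb) x h0.2).symm
          have hba : Commute b a := hcomm b hb.1 a ha
          exact (hbx.mul_right ((hba.mul_right hbx).mul_right hba.inv_right).inv_right).eq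
        · rw [hy]
          calc a * (x * (a * x * a⁻¹)⁻¹) * a⁻¹ = (a * x * a⁻¹) * (a * (a * x * a⁻¹) * a⁻¹)⁻¹ := by group
            _ = _ := by rw [hax x h0.2]; group
      refine hh0 ?_
      rw [← MonoidHom.mem_ker, hG.ker, Subgroup.mem_center_iff]
      intro z
      refine Subtype.ext ?_
      have e : x = a * x * a⁻¹ := mul_inv_eq_one.1 hy1
      show (z : MulAut V) * x = x * z
      rw [e]
      exact hab z z.2 x h0.2
    -- merge `H` with its conjugate
    let f : ↥H →* MulAut V := MonoidHom.mk' (fun x => (x : MulAut V) * (a * x * a⁻¹)) fun x y => by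
      rw [Subgroup.coe_mul]
      calc (x : MulAut V) * y * (a * ((x : MulAut V) * y) * a⁻¹)
          = (x : MulAut V) * ((y : MulAut V) * (a * x * a⁻¹)) * (a * y * a⁻¹) := by group
        _ = _ := by rw [(hab y y.2 x x.2).eq]; group
    have hf : ∀ x : ↥H, f x = (x : MulAut V) * (a * x * a⁻¹) := fun x => rfl
    have hfker : f.ker ≤ Subgroup.center ↥H := by
      intro x hx
      rw [MonoidHom.mem_ker, hf] at hx
      refine Subgroup.mem_center_iff.2 fun z => Subtype.ext ?_
      have e : (x : MulAut V) = (a * x * a⁻¹)⁻¹ := eq_inv_of_mul_eq_one_left hx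
      show (z : MulAut V) * x = x * z
      rw [e]
      exact ((hab z z.2 x x.2).inv_right).eq
    let H' := f.range
    have hkk : f.rangeRestrict.ker ≤ ψ.ker := by rw [MonoidHom.ker_rangeRestrict, hG.ker]; exact hfker
    let ψ' : ↥H' →* Q := f.rangeRestrict.liftOfSurjective f.rangeRestrict_surjective ⟨ψ, hkk⟩
    have hψ' : ∀ x : ↥H, ψ' (f.rangeRestrict x) = ψ x := fun x =>
      MonoidHom.liftOfRightInverse_comp_apply _ _ _ _ _
    have hcenter : Subgroup.center ↥H' = (Subgroup.center ↥H).map f.rangeRestrict := by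
      refine le_antisymm (fun z hz => ?_) ?_
      · obtain ⟨x, rfl⟩ := f.rangeRestrict_surjective z
        refine ⟨x, ?_, rfl⟩
        rw [SetLike.mem_coe, ← hG.ker, MonoidHom.mem_ker]
        have hc : ψ x ∈ Subgroup.center Q := Subgroup.mem_center_iff.2 fun w => by
          obtain ⟨y, rfl⟩ := hG.surj w
          have h1 := congrArg ψ' (Subgroup.mem_center_iff.1 hz (f.rangeRestrict y))
          rwa [map_mul, map_mul, hψ', hψ'] at h1
        exact hG.conj_injective ((MonoidHom.mem_ker).1 (by
          refine MulEquiv.ext fun w => ?_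
          rw [MulAut.conj_apply, MulAut.one_apply, ← Subgroup.mem_center_iff.1 hc w,
            mul_inv_cancel_right]) |>.trans (map_one MulAut.conj).symm)
      · rintro _ ⟨x, hx, rfl⟩
        refine Subgroup.mem_center_iff.2 fun w => ?_
        obtain ⟨y, rfl⟩ := f.rangeRestrict_surjective w
        rw [← map_mul, ← map_mul, Subgroup.mem_center_iff.1 hx y]
    have hG' : Good H' ψ' :=
      { surj := fun w => by
          obtain ⟨x, rfl⟩ := hG.surj w
          exact ⟨_, hψ' x⟩
        ker := by
          rw [hcenter, ← hG.ker]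
          ext z
          obtain ⟨x, rfl⟩ := f.rangeRestrict_surjective z
          rw [MonoidHom.mem_ker, hψ']
          constructor
          · exact fun h => ⟨x, h, rfl⟩
          · rintro ⟨y, hy, hyx⟩
            rw [← hψ', ← hyx, hψ']
            exact hy
        perfect := by
          show ⁅f.range, f.range⁆ = f.range
          rw [MonoidHom.range_eq_map, ← Subgroup.map_commutator]
          congr 1
          haveI : Group.IsPerfect ↥H := Subgroup.isPerfect_iff.2 hG.perfect
          rw [← commutator_def]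
          exact Group.IsPerfect.commutator_eq_top
        odd := by
          rw [hcenter]
          exact Odd.of_dvd_nat hG.odd (Subgroup.card_map_dvd _ _) }
    have hH'X : H' ≤ X := by
      rintro _ ⟨x, rfl⟩
      exact X.mul_mem (hHX x.2) (X.mul_mem (X.mul_mem haX (hHX x.2)) (X.inv_mem haX))
    have hnorm : ∀ b ∈ A, (∀ x ∈ H', b * x * b⁻¹ ∈ H') →
        b ∈ Subgroup.normalizer (H' : Set (MulAut V)) := by
      intro b hb h
      refine Subgroup.mem_normalizer_iff.2 fun x => ⟨h x, fun hx => ?_⟩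
      have := h _ hx
      rwa [show b * (b * x * b⁻¹) * b⁻¹ = (b * b) * x * (b * b)⁻¹ by group, hA b hb, one_mul, inv_one,
        mul_one] at this
    have haN' : a ∈ Subgroup.normalizer (H' : Set (MulAut V)) := by
      refine hnorm a ha ?_
      rintro _ ⟨x, rfl⟩
      refine ⟨x, ?_⟩
      rw [hf]
      calc (x : MulAut V) * (a * x * a⁻¹) = (a * x * a⁻¹) * x := (hab x x.2 x x.2).eq
        _ = (a * x * a⁻¹) * (a * (a * x * a⁻¹) * a⁻¹) := by rw [hax x x.2]
        _ = _ := by group
    have hN0' : N0 ≤ Subgroup.normalizer (H' : Set (MulAut V)) := by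
      intro b hb
      refine hnorm b hb.1 ?_
      rintro _ ⟨x, rfl⟩
      have hba : Commute b a := hcomm b hb.1 a ha
      refine ⟨⟨b * x * b⁻¹, (Subgroup.mem_normalizer_iff.1 hb.2 _).1 x.2⟩, ?_⟩
      rw [hf, hf]
      calc b * (x : MulAut V) * b⁻¹ * (a * (b * x * b⁻¹) * a⁻¹)
          = b * (x : MulAut V) * b⁻¹ * ((a * b) * x * (a * b)⁻¹) := by group
        _ = b * (x : MulAut V) * b⁻¹ * ((b * a) * x * (b * a)⁻¹) := by rw [hba.eq]
        _ = _ := by group
    have hgrow : Nat.card N0 < Nat.card ↥(A ⊓ Subgroup.normalizer (H' : Set (MulAut V))) := by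
      by_contra hge
      have := Subgroup.eq_of_le_of_card_ge (le_inf inf_le_left hN0') (not_lt.1 hge)
      exact haN0 (this.ge ⟨ha, haN'⟩)
    have hgrow' : Nat.card ↥(A ⊓ Subgroup.normalizer (H' : Set (MulAut V))) ≤ Nat.card A :=
      Subgroup.card_le_of_le inf_le_left
    -- elements outside the normalizer move both factors
    have hout : ∀ b ∈ A, b ∉ Subgroup.normalizer (H' : Set (MulAut V)) →
        b ∉ Subgroup.normalizer (H : Set (MulAut V)) ∧
          a * b ∉ Subgroup.normalizer (H : Set (MulAut V)) := by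
      intro b hb hbn
      refine ⟨fun h => hbn (hN0' ⟨hb, h⟩), fun h => hbn ?_⟩
      have := (Subgroup.normalizer (H' : Set (MulAut V))).mul_mem haN' (hN0' ⟨A.mul_mem ha hb, h⟩)
      rwa [← mul_assoc, hA a ha, one_mul] at this
    have horb' : ∀ b ∈ A, b ∉ Subgroup.normalizer (H' : Set (MulAut V)) →
        ∀ x ∈ H', ∀ y ∈ H', x * (b * y * b⁻¹) = (b * y * b⁻¹) * x := by
      intro b hb hbn x hx y hy
      obtain ⟨x, rfl⟩ := hx
      obtain ⟨y, rfl⟩ := hy
      obtain ⟨hb1, hb2⟩ := hout b hb hbn
      have hba : Commute b a := hcomm b hb a ha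
      have e : b * f y * b⁻¹ = (b * y * b⁻¹) * ((a * b) * y * (a * b)⁻¹) := by
        rw [hf, show b * ((y : MulAut V) * (a * y * a⁻¹)) * b⁻¹
          = (b * y * b⁻¹) * ((b * a) * y * (b * a)⁻¹) by group, hba.eq]
      have c1 : ∀ z ∈ H, ∀ w ∈ H, Commute z (b * w * b⁻¹) := fun z hz w hw => horb b hb hb1 z hz w hw
      have c2 : ∀ z ∈ H, ∀ w ∈ H, Commute z ((a * b) * w * (a * b)⁻¹) := fun z hz w hw =>
        horb (a * b) (A.mul_mem ha hb) hb2 z hz w hw
      have conjC : ∀ {z w : MulAut V}, Commute z w → Commute (a * z * a⁻¹) (a * w * a⁻¹) := fun h => by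
        have := h.map (MulAut.conj a).toMonoidHom
        exact this
      rw [e, hf]
      refine (Commute.mul_left ((c1 _ x.2 _ y.2).mul_right (c2 _ x.2 _ y.2))
        (Commute.mul_right ?_ ?_)).eq
      · have := conjC (c2 _ x.2 _ y.2)
        rwa [show a * ((a * b) * (y : MulAut V) * (a * b)⁻¹) * a⁻¹ = (a * a) * (b * y * b⁻¹) * (a * a)⁻¹ by group,
          hA a ha, one_mul, inv_one, mul_one] at this
      · have := conjC (c1 _ x.2 _ y.2)
        rwa [show a * (b * (y : MulAut V) * b⁻¹) * a⁻¹ = (a * b) * y * (a * b)⁻¹ by group] at this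
    have hnc' : ¬ A ≤ Subgroup.centralizer (H' : Set (MulAut V)) := by
      intro hcent
      by_cases hN0c : N0 ≤ Subgroup.centralizer (H : Set (MulAut V))
      · have hlarge : ¬ Nat.card A ≤ 2 * Nat.card N0 := fun h => hcase ⟨hN0c, h⟩
        obtain ⟨b, hb, hb1, hb2⟩ : ∃ b ∈ A, b ∉ N0 ∧ a * b ∉ N0 := by
          by_contra hno
          push Not at hno
          refine hlarge ?_
          have hle : A ≤ N0 ⊔ Subgroup.zpowers a := by
            intro b hb
            by_cases hb1 : b ∈ N0
            · exact Subgroup.mem_sup_left hb1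
            · have h := Subgroup.mul_mem _
                (Subgroup.mem_sup_right (Subgroup.mem_zpowers a) : a ∈ N0 ⊔ Subgroup.zpowers a)
                (Subgroup.mem_sup_left (hno b hb hb1))
              rwa [← mul_assoc, hA a ha, one_mul] at h
          refine (Subgroup.card_le_of_le hle).trans ?_
          rw [mul_comm]
          refine le_trans ?_ (Nat.mul_le_mul_left _ (show Nat.card (Subgroup.zpowers a) ≤ 2 from ?_))
          · rw [← Thompson.card_sup_mul_card_inf (H := N0) (K := Subgroup.zpowers a) ?_]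
            · exact Nat.le_mul_of_pos_right _ Nat.card_pos
            · intro z hz
              refine Subgroup.centralizer_le_normalizer _ (Subgroup.mem_centralizer_iff.2 fun w hw => ?_)
              first
              | exact hcomm w (Subgroup.zpowers_le.2 ha hw) z hz.1
              | exact hcomm w hw.1 z (Subgroup.zpowers_le.2 ha hz)
          · rw [Nat.card_zpowers]
            exact Nat.le_of_dvd two_pos (orderOf_dvd_of_pow_eq_one (by rw [pow_two]; exact hA a ha))
        have hb1' : b ∉ Subgroup.normalizer (H : Set (MulAut V)) := fun h => hb1 ⟨hb, h⟩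
        have hb2' : a * b ∉ Subgroup.normalizer (H : Set (MulAut V)) := fun h =>
          hb2 ⟨A.mul_mem ha hb, h⟩
        haveI := hG.eq_top_of_solvable_map
        refine Group.IsPerfect.not_isSolvable Q (Group.isSolvable_of_comm fun w w' => ?_)
        obtain ⟨x, rfl⟩ := hG.surj w
        obtain ⟨z, rfl⟩ := hG.surj w'
        rw [← map_mul, ← map_mul]
        congr 1
        refine Subtype.ext ?_
        have hcb : b * f x * b⁻¹ = f x := by
          rw [← Subgroup.mem_centralizer_iff.1 (hcent hb) _ ⟨x, rfl⟩, mul_inv_cancel_right]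
        have hba : Commute b a := hcomm b hb a ha
        have e : b * f x * b⁻¹ = (b * x * b⁻¹) * ((a * b) * x * (a * b)⁻¹) := by
          rw [hf, show b * ((x : MulAut V) * (a * x * a⁻¹)) * b⁻¹
            = (b * x * b⁻¹) * ((b * a) * x * (b * a)⁻¹) by group, hba.eq]
        have h1 : Commute (z : MulAut V) (f x) := by
          rw [← hcb, e]
          exact Commute.mul_right (horb b hb hb1' _ z.2 _ x.2)
            (horb (a * b) (A.mul_mem ha hb) hb2' _ z.2 _ x.2)
        have h3 : Commute (z : MulAut V) x := by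
          have := h1.mul_right (hab z z.2 x x.2).inv_right
          rwa [hf, mul_inv_cancel_right] at this
        exact h3.eq.symm
      · refine hN0c fun b hb => ?_
        refine Components.mem_centralizer_of_commutator_mem_centralizer hG.perfect hb.2 fun l hl => ?_
        have hbl : b * l * b⁻¹ ∈ H := (Subgroup.mem_normalizer_iff.1 hb.2 _).1 hl
        have h1 : f ⟨_, hbl⟩ = f ⟨l, hl⟩ := by
          have hba : Commute b a := hcomm b hb.1 a ha
          have hcb : b * f ⟨l, hl⟩ * b⁻¹ = f ⟨l, hl⟩ := by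
            rw [← Subgroup.mem_centralizer_iff.1 (hcent hb.1) _ ⟨_, rfl⟩, mul_inv_cancel_right]
          refine Eq.trans ?_ hcb
          rw [hf, hf]
          calc b * l * b⁻¹ * (a * (b * l * b⁻¹) * a⁻¹)
              = b * l * b⁻¹ * ((a * b) * l * (a * b)⁻¹) := by group
            _ = b * l * b⁻¹ * ((b * a) * l * (b * a)⁻¹) := by rw [hba.eq]
            _ = _ := by group
        have h3 : (⟨_, hbl⟩ * (⟨l, hl⟩ : ↥H)⁻¹ : ↥H) ∈ Subgroup.center ↥H := hfker (by
          rw [MonoidHom.mem_ker, map_mul, map_inv, h1, mul_inv_cancel])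
        exact Subgroup.mem_centralizer_iff.2 fun z hz =>
          congrArg Subtype.val (Subgroup.mem_center_iff.1 h3 ⟨z, hz⟩)
    exact hnc' (ih (Nat.card A - Nat.card ↥(A ⊓ Subgroup.normalizer (H' : Set (MulAut V))))
      (by omega) H' ψ' hG' hH'X horb' (by omega))

/-- The bound. -/
theorem bound_of_composition (h2 : ∀ v : V, v * v = 1) (hO : Cfsg.pCore 2 ↥X = ⊥)
    (hS3 : ¬ Cfsg.Involves (Perm (Fin 3)) ↥X)
    (hc : Cfsg.IsCompositionKGroupWith Cfsg.IsSuzukiOrPSL2OddPowerThree ↥X) :
    ∀ A : Subgroup (MulAut V), A ≤ X → (∀ a ∈ A, a * a = 1) → Bound A := by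
  haveI := finite_aut (V := V)
  haveI : Fact (Nat.Prime 2) := ⟨Nat.prime_two⟩
  intro A
  induction A using WellFoundedLT.induction with
  | _ A ih =>
    intro hAX hA
    by_contra hnb
    have hmin : ∀ B < A, Bound B := fun B hB => ih B hB (hB.le.trans hAX) fun b hb => hA b (hB.le hb)
    have hA2 : IsPGroup 2 A := fun g => ⟨1, Subtype.ext (by rw [pow_one, pow_two]; exact hA g g.2)⟩
    set A' := A.subgroupOf X with hA'
    have hfit : ∀ x ∈ Cfsg.fittingSubgroup ↥X, ∀ a ∈ A', x * a = a * x := by
      intro x hx a ha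
      have hle : Cfsg.fittingSubgroup ↥X ≤ Subgroup.centralizer ({a} : Set ↥X) := by
        rw [Fitting.fitting_eq_iSup_pCore]
        refine iSup_le fun p => ?_
        haveI : Fact (p : ℕ).Prime := ⟨p.2⟩
        by_cases hp2 : (p : ℕ) = 2
        · intro z hz
          rw [hp2, hO, Subgroup.mem_bot] at hz
          exact hz ▸ one_mem _
        intro z hz
        have hodd : Odd (Nat.card ↥((Cfsg.pCore (p : ℕ) ↥X).map X.subtype)) := by
          rw [Subgroup.card_map_of_injective X.subtype_injective]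
          obtain ⟨i, hi⟩ := IsPGroup.iff_card.1 (Thompson.isPGroup_pCore (p := (p : ℕ)) (G := ↥X))
          rw [hi]
          exact (p.2.odd_of_ne_two hp2).pow
        have hn : A ≤ Subgroup.normalizer
            (((Cfsg.pCore (p : ℕ) ↥X).map X.subtype : Subgroup (MulAut V)) : Set (MulAut V)) := by
          have hnn : (Cfsg.pCore (p : ℕ) ↥X).Normal := inferInstance
          intro b hb
          refine Subgroup.mem_normalizer_iff.2 fun w => ⟨?_, ?_⟩
          · rintro ⟨w, hw, rfl⟩
            exact ⟨_, hnn.conj_mem w hw ⟨b, hAX hb⟩, rfl⟩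
          · rintro ⟨w', hw', he⟩
            refine ⟨_, hnn.conj_mem w' hw' (⟨b, hAX hb⟩ : ↥X)⁻¹, ?_⟩
            show b⁻¹ * (w' : MulAut V) * b⁻¹⁻¹ = w
            rw [show (w' : MulAut V) = b * w * b⁻¹ from he]
            group
        have h := centralizes_odd h2 hS3 hAX hA hmin hnb (Subgroup.map_subtype_le _) hodd hn
          ⟨z, hz, rfl⟩
        exact Subgroup.mem_centralizer_singleton_iff.2
          (Subtype.ext (Subgroup.mem_centralizer_iff.1 h (a : MulAut V) ha).symm)
      exact Subgroup.mem_centralizer_singleton_iff.1 (hle hx)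
    have hlay : ¬ ∀ L : Subgroup ↥X, Cfsg.IsComponent L → A' ≤ Subgroup.centralizer (L : Set ↥X) := by
      intro hlay
      set C := Subgroup.centralizer (Cfsg.generalizedFittingSubgroup ↥X : Set ↥X) with hC
      have hAC : A' ≤ C := by
        intro a ha
        have : Cfsg.generalizedFittingSubgroup ↥X ≤ Subgroup.centralizer ({a} : Set ↥X) := by
          refine sup_le (Components.layer_le_iff.2 fun L hL l hl => ?_) fun x hx =>
            Subgroup.mem_centralizer_singleton_iff.2 (hfit x hx a ha)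
          exact Subgroup.mem_centralizer_singleton_iff.2
            (Subgroup.mem_centralizer_iff.1 (hlay L hL ha) l hl)
        exact Subgroup.mem_centralizer_iff.2 fun x hx =>
          Subgroup.mem_centralizer_singleton_iff.1 (this hx)
      have hCc : ∀ x ∈ C, ∀ y ∈ C, x * y = y * x := fun x hx y hy =>
        (Subgroup.mem_centralizer_iff.1 hx y (Components.centralizer_generalizedFitting_le hy)).symm
      let N : Subgroup ↥X :=
        { carrier := {x | x ∈ C ∧ x * x = 1}
          one_mem' := ⟨C.one_mem, one_mul 1⟩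
          mul_mem' := fun {x y} hx hy => ⟨C.mul_mem hx.1 hy.1, by
            rw [show x * y * (x * y) = x * (y * x) * y by group, hCc y hy.1 x hx.1,
              show x * (x * y) * y = (x * x) * (y * y) by group, hx.2, hy.2, one_mul]⟩
          inv_mem' := fun {x} hx => ⟨C.inv_mem hx.1, by rw [← mul_inv_rev, hx.2, inv_one]⟩ }
      have hNn : N.Normal := ⟨fun x hx g => ⟨(inferInstance : C.Normal).conj_mem x hx.1 g, by
        rw [show g * x * g⁻¹ * (g * x * g⁻¹) = g * (x * x) * g⁻¹ by group, hx.2, mul_one,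
          mul_inv_cancel]⟩⟩
      have hN2 : IsPGroup 2 N := fun x => ⟨1, Subtype.ext (by rw [pow_one, pow_two]; exact x.2.2)⟩
      have hNb : N = ⊥ := eq_bot_iff.2 (hO ▸ Thompson.le_pCore hNn hN2)
      apply hnb
      have : A = ⊥ := eq_bot_iff.2 fun a ha => by
        have h1 : (⟨a, hAX ha⟩ : ↥X) ∈ N := ⟨hAC ha, Subtype.ext (hA a ha)⟩
        rw [hNb, Subgroup.mem_bot] at h1
        exact Subgroup.mem_bot.2 (congrArg Subtype.val h1)
      rw [this]
      exact bound_bot
    push Not at hlay
    obtain ⟨L, hL, hLA⟩ := hlay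
    haveI := hL.2.1
    haveI := hL.2.2
    let Q := ↥L ⧸ Subgroup.center ↥L
    have hQc : ¬ IsMulCommutative Q := by
      intro h
      refine Components.not_isSolvable_of_isQuasisimple hL.2 ?_
      haveI : Group.IsSolvable (↥L ⧸ Subgroup.center ↥L) := Group.isSolvable_of_comm fun x y => mul_comm' x y
      haveI : Group.IsSolvable ↥(Subgroup.center ↥L) := Group.isSolvable_of_comm fun x y =>
        Subtype.ext (Subgroup.mem_center_iff.1 y.2 x)
      exact Group.isSolvable_of_ker_le_range ((Subgroup.center ↥L).subtype)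
        (QuotientGroup.mk' (Subgroup.center ↥L)) (by simp)
    have hK := hc L hL.1 (Subgroup.center ↥L) hL.2.2 hQc
    let e : ↥L ≃* ↥(L.map X.subtype) := L.equivMapOfInjective X.subtype X.subtype_injective
    have hG : Good (L.map X.subtype)
        ((QuotientGroup.mk' (Subgroup.center ↥L)).comp e.symm.toMonoidHom) :=
      { surj := (QuotientGroup.mk'_surjective _).comp e.symm.surjective
        ker := by
          rw [← MonoidHom.comap_ker, QuotientGroup.ker_mk']
          ext z
          rw [Subgroup.mem_comap, Subgroup.mem_center_iff, Subgroup.mem_center_iff]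
          constructor
          · intro h w
            have := congrArg e (h (e.symm w))
            simpa using this
          · intro h w
            apply e.injective
            simpa using h (e w)
        perfect := by rw [← Subgroup.map_commutator, Components.component_commutator_eq_self hL]
        odd := by
          rw [Nat.card_congr (Subgroup.centerCongr e.symm).toEquiv]
          by_contra hev
          rw [Nat.not_odd_iff_even, even_iff_two_dvd] at hev
          obtain ⟨z, hz⟩ := exists_prime_orderOf_dvd_card' (G := Subgroup.center ↥L) 2 hev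
          rw [← Subgroup.orderOf_coe] at hz
          have hzn : (Subgroup.zpowers (z : ↥L)).Normal := ⟨fun w hw g => by
            obtain ⟨i, rfl⟩ := Subgroup.mem_zpowers_iff.1 hw
            rw [Subgroup.mem_center_iff.1 ((Subgroup.center ↥L).zpow_mem z.2 i) g,
              mul_inv_cancel_right]
            exact Subgroup.zpow_mem_zpowers _ i⟩
          have hsn : ((Subgroup.zpowers (z : ↥L)).map L.subtype).IsSubnormal :=
            hzn.isSubnormal.trans' hL.1
          have h2' : IsPGroup 2 ((Subgroup.zpowers (z : ↥L)).map L.subtype) :=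
            (IsPGroup.of_card (n := 1) (by rw [Nat.card_zpowers, hz, pow_one])).map _
          have hle := Thompson.le_pCore_of_isSubnormal hsn h2'
          rw [hO] at hle
          have h1 := hle ⟨_, Subgroup.mem_zpowers (z : ↥L), rfl⟩
          rw [Subgroup.mem_bot] at h1
          rw [show (z : ↥L) = 1 from Subtype.ext h1, orderOf_one] at hz
          exact absurd hz (by norm_num) }
    have horb : ∀ b ∈ A, b ∉ Subgroup.normalizer ((L.map X.subtype : Subgroup (MulAut V)) : Set (MulAut V)) →
        ∀ x ∈ L.map X.subtype, ∀ y ∈ L.map X.subtype, x * (b * y * b⁻¹) = (b * y * b⁻¹) * x := by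
      intro b hb hbn x hx y hy
      obtain ⟨x, hx, rfl⟩ := hx
      obtain ⟨y, hy, rfl⟩ := hy
      set g : ↥X := ⟨b, hAX hb⟩ with hg
      have hne : L ≠ L.map (MulAut.conj g).toMonoidHom := by
        intro h
        refine hbn ?_
        have hgn : g ∈ Subgroup.normalizer (L : Set ↥X) :=
          Components.map_conj_eq_iff_mem_normalizer.1 h.symm
        refine Subgroup.mem_normalizer_iff.2 fun w => ⟨?_, ?_⟩
        · rintro ⟨w, hw, rfl⟩
          exact ⟨g * w * g⁻¹, (Subgroup.mem_normalizer_iff.1 hgn w).1 hw, rfl⟩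
        · rintro ⟨w', hw', he⟩
          refine ⟨g⁻¹ * w' * g⁻¹⁻¹,
            (Subgroup.mem_normalizer_iff.1 ((Subgroup.normalizer _).inv_mem hgn) w').1 hw', ?_⟩
          show b⁻¹ * (w' : MulAut V) * b⁻¹⁻¹ = w
          rw [show (w' : MulAut V) = b * w * b⁻¹ from he]
          group
      have hc' := Components.component_le_centralizer hL (Components.component_map_conj g hL) hne hx
      have := congrArg Subtype.val (Subgroup.mem_centralizer_iff.1 hc' (g * y * g⁻¹) ⟨y, hy, rfl⟩)
      exact this.symm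
    have := centralizes_orbit h2 hS3 hAX hA hmin hnb hK (Nat.card A) (L.map X.subtype) _ hG
      (Subgroup.map_subtype_le _) horb le_add_self
    refine hLA fun a ha => Subgroup.mem_centralizer_iff.2 fun l hl => Subtype.ext ?_
    exact Subgroup.mem_centralizer_iff.1 (this ha) (l : MulAut V) ⟨l, hl, rfl⟩

end Cfsg.Agent.T51.Bnd
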