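import Cfsg.Agent.T51.BndQuasi

/-!
The case `PSL₂(3^(2n+1))` of the bound.
-/

set_option autoImplicit false
set_option linter.unusedVariables false
set_option linter.unusedSectionVars false
set_option linter.style.haveILetI false

namespace Cfsg.Agent.T51.Bnd

open QOff Equiv Matrix
open Cfsg.Agent.AutPSL

universe u

variable {F : Type*} [Field F] [Fintype F]

theorem not_solvable_rank {n : ℕ} (hF : Fintype.card F = 3 ^ (2 * n + 1))
    [IsSimpleGroup (ProjectiveSpecialLinearGroup (Fin 2) F)]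
    [Group.IsPerfect (ProjectiveSpecialLinearGroup (Fin 2) F)] : 1 ≤ n := by
  by_contra h
  obtain rfl : n = 0 := by omega
  have h1 := LinearGroup.gcd_mul_card_PSL_two (F := F)
  rw [Nat.card_eq_fintype_card (α := F), hF] at h1
  norm_num at h1
  refine Group.IsPerfect.not_isSolvable (ProjectiveSpecialLinearGroup (Fin 2) F) ?_
  exact CharCore.isSolvable_of_card_eq_prime_pow_mul Nat.prime_two Nat.prime_three _ _ 2 1
    (show Nat.card _ = 12 by omega) (by norm_num)

/-- An automorphism of order dividing two is conjugation by a matrix with scalar square. -/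
theorem exists_gl_of_sq {n : ℕ} (hF : Fintype.card F = 3 ^ (2 * n + 1))
    {α : MulAut (ProjectiveSpecialLinearGroup (Fin 2) F)} (hα : α * α = 1) :
    ∃ g : GL (Fin 2) F, α = pgl 2 F g ∧ ∃ c : Fˣ, g * g = scalarGL _ c := by
  classical
  haveI : Fact (Nat.Prime 3) := ⟨Nat.prime_three⟩
  obtain ⟨g, σ, β, hg, h⟩ := exists_semi le_rfl α
  rcases h with rfl | ⟨h3, -⟩
  swap
  · omega
  have h2 := Induced.comp (normalises_psl g σ) hg hg
  rw [hα] at h2
  obtain ⟨hσ, -⟩ := IsSemi.eq_one le_rfl h2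
  have hσ1 : σ = 1 := by
    refine orderOf_eq_one_iff.1 ?_
    haveI : Finite (F ≃+* F) := Finite.of_injective (fun e => (e : F → F)) DFunLike.coe_injective
    have hd1 : orderOf σ ∣ 2 := orderOf_dvd_of_pow_eq_one (by rw [pow_two]; exact hσ)
    have hd2 := orderOf_dvd_natCard σ
    rw [CG26.card_fieldAut 3 (2 * n + 1) hF] at hd2
    exact Nat.Coprime.eq_one_of_dvd
      (Nat.Coprime.coprime_dvd_left hd2 (Nat.coprime_two_right.2 (odd_two_mul_add_one n))) hd1
  subst hσ1
  have e := eq_pgl hg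
  refine ⟨g, e, (pgl_eq_one_iff le_rfl).1 ?_⟩
  rw [map_mul, ← e]
  exact hα

/-- The matrices of two distinct commuting involutory projectivities anticommute. -/
theorem anticomm_of_comm {g h : GL (Fin 2) F} (h2 : (2 : F) ≠ 0) {c d : Fˣ}
    (hg : g * g = scalarGL _ c) (hh : h * h = scalarGL _ d)
    (hg1 : pgl 2 F g ≠ 1) (hh1 : pgl 2 F h ≠ 1) (hne : pgl 2 F g ≠ pgl 2 F h)
    (hc : pgl 2 F g * pgl 2 F h = pgl 2 F h * pgl 2 F g) :
    (h : Matrix (Fin 2) (Fin 2) F) * (g : Matrix (Fin 2) (Fin 2) F)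
      = -((g : Matrix (Fin 2) (Fin 2) F) * (h : Matrix (Fin 2) (Fin 2) F)) := by
  rw [← map_mul, ← map_mul, pgl_eq_iff le_rfl] at hc
  obtain ⟨e, he⟩ := hc
  have heM := congrArg Units.val he
  simp only [Units.val_mul, scalarGL_coe, Matrix.mul_smul, mul_one] at heM
  have hdet := congrArg Matrix.det heM
  rw [Matrix.det_smul, Fintype.card_fin, Matrix.det_mul, Matrix.det_mul] at hdet
  have hne0 : (g : Matrix (Fin 2) (Fin 2) F).det * (h : Matrix (Fin 2) (Fin 2) F).det ≠ 0 :=
    mul_ne_zero ((Matrix.isUnit_iff_isUnit_det _).1 g.isUnit).ne_zero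
      ((Matrix.isUnit_iff_isUnit_det _).1 h.isUnit).ne_zero
  have he2 : ((e : F) - 1) * ((e : F) + 1) = 0 := by
    have : ((e : F) ^ 2 - 1) * ((g : Matrix (Fin 2) (Fin 2) F).det *
        (h : Matrix (Fin 2) (Fin 2) F).det) = 0 := by linear_combination -hdet
    linear_combination (mul_eq_zero.1 this).resolve_right hne0
  have hsc : ∀ (x : GL (Fin 2) F) (a : F), pgl 2 F x ≠ 1 →
      (x : Matrix (Fin 2) (Fin 2) F) ≠ a • 1 := by
    intro x a hx1 hxe
    by_cases ha : a = 0
    · rw [ha, zero_smul] at hxe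
      exact ((Matrix.isUnit_iff_isUnit_det _).1 x.isUnit).ne_zero (by rw [hxe, Matrix.det_zero])
    · exact hx1 ((pgl_eq_one_iff le_rfl).2 ⟨Units.mk0 a ha, Units.ext (by rw [hxe, scalarGL_coe]; rfl)⟩)
  have hg' := congrArg Units.val hg
  have hh' := congrArg Units.val hh
  rw [Units.val_mul, scalarGL_coe] at hg' hh'
  rcases mul_eq_zero.1 he2 with h1 | h1
  · exfalso
    rw [sub_eq_zero] at h1
    rw [h1, one_smul] at heM
    obtain ⟨a, ha⟩ := eq_smul_of_comm h2 (traceless_of_sq hg' fun a => hsc g a hg1)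
      (traceless_of_sq hh' fun a => hsc h a hh1) (by
        intro h0; exact hsc g 0 hg1 (by rw [zero_smul]; exact h0)) heM
    have ha0 : a ≠ 0 := by
      rintro rfl
      exact hsc h 0 hh1 (by rw [ha, zero_smul, zero_smul])
    exact hne ((pgl_eq_iff le_rfl).2 ⟨(Units.mk0 a ha0)⁻¹, Units.ext (by
      rw [Units.val_mul, scalarGL_coe, ha, Matrix.smul_mul, Matrix.mul_smul, mul_one, smul_smul]
      simp [ha0])⟩)
  · rw [eq_neg_of_add_eq_zero_left h1, neg_smul, one_smul] at heM
    rw [heM, neg_neg]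

variable {V : Type u} [CommGroup V] [Finite V] {H : Subgroup (MulAut V)}

/-- The linear case. -/
theorem bound_psl {n : ℕ} (hF : Fintype.card F = 3 ^ (2 * n + 1))
    [IsSimpleGroup (ProjectiveSpecialLinearGroup (Fin 2) F)]
    {ψ : ↥H →* ProjectiveSpecialLinearGroup (Fin 2) F} (hG : Good H ψ)
    (h2 : ∀ v : V, v * v = 1) {X : Subgroup (MulAut V)}
    (hS3 : ¬ Cfsg.Involves (Perm (Fin 3)) ↥X) (hHX : H ≤ X) {A : Subgroup (MulAut V)} (hAX : A ≤ X)
    (hA : ∀ a ∈ A, a * a = 1) (hmin : ∀ B < A, Bound B)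
    (hAH : A ≤ Subgroup.normalizer (H : Set (MulAut V)))
    (hC : A ⊓ Subgroup.centralizer (H : Set (MulAut V)) = ⊥) : Bound A := by
  classical
  haveI := finite_aut (V := V)
  haveI := hG.eq_top_of_solvable_map
  have hn := not_solvable_rank hF
  have h3F : (3 : F) = 0 := by
    have := FiniteField.cast_card_eq_zero F
    rw [hF] at this
    push_cast at this
    exact eq_zero_of_pow_eq_zero this
  have h2F : (2 : F) ≠ 0 := fun h => one_ne_zero (α := F) (by linear_combination h3F - h)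
  obtain ⟨β, hβi, hβ⟩ := hG.exists_hom hAH hC
  have hsq : ∀ a : ↥A, β a * β a = 1 := fun a => by
    rw [← map_mul, show a * a = 1 from Subtype.ext (hA a a.2), map_one]
  choose g hg c hgc using fun a => exists_gl_of_sq hF (hsq a)
  have hne : ∀ a b : ↥A, a ≠ b → pgl 2 F (g a) ≠ pgl 2 F (g b) := fun a b hab h =>
    hab (hβi (by rw [hg a, hg b, h]))
  have hne1 : ∀ a : ↥A, a ≠ 1 → pgl 2 F (g a) ≠ 1 := fun a ha h =>
    ha (hβi (by rw [hg a, h, map_one]))
  have hcomm : ∀ a b : ↥A, pgl 2 F (g a) * pgl 2 F (g b) = pgl 2 F (g b) * pgl 2 F (g a) := by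
    intro a b
    rw [← hg, ← hg, ← map_mul, ← map_mul,
      show a * b = b * a from Subtype.ext (FacGen.isMulCommutative_of_sq hA a a.2 b b.2)]
  have hanti : ∀ a b : ↥A, a ≠ 1 → b ≠ 1 → a ≠ b →
      (g b : Matrix (Fin 2) (Fin 2) F) * (g a : Matrix (Fin 2) (Fin 2) F)
        = -((g a : Matrix (Fin 2) (Fin 2) F) * (g b : Matrix (Fin 2) (Fin 2) F)) := fun a b ha hb hab =>
    anticomm_of_comm h2F (hgc a) (hgc b) (hne1 a ha) (hne1 b hb) (hne a b hab) (hcomm a b)
  by_cases hA1 : A = ⊥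
  · rw [hA1]; exact bound_bot
  obtain ⟨a, ha1⟩ := Subgroup.ne_bot_iff_exists_ne_one.1 hA1
  have hac : (a : MulAut V) ∉ Subgroup.centralizer (H : Set (MulAut V)) := fun h => ha1 (Subtype.ext (by
    have : (a : MulAut V) ∈ A ⊓ Subgroup.centralizer (H : Set (MulAut V)) := ⟨a.2, h⟩
    rwa [hC, Subgroup.mem_bot] at this))
  by_cases hA2 : ∀ b : ↥A, b = 1 ∨ b = a
  · have h4 := bound_two hG h2 hS3 hHX (hAX a.2) (hA a a.2) (hAH a.2) hac
    refine le_trans ?_ h4
    refine Nat.mul_le_mul ?_ (Subgroup.card_le_of_le (fixSub_anti (Subgroup.zpowers_le.2 a.2)))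
    have : Nat.card A ≤ 2 := by
      haveI : Fintype ↥A := Fintype.ofFinite _
      rw [Nat.card_eq_fintype_card]
      calc Fintype.card ↥A = (Finset.univ : Finset ↥A).card := rfl
        _ ≤ ({1, a} : Finset ↥A).card := Finset.card_le_card fun b _ => by simpa using hA2 b
        _ ≤ 2 := Finset.card_le_two
    exact (Nat.pow_le_pow_left this 2).trans le_rfl
  push Not at hA2
  obtain ⟨b, hb1, hba⟩ := hA2
  have hab1 : a * b ≠ 1 := fun h => hba (by
    have : a * a = 1 := Subtype.ext (hA a a.2)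
    rw [← this] at h
    exact mul_left_cancel h)
  have hfour : ∀ z : ↥A, z = 1 ∨ z = a ∨ z = b ∨ z = a * b := by
    intro z
    by_contra hz
    push Not at hz
    obtain ⟨hz1, hza, hzb, hzab⟩ := hz
    have e1 := hanti a z ha1 hz1 (Ne.symm hza)
    have e2 := hanti b z hb1 hz1 (Ne.symm hzb)
    have e3 := hanti a b ha1 hb1 (Ne.symm hba)
    set M := (g a : Matrix (Fin 2) (Fin 2) F) with hM
    set N := (g b : Matrix (Fin 2) (Fin 2) F) with hN
    set P := (g z : Matrix (Fin 2) (Fin 2) F) with hP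
    have htr : ∀ (x : ↥A), x ≠ 1 → (g x : Matrix (Fin 2) (Fin 2) F) 1 1
        = -(g x : Matrix (Fin 2) (Fin 2) F) 0 0 := by
      intro x hx
      have hx' := congrArg Units.val (hgc x)
      rw [Units.val_mul, scalarGL_coe] at hx'
      refine traceless_of_sq hx' fun r hr => ?_
      by_cases hr0 : r = 0
      · rw [hr0, zero_smul] at hr
        exact ((Matrix.isUnit_iff_isUnit_det _).1 (g x).isUnit).ne_zero
          (by rw [hr, Matrix.det_zero])
      · exact hne1 x hx ((pgl_eq_one_iff le_rfl).2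
          ⟨Units.mk0 r hr0, Units.ext (by rw [hr, scalarGL_coe]; rfl)⟩)
    have htMN : (M * N) 1 1 = -(M * N) 0 0 := by
      have d0 := congrFun (congrFun e3 0) 0
      simp [Matrix.mul_apply, Fin.sum_univ_two] at d0 ⊢
      rw [show M 1 1 = -M 0 0 from htr a ha1, show N 1 1 = -N 0 0 from htr b hb1]
      linear_combination d0
    have hPMN : (M * N) * P = P * (M * N) := by
      rw [← mul_assoc P, e1, neg_mul, mul_assoc M P N, e2, mul_neg, neg_neg, mul_assoc]
    have hMN0 : M * N ≠ 0 := by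
      rw [hM, hN, ← Units.val_mul]
      exact Units.ne_zero _
    obtain ⟨r, hr⟩ := eq_smul_of_comm h2F htMN (htr z hz1) hMN0 hPMN
    have hr0 : r ≠ 0 := by
      rintro rfl
      rw [zero_smul] at hr
      exact Units.ne_zero (g z) hr
    have : β z = β (a * b) := by
      rw [map_mul, hg a, hg b, hg z, ← map_mul]
      refine (pgl_eq_iff le_rfl).2 ⟨Units.mk0 r hr0, Units.ext ?_⟩
      rw [Units.val_mul, scalarGL_coe, Units.val_mul, Matrix.mul_smul, mul_one]
      exact hr
    exact hzab (hβi this)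
  have hM2 := congrArg Units.val (hgc a)
  rw [Units.val_mul, scalarGL_coe] at hM2
  obtain ⟨s, hsodd, hs1, hMs, hNs⟩ := exists_torus_element hn hF
    (M := (g a : Matrix (Fin 2) (Fin 2) F)) (N := (g b : Matrix (Fin 2) (Fin 2) F))
    (c a).ne_zero hM2 (fun r hr => by
      by_cases hr0 : r = 0
      · rw [hr0, zero_smul] at hr
        exact Units.ne_zero (g a) hr
      · exact hne1 a ha1 ((pgl_eq_one_iff le_rfl).2
          ⟨Units.mk0 r hr0, Units.ext (by rw [hr, scalarGL_coe]; rfl)⟩))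
    (hanti a b ha1 hb1 (Ne.symm hba))
  let q : ProjectiveSpecialLinearGroup (Fin 2) F := QuotientGroup.mk s
  have hqa : β a q = q := by
    rw [hg a]
    refine isSemi_pgl (g a) s s ?_
    rw [act_apply, fieldMap_one, eq_mul_inv_iff_mul_eq]
    exact Units.ext hMs.symm
  have hqb : β b q = q⁻¹ := by
    rw [hg b]
    refine isSemi_pgl (g b) s s⁻¹ ?_
    rw [act_apply, fieldMap_one, eq_mul_inv_iff_mul_eq]
    exact Units.ext hNs.symm
  have hq1 : q ≠ 1 := by
    intro h
    have hc' := (QuotientGroup.eq_one_iff s).1 h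
    rw [Matrix.SpecialLinearGroup.mem_center_iff] at hc'
    obtain ⟨r, hr, hrs⟩ := hc'
    have hs2 : s ^ 2 = 1 := by
      refine Subtype.ext ?_
      rw [Matrix.SpecialLinearGroup.coe_pow, Matrix.SpecialLinearGroup.coe_one, ← hrs, ← map_pow]
      rw [Fintype.card_fin] at hr
      rw [hr, map_one]
    exact hs1 (orderOf_eq_one_iff.1 (Nat.Coprime.eq_one_of_dvd (Nat.coprime_two_right.2 hsodd)
      (orderOf_dvd_of_pow_eq_one hs2)))
  have hqodd : Odd (orderOf q) :=
    Odd.of_dvd_nat hsodd (orderOf_map_dvd (QuotientGroup.mk' _) s)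
  obtain ⟨x, hxH, hx1, hxodd, hax, hbx⟩ := hG.exists_lift (hA b b.2) (hA a a.2)
    (FacGen.isMulCommutative_of_sq hA b b.2 a a.2) (hAH b.2) (hAH a.2) (fun h h' => hβ b h h')
    (fun h h' => hβ a h h') hqodd hq1 hqb hqa
  by_contra hnb
  refine hx1 (eq_one_of_minimal h2 hS3 hAX hA hmin hnb (Subgroup.zpowers_le.2 a.2) b.2 ?_ ?_
    (hHX hxH) hxodd ?_ hbx)
  · intro hb
    obtain ⟨i, hi⟩ := Subgroup.mem_zpowers_iff.1 hb
    rcases Int.even_or_odd' i with ⟨j, rfl | rfl⟩
    · rw [_root_.zpow_mul, _root_.zpow_two, hA a a.2, _root_.one_zpow] at hi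
      exact hb1 (Subtype.ext hi.symm)
    · rw [_root_.zpow_add_one, _root_.zpow_mul, _root_.zpow_two, hA a a.2, _root_.one_zpow, one_mul] at hi
      exact hba (Subtype.ext hi.symm)
  · haveI : Fintype ↥A := Fintype.ofFinite _
    have h4 : Nat.card A ≤ 4 := by
      rw [Nat.card_eq_fintype_card]
      calc Fintype.card ↥A = (Finset.univ : Finset ↥A).card := rfl
        _ ≤ ({1, a, b, a * b} : Finset ↥A).card := Finset.card_le_card fun z _ => by simpa using hfour z
        _ ≤ 4 := Finset.card_le_four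
    rw [Nat.card_zpowers, orderOf_eq_prime (p := 2) (by rw [pow_two]; exact hA a a.2)
      fun h => ha1 (Subtype.ext h)]
    exact h4
  · intro z hz
    obtain ⟨i, rfl⟩ := Subgroup.mem_zpowers_iff.1 hz
    exact (show Commute (a : MulAut V) x from hax).zpow_left i

end Cfsg.Agent.T51.Bnd
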