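import Cfsg.Agent.AutPSL.Centralizer

/-!
Anticommuting traceless 2×2 matrices over a field with `3^(2n+1) > 3` elements: the torus
centralizing one of them contains a nontrivial element of odd order inverted by the other.
-/

set_option autoImplicit false
set_option linter.unusedVariables false
set_option linter.style.haveILetI false

namespace Cfsg.Agent.T51.Bnd

open Matrix

theorem exists_odd_prime_dvd {m : ℕ} (hm : Odd m) (h1 : m ≠ 1) :
    ∃ p, p.Prime ∧ p ≠ 2 ∧ p ∣ m :=
  ⟨m.minFac, Nat.minFac_prime h1, fun h => Nat.not_even_iff_odd.2 hm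
    (even_iff_two_dvd.2 (h ▸ Nat.minFac_dvd m)), Nat.minFac_dvd m⟩

theorem three_pow_mod_eight (n : ℕ) : 3 ^ (2 * n + 1) % 8 = 3 := by
  induction n with
  | zero => norm_num
  | succ n ih =>
    rw [show 2 * (n + 1) + 1 = (2 * n + 1) + 2 by ring, pow_add, Nat.mul_mod, ih]; norm_num

theorem q_facts {n : ℕ} (hn : 1 ≤ n) {q : ℕ} (hq : q = 3 ^ (2 * n + 1)) :
    27 ≤ q ∧ (∃ p, p.Prime ∧ p ≠ 2 ∧ p ∣ q - 1) ∧ ∃ p, p.Prime ∧ p ≠ 2 ∧ p ∣ q + 1 := by
  have h27 : 27 ≤ q := by
    rw [hq, show (27 : ℕ) = 3 ^ 3 by norm_num]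
    exact Nat.pow_le_pow_right (by norm_num) (by omega)
  have h8 : q % 8 = 3 := hq ▸ three_pow_mod_eight n
  refine ⟨h27, ?_, ?_⟩
  · obtain ⟨p, hp, hp2, hd⟩ := exists_odd_prime_dvd (m := (q - 1) / 2)
      (Nat.odd_iff.2 (by omega)) (by omega)
    exact ⟨p, hp, hp2, hd.trans (Nat.div_dvd_of_dvd (by omega))⟩
  · obtain ⟨p, hp, hp2, hd⟩ := exists_odd_prime_dvd (m := (q + 1) / 4)
      (Nat.odd_iff.2 (by omega)) (by omega)
    exact ⟨p, hp, hp2, hd.trans (Nat.div_dvd_of_dvd (by omega))⟩

variable {F : Type*} [Field F]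

/-- A matrix with scalar square which is not scalar is traceless. -/
theorem traceless_of_sq {M : Matrix (Fin 2) (Fin 2) F} {δ : F} (hM : M * M = δ • 1)
    (hns : ∀ c : F, M ≠ c • 1) : M 1 1 = -M 0 0 := by
  by_contra htr
  have e01 := congrFun (congrFun hM 0) 1
  have e10 := congrFun (congrFun hM 1) 0
  have e00 := congrFun (congrFun hM 0) 0
  have e11 := congrFun (congrFun hM 1) 1
  simp [Matrix.mul_apply, Fin.sum_univ_two] at e01 e10 e00 e11
  have hne : M 0 0 + M 1 1 ≠ 0 := fun h => htr (by linear_combination h)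
  have h01 : M 0 1 = 0 := by
    have : M 0 1 * (M 0 0 + M 1 1) = 0 := by linear_combination e01
    exact (mul_eq_zero.1 this).resolve_right hne
  have h10 : M 1 0 = 0 := by
    have : M 1 0 * (M 0 0 + M 1 1) = 0 := by linear_combination e10
    exact (mul_eq_zero.1 this).resolve_right hne
  have heq : M 0 0 = M 1 1 := by
    rw [h01, h10] at e00 e11
    have : (M 0 0 - M 1 1) * (M 0 0 + M 1 1) = 0 := by linear_combination e00 - e11
    exact sub_eq_zero.1 ((mul_eq_zero.1 this).resolve_right hne)
  refine hns (M 0 0) ?_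
  ext i j
  fin_cases i <;> fin_cases j <;> simp [h01, h10, heq]

/-- Commuting traceless matrices are proportional. -/
theorem eq_smul_of_comm {M N : Matrix (Fin 2) (Fin 2) F} (h2 : (2 : F) ≠ 0)
    (hM : M 1 1 = -M 0 0) (hN : N 1 1 = -N 0 0) (hM0 : M ≠ 0) (hc : M * N = N * M) :
    ∃ c : F, N = c • M := by
  have e01 := congrFun (congrFun hc 0) 1
  have e10 := congrFun (congrFun hc 1) 0
  have e00 := congrFun (congrFun hc 0) 0
  simp [Matrix.mul_apply, Fin.sum_univ_two] at e01 e10 e00
  rw [hM, hN] at e01 e10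
  have r1 : M 0 1 * N 1 0 = N 0 1 * M 1 0 := by linear_combination e00
  have r2 : M 0 0 * N 0 1 = N 0 0 * M 0 1 :=
    mul_left_cancel₀ h2 (by linear_combination e01)
  have r3 : M 0 0 * N 1 0 = N 0 0 * M 1 0 :=
    mul_left_cancel₀ h2 (by linear_combination -e10)
  by_cases hx : M 0 0 = 0
  · by_cases hy : M 0 1 = 0
    · have hz : M 1 0 ≠ 0 := fun hz => hM0 (by ext i j; fin_cases i <;> fin_cases j <;> simp [hx, hy, hz, hM])
      refine ⟨N 1 0 / M 1 0, ?_⟩
      have h1 : N 0 0 = 0 := by simpa [hx, hz] using r3.symm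
      have h3 : N 0 1 = 0 := by simpa [hy, hz] using r1.symm
      ext i j
      fin_cases i <;> fin_cases j <;> simp [hx, hy, hM, hN, h1, h3, hz]
    · refine ⟨N 0 1 / M 0 1, ?_⟩
      have h1 : N 0 0 = 0 := by simpa [hx, hy] using r2.symm
      ext i j
      fin_cases i <;> fin_cases j <;> simp [hx, hy, hM, hN, h1]
      field_simp
      linear_combination r1
  · refine ⟨N 0 0 / M 0 0, ?_⟩
    ext i j
    fin_cases i <;> fin_cases j <;> simp [hx, hM, hN]
    · field_simp; linear_combination r2
    · field_simp; linear_combination r3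

/-- The torus element. -/
theorem exists_torus_element [Fintype F] {n : ℕ} (hn : 1 ≤ n)
    (hF : Fintype.card F = 3 ^ (2 * n + 1)) {M N : Matrix (Fin 2) (Fin 2) F} {δ : F} (hδ : δ ≠ 0)
    (hM : M * M = δ • 1) (hns : ∀ c : F, M ≠ c • 1) (hanti : N * M = -(M * N)) :
    ∃ s : Matrix.SpecialLinearGroup (Fin 2) F, Odd (orderOf s) ∧ s ≠ 1 ∧
      M * (s : Matrix (Fin 2) (Fin 2) F) = (s : Matrix (Fin 2) (Fin 2) F) * M ∧
      N * (s : Matrix (Fin 2) (Fin 2) F) =
        ((s⁻¹ : Matrix.SpecialLinearGroup (Fin 2) F) : Matrix (Fin 2) (Fin 2) F) * N := by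
  classical
  have htr := traceless_of_sq hM hns
  have hdel : δ = M 0 0 ^ 2 + M 0 1 * M 1 0 := by
    have := congrFun (congrFun hM 0) 0
    simp [Matrix.mul_apply, Fin.sum_univ_two] at this
    linear_combination -this
  have hdet : ∀ α β : F, (α • (1 : Matrix (Fin 2) (Fin 2) F) + β • M).det = α ^ 2 - δ * β ^ 2 := by
    intro α β
    simp [Matrix.det_fin_two, htr, hdel]
    ring
  have hadj : ∀ α β : F, (α • (1 : Matrix (Fin 2) (Fin 2) F) + β • M).adjugate = α • 1 + (-β) • M := by
    intro α β
    rw [Matrix.adjugate_fin_two]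
    ext i j
    fin_cases i <;> fin_cases j <;> simp [htr]
  have hmul : ∀ α β α' β' : F, (α • (1 : Matrix (Fin 2) (Fin 2) F) + β • M) * (α' • 1 + β' • M) =
      (α * α' + δ * β * β') • 1 + (α * β' + β * α') • M := by
    intro α β α' β'
    simp only [add_mul, mul_add, Matrix.smul_mul, Matrix.mul_smul, one_mul, mul_one, hM, smul_smul,
      add_smul]
    module
  have huniq : ∀ α β α' β' : F, α • (1 : Matrix (Fin 2) (Fin 2) F) + β • M = α' • 1 + β' • M →
      α = α' ∧ β = β' := by
    intro α β α' β' h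
    have hb : β = β' := by
      by_contra hne
      refine hns ((α' - α) / (β - β')) ?_
      have h1 : (β - β') • M = (α' - α) • (1 : Matrix (Fin 2) (Fin 2) F) := by
        rw [sub_smul, sub_smul, sub_eq_sub_iff_add_eq_add, add_comm (α' • _), add_comm (β • M)]
        rw [h]; abel
      calc M = (β - β')⁻¹ • ((β - β') • M) := by rw [smul_smul, inv_mul_cancel₀ (sub_ne_zero.2 hne), one_smul]
        _ = _ := by rw [h1, smul_smul, div_eq_inv_mul]
    subst hb
    refine ⟨?_, rfl⟩
    simpa using congrFun (congrFun h 0) 0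
  let K : Subgroup (Matrix.SpecialLinearGroup (Fin 2) F) :=
    { carrier := {s | ∃ α β : F, (s : Matrix (Fin 2) (Fin 2) F) = α • 1 + β • M}
      one_mem' := ⟨1, 0, by simp⟩
      mul_mem' := by
        rintro s t ⟨α, β, hs⟩ ⟨α', β', ht⟩
        exact ⟨_, _, by rw [Matrix.SpecialLinearGroup.coe_mul, hs, ht, hmul]⟩
      inv_mem' := by
        rintro s ⟨α, β, hs⟩
        exact ⟨α, -β, by rw [Matrix.SpecialLinearGroup.coe_inv, hs, hadj]⟩ }
  have h3 : (3 : F) = 0 := by
    have := FiniteField.cast_card_eq_zero F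
    rw [hF] at this
    push_cast at this
    exact eq_zero_of_pow_eq_zero this
  have h2 : (2 : F) ≠ 0 := fun h => one_ne_zero (α := F) (by linear_combination h3 - h)
  obtain ⟨h27, ⟨p₁, hp₁, hp₁2, hd₁⟩, p₂, hp₂, hp₂2, hd₂⟩ := q_facts hn hF
  -- an odd prime divisor of the order of `K`
  obtain ⟨p, hp, hp2, hpK⟩ : ∃ p, p.Prime ∧ p ≠ 2 ∧ p ∣ Nat.card K := by
    by_cases hsq : ∃ e : F, e * e = δ
    · obtain ⟨e, he⟩ := hsq
      have he0 : e ≠ 0 := by rintro rfl; exact hδ (by simpa using he.symm)
      let φ : Fˣ → K := fun u =>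
        ⟨⟨(((u : F) + (u : F)⁻¹) / 2) • (1 : Matrix (Fin 2) (Fin 2) F) + (((u : F) - (u : F)⁻¹) / (2 * e)) • M, by
          rw [hdet, ← he]
          have := u.ne_zero
          field_simp
          ring⟩, _, _, rfl⟩
      have hφ : ∀ u v, φ (u * v) = φ u * φ v := by
        intro u v
        refine Subtype.ext (Subtype.ext ?_)
        show _ = ((_ : Matrix.SpecialLinearGroup (Fin 2) F) : Matrix (Fin 2) (Fin 2) F) * _
        simp only [φ]
        rw [hmul, ← he, Units.val_mul]
        have := u.ne_zero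
        have := v.ne_zero
        congr 2 <;> field_simp <;> ring
      have hinj : Function.Injective φ := by
        intro u v h
        obtain ⟨h1, h4⟩ := huniq _ _ _ _ (congrArg (fun z : K => ((z : Matrix.SpecialLinearGroup (Fin 2) F) : Matrix (Fin 2) (Fin 2) F)) h)
        refine Units.ext ?_
        have hu : ∀ w : Fˣ, (w : F) =
            ((w : F) + (w : F)⁻¹) / 2 + e * (((w : F) - (w : F)⁻¹) / (2 * e)) := by
          intro w
          have := w.ne_zero
          field_simp
          ring
        rw [hu u, hu v, h1, h4]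
      refine ⟨p₁, hp₁, hp₁2, hd₁.trans ?_⟩
      have hcard : Nat.card Fˣ = Fintype.card F - 1 := by
        rw [Nat.card_eq_fintype_card, Fintype.card_units]
      rw [← hcard]
      exact Subgroup.card_dvd_of_injective (MonoidHom.mk' φ hφ) hinj
    · push Not at hsq
      have hne : ∀ t : F, 1 - δ * t ^ 2 ≠ 0 := by
        intro t h
        by_cases ht : t = 0
        · simp [ht] at h
        · exact hsq t⁻¹ (by field_simp; linear_combination h)
      let φ : Option F → K := fun o => match o with
        | none => ⟨⟨(-1 : F) • 1 + (0 : F) • M, by rw [hdet]; ring⟩, _, _, rfl⟩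
        | some t => ⟨⟨((1 + δ * t ^ 2) / (1 - δ * t ^ 2)) • 1 + (2 * t / (1 - δ * t ^ 2)) • M, by
            rw [hdet]
            have := hne t
            field_simp
            ring⟩, _, _, rfl⟩
      have hinj : Function.Injective φ := by
        intro o o' h
        have h' := congrArg (fun z : K => ((z : Matrix.SpecialLinearGroup (Fin 2) F) : Matrix (Fin 2) (Fin 2) F)) h
        rcases o with _ | t <;> rcases o' with _ | t' <;> simp only [φ] at h'
        · rfl
        · obtain ⟨h1, -⟩ := huniq _ _ _ _ h'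
          have := hne t'
          field_simp at h1
          exact absurd (by linear_combination -h1 : (2 : F) = 0) h2
        · obtain ⟨h1, -⟩ := huniq _ _ _ _ h'
          have := hne t
          field_simp at h1
          exact absurd (by linear_combination h1 : (2 : F) = 0) h2
        · obtain ⟨h1, h4⟩ := huniq _ _ _ _ h'
          have a1 : (1 + δ * t ^ 2) / (1 - δ * t ^ 2) + 1 = 2 / (1 - δ * t ^ 2) := by
            have := hne t
            field_simp
            ring
          have a2 : (1 + δ * t' ^ 2) / (1 - δ * t' ^ 2) + 1 = 2 / (1 - δ * t' ^ 2) := by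
            have := hne t'
            field_simp
            ring
          have e : 2 / (1 - δ * t ^ 2) = 2 / (1 - δ * t' ^ 2) := by rw [← a1, ← a2, h1]
          have e' : t * (2 / (1 - δ * t ^ 2)) = t' * (2 / (1 - δ * t' ^ 2)) := by
            rw [mul_div_assoc', mul_div_assoc', mul_comm t, mul_comm t', h4]
          rw [e] at e'
          exact congrArg some (mul_right_cancel₀ (div_ne_zero h2 (hne t')) e')
      have hsurj : Function.Surjective φ := by
        rintro ⟨s, α, β, hs⟩
        have hd : α ^ 2 - δ * β ^ 2 = 1 := by rw [← hdet, ← hs, s.2]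
        by_cases hα : α + 1 = 0
        · have hα' : α = -1 := eq_neg_of_add_eq_zero_left hα
          have hβ : β = 0 := by
            subst hα'
            have : δ * β ^ 2 = 0 := by linear_combination -hd
            exact pow_eq_zero_iff two_ne_zero |>.1 ((mul_eq_zero.1 this).resolve_left hδ)
          exact ⟨none, Subtype.ext (Subtype.ext (by simp [φ, hs, hα', hβ]))⟩
        · refine ⟨some (β / (1 + α)), Subtype.ext (Subtype.ext ?_)⟩
          have h1 : 1 + α ≠ 0 := by rwa [add_comm]
          have hkey : 1 - δ * (β / (1 + α)) ^ 2 = 2 / (1 + α) := by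
            field_simp
            linear_combination hd
          show _ = (s : Matrix (Fin 2) (Fin 2) F)
          rw [hs]
          simp only [φ]
          rw [hkey]
          congr 2
          · field_simp
            linear_combination -hd
          · field_simp
      refine ⟨p₂, hp₂, hp₂2, ?_⟩
      rw [← Nat.card_congr (Equiv.ofBijective φ ⟨hinj, hsurj⟩), Nat.card_eq_fintype_card,
        Fintype.card_option]
      exact hd₂
  haveI := Fact.mk hp
  haveI : Finite (Matrix.SpecialLinearGroup (Fin 2) F) := inferInstance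
  obtain ⟨⟨s, α, β, hs⟩, hso⟩ := exists_prime_orderOf_dvd_card' (G := K) p hpK
  rw [← Subgroup.orderOf_coe] at hso
  have hso' : orderOf s = p := hso
  refine ⟨s, hso' ▸ hp.odd_of_ne_two hp2, fun h => ?_, ?_, ?_⟩
  · rw [h, orderOf_one] at hso'
    exact hp.one_lt.ne hso'
  · simp only [hs, mul_add, add_mul, Matrix.mul_smul, Matrix.smul_mul, mul_one, one_mul]
  · rw [Matrix.SpecialLinearGroup.coe_inv]
    simp only [hs, hadj]
    simp only [mul_add, add_mul, Matrix.mul_smul, Matrix.smul_mul, mul_one, one_mul, hanti, neg_smul,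
      smul_neg, neg_mul]

end Cfsg.Agent.T51.Bnd
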