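import Cfsg.Agent.T51.BndAut
import Cfsg.Agent.T51.BndTorus
import Cfsg.Agent.Lib.Involution.BaerSuzuki
import Cfsg.Agent.Lib.RankOne.SzBridge
import Cfsg.Agent.LocalEven61.SuzukiTorusElement
import Cfsg.Agent.LocalEven61.SL2TorusElement
import Cfsg.Agent.KnownSimple.OutSuzuki.Main
import Cfsg.Agent.AutPSL.Main
import Cfsg.Agent.AutPSL.Centralizer
import Cfsg.Agent.CG26.FieldAutCard
import Cfsg.Agent.Lib.CharCore.Burnside
import Cfsg.Agent.Lib.LinearGroup.Card

/-!
The bound for an elementary abelian group acting faithfully on a perfect group of automorphisms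
with central quotient `Sz(q)` or `PSL₂(3^(2n+1))`.
-/

set_option autoImplicit false
set_option linter.unusedVariables false
set_option linter.unusedSectionVars false
set_option linter.style.haveILetI false

namespace Cfsg.Agent.T51.Bnd

open QOff Equiv

universe u

section General

variable {G : Type*} [Group G] [Finite G]

/-- An involution acting on a group without normal 2-subgroups inverts an element of odd order. -/
theorem exists_inverted_involution {H : Subgroup G} {a : G} (ha : a * a = 1)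
    (haH : a ∈ Subgroup.normalizer (H : Set G))
    (hO : ∀ N : Subgroup ↥H, N.Normal → IsPGroup 2 N → N = ⊥)
    (hac : a ∉ Subgroup.centralizer (H : Set G)) :
    ∃ x ∈ H ⊔ Subgroup.zpowers a, x ≠ 1 ∧ Odd (orderOf x) ∧ a * x * a⁻¹ = x⁻¹ := by
  haveI : Fact (Nat.Prime 2) := ⟨Nat.prime_two⟩
  by_contra hno
  push Not at hno
  set W := H ⊔ Subgroup.zpowers a with hW
  have haW : a ∈ W := Subgroup.mem_sup_right (Subgroup.mem_zpowers a)
  set a' : ↥W := ⟨a, haW⟩ with ha'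
  have ha2 : a' * a' = 1 := Subtype.ext ha
  have hai : a'⁻¹ = a' := inv_eq_of_mul_eq_one_right ha2
  obtain ⟨N, hN, hN2, haN⟩ := Involution.baerSuzuki (p := 2) a' (fun g => by
    set b := g * a' * g⁻¹ with hb
    have hb2 : b * b = 1 := by
      rw [hb, show g * a' * g⁻¹ * (g * a' * g⁻¹) = g * (a' * a') * g⁻¹ by group, ha2, mul_one,
        mul_inv_cancel]
    have hbi : b⁻¹ = b := inv_eq_of_mul_eq_one_right hb2
    set z := a' * b with hz
    have hinv : a' * z * a'⁻¹ = z⁻¹ := by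
      rw [hz, mul_inv_rev, hai, hbi, ← mul_assoc, ha2, one_mul]
    obtain ⟨k, m, hm, hkm⟩ := Nat.exists_eq_two_pow_mul_odd (orderOf_pos z).ne'
    have hz2 : IsPGroup 2 (Subgroup.zpowers z) := by
      refine IsPGroup.of_card (n := k) ?_
      rw [Nat.card_zpowers, hkm]
      have hzo : orderOf (z ^ 2 ^ k) = m := by
        rw [orderOf_pow_of_dvd (pow_ne_zero _ two_ne_zero) ⟨m, hkm⟩, hkm,
          Nat.mul_div_cancel_left _ (Nat.two_pow_pos k)]
      by_cases h1 : z ^ 2 ^ k = 1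
      · rw [h1, orderOf_one] at hzo
        rw [← hzo, mul_one]
      · exfalso
        refine hno _ (z ^ 2 ^ k : ↥W).2 (fun h => h1 (Subtype.ext h)) ?_ ?_
        · rw [Subgroup.orderOf_coe, hzo]
          exact hm
        · have h3 : a' * z ^ 2 ^ k * a'⁻¹ = (z ^ 2 ^ k)⁻¹ := by rw [← conj_pow, hinv, inv_pow]
          exact congrArg Subtype.val h3
    have ha2' : IsPGroup 2 (Subgroup.zpowers a') := by
      intro w
      obtain ⟨i, hi⟩ := Subgroup.mem_zpowers_iff.1 w.2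
      refine ⟨1, Subtype.ext ?_⟩
      rw [pow_one, SubmonoidClass.coe_pow, ← hi, ← zpow_natCast, ← zpow_mul, mul_comm, zpow_mul,
        zpow_natCast, pow_two, ha2, one_zpow, Subgroup.coe_one]
    have hn : Subgroup.zpowers a' ≤ Subgroup.normalizer (Subgroup.zpowers z : Set ↥W) := by
      have hc : ∀ w ∈ Subgroup.zpowers z, a' * w * a'⁻¹ ∈ Subgroup.zpowers z := by
        intro w hw
        obtain ⟨i, rfl⟩ := Subgroup.mem_zpowers_iff.1 hw
        rw [← conj_zpow, hinv]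
        exact Subgroup.zpow_mem _ (Subgroup.inv_mem _ (Subgroup.mem_zpowers z)) i
      refine Subgroup.zpowers_le.2 (Subgroup.mem_normalizer_iff.2 fun w => ⟨hc w, fun hw => ?_⟩)
      have := hc _ hw
      rwa [show a' * (a' * w * a'⁻¹) * a'⁻¹ = (a' * a') * w * (a' * a')⁻¹ by group, ha2, one_mul,
        inv_one, mul_one] at this
    refine (hz2.to_sup_of_normal_left' ha2' hn).to_le ((Subgroup.closure_le _).2 ?_)
    rintro w (rfl | rfl)
    · exact Subgroup.mem_sup_right (Subgroup.mem_zpowers _)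
    · have : b = a' * z := by rw [hz, ← mul_assoc, ha2, one_mul]
      rw [this]
      exact Subgroup.mul_mem _ (Subgroup.mem_sup_right (Subgroup.mem_zpowers _))
        (Subgroup.mem_sup_left (Subgroup.mem_zpowers _)))
  have hHW : H ≤ W := le_sup_left
  set M : Subgroup ↥H := N.comap (Subgroup.inclusion hHW) with hM
  have hMn : M.Normal := hN.comap _
  have hM2 : IsPGroup 2 M := hN2.comap_of_injective _ (Subgroup.inclusion_injective hHW)
  have hMb := hO M hMn hM2
  refine hac (Subgroup.mem_centralizer_iff.2 fun h hh => ?_)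
  have hah : a * h * a⁻¹ * h⁻¹ ∈ H :=
    H.mul_mem ((Subgroup.mem_normalizer_iff.1 haH h).1 hh) (H.inv_mem hh)
  have h1 : (⟨_, hah⟩ : ↥H) ∈ M := by
    show Subgroup.inclusion hHW ⟨_, hah⟩ ∈ N
    rw [show Subgroup.inclusion hHW ⟨_, hah⟩ =
      a' * ((⟨h, hHW hh⟩ : ↥W) * a'⁻¹ * (⟨h, hHW hh⟩ : ↥W)⁻¹) from Subtype.ext (by
        simp [ha', mul_assoc])]
    exact N.mul_mem haN (hN.conj_mem _ (N.inv_mem haN) _)
  rw [hMb, Subgroup.mem_bot] at h1
  have h3 : a * h * a⁻¹ * h⁻¹ = 1 := congrArg Subtype.val h1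
  exact (mul_inv_eq_iff_eq_mul.1 (mul_inv_eq_one.1 h3)).symm

end General

variable {V : Type u} [CommGroup V] [Finite V]

theorem card_fx_conj (g a : MulAut V) : Nat.card (fx (g * a * g⁻¹)) = Nat.card (fx a) := by
  rw [← card_fixSub_cj g (Subgroup.zpowers a)]
  congr 3
  rw [QOff.cj, MonoidHom.map_zpowers]
  rfl

theorem fx_sq_le (a b : MulAut V) :
    Nat.card (fx a) * Nat.card (fx b) ≤ Nat.card V * Nat.card ↥(fx a ⊓ fx b) := by
  have e := Thompson.card_sup_mul_card_inf (H := fx a) (K := fx b)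
    Subgroup.le_normalizer_of_normal
  rw [← e]
  exact Nat.mul_le_mul_right _ (Subgroup.card_le_card_group _)

variable {H : Subgroup (MulAut V)}

theorem Good.conj_injective {Q : Type*} [Group Q] [IsSimpleGroup Q] {ψ : ↥H →* Q}
    (hG : Good H ψ) : Function.Injective (MulAut.conj : Q →* MulAut Q) := by
  refine (injective_iff_map_eq_one _).2 fun q hq => ?_
  have hq' : q ∈ Subgroup.center Q := Subgroup.mem_center_iff.2 fun w => by
    have := DFunLike.congr_fun hq w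
    rw [MulAut.conj_apply, MulAut.one_apply, mul_inv_eq_iff_eq_mul] at this
    exact this.symm
  rcases (inferInstance : (Subgroup.center Q).Normal).eq_bot_or_eq_top with h | h
  · rwa [h, Subgroup.mem_bot] at hq'
  · exfalso
    haveI := hG.eq_top_of_solvable_map
    refine Group.IsPerfect.not_isSolvable Q ?_
    exact Group.isSolvable_of_comm fun x y =>
      Subgroup.mem_center_iff.1 (h ▸ Subgroup.mem_top y : y ∈ Subgroup.center Q) x

/-- A group of order two. -/
theorem bound_two {Q : Type*} [Group Q] [IsSimpleGroup Q] {ψ : ↥H →* Q} (hG : Good H ψ)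
    (h2 : ∀ v : V, v * v = 1) {X : Subgroup (MulAut V)}
    (hS3 : ¬ Cfsg.Involves (Perm (Fin 3)) ↥X) (hHX : H ≤ X) {a : MulAut V} (haX : a ∈ X)
    (ha : a * a = 1) (haH : a ∈ Subgroup.normalizer (H : Set (MulAut V)))
    (hac : a ∉ Subgroup.centralizer (H : Set (MulAut V))) :
    4 * Nat.card (fx a) ≤ Nat.card V := by
  haveI := finite_aut (V := V)
  haveI : Fact (Nat.Prime 2) := ⟨Nat.prime_two⟩
  obtain ⟨x, hx, hx1, hodd, hinv⟩ :=
    exists_inverted_involution ha haH (fun N hN hN2 => hG.eq_bot_of_normal hN hN2) hac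
  by_contra hlt
  refine hx1 (inverted_small h2 hS3 haX (sup_le hHX (Subgroup.zpowers_le.2 haX) hx) ha hodd hinv ?_)
  obtain ⟨i, hi⟩ := IsPGroup.iff_card.1 (isPGroup_two h2)
  obtain ⟨j, hj⟩ := IsPGroup.iff_card.1 ((isPGroup_two h2).to_subgroup (fx a))
  rw [hi, hj] at hlt ⊢
  rw [← pow_succ']
  refine Nat.pow_le_pow_right two_pos ?_
  rw [not_le, show 4 * 2 ^ j = 2 ^ (j + 2) by ring, Nat.pow_lt_pow_iff_right one_lt_two] at hlt
  omega

/-- The Suzuki case. -/
theorem bound_sz {F : Type*} [Field F] [Fintype F] {m : ℕ} (hm : 1 ≤ m)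
    (hF : Fintype.card F = 2 ^ (2 * m + 1)) {ψ : ↥H →* Cfsg.Sz F m} (hG : Good H ψ)
    (h2 : ∀ v : V, v * v = 1) {A : Subgroup (MulAut V)} (hA : ∀ a ∈ A, a * a = 1)
    (hAH : A ≤ Subgroup.normalizer (H : Set (MulAut V)))
    (hC : A ⊓ Subgroup.centralizer (H : Set (MulAut V)) = ⊥) : Bound A := by
  classical
  haveI := finite_aut (V := V)
  haveI : Fact (Nat.Prime 2) := ⟨Nat.prime_two⟩
  haveI := Suzuki.isSimpleGroup hF hm
  obtain ⟨β, hβi, hβ⟩ := hG.exists_hom hAH hC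
  have hci := hG.conj_injective
  have hinner : ∀ a : ↥A, ∃ u : Cfsg.Sz F m, MulAut.conj u = β a := by
    intro a
    have h1 : (QuotientGroup.mk (β a) : Cfsg.Out (Cfsg.Sz F m)) = 1 := by
      refine orderOf_eq_one_iff.1 ?_
      have hd1 : orderOf (QuotientGroup.mk (β a) : Cfsg.Out (Cfsg.Sz F m)) ∣ 2 :=
        orderOf_dvd_of_pow_eq_one (by
          rw [← QuotientGroup.mk_pow, ← map_pow, pow_two,
            show a * a = 1 from Subtype.ext (hA a a.2), map_one, QuotientGroup.mk_one])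
      have hd2 := orderOf_dvd_natCard (QuotientGroup.mk (β a) : Cfsg.Out (Cfsg.Sz F m))
      rw [KnownSimple.OutSz.card_out hF hm] at hd2
      exact Nat.Coprime.eq_one_of_dvd
        (Nat.Coprime.coprime_dvd_left hd2 (Nat.coprime_two_right.2 (odd_two_mul_add_one m))) hd1
    exact (QuotientGroup.eq_one_iff _).1 h1
  choose u hu using hinner
  let uh : ↥A →* Cfsg.Sz F m := MonoidHom.mk' u fun a b => hci (by rw [map_mul, hu, hu, hu, map_mul])
  have huh : Function.Injective uh := fun a b h => hβi (by rw [← hu a, ← hu b]; exact congrArg _ h)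
  have hle : Nat.card A ≤ 2 ^ (2 * m + 1) := by
    have hA2 : IsPGroup 2 A := fun g => ⟨1, Subtype.ext (by rw [pow_one, pow_two]; exact hA g g.2)⟩
    have hr : IsPGroup 2 uh.range := hA2.of_surjective uh.rangeRestrict uh.rangeRestrict_surjective
    obtain ⟨P, hP⟩ := hr.exists_le_sylow
    let S := (Suzuki.isPGroup_USub hF).toSylow (Suzuki.index_USub_odd hF hm)
    have hS : (S : Subgroup (Cfsg.Sz F m)) = Suzuki.USub hF := IsPGroup.toSylow_coe _ _
    obtain ⟨g, hg⟩ := MulAction.exists_smul_eq (Cfsg.Sz F m) P S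
    let φ : ↥A →* Cfsg.Sz F m := (MulAut.conj g).toMonoidHom.comp uh
    have hφ : Function.Injective φ := (MulAut.conj g).injective.comp huh
    have hZ : φ.range ≤ Suzuki.ZSub hF := by
      rintro _ ⟨a, rfl⟩
      have h1 : φ a ∈ Suzuki.USub hF := by
        rw [← hS, ← hg]
        exact ⟨uh a, hP ⟨a, rfl⟩, rfl⟩
      obtain ⟨c, d, hcd⟩ := h1
      have h3 : φ a * φ a = 1 := by
        rw [← map_mul, show a * a = 1 from Subtype.ext (hA a a.2), map_one]
      rw [hcd, Suzuki.U_mul, Suzuki.add_self hF, Suzuki.add_self hF, zero_add,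
        ← Suzuki.U_zero hF] at h3
      have hc0 : c = 0 := by
        rcases mul_eq_zero.1 (Suzuki.U_inj hF h3).2 with h | h
        · exact Suzuki.sig_eq_zero.1 h
        · exact h
      exact ⟨d, by rw [hcd, hc0]⟩
    calc Nat.card A = Nat.card φ.range := Nat.card_congr (MonoidHom.ofInjective hφ).toEquiv
      _ ≤ Nat.card (Suzuki.ZSub hF) := Subgroup.card_le_of_le hZ
      _ = _ := Suzuki.card_ZSub hF
  by_cases hA1 : A = ⊥
  · rw [hA1]; exact bound_bot
  obtain ⟨⟨a, ha⟩, ha1⟩ := Subgroup.ne_bot_iff_exists_ne_one.1 hA1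
  have ha1' : u ⟨a, ha⟩ ≠ 1 := fun h => ha1 (huh (by rw [map_one]; exact h))
  have hu2 : orderOf (u ⟨a, ha⟩) = 2 := orderOf_eq_prime (by
    show uh ⟨a, ha⟩ ^ 2 = 1
    rw [← map_pow, pow_two, show (⟨a, ha⟩ : ↥A) * ⟨a, ha⟩ = 1 from Subtype.ext (hA a ha), map_one]) ha1'
  obtain ⟨ℓ, e, hℓ, hℓ2, -, hdvd, hprim⟩ :=
    LocalEven61.exists_primitive_prime_power Nat.prime_two (n := 2 * (2 * m + 1)) (by omega)
  obtain ⟨h, hh⟩ := LocalEven61.sz_exists_conj_product hF hm hℓ (e := e)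
    (by rwa [hF, ← pow_mul, mul_comm (2 * m + 1) 2]) hu2
  obtain ⟨h0, rfl⟩ := hG.surj h
  have hm' : a * (h0 : MulAut V) * a⁻¹ ∈ H := (Subgroup.mem_normalizer_iff.1 (hAH ha) _).1 h0.2
  set yH : ↥H := ⟨_, hm'⟩ * h0⁻¹ with hyH
  have hai : a⁻¹ = a := inv_eq_of_mul_eq_one_right (hA a ha)
  have hyH' : (yH : MulAut V) = a * ((h0 : MulAut V) * a * (h0 : MulAut V)⁻¹) := by
    rw [hyH, Subgroup.coe_mul, Subgroup.coe_inv]
    show a * (h0 : MulAut V) * a⁻¹ * (h0 : MulAut V)⁻¹ = _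
    rw [hai]
    group
  have hψy : ψ yH = u ⟨a, ha⟩ * (ψ h0 * u ⟨a, ha⟩ * (ψ h0)⁻¹) := by
    rw [hyH, map_mul, map_inv, hβ ⟨a, ha⟩ h0 ⟨_, hm'⟩ rfl, ← hu, MulAut.conj_apply,
      show (u ⟨a, ha⟩)⁻¹ = u ⟨a, ha⟩ from inv_eq_of_mul_eq_one_right (by
        rw [← pow_two, ← hu2, pow_orderOf_eq_one])]
    group
  have hdy : ℓ ^ (e + 1) ∣ orderOf (yH : MulAut V) := by
    rw [Subgroup.orderOf_coe]
    exact hh.trans (hψy ▸ orderOf_map_dvd ψ yH)
  set y' := (yH : MulAut V) ^ (orderOf (yH : MulAut V) / ℓ ^ (e + 1)) with hy'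
  have hord : orderOf y' = ℓ ^ (e + 1) := orderOf_pow_orderOf_div (orderOf_pos _).ne' hdy
  have hkey := pow_mul_card_fx_le h2 hℓ hℓ2 hord (d := 2 * (2 * (2 * m + 1))) hprim
  set b := (h0 : MulAut V) * a * (h0 : MulAut V)⁻¹ with hb
  have hfix : fx a ⊓ fx b ≤ fx (y' ^ ℓ ^ e) := by
    rintro v ⟨h1, h3⟩
    have hyv : (yH : MulAut V) ∈ MulAction.stabilizer (MulAut V) v := by
      show (yH : MulAut V) v = v
      rw [hyH', MulAut.mul_apply, mem_fx.1 h3, mem_fx.1 h1]
    exact mem_fx.2 ((MulAction.stabilizer (MulAut V) v).pow_mem ((MulAction.stabilizer (MulAut V) v).pow_mem hyv _) _)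
  have h4 : Nat.card (fx a) * Nat.card (fx a) ≤ Nat.card V * Nat.card ↥(fx a ⊓ fx b) := by
    have := fx_sq_le a b
    rwa [hb, card_fx_conj, ← hb] at this
  set q := 2 ^ (2 * m + 1) with hq
  have hq4 : (2 : ℕ) ^ (2 * (2 * (2 * m + 1))) = q ^ 2 * q ^ 2 := by
    rw [hq, ← pow_mul, ← pow_add]; congr 1; ring
  rw [hq4] at hkey
  have h5 : (q ^ 2 * Nat.card (fx a)) ^ 2 ≤ Nat.card V ^ 2 := by
    calc (q ^ 2 * Nat.card (fx a)) ^ 2 = (q ^ 2 * q ^ 2) * (Nat.card (fx a) * Nat.card (fx a)) := by ring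
      _ ≤ (q ^ 2 * q ^ 2) * (Nat.card V * Nat.card ↥(fx a ⊓ fx b)) := Nat.mul_le_mul_left _ h4
      _ = Nat.card V * (q ^ 2 * q ^ 2 * Nat.card ↥(fx a ⊓ fx b)) := by ring
      _ ≤ Nat.card V * (q ^ 2 * q ^ 2 * Nat.card (fx (y' ^ ℓ ^ e))) :=
          Nat.mul_le_mul_left _ (Nat.mul_le_mul_left _ (Subgroup.card_le_of_le hfix))
      _ ≤ Nat.card V * Nat.card V := Nat.mul_le_mul_left _ hkey
      _ = _ := (pow_two _).symm
  have h6 := (Nat.pow_le_pow_iff_left two_ne_zero).1 h5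
  calc Nat.card A ^ 2 * Nat.card (fixSub A) ≤ q ^ 2 * Nat.card (fx a) :=
        Nat.mul_le_mul (Nat.pow_le_pow_left hle 2)
          (Subgroup.card_le_of_le (fixSub_anti (Subgroup.zpowers_le.2 ha)))
    _ ≤ _ := h6

end Cfsg.Agent.T51.Bnd
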