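import Cfsg.Agent.ConjFunctor.Basic
import Cfsg.Agent.Lib.Coprime.Action
import Cfsg.Agent.Lib.Transfer.Residual
import Cfsg.Agent.Lib.Transfer.Frobenius
import Cfsg.Agent.Lib.Thompson.Cores

/-!
Centric and radical subgroups relative to a subgroup `H`, and subgroups controlling fusion.
-/

set_option autoImplicit false
set_option linter.unusedVariables false
set_option linter.unusedSectionVars false
set_option linter.style.haveILetI false

namespace Cfsg.Agent.T51.Centric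

open Cfsg.Agent.ConjFunctor

variable {G : Type*} [Group G] {p : ℕ}

/-- Every element of `X` has a `p`-power in `K`. -/
def PMod (p : ℕ) (K X : Subgroup G) : Prop := ∀ x ∈ X, ∃ i : ℕ, x ^ p ^ i ∈ K

/-- The product `E C_H(E)`. -/
abbrev ecn (H E : Subgroup G) : Subgroup G := E ⊔ (H ⊓ Subgroup.centralizer (E : Set G))

/-- All `p`-elements of `C_H(E)` lie in `E`. -/
def PCen (p : ℕ) (H E : Subgroup G) : Prop :=
  ∀ c ∈ H, c ∈ Subgroup.centralizer (E : Set G) → (∃ k : ℕ, c ^ p ^ k = 1) → c ∈ E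

/-- `N_H(E)/E C_H(E)` has no nontrivial normal `p`-subgroup. -/
def Rad (p : ℕ) (H E : Subgroup G) : Prop :=
  ∀ X ≤ H, X ≤ nrm E → H ⊓ nrm E ≤ nrm X → ecn H E ≤ X → PMod p (ecn H E) X → X ≤ ecn H E

/-- `N_H(E)` controls the fusion of `H` in `P`. -/
def Ctl (H P E : Subgroup G) : Prop :=
  ∀ A ≤ P, ∀ g ∈ H, (∀ a ∈ A, g * a * g⁻¹ ∈ P) →
    ∃ h ∈ H, h ∈ nrm E ∧ ∀ a ∈ A, h * a * h⁻¹ = g * a * g⁻¹

/-- A subgroup of `P`, normalized by `P`, centric in `P`, controlling fusion. -/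
structure Good (H P E : Subgroup G) : Prop where
  le : E ≤ P
  norm : P ≤ nrm E
  cent : P ⊓ Subgroup.centralizer (E : Set G) ≤ E
  ctl : Ctl H P E

theorem centralizer_conj_mem {E : Subgroup G} {n c : G} (hn : n ∈ nrm E)
    (hc : c ∈ Subgroup.centralizer (E : Set G)) :
    n * c * n⁻¹ ∈ Subgroup.centralizer (E : Set G) := by
  rw [Subgroup.mem_centralizer_iff] at hc ⊢
  intro e he
  have h1 : n⁻¹ * e * n ∈ E := by simpa using conj_mem_of_nrm ((nrm E).inv_mem hn) he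
  calc e * (n * c * n⁻¹) = n * ((n⁻¹ * e * n) * c) * n⁻¹ := by group
    _ = n * (c * (n⁻¹ * e * n)) * n⁻¹ := by rw [hc _ h1]
    _ = n * c * n⁻¹ * e := by group

variable [Finite G]

theorem inf_centralizer_le_nrm {H E : Subgroup G} :
    H ⊓ nrm E ≤ nrm (H ⊓ Subgroup.centralizer (E : Set G)) := fun n hn =>
  mem_nrm_of_forall fun c hc =>
    ⟨H.mul_mem (H.mul_mem hn.1 hc.1) (H.inv_mem hn.1), centralizer_conj_mem hn.2 hc.2⟩

theorem nrm_sup {n : G} {A B : Subgroup G} (hA : n ∈ nrm A) (hB : n ∈ nrm B) : n ∈ nrm (A ⊔ B) := by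
  rw [mem_nrm_iff_cnj, cnj, Subgroup.map_sup]
  exact congrArg₂ (· ⊔ ·) (mem_nrm_iff_cnj.1 hA) (mem_nrm_iff_cnj.1 hB)

theorem ecn_le_nrm {H E : Subgroup G} : H ⊓ nrm E ≤ nrm (ecn H E) := fun _ hn =>
  nrm_sup hn.2 (inf_centralizer_le_nrm hn)

theorem ecn_le {H E : Subgroup G} (h : E ≤ H) : ecn H E ≤ H ⊓ nrm E :=
  sup_le (le_inf h Subgroup.le_normalizer)
    (inf_le_inf_left H (Subgroup.centralizer_le_normalizer _))

variable [Fact p.Prime]

/-- A subgroup with `p`-power quotient is covered by a Sylow subgroup. -/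
theorem le_sup_of_pmod {K X S : Subgroup G} (hKX : K ≤ X) (hn : X ≤ nrm K)
    (hS : IsSylowIn p S X) (hp : PMod p K X) : X ≤ K ⊔ S := by
  haveI : (K.subgroupOf X).Normal := (Subgroup.normal_subgroupOf_iff_le_normalizer hKX).2 hn
  have hq : IsPGroup p (↥X ⧸ K.subgroupOf X) := by
    intro q
    induction q using QuotientGroup.induction_on with
    | H x =>
      obtain ⟨i, hi⟩ := hp x x.2
      exact ⟨i, (QuotientGroup.eq_one_iff _).2 (Subgroup.mem_subgroupOf.2 (by simpa using hi))⟩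
  obtain ⟨k, hk⟩ := IsPGroup.iff_card.1 hq
  have h1 : (K ⊔ S).relIndex X ∣ p ^ k := by
    rw [← hk]
    exact Subgroup.relIndex_dvd_of_le_left X le_sup_left
  have h2 : ¬ p ∣ (K ⊔ S).relIndex X := fun hd =>
    hS.2.2 (hd.trans (Subgroup.relIndex_dvd_of_le_left X le_sup_right))
  exact Subgroup.relIndex_eq_one.1 (Nat.eq_one_of_dvd_coprimes
    (Nat.Coprime.pow_left k ((Nat.Prime.coprime_iff_not_dvd Fact.out).2 h2)) h1 dvd_rfl)

theorem mem_of_pcen {H E : Subgroup G} (hE : E ≤ H) (hEp : IsPGroup p E) (hc : PCen p H E)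
    {s : G} (hsp : ∃ k : ℕ, s ^ p ^ k = 1) (hs : s ∈ ecn H E) : s ∈ E := by
  have hs' : s ∈ (H ⊓ Subgroup.centralizer (E : Set G)) ⊔ E := by
    rw [sup_comm]; exact hs
  obtain ⟨c, hcc, e, he, rfl⟩ := Coprime.exists_mul_of_mem_sup
    ((le_inf hE Subgroup.le_normalizer).trans inf_centralizer_le_nrm) hs'
  obtain ⟨k, hk⟩ := hsp
  obtain ⟨l, hl⟩ := hEp ⟨e, he⟩
  have hl' : e ^ p ^ l = 1 := congrArg Subtype.val hl
  have hcomm : Commute c e := (Subgroup.mem_centralizer_iff.1 hcc.2 e he).symm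
  refine E.mul_mem (hc c hcc.1 hcc.2 ⟨k + l, ?_⟩) he
  have h1 : (c * e) ^ p ^ (k + l) = 1 := by rw [pow_add, pow_mul, hk, one_pow]
  have h2 : e ^ p ^ (k + l) = 1 := by rw [pow_add, mul_comm, pow_mul, hl', one_pow]
  rwa [hcomm.mul_pow, h2, mul_one] at h1

theorem isSylowIn_inf_nrm {H P E : Subgroup G} (hP : IsSylowIn p P H) (hn : P ≤ nrm E) :
    IsSylowIn p P (H ⊓ nrm E) :=
  hP.mono (le_inf hP.le hn) inf_le_left

theorem pcen_of_sylow {H E R : Subgroup G}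
    (hR : IsSylowIn p R (H ⊓ Subgroup.centralizer (E : Set G))) (hle : R ≤ E) : PCen p H E := by
  intro c hcH hcC hcp
  obtain ⟨k, hk⟩ := hcp
  have hz : IsPGroup p (Subgroup.zpowers c) := by
    intro x
    obtain ⟨j, hj⟩ := Subgroup.mem_zpowers_iff.1 x.2
    refine ⟨k, Subtype.ext ?_⟩
    rw [SubmonoidClass.coe_pow, ← hj, ← zpow_natCast, ← zpow_mul, mul_comm, zpow_mul,
      zpow_natCast, hk, one_zpow]
    rfl
  obtain ⟨x, hx, hxc⟩ := hR.exists_cnj_le hz ((Subgroup.zpowers_le).2 ⟨hcH, hcC⟩)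
  have he : x * c * x⁻¹ ∈ E := hle (hxc (conj_mem_cnj.2 (Subgroup.mem_zpowers c)))
  have h := Subgroup.mem_centralizer_iff.1 hx.2 _ he
  have : c = x * c * x⁻¹ := by
    calc c = x⁻¹ * (x * c * x⁻¹ * x) := by group
      _ = x⁻¹ * (x * (x * c * x⁻¹)) := by rw [h]
      _ = x * c * x⁻¹ := by group
  rwa [this]

theorem Good.isSylowIn_centralizer {H P E : Subgroup G} (hP : IsSylowIn p P H) (hE : Good H P E) :
    IsSylowIn p (P ⊓ (H ⊓ Subgroup.centralizer (E : Set G))) (H ⊓ Subgroup.centralizer (E : Set G)) :=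
  isSylowIn_inf_of_normal (isSylowIn_inf_nrm hP hE.norm)
    (inf_le_inf_left H (Subgroup.centralizer_le_normalizer _)) inf_centralizer_le_nrm

theorem Good.pcen {H P E : Subgroup G} (hP : IsSylowIn p P H) (hE : Good H P E) : PCen p H E :=
  pcen_of_sylow (hE.isSylowIn_centralizer hP) fun _ hc => hE.cent ⟨hc.1, hc.2.2⟩

/-- The `p'`-part of `C_H(E)`. -/
theorem Good.exists_complement {H P E : Subgroup G} (hP : IsSylowIn p P H) (hE : Good H P E) :
    ∃ K : Subgroup G, K ≤ H ⊓ Subgroup.centralizer (E : Set G) ∧ (Nat.card K).Coprime p ∧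
      H ⊓ nrm E ≤ nrm K ∧
      ∀ l ∈ H ⊓ Subgroup.centralizer (E : Set G), ∃ k ∈ K, ∃ z ∈ E, l = k * z := by
  set L := H ⊓ Subgroup.centralizer (E : Set G) with hL
  obtain ⟨S, hS⟩ := (hE.isSylowIn_centralizer hP).exists_sylow
  have hSE : ∀ s ∈ (S : Subgroup ↥L), (s : G) ∈ E := fun s hs => by
    have : (s : G) ∈ (S : Subgroup ↥L).map L.subtype := ⟨s, hs, rfl⟩
    rw [hS] at this
    exact hE.cent ⟨this.1, this.2.2⟩
  have hcomp : Cfsg.HasNormalPComplement p ↥L :=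
    Transfer.hasNormalPComplement_of_normalizer_centralizer S fun Q hQS _ g _ _ =>
      Subgroup.mem_centralizer_iff.2 fun q hq => Subtype.ext
        (Subgroup.mem_centralizer_iff.1 g.2.2 (q : G) (hSE q (hQS hq)))
  refine ⟨(Cfsg.pResidual p ↥L).map L.subtype, Subgroup.map_subtype_le _, ?_, ?_, ?_⟩
  · rw [Subgroup.card_map_of_injective L.subtype_injective]
    exact (((Nat.Prime.coprime_iff_not_dvd Fact.out).2
      (Transfer.hasNormalPComplement_iff_not_dvd.1 hcomp))).symm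
  · intro n hn
    refine mem_nrm_of_forall ?_
    rintro _ ⟨x, hx, rfl⟩
    have hmem : n * (x : G) * n⁻¹ ∈ L := conj_mem_of_nrm (inf_centralizer_le_nrm hn) x.2
    refine ⟨⟨_, hmem⟩, (Transfer.mem_pResidual_iff_coprime hcomp).2 ?_, rfl⟩
    have : orderOf (⟨_, hmem⟩ : ↥L) = orderOf x := by
      rw [← Subgroup.orderOf_coe, ← Subgroup.orderOf_coe x]
      exact (MulEquiv.orderOf_eq (MulAut.conj n) (x : G))
    rw [this]
    exact (Transfer.mem_pResidual_iff_coprime hcomp).1 hx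
  · intro l hl
    obtain ⟨k, hk, s, hs, hks⟩ := Subgroup.mem_sup_of_normal_left.1
      ((sup_comm (S : Subgroup ↥L) _ ▸ Transfer.sylow_sup_pResidual_eq_top S :
        Cfsg.pResidual p ↥L ⊔ (S : Subgroup ↥L) = ⊤) ▸ Subgroup.mem_top (⟨l, hl⟩ : ↥L))
    exact ⟨k, ⟨k, hk, rfl⟩, s, hSE s hs, (congrArg Subtype.val hks).symm⟩

/-- Among the good subgroups a largest one is radical. -/
theorem Good.exists_rad {H P E₀ : Subgroup G} (hP : IsSylowIn p P H) (hE₀ : Good H P E₀) :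
    ∃ E, Good H P E ∧ Rad p H E := by
  classical
  obtain ⟨E, hE, hmax⟩ := Set.exists_max_image {E : Subgroup G | Good H P E}
    (fun E => Nat.card E) (Set.toFinite _) ⟨E₀, hE₀⟩
  refine ⟨E, hE, fun X hXH hXN hXn hKX hPM => ?_⟩
  have hE' : Good H P E := hE
  obtain ⟨K, hKL, hKcop, hKn, hdec⟩ := hE'.exists_complement hP
  set L := H ⊓ Subgroup.centralizer (E : Set G) with hL
  have hEH : E ≤ H := hE'.le.trans hP.le
  have hPN : P ≤ H ⊓ nrm E := le_inf hP.le hE'.norm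
  have hXle : X ≤ H ⊓ nrm E := le_inf hXH hXN
  set S := P ⊓ X with hSdef
  have hSyl : IsSylowIn p S X := isSylowIn_inf_of_normal (isSylowIn_inf_nrm hP hE'.norm) hXle hXn
  have hES : E ≤ S := le_inf hE'.le (le_sup_left.trans hKX)
  have hXle' : X ≤ ecn H E ⊔ S := le_sup_of_pmod hKX (hXle.trans ecn_le_nrm) hSyl hPM
  have hXLS : X ≤ L ⊔ S :=
    hXle'.trans (sup_le (sup_le (hES.trans le_sup_right) le_sup_left) le_sup_right)
  have hPS : P ≤ nrm S := fun x hx => mem_nrm_of_forall fun s hs =>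
    ⟨P.mul_mem (P.mul_mem hx hs.1) (P.inv_mem hx), conj_mem_of_nrm (hXn (hPN hx)) hs.2⟩
  have hgood : Good H P S := by
    refine ⟨inf_le_left, hPS,
      ((inf_le_inf_left P (Subgroup.centralizer_le hES)).trans hE'.cent).trans hES, ?_⟩
    intro A hA g hg hgA
    obtain ⟨h, hhH, hhE, he⟩ := hE'.ctl A hA g hg hgA
    obtain ⟨x, hx, n, hn, rfl⟩ := exists_mul_of_frattini hSyl (hXn ⟨hhH, hhE⟩)
    obtain ⟨l, hl, s, hs, rfl⟩ := Coprime.exists_mul_of_mem_sup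
      ((inf_le_left.trans hPN).trans inf_centralizer_le_nrm) (hXLS hx)
    obtain ⟨k, hk, z, hz, rfl⟩ := hdec l hl
    set n' := z * s * n with hn'
    have hn'S : n' ∈ nrm S :=
      (nrm S).mul_mem ((nrm S).mul_mem (Subgroup.le_normalizer (hES hz))
        (Subgroup.le_normalizer hs)) hn
    have hkl : k ∈ L := hKL hk
    have heq : k * z * s * n = k * n' := by rw [hn', mul_assoc k z, mul_assoc k]
    have hn'N : n' ∈ H ⊓ nrm E := by
      have h1 : k * n' ∈ H ⊓ nrm E := heq ▸ ⟨hhH, hhE⟩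
      have h2 : k ∈ H ⊓ nrm E := inf_le_inf_left H (Subgroup.centralizer_le_normalizer _) hkl
      have := (H ⊓ nrm E).mul_mem ((H ⊓ nrm E).inv_mem h2) h1
      rwa [inv_mul_cancel_left] at this
    set K₀ := K ⊓ nrm S with hK₀
    set B := cnj n' A with hB
    set A' := cnj g A with hA'
    have hBN : B ≤ H ⊓ nrm E ⊓ nrm S := by
      rintro _ ⟨a, ha, rfl⟩
      exact mul_mem (mul_mem ⟨hn'N, hn'S⟩ ⟨hPN (hA ha), hPS (hA ha)⟩)
        (inv_mem ⟨hn'N, hn'S⟩)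
    have hA'P : A' ≤ P := by rintro _ ⟨a, ha, rfl⟩; exact hgA a ha
    have hnK₀ : H ⊓ nrm E ⊓ nrm S ≤ nrm K₀ := fun x hx => mem_nrm_of_forall fun y hy =>
      ⟨conj_mem_of_nrm (hKn hx.1) hy.1, (nrm S).mul_mem ((nrm S).mul_mem hx.2 hy.2) ((nrm S).inv_mem hx.2)⟩
    have hdec' : ∀ a ∈ A, g * a * g⁻¹ = (k * (n' * a * n'⁻¹) * k⁻¹ * (n' * a * n'⁻¹)⁻¹) *
        (n' * a * n'⁻¹) := by
      intro a ha
      rw [← he a ha, heq]
      group
    have hu : ∀ a ∈ A, k * (n' * a * n'⁻¹) * k⁻¹ * (n' * a * n'⁻¹)⁻¹ ∈ K₀ := by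
      intro a ha
      have hb : n' * a * n'⁻¹ ∈ H ⊓ nrm E ⊓ nrm S := hBN ⟨a, ha, rfl⟩
      refine ⟨?_, ?_⟩
      · have h1 := conj_mem_of_nrm (hKn hb.1) (K.inv_mem hk)
        have := K.mul_mem hk h1
        simpa [mul_assoc] using this
      · have h1 : g * a * g⁻¹ ∈ nrm S := hPS (hgA a ha)
        have := (nrm S).mul_mem h1 ((nrm S).inv_mem hb.2)
        rw [hdec' a ha, mul_inv_cancel_right] at this
        exact this
    have hle : A' ≤ K₀ ⊔ B := by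
      rintro _ ⟨a, ha, rfl⟩
      show g * a * g⁻¹ ∈ K₀ ⊔ B
      rw [hdec' a ha]
      exact Subgroup.mul_mem_sup (hu a ha) ⟨a, ha, rfl⟩
    have hAp : IsPGroup p A := hP.isPGroup.to_le hA
    obtain ⟨m, hm⟩ := IsPGroup.iff_card.1 (isPGroup_cnj (g := g) hAp)
    haveI : Group.IsNilpotent ↥A' := (isPGroup_cnj (g := g) hAp).isNilpotent
    have hK₀c : (Nat.card K₀).Coprime p :=
      hKcop.coprime_dvd_left (Subgroup.card_dvd_of_le inf_le_left)
    obtain ⟨k₀, hk₀, hk₀A⟩ := Coprime.exists_conj_le_of_le_sup A' K₀ B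
      ((hA'P.trans (le_inf hPN hPS)).trans hnK₀) (hBN.trans hnK₀)
      (by rw [hm]; exact hK₀c.symm.pow_left m) (Or.inl inferInstance) hle
    refine ⟨k₀⁻¹ * n', H.mul_mem (H.inv_mem (hKL hk₀.1).1) hn'N.1,
      (nrm S).mul_mem ((nrm S).inv_mem hk₀.2) hn'S, fun a ha => ?_⟩
    have hbmem := hk₀A (g * a * g⁻¹) ⟨a, ha, rfl⟩
    set b := n' * a * n'⁻¹ with hbdef
    have hbB : b ∈ B := ⟨a, ha, rfl⟩
    have hmemK : k₀ * (g * a * g⁻¹) * k₀⁻¹ * b⁻¹ ∈ K := by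
      have e : k₀ * (g * a * g⁻¹) * k₀⁻¹ * b⁻¹ =
          k₀ * (k * b * k⁻¹ * b⁻¹) * (b * k₀⁻¹ * b⁻¹) := by
        rw [hdec' a ha, ← hbdef]; group
      rw [e]
      exact K.mul_mem (K.mul_mem hk₀.1 (hu a ha).1)
        (conj_mem_of_nrm (hKn (hBN hbB).1) (K.inv_mem hk₀.1))
    have h1 : k₀ * (g * a * g⁻¹) * k₀⁻¹ * b⁻¹ ∈ B ⊓ K := ⟨B.mul_mem hbmem (B.inv_mem hbB), hmemK⟩
    rw [Thompson.inf_eq_bot_of_isPGroup_of_coprime (isPGroup_cnj hAp) hKcop, Subgroup.mem_bot,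
      mul_inv_eq_one] at h1
    calc k₀⁻¹ * n' * a * (k₀⁻¹ * n')⁻¹ = k₀⁻¹ * b * k₀ := by rw [hbdef]; group
      _ = g * a * g⁻¹ := by rw [← h1]; group
  have hSE : S ≤ E := (Subgroup.eq_of_le_of_card_ge hES (hmax S hgood)).ge
  exact hXle'.trans (sup_le le_rfl (hSE.trans le_sup_left))

end Cfsg.Agent.T51.Centric
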