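import Cfsg.Agent.T51.CentricBasic

/-!
The least centric radical subgroup of a normal subgroup, and the enlargement step.
-/

set_option autoImplicit false
set_option linter.unusedVariables false
set_option linter.unusedSectionVars false
set_option linter.style.haveILetI false

namespace Cfsg.Agent.T51.Centric

open Cfsg.Agent.ConjFunctor

variable {G : Type*} [Group G] [Finite G] {p : ℕ} [Fact p.Prime]

/-- The largest subgroup of `N` normalized by `N` that is a `p`-group modulo `K`. -/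
theorem exists_pmod_core {K N : Subgroup G} (hKN : K ≤ N) (hn : N ≤ nrm K) :
    ∃ X, X ≤ N ∧ N ≤ nrm X ∧ PMod p K X ∧
      ∀ Y ≤ N, N ≤ nrm Y → PMod p K Y → Y ≤ X := by
  haveI : (K.subgroupOf N).Normal := (Subgroup.normal_subgroupOf_iff_le_normalizer hKN).2 hn
  set f := QuotientGroup.mk' (K.subgroupOf N) with hf
  set C := Cfsg.pCore p (↥N ⧸ K.subgroupOf N) with hC
  refine ⟨(C.comap f).map N.subtype, Subgroup.map_subtype_le _, ?_, ?_, ?_⟩
  · intro n hn'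
    haveI : (C.comap f).Normal := Subgroup.Normal.comap inferInstance f
    refine Subgroup.le_normalizer_map N.subtype ⟨⟨n, hn'⟩, ?_, rfl⟩
    rw [SetLike.mem_coe, Subgroup.normalizer_eq_top]
    trivial
  · rintro _ ⟨x, hx, rfl⟩
    obtain ⟨i, hi⟩ := (Thompson.isPGroup_pCore : IsPGroup p C) ⟨f x, hx⟩
    have h1 : f (x ^ p ^ i) = 1 := by
      rw [map_pow]
      exact congrArg Subtype.val hi
    refine ⟨i, ?_⟩
    have h2 := (QuotientGroup.eq_one_iff _).1 h1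
    rw [Subgroup.mem_subgroupOf, SubmonoidClass.coe_pow] at h2
    exact h2
  · intro Y hY hYn hYp y hy
    refine ⟨⟨y, hY hy⟩, ?_, rfl⟩
    have hn' : ((Y.subgroupOf N).map f).Normal :=
      Subgroup.Normal.map ((Subgroup.normal_subgroupOf_iff_le_normalizer hY).2 hYn) f
        (QuotientGroup.mk'_surjective _)
    refine Thompson.le_pCore hn' ?_ ⟨⟨y, hY hy⟩, hy, rfl⟩
    rintro ⟨_, z, hz, rfl⟩
    obtain ⟨i, hi⟩ := hYp z hz
    exact ⟨i, Subtype.ext ((QuotientGroup.eq_one_iff (z ^ p ^ i)).2 (Subgroup.mem_subgroupOf.2 (by simpa using hi)))⟩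

theorem pmod_of_isPGroup {K X : Subgroup G} (h : IsPGroup p X) : PMod p K X := fun x hx => by
  obtain ⟨i, hi⟩ := h ⟨x, hx⟩
  exact ⟨i, by rw [show x ^ p ^ i = 1 from congrArg Subtype.val hi]; exact K.one_mem⟩

theorem pmod_sup {K X Y : Subgroup G} (hn : Y ≤ nrm K) (h : PMod p K Y) (hX : X = K ⊔ Y) :
    PMod p K X := by
  subst hX
  intro x hx
  obtain ⟨k, hk, y, hy, rfl⟩ := Coprime.exists_mul_of_mem_sup hn hx
  obtain ⟨i, hi⟩ := h y hy
  refine ⟨i, ?_⟩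
  have key : ∀ n : ℕ, ∃ k' ∈ K, (k * y) ^ n = k' * y ^ n := by
    intro n
    induction n with
    | zero => exact ⟨1, K.one_mem, by simp⟩
    | succ n ih =>
      obtain ⟨k', hk', e⟩ := ih
      refine ⟨k' * (y ^ n * k * (y ^ n)⁻¹), K.mul_mem hk' (conj_mem_of_nrm ((nrm K).pow_mem (hn hy) n) hk), ?_⟩
      rw [pow_succ, e, pow_succ]
      group
  obtain ⟨k', hk', e⟩ := key (p ^ i)
  rw [e]
  exact K.mul_mem hk' hi

/-- A controlled invariant subgroup lies in every centric radical subgroup of `C`. -/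
theorem le_of_cr {H C P E₁ D E : Subgroup G} (hP : IsSylowIn p P H) (hE₁ : Ctl H P E₁)
    (hCH : C ≤ H) (hCn : H ≤ nrm C) (hDn : H ⊓ nrm E₁ ≤ nrm D) (hDP : D ≤ P ⊓ C)
    (hPD : P ≤ nrm D) (hEP : E ≤ P ⊓ C) (hEc : PCen p C E) (hEr : Rad p C E) : D ≤ E := by
  by_contra hDE
  set Y := E ⊔ D with hY
  have hEY : E ≤ Y := le_sup_left
  have hEp : IsPGroup p E := hP.isPGroup.to_le (hEP.trans inf_le_left)
  haveI : Group.IsNilpotent ↥Y := (hP.isPGroup.to_le
    (sup_le (hEP.trans inf_le_left) (hDP.trans inf_le_left))).isNilpotent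
  have hne : E.subgroupOf Y < ⊤ := lt_top_iff_ne_top.2 fun h =>
    hDE (le_sup_right.trans (Subgroup.subgroupOf_eq_top.1 h))
  obtain ⟨⟨y, hy⟩, hyn, hyE⟩ := SetLike.exists_of_lt (Group.normalizerCondition_of_isNilpotent _ hne)
  rw [Subgroup.mem_subgroupOf] at hyE
  have hyN : y ∈ nrm E := mem_nrm_of_forall fun e he => by
    have := (Subgroup.mem_normalizer_iff.1 hyn ⟨e, hEY he⟩).1 he
    exact this
  have hy' : y ∈ D ⊔ E := by rw [sup_comm]; exact hy
  obtain ⟨d, hd, e, he, rfl⟩ := Coprime.exists_mul_of_mem_sup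
    ((hEP.trans inf_le_left).trans hPD) hy'
  have hdN : d ∈ nrm E := by
    have := (nrm E).mul_mem hyN ((nrm E).inv_mem (Subgroup.le_normalizer he))
    rwa [mul_inv_cancel_right] at this
  have hdE : d ∉ E := fun h => hyE (E.mul_mem h he)
  have hDp : IsPGroup p ↥(D ⊓ nrm E) := (hP.isPGroup.to_le (hDP.trans inf_le_left)).to_inf_left
  have hEC : E ≤ C := hEP.trans inf_le_right
  have hDC : D ⊓ nrm E ≤ C ⊓ nrm E := inf_le_inf_right _ (hDP.trans inf_le_right)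
  set X := ecn C E ⊔ (D ⊓ nrm E) with hX
  have hXle : X ≤ C ⊓ nrm E := sup_le (ecn_le hEC) hDC
  have hXn : C ⊓ nrm E ≤ nrm X := by
    intro h hh
    obtain ⟨k, hkH, hkE₁, hke⟩ := hE₁ E (hEP.trans inf_le_left) h (hCH hh.1) fun a ha =>
      (hEP.trans inf_le_left) (conj_mem_of_nrm hh.2 ha)
    have hkE : k ∈ nrm E := mem_nrm_of_forall fun a ha => by
      rw [hke a ha]; exact conj_mem_of_nrm hh.2 ha
    have hkD : k ∈ nrm D := hDn ⟨hkH, hkE₁⟩
    set c := k⁻¹ * h with hc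
    have hcC : c ∈ Subgroup.centralizer (E : Set G) := by
      refine Subgroup.mem_centralizer_iff.2 fun a ha => ?_
      have := hke a ha
      calc a * c = k⁻¹ * (k * a * k⁻¹) * h := by rw [hc]; group
        _ = k⁻¹ * (h * a * h⁻¹) * h := by rw [this]
        _ = c * a := by rw [hc]; group
    have hcH : c ∈ H := H.mul_mem (H.inv_mem hkH) (hCH hh.1)
    refine mem_nrm_of_forall fun x hx => ?_
    have hgen : X ≤ X.comap (MulAut.conj h).toMonoidHom := by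
      refine sup_le (fun z hz => Subgroup.mem_sup_left (conj_mem_of_nrm (ecn_le_nrm hh) hz)) ?_
      intro z hz
      show h * z * h⁻¹ ∈ X
      have hu : c * z * c⁻¹ * z⁻¹ ∈ C ⊓ Subgroup.centralizer (E : Set G) := by
        refine ⟨C.mul_mem (conj_mem_of_nrm (hCn hcH) ((hDC hz).1)) (C.inv_mem (hDC hz).1), ?_⟩
        have := (Subgroup.centralizer (E : Set G)).mul_mem hcC
          (centralizer_conj_mem hz.2 ((Subgroup.centralizer (E : Set G)).inv_mem hcC))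
        simpa [mul_assoc] using this
      have e1 : h * z * h⁻¹ =
          (k * (c * z * c⁻¹ * z⁻¹) * k⁻¹) * (k * z * k⁻¹) := by rw [hc]; group
      rw [e1]
      refine X.mul_mem (Subgroup.mem_sup_left (Subgroup.mem_sup_right ⟨?_, ?_⟩))
        (Subgroup.mem_sup_right ⟨conj_mem_of_nrm hkD hz.1,
          (nrm E).mul_mem ((nrm E).mul_mem hkE hz.2) ((nrm E).inv_mem hkE)⟩)
      · exact conj_mem_of_nrm (hCn hkH) hu.1
      · exact centralizer_conj_mem hkE hu.2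
    exact hgen hx
  have hPM : PMod p (ecn C E) X :=
    pmod_sup (hDC.trans ecn_le_nrm) (pmod_of_isPGroup hDp) rfl
  have hXE := hEr X (hXle.trans inf_le_left) (hXle.trans inf_le_right) hXn le_sup_left hPM
  obtain ⟨j, hj⟩ := hDp ⟨d, hd, hdN⟩
  exact hdE (mem_of_pcen hEC hEp hEc ⟨j, congrArg Subtype.val hj⟩
    (hXE (Subgroup.mem_sup_right ⟨hd, hdN⟩)))

/-- The trace on a normal subgroup of a good radical subgroup is centric and radical there. -/
theorem pcen_rad_inf {H C P E₁ : Subgroup G} (hP : IsSylowIn p P H) (hE₁ : Good H P E₁)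
    (hr : Rad p H E₁) (hCH : C ≤ H) (hCn : H ≤ nrm C) :
    PCen p C (E₁ ⊓ C) ∧ Rad p C (E₁ ⊓ C) := by
  set D := E₁ ⊓ C with hD
  have hPH := hP.le
  have hE₁H : E₁ ≤ H := hE₁.le.trans hPH
  have hDC : D ≤ C := inf_le_right
  have hDn : H ⊓ nrm E₁ ≤ nrm D := fun n hn => mem_nrm_of_forall fun d hd =>
    ⟨conj_mem_of_nrm hn.2 hd.1, conj_mem_of_nrm (hCn hn.1) hd.2⟩
  have hDp : IsPGroup p D := hP.isPGroup.to_le (inf_le_left.trans hE₁.le)
  have key : ∀ X ≤ C, X ≤ nrm D → C ⊓ nrm D ≤ nrm X → ecn C D ≤ X → PMod p (ecn C D) X →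
      P ⊓ X ≤ D := by
    intro X hXC hXN hXn hKX hPM s hs
    set N₁ := C ⊓ nrm E₁ with hN₁
    set K₁ := C ⊓ Subgroup.centralizer (E₁ : Set G) with hK₁
    have hK₁N : K₁ ≤ N₁ := inf_le_inf_left C (Subgroup.centralizer_le_normalizer _)
    have hHK₁ : H ⊓ nrm E₁ ≤ nrm K₁ := fun n hn => mem_nrm_of_forall fun c hc =>
      ⟨conj_mem_of_nrm (hCn hn.1) hc.1, centralizer_conj_mem hn.2 hc.2⟩
    have hN₁H : N₁ ≤ H ⊓ nrm E₁ := inf_le_inf_right _ hCH
    obtain ⟨Xs, hXsN, hXsn, hXsp, hXsu⟩ := exists_pmod_core (p := p) hK₁N (hN₁H.trans hHK₁)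
    -- `X ∩ N(E₁)` is a `p`-group modulo `C_C(E₁)`
    have hX'p : PMod p K₁ (X ⊓ nrm E₁) := by
      intro x hx
      obtain ⟨i, hi⟩ := hPM x hx.1
      have hi' : x ^ p ^ i ∈ (C ⊓ Subgroup.centralizer (D : Set G)) ⊔ D := by
        rw [sup_comm]; exact hi
      obtain ⟨c, hc, d, hd, he⟩ := Coprime.exists_mul_of_mem_sup
        ((le_inf hDC Subgroup.le_normalizer).trans inf_centralizer_le_nrm) hi'
      obtain ⟨j, hj⟩ := hDp ⟨d, hd⟩
      have hy : x ^ p ^ (i + j) ∈ C ⊓ Subgroup.centralizer (D : Set G) := by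
        rw [pow_add, pow_mul, he, (show Commute c d from
            (Subgroup.mem_centralizer_iff.1 hc.2 d hd).symm).mul_pow,
          show d ^ p ^ j = 1 from congrArg Subtype.val hj, mul_one]
        exact pow_mem hc _
      obtain ⟨l, hl⟩ := IsPGroup.iff_card.1 hDp
      refine ⟨i + j + l, ?_⟩
      set y := x ^ p ^ (i + j) with hydef
      have hyE : y ∈ nrm E₁ := (nrm E₁).pow_mem hx.2 _
      rw [pow_add, pow_mul, ← hydef]
      refine ⟨C.pow_mem hy.1 _, Subgroup.mem_centralizer_iff.2 fun q hq => ?_⟩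
      set u := y * q * y⁻¹ * q⁻¹ with hu
      have hqy : q * y⁻¹ * q⁻¹ ∈ C :=
        conj_mem_of_nrm (hCn (hE₁H hq)) (C.inv_mem hy.1)
      have huD : u ∈ D := by
        refine ⟨E₁.mul_mem (conj_mem_of_nrm hyE hq) (E₁.inv_mem hq), ?_⟩
        have := C.mul_mem hy.1 hqy
        simpa [hu, mul_assoc] using this
      have hyu : y * u = u * y := (Subgroup.mem_centralizer_iff.1 hy.2 u huD).symm
      have hpow : ∀ m : ℕ, y ^ m * q * (y ^ m)⁻¹ = u ^ m * q := by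
        intro m
        induction m with
        | zero => simp
        | succ m ih =>
          calc y ^ (m + 1) * q * (y ^ (m + 1))⁻¹ = y * (y ^ m * q * (y ^ m)⁻¹) * y⁻¹ := by
                rw [pow_succ']; group
            _ = (y * u ^ m) * (q * y⁻¹) := by rw [ih]; group
            _ = (u ^ m * y) * (q * y⁻¹) := by rw [((show Commute y u from hyu).pow_right m).eq]
            _ = u ^ m * (u * q) := by rw [hu]; group
            _ = u ^ (m + 1) * q := by rw [pow_succ]; exact (mul_assoc _ _ _).symm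
      have h1 := hpow (p ^ l)
      rw [show u ^ p ^ l = 1 from by
        rw [← hl]
        exact congrArg Subtype.val (pow_card_eq_one' (x := (⟨u, huD⟩ : ↥D))), one_mul,
        mul_inv_eq_iff_eq_mul] at h1
      exact h1.symm
    have hX'le : X ⊓ nrm E₁ ≤ Xs := hXsu _ (inf_le_inf_right _ hXC) (fun n hn =>
      mem_nrm_of_forall fun x hx => ⟨conj_mem_of_nrm (hXn ⟨hn.1, hDn (hN₁H hn)⟩) hx.1,
        (nrm E₁).mul_mem ((nrm E₁).mul_mem hn.2 hx.2) ((nrm E₁).inv_mem hn.2)⟩) hX'p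
    -- `Xs` is invariant under `N_H(E₁)`
    have hXsH : H ⊓ nrm E₁ ≤ nrm Xs := by
      intro m hm
      refine mem_nrm_of_forall fun x hx => ?_
      have hN : m ∈ nrm N₁ := mem_nrm_of_forall fun n hn =>
        ⟨conj_mem_of_nrm (hCn hm.1) hn.1,
          (nrm E₁).mul_mem ((nrm E₁).mul_mem hm.2 hn.2) ((nrm E₁).inv_mem hm.2)⟩
      refine hXsu (cnj m Xs) ?_ ?_ ?_ ⟨x, hx, rfl⟩
      · exact (Subgroup.map_mono hXsN).trans (mem_nrm_iff_cnj.1 hN).le
      · rw [← mem_nrm_iff_cnj.1 hN, ← cnj_nrm]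
        exact cnj_le_cnj.2 hXsn
      · rintro _ ⟨z, hz, rfl⟩
        obtain ⟨i, hi⟩ := hXsp z hz
        refine ⟨i, ?_⟩
        rw [← map_pow]
        exact conj_mem_of_nrm (hHK₁ hm) hi
    set X'' := ecn H E₁ ⊔ Xs with hX''
    have hX''le : X'' ≤ H ⊓ nrm E₁ := sup_le (ecn_le hE₁H) (hXsN.trans hN₁H)
    have hPM'' : PMod p (ecn H E₁) X'' :=
      pmod_sup ((hXsN.trans hN₁H).trans ecn_le_nrm) (fun x hx => (hXsp x hx).imp fun i hi =>
        Subgroup.mem_sup_right ⟨hCH hi.1, hi.2⟩) rfl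
    have h1 := hr X'' (hX''le.trans inf_le_left) (hX''le.trans inf_le_right)
      (fun n hn => nrm_sup (ecn_le_nrm hn) (hXsH hn)) le_sup_left hPM''
    obtain ⟨j, hj⟩ := hP.isPGroup ⟨s, hs.1⟩
    exact ⟨mem_of_pcen hE₁H (hP.isPGroup.to_le hE₁.le) (hE₁.pcen hP) ⟨j, congrArg Subtype.val hj⟩
      (h1 (Subgroup.mem_sup_right (hX'le ⟨hs.2, hE₁.norm hs.1⟩))), hXC hs.2⟩
  have hPn : P ≤ H ⊓ nrm D := le_inf hPH fun x hx => hDn ⟨hPH hx, hE₁.norm hx⟩
  have hPN : IsSylowIn p P (H ⊓ nrm D) := hP.mono hPn inf_le_left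
  have hCD : H ⊓ nrm D ≤ nrm (C ⊓ nrm D) := fun n hn => mem_nrm_of_forall fun x hx =>
    ⟨conj_mem_of_nrm (hCn hn.1) hx.1, (nrm D).mul_mem ((nrm D).mul_mem hn.2 hx.2) ((nrm D).inv_mem hn.2)⟩
  have hR : IsSylowIn p (P ⊓ (C ⊓ nrm D)) (C ⊓ nrm D) :=
    isSylowIn_inf_of_normal hPN (inf_le_inf_right _ hCH) hCD
  refine ⟨?_, fun X hXC hXN hXn hKX hPM => ?_⟩
  · have hR' : IsSylowIn p (P ⊓ (C ⊓ nrm D) ⊓ (C ⊓ Subgroup.centralizer (D : Set G)))
        (C ⊓ Subgroup.centralizer (D : Set G)) :=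
      isSylowIn_inf_of_normal hR (inf_le_inf_left C (Subgroup.centralizer_le_normalizer _))
        inf_centralizer_le_nrm
    refine pcen_of_sylow hR' fun x hx => key (ecn C D) ((ecn_le hDC).trans inf_le_left)
      ((ecn_le hDC).trans inf_le_right) ecn_le_nrm le_rfl
      (fun z hz => ⟨0, by simpa using hz⟩) ⟨hx.1.1, Subgroup.mem_sup_right hx.2⟩
  · have hXle : X ≤ C ⊓ nrm D := le_inf hXC hXN
    refine (le_sup_of_pmod hKX (hXle.trans ecn_le_nrm) (isSylowIn_inf_of_normal hR hXle hXn) hPM).trans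
      (sup_le le_rfl fun x hx => Subgroup.mem_sup_left (key X hXC hXN hXn hKX hPM ⟨hx.1.1, hx.2⟩))

/-- The enlargement step: a good subgroup `E₁` of `P C(Q)` yields a subgroup `D ≰ Q` whose
normalizer controls fusion in the whole group. -/
theorem exists_enlarge {P Q C H E₀ : Subgroup G} (hP : IsSylowIn p P ⊤) [Q.Normal] (hQP : Q ≤ P)
    (hCQ : C = Subgroup.centralizer (Q : Set G)) (hH : H = P ⊔ C) (hE₀ : Good H P E₀)
    (hR : ¬ P ⊓ C ≤ Q) :
    ∃ D ≤ P, P ≤ nrm D ∧ ¬ D ≤ Q ∧ Ctl ⊤ P D := by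
  haveI : C.Normal := hCQ ▸ Subgroup.normal_centralizer
  have hPH : P ≤ H := hH ▸ le_sup_left
  have hCH : C ≤ H := hH ▸ le_sup_right
  have hPH' : IsSylowIn p P H := hP.mono hPH le_top
  obtain ⟨E₁, hE₁, hr⟩ := hE₀.exists_rad hPH'
  have hCn : H ≤ nrm C := by rw [nrm_eq_top]; exact le_top
  obtain ⟨hDc, hDr⟩ := pcen_rad_inf hPH' hE₁ hr hCH hCn
  set D := E₁ ⊓ C with hD
  set R := P ⊓ C with hRd
  have hDP : D ≤ P := inf_le_left.trans hE₁.le
  have hDR : D ≤ R := le_inf hDP inf_le_right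
  have hDn : H ⊓ nrm E₁ ≤ nrm D := fun n hn => mem_nrm_of_forall fun d hd =>
    ⟨conj_mem_of_nrm hn.2 hd.1, conj_mem_of_nrm (hCn hn.1) hd.2⟩
  have hPD : P ≤ nrm D := fun x hx => hDn ⟨hPH hx, hE₁.norm hx⟩
  have hRsyl : IsSylowIn p R C := isSylowIn_inf_of_normal hP le_top (by rw [nrm_eq_top])
  have hDQ : ¬ D ≤ Q := by
    intro h
    refine hR (fun r hr' => h (hDc r hr'.2 (Subgroup.mem_centralizer_iff.2 fun d hd => ?_) ?_))
    · have hrC : r ∈ Subgroup.centralizer (Q : Set G) := hCQ ▸ hr'.2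
      exact Subgroup.mem_centralizer_iff.1 hrC d (h hd)
    · obtain ⟨j, hj⟩ := hP.isPGroup ⟨r, hr'.1⟩
      exact ⟨j, congrArg Subtype.val hj⟩
  -- `D` is invariant under `N(R)`
  have hNR : nrm R ≤ nrm D := by
    intro n hn
    have hnC : n ∈ nrm C := (nrm_eq_top C).ge trivial
    have hcC : cnj n C = C := cnj_normal n C
    have hle : cnj n D ≤ R :=
      (Subgroup.map_mono hDR).trans (mem_nrm_iff_cnj.1 hn).le
    have hpc : PCen p C (cnj n D) := by
      intro c hc hcc ⟨k, hk⟩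
      rw [mem_cnj]
      refine hDc _ ?_ ?_ ⟨k, ?_⟩
      · simpa using conj_mem_of_nrm ((nrm C).inv_mem hnC) hc
      · rw [← cnj_centralizer, mem_cnj] at hcc
        exact hcc
      · have e : n⁻¹ * c * n = MulAut.conj n⁻¹ c := by simp
        rw [e, ← map_pow, hk, map_one]
    have hrad : Rad p C (cnj n D) := by
      intro X hX hXN hXn hKX hPM
      have hKe : ecn C (cnj n D) = cnj n (ecn C D) := by
        simp only [ecn, cnj, Subgroup.map_sup]
        congr 1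
        rw [show (C ⊓ Subgroup.centralizer (D : Set G)).map (MulAut.conj n).toMonoidHom =
          cnj n C ⊓ cnj n (Subgroup.centralizer (D : Set G)) from cnj_inf n _ _, hcC, cnj_centralizer]
      rw [hKe] at hKX hPM ⊢
      have hX' : X = cnj n (cnj n⁻¹ X) := (cnj_cnj_inv n X).symm
      have h1 : cnj n⁻¹ X ≤ ecn C D := by
        refine hDr (cnj n⁻¹ X) ?_ ?_ ?_ ?_ ?_
        · rw [← cnj_normal n⁻¹ C]; exact cnj_le_cnj.2 hX
        · have h2 := (cnj_le_cnj (g := n⁻¹)).2 hXN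
          rwa [cnj_nrm, cnj_inv_cnj] at h2
        · have h2 := (cnj_le_cnj (g := n⁻¹)).2 hXn
          rwa [cnj_inf, cnj_normal, cnj_nrm, cnj_inv_cnj, cnj_nrm] at h2
        · have h2 := (cnj_le_cnj (g := n⁻¹)).2 hKX
          rwa [cnj_inv_cnj] at h2
        · rintro _ ⟨x, hx, rfl⟩
          obtain ⟨i, hi⟩ := hPM x hx
          refine ⟨i, ?_⟩
          rw [← map_pow]
          have : (MulAut.conj n⁻¹).toMonoidHom (x ^ p ^ i) ∈ cnj n⁻¹ (cnj n (ecn C D)) :=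
            ⟨_, hi, rfl⟩
          rwa [cnj_inv_cnj] at this
      rw [hX']
      exact cnj_le_cnj.2 h1
    have h := le_of_cr hPH' hE₁.ctl hCH hCn hDn (le_inf hDP inf_le_right) hPD hle hpc hrad
    rw [mem_nrm_iff_cnj]
    exact (Subgroup.eq_of_le_of_card_ge h (card_cnj n D).le).symm
  refine ⟨D, hDP, hPD, hDQ, fun A hA g _ hgA => ?_⟩
  obtain ⟨c, hc, n, hn, rfl⟩ := exists_mul_of_frattini hRsyl (g := g)
    (by rw [nrm_eq_top]; exact Subgroup.mem_top _)
  have hnD : n ∈ nrm D := hNR hn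
  set B := cnj n A with hB
  have hBN : B ≤ H ⊓ nrm D := by
    rintro _ ⟨a, ha, rfl⟩
    refine ⟨?_, (nrm D).mul_mem ((nrm D).mul_mem hnD (hPD (hA ha))) ((nrm D).inv_mem hnD)⟩
    have h1 := H.mul_mem (H.mul_mem (H.inv_mem (hCH hc)) (hPH (hgA a ha))) (hCH hc)
    have e : c⁻¹ * (c * n * a * (c * n)⁻¹) * c = n * a * n⁻¹ := by group
    rwa [e] at h1
  obtain ⟨d, hd, hdB⟩ := (hPH'.mono (le_inf hPH hPD) inf_le_left).exists_cnj_le
    (isPGroup_cnj (hP.isPGroup.to_le hA)) hBN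
  obtain ⟨k, hkH, hkE, hke⟩ := hE₁.ctl (cnj d B) hdB (c * d⁻¹)
    (H.mul_mem (hCH hc) (H.inv_mem hd.1)) (by
      rintro _ ⟨b, ⟨a, ha, rfl⟩, rfl⟩
      show c * d⁻¹ * (d * (n * a * n⁻¹) * d⁻¹) * (c * d⁻¹)⁻¹ ∈ P
      have e : c * d⁻¹ * (d * (n * a * n⁻¹) * d⁻¹) * (c * d⁻¹)⁻¹ = c * n * a * (c * n)⁻¹ := by
        group
      rw [e]
      exact hgA a ha)
  refine ⟨k * d * n, Subgroup.mem_top _,
    (nrm D).mul_mem ((nrm D).mul_mem (hDn ⟨hkH, hkE⟩) hd.2) hnD, fun a ha => ?_⟩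
  have h := hke (d * (n * a * n⁻¹) * d⁻¹) ⟨_, ⟨a, ha, rfl⟩, rfl⟩
  calc k * d * n * a * (k * d * n)⁻¹ = k * (d * (n * a * n⁻¹) * d⁻¹) * k⁻¹ := by group
    _ = c * d⁻¹ * (d * (n * a * n⁻¹) * d⁻¹) * (c * d⁻¹)⁻¹ := h
    _ = c * n * a * (c * n)⁻¹ := by group

end Cfsg.Agent.T51.Centric
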