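import Cfsg.Agent.T51.EOdd
import Cfsg.Agent.T51.EComp

/-!
An elementary abelian 2-group acting nontrivially on a layer with trivial centre: an element
inverting an element of large order in the layer.
-/

set_option autoImplicit false
set_option linter.unusedVariables false
set_option linter.unusedSectionVars false
set_option linter.style.haveILetI false

namespace Cfsg.Agent.T51.EG

open Equiv Matrix
open Cfsg.Agent.T51.Bnd
open Cfsg.Agent.AutPSL

universe u

variable {X : Type u} [Group X] [Finite X]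

theorem comm_of_sq {A : Subgroup X} (hA : ∀ a ∈ A, a * a = 1) :
    ∀ a ∈ A, ∀ b ∈ A, a * b = b * a := fun a ha b hb => by
  rw [← inv_eq_of_mul_eq_one_right (hA _ (A.mul_mem ha hb)), _root_.mul_inv_rev,
    inv_eq_of_mul_eq_one_right (hA a ha), inv_eq_of_mul_eq_one_right (hA b hb)]

theorem card_le_two_mul {A B : Subgroup X} (hA : ∀ a ∈ A, a * a = 1) (hB : B ≤ A) {a : X}
    (ha : a ∈ A) (h : ∀ b ∈ A, b ∉ B → a * b ∈ B) : Nat.card A ≤ 2 * Nat.card B := by
  have hle : A ≤ B ⊔ Subgroup.zpowers a := fun b hb => by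
    by_cases hb1 : b ∈ B
    · exact Subgroup.mem_sup_left hb1
    · have h' := Subgroup.mul_mem _
        (Subgroup.mem_sup_right (Subgroup.mem_zpowers a) : a ∈ B ⊔ Subgroup.zpowers a)
        (Subgroup.mem_sup_left (h b hb hb1))
      rwa [← mul_assoc, hA a ha, one_mul] at h'
  refine (Subgroup.card_le_of_le hle).trans ?_
  rw [mul_comm]
  refine le_trans ?_ (Nat.mul_le_mul_left _ (show Nat.card (Subgroup.zpowers a) ≤ 2 from ?_))
  · rw [← Thompson.card_sup_mul_card_inf (H := B) (K := Subgroup.zpowers a) ?_]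
    · exact Nat.le_mul_of_pos_right _ Nat.card_pos
    · intro z hz
      exact Subgroup.centralizer_le_normalizer _ (Subgroup.mem_centralizer_iff.2 fun w hw =>
        comm_of_sq hA w (hB hw) z (Subgroup.zpowers_le.2 ha hz))
  · rw [Nat.card_zpowers]
    exact Nat.le_of_dvd two_pos (orderOf_dvd_of_pow_eq_one (by rw [pow_two]; exact hA a ha))

/-- A prime order power of an inverted element of odd order. -/
theorem exists_prime_inverted (hS3 : ¬ Cfsg.Involves (Perm (Fin 3)) X) {a x : X} (ha2 : a * a = 1)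
    (hx1 : x ≠ 1) (hodd : Odd (orderOf x)) (hinv : a * x * a⁻¹ = x⁻¹) :
    ∃ y ∈ Subgroup.zpowers x, (orderOf y).Prime ∧ 5 ≤ orderOf y ∧ a * y * a⁻¹ = y⁻¹ := by
  have hn1 : orderOf x ≠ 1 := fun h => hx1 (orderOf_eq_one_iff.1 h)
  set p := (orderOf x).minFac with hp
  haveI hpp : Fact p.Prime := ⟨Nat.minFac_prime hn1⟩
  set y := x ^ (orderOf x / p) with hy
  have hyo : orderOf y = p := orderOf_pow_orderOf_div (orderOf_pos x).ne' (Nat.minFac_dvd _)
  have hyi : a * y * a⁻¹ = y⁻¹ := by rw [hy, ← conj_pow, hinv, inv_pow]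
  have hp2 : p ≠ 2 := fun h => by
    have := Nat.minFac_dvd (orderOf x)
    rw [← hp, h] at this
    exact Nat.not_even_iff_odd.2 hodd (even_iff_two_dvd.2 this)
  have ha1 : a ≠ 1 := by
    intro h1
    rw [h1, one_mul, inv_one, mul_one] at hyi
    have h3 : y ^ 2 = 1 := by rw [pow_two]; exact mul_eq_one_iff_eq_inv.2 hyi
    have := orderOf_dvd_of_pow_eq_one h3
    rw [hyo] at this
    exact hp2 ((Nat.prime_dvd_prime_iff_eq hpp.out Nat.prime_two).1 this)
  have hp3 : p ≠ 3 := fun h =>
    hS3 (QOff.involves_perm_three_of_pair (a := a) (x := y)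
      (orderOf_eq_prime (by rw [pow_two]; exact ha2) ha1) (hyo.trans h) hyi)
  refine ⟨y, Subgroup.npow_mem_zpowers x _, hyo ▸ hpp.out, ?_, hyi⟩
  rw [hyo]
  have h4 : p ≠ 4 := fun h => by
    have := hpp.out
    rw [h] at this
    norm_num at this
  have := hpp.out.two_le
  omega

/-- One simple subgroup normalized by the 2-group. -/
theorem simple_config (hS3 : ¬ Cfsg.Involves (Perm (Fin 3)) X) {L A : Subgroup X}
    [hLs : IsSimpleGroup ↥L] (hLnc : ¬ IsMulCommutative ↥L)
    (hK : Cfsg.IsSuzukiOrPSL2OddPowerThree ↥L) (hA : ∀ a ∈ A, a * a = 1)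
    (hAL : A ≤ Subgroup.normalizer (L : Set X)) (hnc : ¬ A ≤ Subgroup.centralizer (L : Set X)) :
    ∃ a ∈ A, ∃ B ≤ A, ∃ y ∈ L, ∃ n α, orderOf y = n ∧ Big n α ∧ a * y * a⁻¹ = y⁻¹ ∧
      (∀ b ∈ B, b * y = y * b) ∧ Nat.card A ≤ 2 ^ α * Nat.card B := by
  classical
  haveI : Fact (Nat.Prime 2) := ⟨Nat.prime_two⟩
  set C := A ⊓ Subgroup.centralizer (L : Set X) with hC
  have hLnoN : ∀ N : Subgroup ↥L, N.Normal → IsPGroup 2 N → N = ⊥ := by
    intro N hN hN2
    refine hN.eq_bot_or_eq_top.resolve_right fun h => hLnc ?_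
    subst h
    have h2 : IsPGroup 2 ↥L :=
      hN2.of_surjective (Subgroup.topEquiv (G := ↥L)).toMonoidHom (Subgroup.topEquiv (G := ↥L)).surjective
    haveI := h2.isNilpotent
    exact ⟨⟨fun a b => IsSimpleGroup.comm_iff_isSolvable.2 inferInstance a b⟩⟩
  by_cases hsmall : Nat.card A ≤ 2 * Nat.card C
  · -- a hyperplane centralizes
    obtain ⟨a, ha, hac⟩ := SetLike.not_le_iff_exists.1 hnc
    have haN := hAL ha
    obtain ⟨x, hxW, hx1, hodd, hinv⟩ := exists_inverted_involution (hA a ha) haN hLnoN hac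
    have hxL : x ∈ L := by
      by_cases haL' : a ∈ L
      · exact (sup_le le_rfl (Subgroup.zpowers_le.2 haL') : L ⊔ Subgroup.zpowers a ≤ L) hxW
      have hle : L ⊔ Subgroup.zpowers a ≤ Subgroup.normalizer (L : Set X) :=
        sup_le Subgroup.le_normalizer (Subgroup.zpowers_le.2 haN)
      have hn : Subgroup.zpowers a ≤ Subgroup.normalizer (L : Set X) := le_sup_right.trans hle
      have hxW' : x ∈ ((L ⊔ Subgroup.zpowers a : Subgroup X) : Set X) := hxW
      rw [Subgroup.coe_mul_of_right_le_normalizer_left L (Subgroup.zpowers a) hn] at hxW'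
      obtain ⟨l, hl, z, hz, rfl⟩ := Set.mem_mul.1 hxW'
      obtain ⟨i, rfl⟩ := Subgroup.mem_zpowers_iff.1 hz
      rcases Int.even_or_odd' i with ⟨j, rfl | rfl⟩
      · rw [_root_.zpow_mul, _root_.zpow_two, hA a ha, _root_.one_zpow, mul_one]
        exact hl
      · exfalso
        rw [_root_.zpow_add_one, _root_.zpow_mul, _root_.zpow_two, hA a ha, _root_.one_zpow,
          one_mul] at hodd
        -- an element of the nontrivial coset has even order
        obtain ⟨k, hk⟩ := hodd
        have h1 : (l * a) ^ 2 ∈ L := by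
          rw [pow_two, show l * a * (l * a) = l * (a * l * a⁻¹) * (a * a) by group, hA a ha, mul_one]
          exact L.mul_mem hl ((Subgroup.mem_normalizer_iff.1 haN l).1 hl)
        have h2 : (l * a) ^ (2 * k + 1) ∈ L := hk ▸ (pow_orderOf_eq_one (l * a)).symm ▸ L.one_mem
        rw [pow_succ, pow_mul] at h2
        have h3 := L.mul_mem (L.inv_mem (L.pow_mem h1 k)) h2
        rw [inv_mul_cancel_left] at h3
        have haL : a ∈ L := by
          have := L.mul_mem (L.inv_mem hl) h3
          rwa [inv_mul_cancel_left] at this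
        exact haL' haL
    obtain ⟨y, hyx, hyp, hy5, hyi⟩ := exists_prime_inverted hS3 (hA a ha) hx1 hodd hinv
    refine ⟨a, ha, C, inf_le_left, y, Subgroup.zpowers_le.2 hxL hyx, orderOf y, 1, rfl,
      Or.inl ⟨hyp, hy5, rfl⟩, hyi, fun b hb => ?_, by rw [pow_one]; exact hsmall⟩
    exact (Subgroup.mem_centralizer_iff.1 hb.2 y (Subgroup.zpowers_le.2 hxL hyx)).symm
  -- the action on the simple group
  let θ : ↥A →* MulAut ↥L := L.normalizerMonoidHom.comp (Subgroup.inclusion hAL)
  have hθ : ∀ (b : ↥A) (l : ↥L), ((θ b l : ↥L) : X) = (b : X) * l * (b : X)⁻¹ := fun b l => rfl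
  have hker : ∀ b : ↥A, θ b = 1 → (b : X) ∈ C := fun b hb => ⟨b.2, Subgroup.mem_centralizer_iff.2 fun l hl => by
    have h1 := hθ b ⟨l, hl⟩
    rw [hb, MulAut.one_apply] at h1
    exact (mul_inv_eq_iff_eq_mul.1 h1.symm).symm⟩
  have hkcard : Nat.card θ.ker ≤ Nat.card C := by
    refine Nat.card_le_card_of_injective (fun b : θ.ker => (⟨((b : ↥A) : X), hker b b.2⟩ : ↥C)) ?_
    intro b c h
    exact Subtype.ext (Subtype.ext (congrArg (fun z : ↥C => (z : X)) h))
  rcases hK with ⟨F, i1, i2, m, hm, hF, ⟨e0⟩⟩ | ⟨F, i1, i2, r, hF, ⟨e⟩⟩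
  · -- the Suzuki case
    let e := e0.trans (RankOne.SzBridge.szEquiv hF hm).symm
    haveI := Suzuki.isSimpleGroup hF hm
    let β : ↥A →* MulAut (Cfsg.Sz F m) := (MulAut.congr e).toMonoidHom.comp θ
    have hβ : ∀ (b : ↥A) (q : Cfsg.Sz F m), β b q = e (θ b (e.symm q)) := fun b q => rfl
    have hci : Function.Injective (MulAut.conj : Cfsg.Sz F m →* MulAut (Cfsg.Sz F m)) := by
      rw [← MonoidHom.ker_eq_bot_iff]
      refine (MonoidHom.normal_ker MulAut.conj).eq_bot_or_eq_top.resolve_right fun h => hLnc ⟨⟨fun x y => ?_⟩⟩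
      apply e.injective
      rw [map_mul, map_mul]
      have h1 : MulAut.conj (e x) (e y) = e y := by
        rw [(MonoidHom.mem_ker).1 (h ▸ Subgroup.mem_top (e x) : e x ∈ MonoidHom.ker MulAut.conj)]; rfl
      exact mul_inv_eq_iff_eq_mul.1 h1
    have hsq : ∀ b : ↥A, b * b = 1 := fun b => Subtype.ext (hA b b.2)
    have hinner : ∀ b : ↥A, ∃ u : Cfsg.Sz F m, MulAut.conj u = β b := by
      intro b
      have h1 : (QuotientGroup.mk (β b) : Cfsg.Out (Cfsg.Sz F m)) = 1 := by
        refine orderOf_eq_one_iff.1 ?_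
        have hd1 : orderOf (QuotientGroup.mk (β b) : Cfsg.Out (Cfsg.Sz F m)) ∣ 2 :=
          orderOf_dvd_of_pow_eq_one (by
            rw [← QuotientGroup.mk_pow, ← map_pow, pow_two, hsq, map_one, QuotientGroup.mk_one])
        have hd2 := orderOf_dvd_natCard (QuotientGroup.mk (β b) : Cfsg.Out (Cfsg.Sz F m))
        rw [KnownSimple.OutSz.card_out hF hm] at hd2
        exact Nat.Coprime.eq_one_of_dvd
          (Nat.Coprime.coprime_dvd_left hd2 (Nat.coprime_two_right.2 (odd_two_mul_add_one m))) hd1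
      exact (QuotientGroup.eq_one_iff _).1 h1
    choose u hu using hinner
    let uh : ↥A →* Cfsg.Sz F m := MonoidHom.mk' u fun a b => hci (by rw [map_mul, hu, hu, hu, map_mul])
    have hle : Nat.card A ≤ 2 ^ (2 * m + 1) * Nat.card C := by
      have hr2 : ∀ w ∈ uh.range, w * w = 1 := by
        rintro _ ⟨b, rfl⟩
        rw [← map_mul, hsq, map_one]
      have hr : IsPGroup 2 uh.range := fun w => ⟨1, Subtype.ext (by rw [pow_one, pow_two]; exact hr2 w w.2)⟩
      obtain ⟨P, hP⟩ := hr.exists_le_sylow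
      let S := (Suzuki.isPGroup_USub hF).toSylow (Suzuki.index_USub_odd hF hm)
      have hS : (S : Subgroup (Cfsg.Sz F m)) = Suzuki.USub hF := IsPGroup.toSylow_coe _ _
      obtain ⟨g, hg⟩ := MulAction.exists_smul_eq (Cfsg.Sz F m) P S
      have hZ : uh.range.map (MulAut.conj g).toMonoidHom ≤ Suzuki.ZSub hF := by
        rintro _ ⟨w, hw, rfl⟩
        have h1 : (MulAut.conj g).toMonoidHom w ∈ Suzuki.USub hF := by
          rw [← hS, ← hg]
          exact ⟨w, hP hw, rfl⟩
        obtain ⟨c, d, hcd⟩ := h1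
        have h3 : (MulAut.conj g).toMonoidHom w * (MulAut.conj g).toMonoidHom w = 1 := by
          rw [← map_mul, hr2 w hw, map_one]
        rw [hcd, Suzuki.U_mul, Suzuki.add_self hF, Suzuki.add_self hF, zero_add,
          ← Suzuki.U_zero hF] at h3
        have hc0 : c = 0 := by
          rcases mul_eq_zero.1 (Suzuki.U_inj hF h3).2 with h | h
          · exact Suzuki.sig_eq_zero.1 h
          · exact h
        exact ⟨d, by rw [hcd, hc0]⟩
      have hrc : Nat.card uh.range ≤ 2 ^ (2 * m + 1) := by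
        rw [← Subgroup.card_map_of_injective (f := (MulAut.conj g).toMonoidHom) (MulAut.conj g).injective]
        exact (Subgroup.card_le_of_le hZ).trans (Suzuki.card_ZSub hF).le
      rw [← QOff.card_map_mul_card_ker uh]
      refine Nat.mul_le_mul hrc (le_trans (Subgroup.card_le_of_le fun b hb => ?_) hkcard)
      rw [MonoidHom.mem_ker] at hb ⊢
      have h1 : β b = 1 := by rw [← hu b, show u b = 1 from hb, map_one]
      exact (MulAut.congr e).injective (h1.trans (map_one _).symm)
    obtain ⟨a, ha, hac⟩ := SetLike.not_le_iff_exists.1 hnc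
    set a' : ↥A := ⟨a, ha⟩ with ha'
    have hu1 : u a' ≠ 1 := fun h => hac (hker a' ((MulAut.congr e).injective (by
      rw [map_one]; show β a' = 1; rw [← hu a', h, map_one]))).2
    have huu : u a' * u a' = 1 := by
      show uh a' * uh a' = 1
      rw [← map_mul, hsq, map_one]
    have hu2 : orderOf (u a') = 2 := orderOf_eq_prime (by rw [pow_two]; exact huu) hu1
    obtain ⟨ℓ, f, hℓ, hℓ2, -, hdvd, hprim⟩ :=
      LocalEven61.exists_primitive_prime_power Nat.prime_two (n := 2 * (2 * m + 1)) (by omega)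
    obtain ⟨h, hh⟩ := LocalEven61.sz_exists_conj_product hF hm hℓ (e := f)
      (by rwa [hF, ← pow_mul, mul_comm (2 * m + 1) 2]) hu2
    set q0 := u a' * (h * u a' * h⁻¹) with hq0
    set q := q0 ^ (orderOf q0 / ℓ ^ (f + 1)) with hq
    have hqo : orderOf q = ℓ ^ (f + 1) := orderOf_pow_orderOf_div (orderOf_pos _).ne' hh
    have hqi : u a' * q * (u a')⁻¹ = q⁻¹ := by
      have hui : (u a')⁻¹ = u a' := inv_eq_of_mul_eq_one_right huu
      have h0 : u a' * q0 * (u a')⁻¹ = q0⁻¹ := by
        rw [hq0, _root_.mul_inv_rev, show (h * u a' * h⁻¹)⁻¹ = h * (u a')⁻¹ * h⁻¹ by group, hui,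
          ← mul_assoc, huu, one_mul]
      rw [hq, ← conj_pow, h0, inv_pow]
    refine ⟨a, ha, C, inf_le_left, e.symm q, (e.symm q).2, ℓ ^ (f + 1), 2 * m + 1, ?_, ?_, ?_, ?_, hle⟩
    · rw [Subgroup.orderOf_coe]
      exact (orderOf_injective e.symm.toMonoidHom e.symm.injective q).trans hqo
    · exact Or.inr ⟨ℓ, f, hℓ, hℓ2, rfl, fun k hk hd => le_trans (by omega) (hprim k hk hd)⟩
    · have h1 : β a' q = q⁻¹ := by rw [← hu a', MulAut.conj_apply, hqi]
      rw [hβ, ← e.eq_symm_apply, map_inv] at h1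
      have h3 := hθ a' (e.symm q)
      rw [h1, Subgroup.coe_inv] at h3
      exact h3.symm
    · exact fun b hb => (Subgroup.mem_centralizer_iff.1 hb.2 _ (e.symm q).2).symm
  · -- the linear case
    haveI : IsSimpleGroup (ProjectiveSpecialLinearGroup (Fin 2) F) := MulEquiv.isSimpleGroup e.symm
    haveI : Group.IsPerfect (ProjectiveSpecialLinearGroup (Fin 2) F) := ⟨by
      rcases IsSimpleGroup.eq_bot_or_eq_top_of_normal
          (commutator (ProjectiveSpecialLinearGroup (Fin 2) F)) inferInstance with h | h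
      · refine absurd ⟨⟨fun x y => e.injective ?_⟩⟩ hLnc
        rw [map_mul, map_mul]
        exact commutatorElement_eq_one_iff_mul_comm.1 (Subgroup.mem_bot.1
          (h ▸ Subgroup.commutator_mem_commutator (Subgroup.mem_top _) (Subgroup.mem_top _)))
      · exact h⟩
    have hn := not_solvable_rank hF
    have h3F : (3 : F) = 0 := by
      have := FiniteField.cast_card_eq_zero F
      rw [hF] at this
      push_cast at this
      exact eq_zero_of_pow_eq_zero this
    have h2F : (2 : F) ≠ 0 := fun h => one_ne_zero (α := F) (by linear_combination h3F - h)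
    let β : ↥A →* MulAut (ProjectiveSpecialLinearGroup (Fin 2) F) := (MulAut.congr e).toMonoidHom.comp θ
    have hβ : ∀ (b : ↥A) q, β b q = e (θ b (e.symm q)) := fun b q => rfl
    have hβk : ∀ b : ↥A, β b = 1 → (b : X) ∈ C := fun b hb =>
      hker b ((MulAut.congr e).injective (hb.trans (map_one _).symm))
    have hsq : ∀ b : ↥A, β b * β b = 1 := fun b => by
      rw [← map_mul, show b * b = 1 from Subtype.ext (hA b b.2), map_one]
    choose g hg c hgc using fun b => exists_gl_of_sq hF (hsq b)
    obtain ⟨a, ha, hac⟩ := SetLike.not_le_iff_exists.1 hnc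
    have haC : a ∉ C := fun h => hac h.2
    obtain ⟨b, hb, hbC, habC⟩ : ∃ b ∈ A, b ∉ C ∧ a * b ∉ C := by
      by_contra hno
      push Not at hno
      exact hsmall (card_le_two_mul hA inf_le_left ha hno)
    set a' : ↥A := ⟨a, ha⟩
    set b' : ↥A := ⟨b, hb⟩
    have hne1 : ∀ z : ↥A, (z : X) ∉ C → pgl 2 F (g z) ≠ 1 := fun z hz h => hz (hβk z (by rw [hg z, h]))
    have hcomm : ∀ z w : ↥A, pgl 2 F (g z) * pgl 2 F (g w) = pgl 2 F (g w) * pgl 2 F (g z) := by
      intro z w
      rw [← hg, ← hg, ← map_mul, ← map_mul,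
        show z * w = w * z from Subtype.ext (comm_of_sq hA z z.2 w w.2)]
    have hanti : ∀ z w : ↥A, (z : X) ∉ C → (w : X) ∉ C → (z : X) * w ∉ C →
        (g w : Matrix (Fin 2) (Fin 2) F) * (g z : Matrix (Fin 2) (Fin 2) F)
          = -((g z : Matrix (Fin 2) (Fin 2) F) * (g w : Matrix (Fin 2) (Fin 2) F)) := by
      intro z w hz hw hzw
      refine anticomm_of_comm h2F (hgc z) (hgc w) (hne1 z hz) (hne1 w hw) (fun h => hzw ?_) (hcomm z w)
      refine hβk (z * w) ?_
      rw [map_mul, hg z, h, ← hg w]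
      exact hsq w
    -- the image has order at most four
    set B := C ⊔ Subgroup.zpowers a with hB
    have hBA : B ≤ A := sup_le inf_le_left (Subgroup.zpowers_le.2 ha)
    have hidx : Nat.card A ≤ 2 * Nat.card B := by
      refine card_le_two_mul hA hBA hb fun z hz hzB => ?_
      have hzC : z ∉ C := fun h => hzB (Subgroup.mem_sup_left h)
      have hazC : a * z ∉ C := fun h => hzB (by
        have := B.mul_mem (Subgroup.mem_sup_right (Subgroup.mem_zpowers a)) (Subgroup.mem_sup_left h)
        rwa [← mul_assoc, hA a ha, one_mul] at this)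
      by_contra hbz
      have hbzC : b * z ∉ C := fun h => hbz (Subgroup.mem_sup_left h)
      set z' : ↥A := ⟨z, hz⟩
      have e1 := hanti a' z' haC hzC hazC
      have e2 := hanti b' z' hbC hzC hbzC
      have e3 := hanti a' b' haC hbC habC
      set M := (g a' : Matrix (Fin 2) (Fin 2) F) with hM
      set N := (g b' : Matrix (Fin 2) (Fin 2) F) with hN
      set P := (g z' : Matrix (Fin 2) (Fin 2) F) with hP
      have htr : ∀ (x : ↥A), (x : X) ∉ C → (g x : Matrix (Fin 2) (Fin 2) F) 1 1
          = -(g x : Matrix (Fin 2) (Fin 2) F) 0 0 := by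
        intro x hx
        have hx' := congrArg Units.val (hgc x)
        rw [Units.val_mul, scalarGL_coe] at hx'
        refine traceless_of_sq hx' fun r hr => ?_
        by_cases hr0 : r = 0
        · rw [hr0, zero_smul] at hr
          exact ((Matrix.isUnit_iff_isUnit_det _).1 (g x).isUnit).ne_zero
            (by rw [hr, Matrix.det_zero])
        · exact hne1 x hx ((pgl_eq_one_iff le_rfl).2
            ⟨Units.mk0 r hr0, Units.ext (by rw [hr, scalarGL_coe]; rfl)⟩)
      have htMN : (M * N) 1 1 = -(M * N) 0 0 := by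
        have d0 := congrFun (congrFun e3 0) 0
        simp [Matrix.mul_apply, Fin.sum_univ_two] at d0 ⊢
        rw [show M 1 1 = -M 0 0 from htr a' haC, show N 1 1 = -N 0 0 from htr b' hbC]
        linear_combination d0
      have hPMN : (M * N) * P = P * (M * N) := by
        rw [← mul_assoc P, e1, neg_mul, mul_assoc M P N, e2, mul_neg, neg_neg, mul_assoc]
      have hMN0 : M * N ≠ 0 := by
        rw [hM, hN, ← Units.val_mul]
        exact Units.ne_zero _
      obtain ⟨r', hr⟩ := eq_smul_of_comm h2F htMN (htr z' hzC) hMN0 hPMN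
      have hr0 : r' ≠ 0 := by
        rintro rfl
        rw [zero_smul] at hr
        exact Units.ne_zero (g z') hr
      have hzab : β z' = β (a' * b') := by
        rw [map_mul, hg a', hg b', hg z', ← map_mul]
        refine (pgl_eq_iff le_rfl).2 ⟨Units.mk0 r' hr0, Units.ext ?_⟩
        rw [Units.val_mul, scalarGL_coe, Units.val_mul, Matrix.mul_smul, mul_one]
        exact hr
      refine hbz ?_
      have hmem := hβk (z' * (a' * b')) (by rw [map_mul, hzab]; exact hsq _)
      have : b * z = a * (z * (a * b)) := by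
        have := comm_of_sq hA z hz a ha
        rw [← mul_assoc z, this, mul_assoc a z, ← mul_assoc a, hA a ha, one_mul,
          comm_of_sq hA z hz b hb]
      rw [this]
      exact B.mul_mem (Subgroup.mem_sup_right (Subgroup.mem_zpowers a)) (Subgroup.mem_sup_left hmem)
    have hM2 := congrArg Units.val (hgc a')
    rw [Units.val_mul, scalarGL_coe] at hM2
    obtain ⟨s, hsodd, hs1, hMs, hNs⟩ := exists_torus_element hn hF
      (M := (g a' : Matrix (Fin 2) (Fin 2) F)) (N := (g b' : Matrix (Fin 2) (Fin 2) F))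
      (c a').ne_zero hM2 (fun r' hr => by
        by_cases hr0 : r' = 0
        · rw [hr0, zero_smul] at hr
          exact Units.ne_zero (g a') hr
        · exact hne1 a' haC ((pgl_eq_one_iff le_rfl).2
            ⟨Units.mk0 r' hr0, Units.ext (by rw [hr, scalarGL_coe]; rfl)⟩))
      (hanti a' b' haC hbC habC)
    let q : ProjectiveSpecialLinearGroup (Fin 2) F := QuotientGroup.mk s
    have hqa : β a' q = q := by
      rw [hg a']
      refine isSemi_pgl (g a') s s ?_
      rw [act_apply, fieldMap_one, eq_mul_inv_iff_mul_eq]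
      exact Units.ext hMs.symm
    have hqb : β b' q = q⁻¹ := by
      rw [hg b']
      refine isSemi_pgl (g b') s s⁻¹ ?_
      rw [act_apply, fieldMap_one, eq_mul_inv_iff_mul_eq]
      exact Units.ext hNs.symm
    have hq1 : q ≠ 1 := by
      intro h
      have hc' := (QuotientGroup.eq_one_iff s).1 h
      rw [Matrix.SpecialLinearGroup.mem_center_iff] at hc'
      obtain ⟨r', hr, hrs⟩ := hc'
      have hs2 : s ^ 2 = 1 := by
        refine Subtype.ext ?_
        rw [Matrix.SpecialLinearGroup.coe_pow, Matrix.SpecialLinearGroup.coe_one, ← hrs, ← map_pow]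
        rw [Fintype.card_fin] at hr
        rw [hr, map_one]
      exact hs1 (orderOf_eq_one_iff.1 (Nat.Coprime.eq_one_of_dvd (Nat.coprime_two_right.2 hsodd)
        (orderOf_dvd_of_pow_eq_one hs2)))
    have hqodd : Odd (orderOf q) := Odd.of_dvd_nat hsodd (orderOf_map_dvd (QuotientGroup.mk' _) s)
    set x : X := ((e.symm q : ↥L) : X) with hx
    have hx1 : x ≠ 1 := fun h => hq1 (by
      have : e.symm q = 1 := Subtype.ext h
      rw [← e.apply_symm_apply q, this, map_one])
    have hxodd : Odd (orderOf x) := by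
      rw [hx, Subgroup.orderOf_coe]
      exact Odd.of_dvd_nat hqodd (orderOf_map_dvd e.symm.toMonoidHom q)
    have hbx : b * x * b⁻¹ = x⁻¹ := by
      rw [hβ, ← e.eq_symm_apply, map_inv] at hqb
      have h3 := hθ b' (e.symm q)
      rw [hqb, Subgroup.coe_inv] at h3
      exact h3.symm
    have hax : a * x * a⁻¹ = x := by
      rw [hβ, ← e.eq_symm_apply] at hqa
      have h3 := hθ a' (e.symm q)
      rw [hqa] at h3
      exact h3.symm
    obtain ⟨y, hyx, hyp, hy5, hyi⟩ := exists_prime_inverted hS3 (hA b hb) hx1 hxodd hbx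
    have hBx : B ≤ Subgroup.centralizer ({x} : Set X) := by
      refine sup_le (fun z hz => ?_) (Subgroup.zpowers_le.2 ?_)
      · exact Subgroup.mem_centralizer_singleton_iff.2
          (Subgroup.mem_centralizer_iff.1 hz.2 x (e.symm q).2).symm
      · exact Subgroup.mem_centralizer_singleton_iff.2 (mul_inv_eq_iff_eq_mul.1 hax)
    refine ⟨b, hb, B, hBA, y, Subgroup.zpowers_le.2 (e.symm q).2 hyx, orderOf y, 1, rfl,
      Or.inl ⟨hyp, hy5, rfl⟩, hyi, fun z hz => ?_, by rw [pow_one]; exact hidx⟩
    obtain ⟨i, rfl⟩ := Subgroup.mem_zpowers_iff.1 hyx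
    exact ((show Commute z x from Subgroup.mem_centralizer_singleton_iff.1 (hBx hz)).zpow_right i).eq

/-- An elementary abelian 2-group acting nontrivially on a layer with trivial centre. -/
theorem layer_case (hS3 : ¬ Cfsg.Involves (Perm (Fin 3)) X) (hc : CompK X)
    (hZ : Subgroup.centralizer (Cfsg.layer X : Set X) ⊓ Cfsg.layer X = ⊥) {A : Subgroup X}
    (hA : ∀ a ∈ A, a * a = 1) (hnc : ¬ A ≤ Subgroup.centralizer (Cfsg.layer X : Set X)) :
    ∃ a ∈ A, ∃ B ≤ A, ∃ y ∈ Cfsg.layer X, ∃ n α, orderOf y = n ∧ Big n α ∧ a * y * a⁻¹ = y⁻¹ ∧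
      (∀ b ∈ B, b * y = y * b) ∧ Nat.card A ≤ 2 ^ α * Nat.card B := by
  classical
  haveI : Fact (Nat.Prime 2) := ⟨Nat.prime_two⟩
  have hcomm := comm_of_sq hA
  obtain ⟨L, hL, hLA⟩ : ∃ L : Subgroup X, Cfsg.IsComponent L ∧ ¬ A ≤ Subgroup.centralizer (L : Set X) := by
    by_contra h
    push Not at h
    exact hnc (Subgroup.le_centralizer_iff.1
      (Components.layer_le_iff.2 fun L hL => Subgroup.le_centralizer_iff.1 (h L hL)))
  have hLlay : L ≤ Cfsg.layer X := Components.component_le_layer hL
  -- components are simple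
  have hcentral : ∀ z : X, z ∈ Cfsg.layer X →
      (∀ K : Subgroup X, Cfsg.IsComponent K → ∀ k ∈ K, k * z = z * k) → z = 1 := by
    intro z hz h
    have hmem : z ∈ Subgroup.centralizer (Cfsg.layer X : Set X) ⊓ Cfsg.layer X := by
      refine ⟨Subgroup.mem_centralizer_iff.2 fun w hw => ?_, hz⟩
      have hle : Cfsg.layer X ≤ Subgroup.centralizer ({z} : Set X) :=
        Components.layer_le_iff.2 fun K hK k hk => Subgroup.mem_centralizer_singleton_iff.2 (h K hK k hk)
      exact Subgroup.mem_centralizer_singleton_iff.1 (hle hw)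
    rwa [hZ, Subgroup.mem_bot] at hmem
  have hZL : Subgroup.center ↥L = ⊥ := by
    rw [eq_bot_iff]
    intro z hz
    refine Subgroup.mem_bot.2 (Subtype.ext (hcentral (z : X) (hLlay z.2) fun K hK k hk => ?_))
    by_cases hKL : K = L
    · subst hKL
      exact congrArg Subtype.val (Subgroup.mem_center_iff.1 hz ⟨k, hk⟩)
    · exact (Subgroup.mem_centralizer_iff.1
        (Components.component_le_centralizer hK hL hKL hk) (z : X) z.2).symm
  haveI : IsSimpleGroup (↥L ⧸ Subgroup.center ↥L) := hL.2.2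
  haveI hLs : IsSimpleGroup ↥L :=
    MulEquiv.isSimpleGroup ((QuotientGroup.quotientMulEquivOfEq hZL).trans QuotientGroup.quotientBot).symm
  have hLnc : ¬ IsMulCommutative ↥L := fun h => Components.component_not_isSolvable hL
    (Group.isSolvable_of_comm fun x y => mul_comm' x y)
  have hK : Cfsg.IsSuzukiOrPSL2OddPowerThree ↥L :=
    isK_of_surjective (MonoidHom.id ↥L) Function.surjective_id hLnc (compK_subnormal hL.1 hc)
  set N0 := A ⊓ Subgroup.normalizer (L : Set X) with hN0
  have hconj : ∀ c ∈ A, c ∉ N0 → L.map (MulAut.conj c).toMonoidHom ≠ L := fun c hc hcN h =>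
    hcN ⟨hc, Components.map_conj_eq_iff_mem_normalizer.1 h⟩
  by_cases hN0c : N0 ≤ Subgroup.centralizer (L : Set X)
  · obtain ⟨a, ha, haL⟩ := SetLike.not_le_iff_exists.1 hLA
    have haN : a ∉ N0 := fun h => haL (hN0c h)
    obtain ⟨x, hx, hx1, hxodd⟩ : ∃ x ∈ L, x ≠ 1 ∧ Odd (orderOf x) := by
      by_contra hno
      push Not at hno
      have h2 : IsPGroup 2 ↥L := by
        intro g
        obtain ⟨i, m, hm, him⟩ := Nat.exists_eq_two_pow_mul_odd (orderOf_pos (g : X)).ne'
        refine ⟨i, Subtype.ext ?_⟩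
        rw [SubmonoidClass.coe_pow, Subgroup.coe_one]
        by_contra h1
        refine hno _ (L.pow_mem g.2 _) h1 ?_
        rw [orderOf_pow_of_dvd (pow_ne_zero _ two_ne_zero) ⟨m, him⟩, him,
          Nat.mul_div_cancel_left _ (Nat.two_pow_pos i)]
        exact hm
      haveI := h2.isNilpotent
      exact Components.component_not_isSolvable hL inferInstance
    set F := Subgroup.closure {w : X | ∃ c ∈ A, w = c * x * c⁻¹} with hF
    have hgen : ∀ w ∈ {w : X | ∃ c ∈ A, w = c * x * c⁻¹}, ∀ w' ∈ {w : X | ∃ c ∈ A, w = c * x * c⁻¹},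
        Commute w w' := by
      rintro _ ⟨c, hc, rfl⟩ _ ⟨d, hd, rfl⟩
      have key : Commute x ((c⁻¹ * d) * x * (c⁻¹ * d)⁻¹) := by
        by_cases he : c⁻¹ * d ∈ N0
        · rw [← Subgroup.mem_centralizer_iff.1 (hN0c he) x hx, mul_inv_cancel_right]
        · exact (Subgroup.mem_centralizer_iff.1 (Components.component_le_centralizer hL
            (Components.component_map_conj _ hL)
            (Ne.symm (hconj _ (A.mul_mem (A.inv_mem hc) hd) he)) hx) _ ⟨x, hx, rfl⟩).symm
      have := key.map (MulAut.conj c).toMonoidHom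
      simpa [mul_assoc] using this
    have hFcomm : ∀ u ∈ F, ∀ v ∈ F, Commute u v := by
      have h1 : ∀ w ∈ {w : X | ∃ c ∈ A, w = c * x * c⁻¹}, F ≤ Subgroup.centralizer ({w} : Set X) :=
        fun w hw => (Subgroup.closure_le _).2 fun w' hw' =>
          Subgroup.mem_centralizer_singleton_iff.2 (hgen w' hw' w hw)
      intro u hu v hv
      have : F ≤ Subgroup.centralizer ({u} : Set X) := (Subgroup.closure_le _).2 fun w hw =>
        Subgroup.mem_centralizer_singleton_iff.2
          (Subgroup.mem_centralizer_singleton_iff.1 (h1 w hw hu)).symm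
      exact (Subgroup.mem_centralizer_singleton_iff.1 (this hv)).symm
    have hFodd : Odd (Nat.card F) := by
      by_contra hev
      rw [Nat.not_odd_iff_even, even_iff_two_dvd] at hev
      obtain ⟨u, hu⟩ := exists_prime_orderOf_dvd_card' (G := F) 2 hev
      rw [← Subgroup.orderOf_coe] at hu
      have hm : ∀ v ∈ F, v ^ orderOf x = 1 := by
        intro v hv
        induction hv using Subgroup.closure_induction with
        | mem v hv =>
          obtain ⟨c, -, rfl⟩ := hv
          rw [conj_pow, pow_orderOf_eq_one, mul_one, mul_inv_cancel]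
        | one => exact one_pow _
        | mul v w hv hw ihv ihw => rw [(hFcomm v hv w hw).mul_pow, ihv, ihw, one_mul]
        | inv v _ ihv => rw [inv_pow, ihv, inv_one]
      have h2 := orderOf_dvd_of_pow_eq_one (hm u u.2)
      rw [hu] at h2
      exact hxodd.not_two_dvd_nat h2
    have hFlay : F ≤ Cfsg.layer X := (Subgroup.closure_le _).2 (by
      rintro _ ⟨c, -, rfl⟩
      exact Components.component_le_layer (Components.component_map_conj c hL) ⟨x, hx, rfl⟩)
    have hAF : A ≤ Subgroup.normalizer (F : Set X) := by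
      have h1 : ∀ c ∈ A, ∀ v ∈ F, c * v * c⁻¹ ∈ F := by
        intro c hc v hv
        have : F.map (MulAut.conj c).toMonoidHom ≤ F := by
          rw [hF, MonoidHom.map_closure]
          refine Subgroup.closure_mono ?_
          rintro _ ⟨_, ⟨d, hd, rfl⟩, rfl⟩
          exact ⟨c * d, A.mul_mem hc hd, by simp [mul_assoc]⟩
        exact this ⟨v, hv, rfl⟩
      intro c hc
      refine Subgroup.mem_normalizer_iff.2 fun v => ⟨h1 c hc v, fun h => ?_⟩
      have := h1 c⁻¹ (A.inv_mem hc) _ h
      simpa [mul_assoc] using this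
    have hxF : x ∈ F := Subgroup.subset_closure ⟨1, A.one_mem, by simp⟩
    have hFnc : ¬ A ≤ Subgroup.centralizer (F : Set X) := by
      intro h
      have hax : a * x * a⁻¹ = x := by
        rw [← Subgroup.mem_centralizer_iff.1 (h ha) x hxF, mul_inv_cancel_right]
      refine hx1 (hcentral x (hLlay hx) fun K hK k hk => ?_)
      by_cases hKL : K = L
      · rw [hKL] at hk
        have hc := Subgroup.mem_centralizer_iff.1 (Components.component_le_centralizer hL
          (Components.component_map_conj a hL) (Ne.symm (hconj a ha haN)) hk) (a * x * a⁻¹) ⟨x, hx, rfl⟩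
        rw [hax] at hc
        exact hc.symm
      · exact (Subgroup.mem_centralizer_iff.1
          (Components.component_le_centralizer hK hL hKL hk) x hx).symm
    obtain ⟨a', ha', B, hB, y, hy, hp, h5, hinv, hBy, hidx⟩ := odd_case hS3 A F hA hAF hFodd hFnc
    exact ⟨a', ha', B, hB, y, hFlay hy, orderOf y, 1, rfl, Or.inl ⟨hp, h5, rfl⟩, hinv, hBy,
      by rw [pow_one]; exact hidx⟩
  obtain ⟨a, ha, B0, hB0, y, hy, n, α, hn, hbig, hinv, hB0y, hidx⟩ :=
    simple_config (A := N0) hS3 hLnc hK (fun b hb => hA b hb.1) inf_le_right hN0c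
  let M : Subgroup X → Subgroup X := fun C => ⨆ c ∈ C, L.map (MulAut.conj c).toMonoidHom
  let P : Subgroup X → Prop := fun C => C ≤ A ∧ C ⊓ N0 = ⊥ ∧ ∃ y' ∈ M C, orderOf y' = n ∧
    a * y' * a⁻¹ = y'⁻¹ ∧ (∀ b ∈ B0, b * y' = y' * b) ∧ ∀ c ∈ C, c * y' = y' * c
  have hP0 : P ⊥ := ⟨bot_le, bot_inf_eq _, y,
    (le_biSup (fun c => L.map (MulAut.conj c).toMonoidHom) (Subgroup.mem_bot.2 rfl : (1 : X) ∈ (⊥ : Subgroup X)))
      ⟨y, hy, by simp⟩, hn, hinv, hB0y, fun c hc => by rw [Subgroup.mem_bot.1 hc, one_mul, mul_one]⟩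
  obtain ⟨C, ⟨hCA, hCN, y', hy'M, hy'n, hy'i, hy'B, hy'C⟩, hCmax⟩ := Set.exists_max_image {C | P C}
    (fun C => Nat.card C) (Set.toFinite _) ⟨⊥, hP0⟩
  have hnormC : ∀ D : Subgroup X, D ≤ A → ∀ E : Subgroup X, E ≤ A →
      D ≤ Subgroup.normalizer (E : Set X) := fun D hD E hE d hd =>
    Subgroup.centralizer_le_normalizer _ (Subgroup.mem_centralizer_iff.2 fun e he =>
      hcomm e (hE he) d (hD hd))
  have hfull : A ≤ C ⊔ N0 := by
    intro c hc
    by_contra hcn
    set C' := C ⊔ Subgroup.zpowers c with hC'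
    have hC'A : C' ≤ A := sup_le hCA (Subgroup.zpowers_le.2 hc)
    have helem : ∀ z ∈ C', z ∈ C ∨ c * z ∈ C := by
      intro z hz
      have hz' : z ∈ ((C ⊔ Subgroup.zpowers c : Subgroup X) : Set X) := hz
      rw [Subgroup.coe_mul_of_right_le_normalizer_left C (Subgroup.zpowers c)
        (hnormC _ (Subgroup.zpowers_le.2 hc) C hCA)] at hz'
      obtain ⟨u, hu, w, hw, rfl⟩ := Set.mem_mul.1 hz'
      obtain ⟨i, rfl⟩ := Subgroup.mem_zpowers_iff.1 hw
      rcases Int.even_or_odd' i with ⟨j, rfl | rfl⟩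
      · left
        rw [_root_.zpow_mul, _root_.zpow_two, hA c hc, _root_.one_zpow, mul_one]
        exact hu
      · right
        rw [_root_.zpow_add_one, _root_.zpow_mul, _root_.zpow_two, hA c hc, _root_.one_zpow, one_mul,
          hcomm u (hCA hu) c hc, ← mul_assoc, hA c hc, one_mul]
        exact hu
    have hne : ∀ c' ∈ C, L.map (MulAut.conj c').toMonoidHom ≤ M C := fun c' hc' =>
      le_biSup (fun c => L.map (MulAut.conj c).toMonoidHom) hc'
    set yc := c * y' * c⁻¹ with hyc
    have hcc : c⁻¹ = c := inv_eq_of_mul_eq_one_right (hA c hc)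
    have hycM : yc ∈ (M C).map (MulAut.conj c).toMonoidHom := ⟨y', hy'M, rfl⟩
    -- the two groups of components commute
    have hMcomm : (M C).map (MulAut.conj c).toMonoidHom ≤ Subgroup.centralizer (M C : Set X) := by
      simp only [M, Subgroup.map_iSup, iSup_le_iff]
      intro c1 hc1
      rw [Subgroup.le_centralizer_iff]
      refine iSup₂_le fun c2 hc2 => ?_
      have e : (L.map (MulAut.conj c1).toMonoidHom).map (MulAut.conj c).toMonoidHom =
          L.map (MulAut.conj (c * c1)).toMonoidHom := by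
        rw [Subgroup.map_map]
        congr 1
        ext z
        simp [mul_assoc]
      rw [e]
      refine Components.component_le_centralizer (Components.component_map_conj _ hL)
        (Components.component_map_conj _ hL) fun h => hcn ?_
      have h' : L.map (MulAut.conj (c2⁻¹ * (c * c1))).toMonoidHom = L := by
        have := congrArg (Subgroup.map (MulAut.conj c2⁻¹).toMonoidHom) h
        rw [Subgroup.map_map, Subgroup.map_map] at this
        have e1 : ∀ u v : X, (MulAut.conj u).toMonoidHom.comp (MulAut.conj v).toMonoidHom =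
            (MulAut.conj (u * v)).toMonoidHom := fun u v => by ext z; simp [mul_assoc]
        rw [e1, e1, inv_mul_cancel, map_one] at this
        rw [← this]
        exact Subgroup.map_id L
      have hmem : c2⁻¹ * (c * c1) ∈ N0 := by
        by_contra hh
        exact hconj _ (A.mul_mem (A.inv_mem (hCA hc2)) (A.mul_mem hc (hCA hc1))) hh h'
      have : c = (c2 * c1⁻¹) * (c2⁻¹ * (c * c1)) := by
        rw [hcomm c2 (hCA hc2) c1⁻¹ (A.inv_mem (hCA hc1)),
          hcomm c hc c1 (hCA hc1)]
        group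
      rw [this]
      exact Subgroup.mul_mem _ (Subgroup.mem_sup_left (C.mul_mem hc2 (C.inv_mem hc1)))
        (Subgroup.mem_sup_right hmem)
    have hyy : Commute y' yc := Subgroup.mem_centralizer_iff.1 (hMcomm hycM) y' hy'M
    have hlaymem : M C ≤ Cfsg.layer X := iSup₂_le fun c' _ =>
      Components.component_le_layer (Components.component_map_conj c' hL)
    have htriv : ∀ z ∈ M C, z ∈ (M C).map (MulAut.conj c).toMonoidHom → z = 1 := by
      intro z hz hz'
      refine hcentral z (hlaymem hz) fun K hK k hk => ?_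
      by_cases hKC : ∃ c' ∈ C, K = L.map (MulAut.conj c').toMonoidHom
      · obtain ⟨c', hc', rfl⟩ := hKC
        exact Subgroup.mem_centralizer_iff.1 (hMcomm hz') k (hne c' hc' hk)
      · push Not at hKC
        have hle : M C ≤ Subgroup.centralizer (K : Set X) := iSup₂_le fun c' hc' =>
          Components.component_le_centralizer (Components.component_map_conj c' hL) hK (hKC c' hc').symm
        exact Subgroup.mem_centralizer_iff.1 (hle hz) k hk
    have hfix : c * (y' * yc) = (y' * yc) * c := by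
      rw [← mul_inv_eq_iff_eq_mul]
      calc c * (y' * yc) * c⁻¹ = (c * y' * c⁻¹) * ((c * c) * y' * (c * c)⁻¹) := by rw [hyc]; group
        _ = yc * y' := by rw [hA c hc, hyc]; group
        _ = _ := hyy.symm.eq
    have hcomC : ∀ z ∈ A, z * y' = y' * z → z * (y' * yc) = (y' * yc) * z := by
      intro z hz h
      have h1 : Commute z y' := h
      have h2 : Commute z c := hcomm z hz c hc
      exact (h1.mul_right ((h2.mul_right h1).mul_right h2.inv_right)).eq
    have hC'P : P C' := by
      refine ⟨hC'A, ?_, y' * yc, ?_, ?_, ?_, fun b hb => hcomC b (hB0 hb).1 (hy'B b hb), ?_⟩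
      · rw [eq_bot_iff]
        rintro z ⟨hz, hzN⟩
        rcases helem z hz with h | h
        · exact hCN.le ⟨h, hzN⟩
        · exfalso
          refine hcn ?_
          have := Subgroup.mul_mem _ (Subgroup.mem_sup_left h : c * z ∈ C ⊔ N0)
            (Subgroup.mem_sup_right hzN)
          rwa [mul_assoc, hA z (hC'A hz), mul_one] at this
      · refine Subgroup.mul_mem _ ?_ ?_
        · exact (iSup₂_le fun c' hc' => le_biSup (fun c => L.map (MulAut.conj c).toMonoidHom)
            (Subgroup.mem_sup_left hc' : c' ∈ C') : M C ≤ M C') hy'M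
        · refine (?_ : (M C).map (MulAut.conj c).toMonoidHom ≤ M C') hycM
          simp only [M, Subgroup.map_iSup, iSup_le_iff]
          intro c' hc'
          refine le_trans ?_ (le_biSup (fun c => L.map (MulAut.conj c).toMonoidHom)
            (C'.mul_mem (Subgroup.mem_sup_right (Subgroup.mem_zpowers c)) (Subgroup.mem_sup_left hc')
              : c * c' ∈ C'))
          rw [Subgroup.map_map]
          exact le_of_eq (congrArg (fun f => Subgroup.map f L) (by ext z; simp [mul_assoc]))
      · have hyco : orderOf yc = n := by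
          rw [hyc, show c * y' * c⁻¹ = MulAut.conj c y' from rfl, MulEquiv.orderOf_eq, hy'n]
        refine Nat.dvd_antisymm (orderOf_dvd_of_pow_eq_one ?_) ?_
        · rw [hyy.mul_pow, ← hy'n, pow_orderOf_eq_one, hy'n, ← hyco, pow_orderOf_eq_one, one_mul]
        · rw [← hy'n]
          refine orderOf_dvd_of_pow_eq_one ?_
          have h1 := pow_orderOf_eq_one (y' * yc)
          rw [hyy.mul_pow] at h1
          refine htriv _ (Subgroup.pow_mem _ hy'M _) ?_
          rw [eq_inv_of_mul_eq_one_left h1]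
          exact Subgroup.inv_mem _ (Subgroup.pow_mem _ hycM _)
      · have hac : Commute a c := hcomm a ha.1 c hc
        have e : a * yc * a⁻¹ = yc⁻¹ := by
          rw [hyc, show a * (c * y' * c⁻¹) * a⁻¹ = (a * c) * y' * (a * c)⁻¹ by group, hac.eq,
            show c * a * y' * (c * a)⁻¹ = c * (a * y' * a⁻¹) * c⁻¹ by group, hy'i]
          group
        rw [show a * (y' * yc) * a⁻¹ = (a * y' * a⁻¹) * (a * yc * a⁻¹) by group, hy'i, e,
          ← _root_.mul_inv_rev, hyy.eq]
      · intro z hz
        rcases helem z hz with h | h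
        · exact hcomC z (hC'A hz) (hy'C z h)
        · have h1 : Commute (c * z) (y' * yc) := hcomC _ (A.mul_mem hc (hC'A hz)) (hy'C _ h)
          have h2 := (show Commute c (y' * yc) from hfix).mul_left h1
          rwa [← mul_assoc, hA c hc, one_mul] at h2
    have hlt : C < C' := lt_of_le_of_ne le_sup_left fun h =>
      hcn (Subgroup.mem_sup_left (h ▸ Subgroup.mem_sup_right (Subgroup.mem_zpowers c)))
    exact absurd (hCmax C' hC'P) (not_le.2 (lt_of_le_of_ne (Subgroup.card_le_of_le hlt.le)
      fun h => hlt.ne (Subgroup.eq_of_le_of_card_ge hlt.le h.ge)))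
  set B := B0 ⊔ C with hB
  refine ⟨a, ha.1, B, sup_le (hB0.trans inf_le_left) hCA, y', ?_, n, α, hy'n, hbig, hy'i, ?_, ?_⟩
  · exact (iSup₂_le fun c' _ => Components.component_le_layer (Components.component_map_conj c' hL) :
      M C ≤ Cfsg.layer X) hy'M
  · have hle : B ≤ Subgroup.centralizer ({y'} : Set X) :=
      sup_le (fun b hb => Subgroup.mem_centralizer_singleton_iff.2 (hy'B b hb))
        (fun b hb => Subgroup.mem_centralizer_singleton_iff.2 (hy'C b hb))
    exact fun b hb => Subgroup.mem_centralizer_singleton_iff.1 (hle hb)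
  · have h1 := Thompson.card_sup_mul_card_inf (H := C) (K := N0) (hnormC N0 inf_le_left C hCA)
    have h2 := Thompson.card_sup_mul_card_inf (H := B0) (K := C)
      (hnormC C hCA B0 (hB0.trans inf_le_left))
    have h3 : B0 ⊓ C = ⊥ := eq_bot_iff.2 fun z hz => hCN.le ⟨hz.2, hB0 hz.1⟩
    rw [h3, Subgroup.card_bot, mul_one] at h2
    rw [hCN, Subgroup.card_bot, mul_one] at h1
    calc Nat.card A ≤ Nat.card ↥(C ⊔ N0) := Subgroup.card_le_of_le hfull
      _ = Nat.card C * Nat.card N0 := h1
      _ ≤ Nat.card C * (2 ^ α * Nat.card B0) := Nat.mul_le_mul_left _ hidx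
      _ = 2 ^ α * (Nat.card B0 * Nat.card C) := by ring
      _ = _ := by rw [hB, h2]

end Cfsg.Agent.T51.EG
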