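import Cfsg.Agent.T51.ESect
import Cfsg.Agent.T51.ETop
import Cfsg.Agent.Lib.Fitting

/-!
In the reduced configuration, a subgroup with the property lies in `O₂(G)`.
-/

set_option autoImplicit false
set_option linter.unusedVariables false
set_option linter.unusedSectionVars false
set_option linter.style.haveILetI false

namespace Cfsg.Agent.T51.EG

open Thompson Equiv
open Cfsg.Agent.T51.Bnd
open scoped commutatorElement

universe u

variable {G : Type u} [Group G] [Finite G]

/-- The orders of the preimage and the image of a subgroup inside `V`. -/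
theorem card_inf_comap {H : Type u} [Group H] (f : G →* H) (V : Subgroup G) (B : Subgroup H)
    (hB : B ≤ V.map f) :
    Nat.card ↥(V ⊓ B.comap f) = Nat.card B * Nat.card ↥(V ⊓ f.ker) := by
  let q : ↥(V ⊓ B.comap f) →* H := f.comp (V ⊓ B.comap f).subtype
  have hr : q.range = B := by
    rw [MonoidHom.range_comp, Subgroup.range_subtype]
    refine le_antisymm ?_ fun b hb => ?_
    · rintro _ ⟨x, hx, rfl⟩; exact hx.2
    · obtain ⟨x, hx, rfl⟩ := hB hb
      exact ⟨x, ⟨hx, hb⟩, rfl⟩
  have hk : Nat.card q.ker = Nat.card ↥(V ⊓ f.ker) := by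
    refine Nat.card_congr
      { toFun := fun x => ⟨((x : ↥(V ⊓ B.comap f)) : G), (x : ↥(V ⊓ B.comap f)).2.1, x.2⟩
        invFun := fun x => ⟨⟨(x : G), x.2.1, ?_⟩, x.2.2⟩
        left_inv := fun x => rfl
        right_inv := fun x => rfl }
    show f x ∈ B
    rw [show f (x : G) = 1 from x.2.2]
    exact one_mem _
  rw [← QOff.card_map_mul_card_ker q, hr, hk]

variable (hchar : Subgroup.centralizer (Cfsg.pCore 2 G : Set G) ≤ Cfsg.pCore 2 G)
  (hfree : ¬ Cfsg.Involves (Perm (Fin 4)) G) (hc : CompK G) {S : Sylow 2 G} {P0 : Subgroup G}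
  (hR : Red S P0)

include hR in
theorem odd_image_P0 : Odd (Nat.card ↥(P0.map (QuotientGroup.mk' (Cfsg.pCore 2 G)))) := by
  haveI : Fact (Nat.Prime 2) := ⟨Nat.prime_two⟩
  haveI := hR.normal
  set Q := Cfsg.pCore 2 G with hQ
  set Pb := P0.map (QuotientGroup.mk' Q) with hPb
  by_contra hev
  rw [Nat.not_odd_iff_even, even_iff_two_dvd] at hev
  have h2 : ¬ 2 ∣ (Q.subgroupOf P0).index := by
    obtain ⟨R, hR'⟩ := exists_sylow_inf S P0
    have hle : (R : Subgroup ↥P0) ≤ Q.subgroupOf P0 := by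
      intro x hx
      have : (x : G) ∈ (S : Subgroup G) ⊓ P0 := hR' ▸ ⟨x, hx, rfl⟩
      exact hR.inf_le hR.normal hR.top this
    exact fun h => R.not_dvd_index (h.trans (Subgroup.index_dvd_of_le hle))
  have e : Nat.card Pb = (Q.subgroupOf P0).index := by
    have := card_map_mk Q P0 hR.le
    rw [← Subgroup.index_mul_card (Q.subgroupOf P0),
      Nat.card_congr (Subgroup.subgroupOfEquivOfLe hR.le).toEquiv] at this
    exact Nat.eq_of_mul_eq_mul_right Nat.card_pos this
  exact h2 (e ▸ hev)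

include hchar hfree hR in
/-- The property gives no action on an odd normal section over `O₂(G)`. -/
theorem centralizes_odd_section {V0 : Subgroup G} (hV : HypIn (tT S) V0) (F : Subgroup G) [F.Normal]
    (hodd : Odd (Nat.card ↥(F.map (QuotientGroup.mk' (Cfsg.pCore 2 G))))) :
    ∀ v ∈ V0, ∀ x ∈ F, v * x * v⁻¹ * x⁻¹ ∈ Cfsg.pCore 2 G := by
  haveI : Fact (Nat.Prime 2) := ⟨Nat.prime_two⟩
  set Q := Cfsg.pCore 2 G with hQ
  set π := QuotientGroup.mk' Q with hπ
  set Vb := V0.map π with hVb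
  set Fb := F.map π with hFb
  haveI : Fb.Normal := (inferInstance : F.Normal).map π (QuotientGroup.mk'_surjective Q)
  have hVsq : ∀ a ∈ Vb, a * a = 1 := by
    rintro _ ⟨v, hv, rfl⟩
    rw [← map_mul, ← pow_two, hV.elem.2 v hv, map_one]
  by_cases hcent : Vb ≤ Subgroup.centralizer (Fb : Set (G ⧸ Q))
  · intro v hv x hx
    refine (QuotientGroup.eq_one_iff _).1 ?_
    show π (v * x * v⁻¹ * x⁻¹) = 1
    rw [map_mul, map_mul, map_mul, map_inv, map_inv,
      ← Subgroup.mem_centralizer_iff.1 (hcent ⟨v, hv, rfl⟩) (π x) ⟨x, hx, rfl⟩,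
      mul_inv_cancel_right, mul_inv_cancel]
  exfalso
  obtain ⟨_, ⟨v, hv, rfl⟩, Bb, hBb, yb, hyb, hp, h5, hinv, hBy, hidx⟩ :=
    odd_case (not_involves_three hchar hfree) Vb Fb hVsq
      (by rw [Subgroup.normalizer_eq_top_iff.2 inferInstance]; exact le_top) hodd hcent
  have hyodd : Odd (orderOf yb) := hp.odd_of_ne_two (by omega)
  obtain ⟨y, hyo, hyi, hyz⟩ := lift_inverted Q Thompson.isPGroup_pCore
    (v := v) (by rw [← pow_two]; exact hV.elem.2 v hv) hyodd hinv
  refine kill hchar S hV hv (B := V0 ⊓ Bb.comap π) inf_le_left (n := orderOf yb) (α := 1) hyo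
    (Or.inl ⟨hp, h5, rfl⟩) hyi ?_ ?_
  · intro b hb
    refine (QuotientGroup.eq_one_iff _).1 ?_
    show π (b * y * b⁻¹ * y⁻¹) = 1
    obtain ⟨i, hi⟩ := Subgroup.mem_zpowers_iff.1 hyz
    rw [map_mul, map_mul, map_mul, map_inv, map_inv, show π y = yb ^ i from hi.symm,
      ((show Commute (π b) yb from hBy _ hb.2).zpow_right i).eq, mul_inv_cancel_right, mul_inv_cancel]
  · rw [card_inf_comap π V0 Bb hBb, pow_one, ← mul_assoc]
    refine le_trans ?_ (Nat.mul_le_mul_right _ hidx)
    rw [← card_inf_comap π V0 Vb le_rfl]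
    exact Subgroup.card_le_of_le (le_inf le_rfl (Subgroup.le_comap_map _ _))

include hchar hfree hc hR in
/-- The property implies `V₀ ≤ O₂(G)`. -/
theorem hyp_le_core {V0 : Subgroup G} (hV : HypIn (tT S) V0) : V0 ≤ Cfsg.pCore 2 G := by
  classical
  haveI : Fact (Nat.Prime 2) := ⟨Nat.prime_two⟩
  haveI := hR.normal
  haveI hP2n : (Cfsg.pResidual 2 G).Normal := pResidual_normal
  set Q := Cfsg.pCore 2 G with hQ
  set P2 := Cfsg.pResidual 2 G with hP2
  set P := Q ⊔ P2 with hP
  have hVS : V0 ≤ (S : Subgroup G) := hV.le.trans (tT_le S)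
  by_cases habel : ⁅P, P⁆ ≤ P0
  · -- `P/Q` has odd order
    have hodd : Odd (Nat.card ↥(P.map (QuotientGroup.mk' Q))) := by
      obtain ⟨R, hR'⟩ := exists_sylow_inf S P
      have hle : (R : Subgroup ↥P) ≤ Q.subgroupOf P := by
        intro x hx
        have hxS : (x : G) ∈ (S : Subgroup G) ⊓ P := hR' ▸ ⟨x, hx, rfl⟩
        refine hR.ker (x : G) hxS.1 fun z hz => habel ?_
        rw [← commutatorElement_def]
        exact Subgroup.commutator_mem_commutator hxS.2 (Subgroup.mem_sup_right hz)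
      have e : Nat.card ↥(P.map (QuotientGroup.mk' Q)) = (Q.subgroupOf P).index := by
        have := card_map_mk Q P le_sup_left
        rw [← Subgroup.index_mul_card (Q.subgroupOf P),
          Nat.card_congr (Subgroup.subgroupOfEquivOfLe (le_sup_left : Q ≤ P)).toEquiv] at this
        exact Nat.eq_of_mul_eq_mul_right Nat.card_pos this
      rw [e]
      by_contra hev
      rw [Nat.not_odd_iff_even, even_iff_two_dvd] at hev
      exact R.not_dvd_index (hev.trans (Subgroup.index_dvd_of_le hle))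
    intro v hv
    exact hR.ker v (hVS hv) fun x hx =>
      hR.le (centralizes_odd_section hchar hfree hR hV P hodd v hv x (Subgroup.mem_sup_right hx))
  have h0 := centralizes_odd_section hchar hfree hR hV P0 (odd_image_P0 hR)
  intro v0 hv0
  by_contra hv0Q
  -- the top
  set π := QuotientGroup.mk' P0 with hπ
  have hπs : Function.Surjective π := QuotientGroup.mk'_surjective P0
  set E := P.map π with hE
  haveI hEn : E.Normal := (inferInstance : P.Normal).map π hπs
  have hEmin : ∀ K : Subgroup (G ⧸ P0), K.Normal → K ≤ E → K = ⊥ ∨ K = E := by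
    intro K hK hKE
    haveI := hK
    have h1 : P0 ≤ K.comap π := fun m hm => by
      rw [Subgroup.mem_comap, show π m = 1 from (QuotientGroup.eq_one_iff m).2 hm]
      exact one_mem _
    have h2 : K.comap π ≤ P := by
      refine (Subgroup.comap_mono hKE).trans ?_
      rw [hE, Subgroup.comap_map_eq, hπ, QuotientGroup.ker_mk']
      exact sup_le le_rfl hR.leP
    by_cases h : P2 ≤ K.comap π
    · right
      rw [← Subgroup.map_comap_eq_self_of_surjective hπs K, hE]
      exact congrArg _ (le_antisymm h2 (sup_le (hR.le.trans h1) h))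
    · left
      rw [← Subgroup.map_comap_eq_self_of_surjective hπs K, Subgroup.map_eq_bot_iff, hπ,
        QuotientGroup.ker_mk']
      exact hR.max _ inferInstance h2 h
  have hEE : ⁅E, E⁆ = E := by
    refine (hEmin _ inferInstance (Subgroup.commutator_le_self E)).resolve_left fun h => habel ?_
    rw [hE, ← Subgroup.map_commutator, Subgroup.map_eq_bot_iff, hπ, QuotientGroup.ker_mk'] at h
    exact h
  have hEne : E ≠ ⊥ := fun h => hR.top (by
    rw [hE, Subgroup.map_eq_bot_iff, hπ, QuotientGroup.ker_mk'] at h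
    exact le_sup_right.trans h)
  have hCE : Subgroup.centralizer (E : Set (G ⧸ P0)) = ⊥ := by
    set K := (Subgroup.centralizer (E : Set (G ⧸ P0))).comap π with hK
    haveI : K.Normal := inferInstance
    have hKnot : ¬ P2 ≤ K := by
      intro h
      refine hEne ?_
      have h1 : E ≤ Subgroup.centralizer (E : Set (G ⧸ P0)) := by
        rw [hE, Subgroup.map_le_iff_le_comap]
        refine sup_le (fun q hq => ?_) h
        rw [Subgroup.mem_comap, show π q = 1 from (QuotientGroup.eq_one_iff q).2 (hR.le hq)]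
        exact one_mem _
      rw [← hEE, Subgroup.commutator_eq_bot_iff_le_centralizer]
      exact h1
    have hKP0 : K ⊓ P ≤ P0 := hR.max _ inferInstance inf_le_right fun h => hKnot (h.trans inf_le_left)
    have hK0 : K ≤ P0 := by
      intro k hk
      obtain ⟨i, m, hm, him⟩ := Nat.exists_eq_two_pow_mul_odd (orderOf_pos k).ne'
      have hodd : k ^ 2 ^ i ∈ P0 := by
        refine hKP0 ⟨K.pow_mem hk _, Subgroup.mem_sup_right (mem_pResidual_of_odd ?_)⟩
        rw [orderOf_pow_of_dvd (pow_ne_zero _ two_ne_zero) ⟨m, him⟩, him,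
          Nat.mul_div_cancel_left _ (Nat.two_pow_pos i)]
        exact hm
      have heven : k ^ m ∈ P0 := by
        have hord : (k ^ m) ^ 2 ^ i = 1 := by rw [← pow_mul, mul_comm, ← him, pow_orderOf_eq_one]
        have h2 : IsPGroup 2 (Subgroup.zpowers (k ^ m)) := by
          obtain ⟨j, -, hj⟩ := (Nat.dvd_prime_pow Nat.prime_two).1 (orderOf_dvd_of_pow_eq_one hord)
          exact IsPGroup.of_card (n := j) (by rw [Nat.card_zpowers, hj])
        obtain ⟨T, hT⟩ := h2.exists_le_sylow
        obtain ⟨g, hg⟩ := MulAction.exists_smul_eq G T S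
        have hmem : g * k ^ m * g⁻¹ ∈ (S : Subgroup G) ⊓ K := by
          refine ⟨?_, (inferInstance : K.Normal).conj_mem _ (K.pow_mem hk m) g⟩
          rw [← hg, SetLike.mem_coe, Sylow.coe_subgroup_smul]
          exact ⟨_, hT (Subgroup.mem_zpowers _), rfl⟩
        have h3 := hR.normal.conj_mem _ (hR.le (hR.inf_le inferInstance hKnot hmem)) g⁻¹
        rwa [show g⁻¹ * (g * k ^ m * g⁻¹) * g⁻¹⁻¹ = k ^ m by group] at h3
      obtain ⟨a, b, hab⟩ := Nat.isCoprime_iff_coprime.2 ((Nat.coprime_two_left.2 hm).pow_left i)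
      push_cast at hab
      have hk1 : k = (k ^ 2 ^ i) ^ a * (k ^ m) ^ b := by
        rw [← zpow_natCast k (2 ^ i), ← zpow_natCast k m, ← zpow_mul, ← zpow_mul, ← zpow_add]
        push_cast
        rw [mul_comm (2 ^ i : ℤ), mul_comm (m : ℤ), hab, zpow_one]
      rw [hk1]
      exact P0.mul_mem (P0.zpow_mem hodd _) (P0.zpow_mem heven _)
    rw [← Subgroup.map_comap_eq_self_of_surjective hπs (Subgroup.centralizer (E : Set (G ⧸ P0))),
      ← hK, Subgroup.map_eq_bot_iff, hπ, QuotientGroup.ker_mk']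
    exact hK0
  have hfit : Cfsg.fittingSubgroup (G ⧸ P0) = ⊥ := by
    set Fi := Cfsg.fittingSubgroup (G ⧸ P0) with hFi
    rcases hEmin (Fi ⊓ E) inferInstance inf_le_right with h | h
    · rw [eq_bot_iff, ← hCE]
      rw [Subgroup.le_centralizer_iff]
      refine fun e he => Subgroup.mem_centralizer_iff.2 fun f hf => ?_
      have : ⁅f, e⁆ ∈ Fi ⊓ E := ⟨Subgroup.commutator_le_left _ _
          (Subgroup.commutator_mem_commutator hf (Subgroup.mem_top e)),
        Subgroup.commutator_le_right _ _ (Subgroup.commutator_mem_commutator (Subgroup.mem_top f) he)⟩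
      rw [h, Subgroup.mem_bot, commutatorElement_eq_one_iff_mul_comm] at this
      exact this
    · exfalso
      haveI : Group.IsNilpotent ↥Fi := Fitting.fitting_isNilpotent
      haveI : Group.IsSolvable ↥E := Group.isSolvable_of_isSolvable_injective
        (f := Subgroup.inclusion (inf_eq_right.1 h)) (Subgroup.inclusion_injective _)
      haveI : Group.IsPerfect ↥E := Subgroup.isPerfect_iff.2 hEE
      haveI : Nontrivial ↥E := Subgroup.nontrivial_iff_ne_bot E |>.2 hEne
      exact Group.IsPerfect.not_isSolvable ↥E inferInstance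
  have hlay : E ≤ Cfsg.layer (G ⧸ P0) := by
    have hgen : Cfsg.generalizedFittingSubgroup (G ⧸ P0) = Cfsg.layer (G ⧸ P0) := by
      show Cfsg.layer (G ⧸ P0) ⊔ Cfsg.fittingSubgroup (G ⧸ P0) = _
      rw [hfit, sup_bot_eq]
    rcases hEmin (Cfsg.layer (G ⧸ P0) ⊓ E) inferInstance inf_le_right with h | h
    · exfalso
      have hle : Cfsg.layer (G ⧸ P0) ≤ Subgroup.centralizer (E : Set (G ⧸ P0)) := by
        refine fun l hl => Subgroup.mem_centralizer_iff.2 fun e he => ?_
        have : ⁅e, l⁆ ∈ Cfsg.layer (G ⧸ P0) ⊓ E := ⟨Subgroup.commutator_le_right _ _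
            (Subgroup.commutator_mem_commutator (Subgroup.mem_top e) hl),
          Subgroup.commutator_le_left _ _ (Subgroup.commutator_mem_commutator he (Subgroup.mem_top l))⟩
        rw [h, Subgroup.mem_bot, commutatorElement_eq_one_iff_mul_comm] at this
        exact this
      rw [hCE, le_bot_iff] at hle
      have h2 := Components.centralizer_generalizedFitting_le (G := G ⧸ P0)
      rw [hgen, hle] at h2
      exact hEne (le_bot_iff.1 ((fun e _ => h2 (Subgroup.mem_centralizer_iff.2 fun z hz => by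
        rw [Subgroup.mem_bot.1 hz, one_mul, mul_one])) : E ≤ ⊥))
    · exact inf_eq_right.1 h
  have hClay : Subgroup.centralizer (Cfsg.layer (G ⧸ P0) : Set (G ⧸ P0)) = ⊥ :=
    eq_bot_iff.2 (hCE ▸ Subgroup.centralizer_le hlay)
  set Vb := V0.map π with hVb
  have hVsq : ∀ a ∈ Vb, a * a = 1 := by
    rintro _ ⟨v, hv, rfl⟩
    rw [← map_mul, ← pow_two, hV.elem.2 v hv, map_one]
  have hVnc : ¬ Vb ≤ Subgroup.centralizer (Cfsg.layer (G ⧸ P0) : Set (G ⧸ P0)) := by
    intro h
    rw [hClay] at h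
    have h1 := h ⟨v0, hv0, rfl⟩
    rw [Subgroup.mem_bot] at h1
    exact hv0Q (hR.inf_le hR.normal hR.top ⟨hVS hv0, (QuotientGroup.eq_one_iff v0).1 h1⟩)
  have hS3 : ¬ Cfsg.Involves (Perm (Fin 3)) (G ⧸ P0) := fun h =>
    not_involves_three hchar hfree (LocalEven61.involves_trans h
      (LocalEven61.involves_of_hom (QuotientGroup.map Q P0 (MonoidHom.id G) hR.le)
        (fun y => by
          obtain ⟨x, rfl⟩ := hπs y
          exact ⟨QuotientGroup.mk' Q x, rfl⟩)
        (MonoidHom.id _) Function.injective_id))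
  obtain ⟨_, ⟨v, hv, rfl⟩, Bb, hBb, yb, hyb, n, α, hn, hbig, hinv, hBy, hidx⟩ :=
    layer_case hS3 (composition_surjective π hπs hc) (by rw [hClay, bot_inf_eq]) hVsq hVnc
  -- an inverted element of order `n` in `G/Q`
  set ρ := QuotientGroup.mk' Q with hρ
  let φ : G ⧸ Q →* G ⧸ P0 := QuotientGroup.map Q P0 (MonoidHom.id G) hR.le
  have hφρ : ∀ g, φ (ρ g) = π g := fun g => rfl
  obtain ⟨w, hw⟩ := hπs yb
  set z := ρ v * ρ w * (ρ v)⁻¹ * (ρ w)⁻¹ with hz
  have hv2 : v * v = 1 := by rw [← pow_two]; exact hV.elem.2 v hv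
  have hzi : ρ v * z * (ρ v)⁻¹ = z⁻¹ := by
    rw [hz]
    have hρ2 : ρ v * ρ v = 1 := by rw [← map_mul, hv2, map_one]
    calc ρ v * (ρ v * ρ w * (ρ v)⁻¹ * (ρ w)⁻¹) * (ρ v)⁻¹
        = (ρ v * ρ v) * ρ w * (ρ v)⁻¹ * (ρ w)⁻¹ * (ρ v)⁻¹ := by group
      _ = ρ w * ρ v * (ρ w)⁻¹ * (ρ v)⁻¹ := by rw [hρ2, one_mul, inv_eq_of_mul_eq_one_right hρ2]
      _ = _ := by group
  have hzφ : φ z = yb⁻¹ * yb⁻¹ := by
    rw [hz, map_mul, map_mul, map_mul, map_inv, map_inv, hφρ, hφρ, hw, hinv]
  have hyodd : Odd (orderOf yb) := hn ▸ hbig.odd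
  have hndvd : n ∣ orderOf z := by
    rw [← hn]
    refine dvd_trans ?_ (orderOf_map_dvd φ z)
    rw [hzφ, ← pow_two, Nat.Coprime.orderOf_pow (by rw [orderOf_inv]; exact Nat.coprime_two_right.2 hyodd),
      orderOf_inv]
  set z' := z ^ (orderOf z / n) with hz'
  have hz'o : orderOf z' = n := orderOf_pow_orderOf_div (orderOf_pos z).ne' hndvd
  have hz'i : ρ v * z' * (ρ v)⁻¹ = z'⁻¹ := by rw [hz', ← conj_pow, hzi, inv_pow]
  obtain ⟨y, hyo, hyi, hyz⟩ := lift_inverted Q Thompson.isPGroup_pCore (v := v) hv2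
    (hz'o ▸ hn ▸ hyodd) hz'i
  refine kill hchar S hV hv (B := V0 ⊓ Bb.comap π) inf_le_left (hyo.trans hz'o) hbig hyi ?_ ?_
  · intro b hb
    obtain ⟨i, hi⟩ := Subgroup.mem_zpowers_iff.1 hyz
    have hπy : π y ∈ Subgroup.zpowers yb := by
      rw [← hφρ, show ρ y = z' ^ i from hi.symm, map_zpow, hz', map_pow, hzφ]
      exact Subgroup.zpow_mem _ (Subgroup.pow_mem _ (mul_mem (inv_mem (Subgroup.mem_zpowers _))
        (inv_mem (Subgroup.mem_zpowers _))) _) _
    set c := b * y * b⁻¹ * y⁻¹ with hc'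
    have hcP0 : c ∈ P0 := by
      refine (QuotientGroup.eq_one_iff _).1 ?_
      show π (b * y * b⁻¹ * y⁻¹) = 1
      obtain ⟨j, hj⟩ := Subgroup.mem_zpowers_iff.1 hπy
      rw [map_mul, map_mul, map_mul, map_inv, map_inv, ← hj,
        ((show Commute (π b) yb from hBy _ hb.2).zpow_right j).eq, mul_inv_cancel_right, mul_inv_cancel]
    have h1 : ρ (b * c * b⁻¹) = ρ c := by
      have := h0 b hb.1 c hcP0
      rw [← QuotientGroup.eq_one_iff] at this
      rw [← mul_inv_eq_one, ← map_inv, ← map_mul]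
      exact this
    have hb2 : b * b = 1 := by rw [← pow_two]; exact hV.elem.2 b hb.1
    have h2 : b * c * b⁻¹ = c⁻¹ := by
      rw [hc']
      calc b * (b * y * b⁻¹ * y⁻¹) * b⁻¹ = (b * b) * y * b⁻¹ * y⁻¹ * b⁻¹ := by group
        _ = y * b * y⁻¹ * b⁻¹ := by rw [hb2, one_mul, inv_eq_of_mul_eq_one_right hb2]
        _ = _ := by group
    rw [h2, map_inv] at h1
    have h3 : ρ c ^ 2 = 1 := by
      rw [pow_two]
      nth_rewrite 1 [← h1]
      rw [inv_mul_cancel]
    have h4 : orderOf (ρ c) ∣ Nat.card ↥(P0.map ρ) :=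
      Subgroup.orderOf_dvd_natCard _ ⟨c, hcP0, rfl⟩
    have h5 := Nat.Coprime.eq_one_of_dvd
      (Nat.Coprime.coprime_dvd_left h4 (Nat.coprime_two_right.2 (odd_image_P0 hR)))
      (orderOf_dvd_of_pow_eq_one h3)
    exact (QuotientGroup.eq_one_iff c).1 (orderOf_eq_one_iff.1 h5)
  · rw [card_inf_comap π V0 Bb hBb, ← mul_assoc]
    refine le_trans ?_ (Nat.mul_le_mul_right _ hidx)
    rw [← card_inf_comap π V0 Vb le_rfl]
    exact Subgroup.card_le_of_le (le_inf le_rfl (Subgroup.le_comap_map _ _))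

end Cfsg.Agent.T51.EG
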