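import Cfsg.Prelude.Def_LocalEven
import Cfsg.Agent.Lib.Thompson.JSubgroup
import Cfsg.Agent.Lib.Thompson.Replacement

/-!
The hypothesis in the definition of an E-group, read inside an ambient group, and the basic
properties of the largest such subgroup over the Thompson subgroup.
-/

set_option autoImplicit false
set_option linter.unusedVariables false
set_option linter.style.haveILetI false

namespace Cfsg.Agent.T51.EG

open Thompson

universe u

variable {G : Type u} [Group G]

/-- The premise of the definition of an E-group, for subgroups of an ambient group. -/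
structure HypIn (T V : Subgroup G) : Prop where
  le : V ≤ T
  norm : T ≤ Subgroup.normalizer (V : Set G)
  elem : Cfsg.IsElementaryAbelian 2 V
  ineq : ∀ R : Subgroup G, R ≤ T →
    ⁅R, R⁆ ≤ Subgroup.centralizer (V : Set G) → (∀ r ∈ R, r ^ 2 ∈ Subgroup.centralizer (V : Set G)) →
    ¬ R ≤ Subgroup.centralizer (V : Set G) →
      (Nat.card V) ^ 2 * (Nat.card ↥(R ⊓ Subgroup.centralizer (V : Set G))) ^ 3 >
          (Nat.card R) ^ 3 * (Nat.card ↥(V ⊓ Subgroup.centralizer (R : Set G))) ^ 2 ∧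
        Nat.card ↥⁅V, R⁆ * Nat.card ↥(R ⊓ Subgroup.centralizer (V : Set G)) > Nat.card R

/-- Being an E-group, for a subgroup of an ambient group. -/
def EForm (T : Subgroup G) : Prop :=
  ∀ V : Subgroup G, HypIn T V → T ≤ Subgroup.centralizer (V : Set G)

theorem HypIn.mono {T T' V : Subgroup G} (h : HypIn T V) (hT : T' ≤ T) (hV : V ≤ T') :
    HypIn T' V :=
  ⟨hV, hT.trans h.norm, h.elem, fun R hR => h.ineq R (hR.trans hT)⟩

variable {H : Type u} [Group H]

theorem map_centralizer_inf (f : H →* G) (hf : Function.Injective f) (A B : Subgroup H) :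
    A.map f ⊓ Subgroup.centralizer ((B.map f : Subgroup G) : Set G) =
      (A ⊓ Subgroup.centralizer (B : Set H)).map f := by
  ext x
  constructor
  · rintro ⟨⟨a, ha, rfl⟩, hc⟩
    refine ⟨a, ⟨ha, Subgroup.mem_centralizer_iff.2 fun b hb => hf ?_⟩, rfl⟩
    rw [map_mul, map_mul]
    exact Subgroup.mem_centralizer_iff.1 hc _ ⟨b, hb, rfl⟩
  · rintro ⟨a, ⟨ha, hc⟩, rfl⟩
    refine ⟨⟨a, ha, rfl⟩, Subgroup.mem_centralizer_iff.2 ?_⟩
    rintro _ ⟨b, hb, rfl⟩
    rw [← map_mul, ← map_mul, Subgroup.mem_centralizer_iff.1 hc b hb]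

theorem map_le_centralizer_iff (f : H →* G) (hf : Function.Injective f) (A B : Subgroup H) :
    A.map f ≤ Subgroup.centralizer ((B.map f : Subgroup G) : Set G) ↔
      A ≤ Subgroup.centralizer (B : Set H) := by
  rw [← inf_eq_left, map_centralizer_inf f hf, (Subgroup.map_injective hf).eq_iff, inf_eq_left]

theorem map_mem_centralizer_iff (f : H →* G) (hf : Function.Injective f) (B : Subgroup H) (x : H) :
    f x ∈ Subgroup.centralizer ((B.map f : Subgroup G) : Set G) ↔
      x ∈ Subgroup.centralizer (B : Set H) := by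
  simp only [Subgroup.mem_centralizer_iff]
  constructor
  · intro h b hb
    exact hf (by rw [map_mul, map_mul]; exact h _ ⟨b, hb, rfl⟩)
  · rintro h _ ⟨b, hb, rfl⟩
    rw [← map_mul, ← map_mul, h b hb]

theorem hypIn_map_iff (f : H →* G) (hf : Function.Injective f) (T V : Subgroup H) :
    HypIn (T.map f) (V.map f) ↔ HypIn T V := by
  have hcard : ∀ A : Subgroup H, Nat.card (A.map f) = Nat.card A :=
    fun A => Subgroup.card_map_of_injective hf
  have hnorm : T.map f ≤ Subgroup.normalizer ((V.map f : Subgroup G) : Set G) ↔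
      T ≤ Subgroup.normalizer (V : Set H) := by
    constructor
    · intro h t ht
      refine Subgroup.mem_normalizer_iff.2 fun v => ?_
      have h1 := Subgroup.mem_normalizer_iff.1 (h ⟨t, ht, rfl⟩) (f v)
      rwa [← map_inv, ← map_mul, ← map_mul, Subgroup.mem_map_iff_mem hf,
        Subgroup.mem_map_iff_mem hf] at h1
    · intro h
      exact (Subgroup.map_mono h).trans (Subgroup.le_normalizer_map f)
  have hR : ∀ R : Subgroup H,
      (⁅R.map f, R.map f⁆ ≤ Subgroup.centralizer ((V.map f : Subgroup G) : Set G) ↔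
        ⁅R, R⁆ ≤ Subgroup.centralizer (V : Set H)) ∧
      ((∀ r ∈ R.map f, r ^ 2 ∈ Subgroup.centralizer ((V.map f : Subgroup G) : Set G)) ↔
        ∀ r ∈ R, r ^ 2 ∈ Subgroup.centralizer (V : Set H)) := by
    intro R
    refine ⟨by rw [← Subgroup.map_commutator, map_le_centralizer_iff f hf], ?_⟩
    constructor
    · intro h r hr
      have h1 := h _ ⟨r, hr, rfl⟩
      rwa [← map_pow, map_mem_centralizer_iff f hf] at h1
    · rintro h _ ⟨r, hr, rfl⟩
      rw [← map_pow, map_mem_centralizer_iff f hf]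
      exact h r hr
  constructor
  · intro h
    refine ⟨(Subgroup.map_le_map_iff_of_injective hf).1 h.le, hnorm.1 h.norm,
      (isElementaryAbelian_iff_of_injective hf).1 h.elem, fun R hRT h1 h2 h3 => ?_⟩
    have h4 := h.ineq (R.map f) (Subgroup.map_mono hRT) ((hR R).1.2 h1) ((hR R).2.2 h2)
      (fun h5 => h3 ((map_le_centralizer_iff f hf R V).1 h5))
    rwa [map_centralizer_inf f hf, map_centralizer_inf f hf, ← Subgroup.map_commutator, hcard, hcard,
      hcard, hcard, hcard] at h4
  · intro h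
    refine ⟨Subgroup.map_mono h.le, hnorm.2 h.norm, isElementaryAbelian_map _ h.elem,
      fun R' hR'T => ?_⟩
    obtain ⟨R, rfl⟩ : ∃ R : Subgroup H, R.map f = R' :=
      ⟨R'.comap f, Subgroup.map_comap_eq_self (hR'T.trans (Subgroup.map_le_range f T))⟩
    intro h1 h2 h3
    rw [map_centralizer_inf f hf, map_centralizer_inf f hf, ← Subgroup.map_commutator, hcard, hcard,
      hcard, hcard, hcard]
    exact h.ineq R ((Subgroup.map_le_map_iff_of_injective hf).1 hR'T) ((hR R).1.1 h1)
      ((hR R).2.1 h2) (fun h5 => h3 ((map_le_centralizer_iff f hf R V).2 h5))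

theorem eForm_map_iff (f : H →* G) (hf : Function.Injective f) (T : Subgroup H) :
    EForm (T.map f) ↔ EForm T := by
  constructor
  · intro h V hV
    exact (map_le_centralizer_iff f hf T V).1 (h _ ((hypIn_map_iff f hf T V).2 hV))
  · intro h V' hV'
    obtain ⟨V, rfl⟩ : ∃ V : Subgroup H, V.map f = V' :=
      ⟨V'.comap f, Subgroup.map_comap_eq_self (hV'.le.trans (Subgroup.map_le_range f T))⟩
    exact (map_le_centralizer_iff f hf T V).2 (h _ ((hypIn_map_iff f hf T V).1 hV'))

theorem eForm_top_iff (H : Type u) [Group H] : EForm (⊤ : Subgroup H) ↔ Cfsg.IsEGroup H := by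
  constructor
  · intro h V hn he hi
    have := h V ⟨le_top, by rw [Subgroup.normalizer_eq_top_iff.2 hn], he, fun R _ => hi R⟩
    exact fun v hv => Subgroup.mem_center_iff.2 fun t =>
      (Subgroup.mem_centralizer_iff.1 (this (Subgroup.mem_top t)) v hv).symm
  · intro h V hV
    have hn : V.Normal := Subgroup.normalizer_eq_top_iff.1 (top_le_iff.1 hV.norm)
    have h1 := h V hn hV.elem fun R => hV.ineq R le_top
    exact fun t _ => Subgroup.mem_centralizer_iff.2 fun v hv =>
      (Subgroup.mem_center_iff.1 (h1 hv) t).symm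

theorem eForm_iff (T : Subgroup G) : EForm T ↔ Cfsg.IsEGroup ↥T := by
  rw [← eForm_top_iff, ← eForm_map_iff T.subtype T.subtype_injective ⊤,
    ← MonoidHom.range_eq_map, Subgroup.range_subtype]

/-- `Ĵ` of a subgroup, inside the ambient group. -/
abbrev jh (P : Subgroup G) : Subgroup G := (Cfsg.jHat ↥P).map P.subtype

theorem jh_eq (P : Subgroup G) :
    jh P = sSup {U : Subgroup G | U ≤ P ∧ EForm U ∧ Cfsg.thompsonSubgroupOf 2 P ≤ U} := by
  apply le_antisymm
  · rw [jh, Subgroup.map_le_iff_le_comap]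
    refine sSup_le fun U hU => ?_
    rw [← Subgroup.map_le_iff_le_comap]
    exact le_sSup ⟨Subgroup.map_subtype_le U,
      (eForm_map_iff _ P.subtype_injective U).2 ((eForm_iff U).2 hU.1), Subgroup.map_mono hU.2⟩
  · refine sSup_le fun U hU => ?_
    rw [← Subgroup.map_subgroupOf_eq_of_le hU.1]
    refine Subgroup.map_mono (le_sSup ⟨(eForm_iff _).1 ?_, ?_⟩)
    · rw [← eForm_map_iff P.subtype P.subtype_injective, Subgroup.map_subgroupOf_eq_of_le hU.1]
      exact hU.2.1
    · intro x hx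
      exact hU.2.2 ⟨x, hx, rfl⟩

theorem jh_le (P : Subgroup G) : jh P ≤ P := Subgroup.map_subtype_le _

theorem le_jh {P U : Subgroup G} (hU : U ≤ P) (he : EForm U)
    (hJ : Cfsg.thompsonSubgroupOf 2 P ≤ U) : U ≤ jh P := by
  rw [jh_eq]
  exact le_sSup ⟨hU, he, hJ⟩

/-- `W = Ω₁ Z(Ĵ)`. -/
abbrev wh (P : Subgroup G) : Subgroup G :=
  Cfsg.omegaOne 2 (jh P ⊓ Subgroup.centralizer (jh P : Set G))

variable [Finite G]

/-- A member of `𝒜(P)` inside `T` centralizes every `V` with the property. -/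
theorem max_le_centralizer {P T V A : Subgroup G} (hA : IsMaxEAIn 2 A P) (hAT : A ≤ T)
    (h : HypIn T V) (hVP : V ≤ P) : A ≤ Subgroup.centralizer (V : Set G) := by
  by_contra hn
  have hAA : ⁅A, A⁆ = ⊥ := by
    rw [Subgroup.commutator_eq_bot_iff_le_centralizer]
    exact fun a ha => Subgroup.mem_centralizer_iff.2 fun b hb => elemAb_comm hA.2.1.1 hb ha
  obtain ⟨h1, -⟩ := h.ineq A hAT (by rw [hAA]; exact bot_le)
    (fun a ha => by rw [hA.2.1.2 a ha]; exact one_mem _) hn
  set A0 := A ⊓ Subgroup.centralizer (V : Set G) with hA0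
  set B := A0 ⊔ V with hB
  have hBe : Cfsg.IsElementaryAbelian 2 B :=
    isElementaryAbelian_sup ⟨⟨⟨fun x y => Subtype.ext (elemAb_comm hA.2.1.1 x.2.1 y.2.1)⟩⟩,
      fun x hx => hA.2.1.2 x hx.1⟩ h.elem inf_le_right
  have hBc : Nat.card B ≤ Nat.card A := hA.2.2 B (sup_le (inf_le_left.trans hA.1) hVP) hBe
  have hint : Nat.card ↥(A0 ⊓ V) ≤ Nat.card ↥(V ⊓ Subgroup.centralizer (A : Set G)) :=
    Subgroup.card_le_of_le (le_inf inf_le_right fun x hx =>
      Subgroup.mem_centralizer_iff.2 fun a ha => elemAb_comm hA.2.1.1 ha hx.1.1)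
  have hmul : Nat.card A0 * Nat.card V = Nat.card B * Nat.card ↥(A0 ⊓ V) := by
    have e := Thompson.card_sup_mul_card_inf (H := V) (K := A0) (inf_le_left.trans (hAT.trans h.norm))
    rw [sup_comm, inf_comm] at e
    rw [hB, e, mul_comm]
  have h2 : Nat.card A0 * Nat.card V ≤ Nat.card A * Nat.card ↥(V ⊓ Subgroup.centralizer (A : Set G)) :=
    hmul ▸ Nat.mul_le_mul hBc hint
  have h3 : Nat.card A0 ≤ Nat.card A := Subgroup.card_le_of_le inf_le_left
  set a := Nat.card A with ha
  set z := Nat.card A0 with hz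
  set v := Nat.card V with hv
  set w := Nat.card ↥(V ⊓ Subgroup.centralizer (A : Set G)) with hw
  have h4 : (z * v) ^ 2 * z ≤ (a * w) ^ 2 * a := Nat.mul_le_mul (Nat.pow_le_pow_left h2 2) h3
  nlinarith [h4, h1]

/-- A member of `𝒜(P)` contains every `V` with the property that it centralizes. -/
theorem le_max {P T V A : Subgroup G} (hA : IsMaxEAIn 2 A P) (hAT : A ≤ T)
    (h : HypIn T V) (hVP : V ≤ P) : V ≤ A := by
  have hc := max_le_centralizer hA hAT h hVP
  have hB : Cfsg.IsElementaryAbelian 2 (A ⊔ V : Subgroup G) :=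
    isElementaryAbelian_sup hA.2.1 h.elem hc
  exact le_sup_right.trans
    (Subgroup.eq_of_le_of_card_ge le_sup_left (hA.2.2 _ (sup_le hA.1 hVP) hB)).ge

variable {P : Subgroup G}

theorem eForm_thompson (P : Subgroup G) : EForm (Cfsg.thompsonSubgroupOf 2 P) := by
  intro V hV
  have hle := thompsonSubgroupOf_le (p := 2) P
  rw [thompsonSubgroupOf_eq]
  exact sSup_le fun A hA => max_le_centralizer hA (le_thompsonSubgroupOf hA) hV (hV.le.trans hle)

theorem thompson_le_jh (P : Subgroup G) : Cfsg.thompsonSubgroupOf 2 P ≤ jh P :=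
  le_jh (thompsonSubgroupOf_le P) (eForm_thompson P) le_rfl

theorem le_thompson {T V : Subgroup G} (hT : T ≤ P) (hJ : Cfsg.thompsonSubgroupOf 2 P ≤ T)
    (h : HypIn T V) : V ≤ Cfsg.thompsonSubgroupOf 2 P := by
  obtain ⟨A, hA⟩ := exists_isMaxEAIn 2 P
  exact (le_max hA ((le_thompsonSubgroupOf hA).trans hJ) h (h.le.trans hT)).trans
    (le_thompsonSubgroupOf hA)

theorem jh_le_centralizer {T V : Subgroup G} (hT : T ≤ P) (hJ : jh P ≤ T) (h : HypIn T V) :
    jh P ≤ Subgroup.centralizer (V : Set G) := by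
  have hVJ := le_thompson hT ((thompson_le_jh P).trans hJ) h
  rw [jh_eq]
  refine sSup_le fun U hU => hU.2.1 V (h.mono ((le_jh hU.1 hU.2.1 hU.2.2).trans hJ) ?_)
  exact hVJ.trans hU.2.2

theorem eForm_jh (P : Subgroup G) : EForm (jh P) :=
  fun V hV => jh_le_centralizer (jh_le P) le_rfl hV

theorem le_wh {T V : Subgroup G} (hT : T ≤ P) (hJ : jh P ≤ T) (h : HypIn T V) : V ≤ wh P := by
  refine fun v hv => mem_omegaOne ⟨?_, ?_⟩ (h.elem.2 v hv)
  · exact thompson_le_jh P (le_thompson hT ((thompson_le_jh P).trans hJ) h hv)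
  · exact Subgroup.mem_centralizer_iff.2 fun x hx =>
      (Subgroup.mem_centralizer_iff.1 (jh_le_centralizer hT hJ h hx) v hv).symm

omit [Finite G] in
theorem wh_le (P : Subgroup G) : wh P ≤ jh P := (omegaOne_le _ _).trans inf_le_left

omit [Finite G] in
theorem wh_le_centralizer_jh (P : Subgroup G) : wh P ≤ Subgroup.centralizer (jh P : Set G) :=
  (omegaOne_le _ _).trans inf_le_right

omit [Finite G] in
theorem wh_elem (P : Subgroup G) : Cfsg.IsElementaryAbelian 2 (wh P) :=
  isElementaryAbelian_omegaOne ⟨⟨fun x y => Subtype.ext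
    (Subgroup.mem_centralizer_iff.1 y.2.2 x x.2.1)⟩⟩

/-- `W` lies in every member of `𝒜(P)`. -/
theorem wh_le_max {A : Subgroup G} (hA : IsMaxEAIn 2 A P) : wh P ≤ A := by
  have hAJ : A ≤ jh P := (le_thompsonSubgroupOf hA).trans (thompson_le_jh P)
  have hc : A ≤ Subgroup.centralizer (wh P : Set G) := fun a ha =>
    Subgroup.mem_centralizer_iff.2 fun w hw =>
      (Subgroup.mem_centralizer_iff.1 (wh_le_centralizer_jh P hw) a (hAJ ha)).symm
  have hB : Cfsg.IsElementaryAbelian 2 (A ⊔ wh P : Subgroup G) :=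
    isElementaryAbelian_sup hA.2.1 (wh_elem P) hc
  exact le_sup_right.trans
    (Subgroup.eq_of_le_of_card_ge le_sup_left
      (hA.2.2 _ (sup_le hA.1 ((wh_le P).trans (jh_le P))) hB)).ge

end Cfsg.Agent.T51.EG
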