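import Cfsg.Agent.T51.ESect
import Mathlib.GroupTheory.FiniteAbelian.Duality

/-!
Tools for the module argument: elements of odd order stabilizing a series, the number of linear
characters, and an invariant character of a normal elementary abelian subgroup.
-/

set_option autoImplicit false
set_option linter.unusedVariables false
set_option linter.unusedSectionVars false
set_option linter.style.haveILetI false

namespace Cfsg.Agent.T51.EG

open Thompson

universe u

variable {G : Type u} [Group G] [Finite G]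

/-- An element of odd order commuting with its commutator of 2-power order. -/
theorem commute_of_commute_comm {y n t : G} (hy : Odd (orderOf y))
    (ht : y * n * y⁻¹ * n⁻¹ = t) (hc : Commute y t) {k : ℕ} (h2 : t ^ 2 ^ k = 1) :
    y * n = n * y := by
  have hk : ∀ i : ℕ, y ^ i * n * (y ^ i)⁻¹ = t ^ i * n := by
    intro i
    induction i with
    | zero => simp
    | succ i ih =>
      rw [pow_succ' y, _root_.mul_inv_rev,
        show y * y ^ i * n * ((y ^ i)⁻¹ * y⁻¹) = y * (y ^ i * n * (y ^ i)⁻¹) * y⁻¹ by group, ih,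
        show y * (t ^ i * n) * y⁻¹ = (y * t ^ i * y⁻¹) * (y * n * y⁻¹) by group,
        (hc.pow_right i).eq, mul_inv_cancel_right, pow_succ,
        show y * n * y⁻¹ = t * n by rw [← ht, inv_mul_cancel_right], ← mul_assoc]
  have h1 := hk (orderOf y)
  rw [pow_orderOf_eq_one, one_mul, inv_one, mul_one] at h1
  have ht1 : t = 1 := orderOf_eq_one_iff.1 (Nat.Coprime.eq_one_of_dvd
    (Nat.Coprime.coprime_dvd_left (orderOf_dvd_of_pow_eq_one h2)
      ((Nat.coprime_two_left.2 hy).pow_left k))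
    (orderOf_dvd_of_pow_eq_one (mul_eq_right.1 h1.symm)))
  rw [ht1, mul_inv_eq_one, mul_inv_eq_iff_eq_mul] at ht
  exact ht

/-- The same with `t` fixed by `y` modulo nothing, for `t` of exponent two. -/
theorem commute_of_sq {y n : G} (hy : Odd (orderOf y))
    (hc : Commute y (y * n * y⁻¹ * n⁻¹)) (h2 : (y * n * y⁻¹ * n⁻¹) ^ 2 = 1) : y * n = n * y :=
  commute_of_commute_comm hy rfl hc (k := 1) (by rw [pow_one]; exact h2)

/-- Distinct linear characters are at most as many as the elements. -/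
theorem card_le_of_injective_monoidHom {X ι : Type*} [Monoid X] [Finite X] [Finite ι]
    (f : ι → (X →* ℂ)) (hf : Function.Injective f) : Nat.card ι ≤ Nat.card X := by
  classical
  haveI : Fintype X := Fintype.ofFinite X
  haveI : Fintype ι := Fintype.ofFinite ι
  have h := (linearIndependent_monoidHom X ℂ).comp f hf
  have h1 := h.fintype_card_le_finrank
  rw [Module.finrank_fintype_fun_eq_card] at h1
  rw [Nat.card_eq_fintype_card, Nat.card_eq_fintype_card]
  exact h1

/-- The index of a normal subgroup of `R` bounds a set of characters trivial on it. -/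
theorem card_le_index {X ι : Type*} [Group X] [Finite X] [Finite ι] (Z : Subgroup X) [Z.Normal]
    (f : ι → (X →* ℂˣ)) (hf : Function.Injective f) (hZ : ∀ i, ∀ z ∈ Z, f i z = 1) :
    Nat.card ι * Nat.card Z ≤ Nat.card X := by
  let g : ι → ((X ⧸ Z) →* ℂ) := fun i =>
    (Units.coeHom ℂ).comp (QuotientGroup.lift Z (f i) (hZ i))
  have hg : Function.Injective g := fun i j h => hf (MonoidHom.ext fun x => Units.ext
    (DFunLike.congr_fun h (QuotientGroup.mk x)))
  rw [Subgroup.card_eq_card_quotient_mul_card_subgroup Z]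
  exact Nat.mul_le_mul_right _ (card_le_of_injective_monoidHom g hg)

/-- A nontrivial normal elementary abelian 2-subgroup inside `M` carries a nontrivial character of
`M` whose restriction is invariant under `S`. -/
theorem exists_invariant_char (S : Sylow 2 G) {I M : Subgroup G} [I.Normal]
    (hM : Cfsg.IsElementaryAbelian 2 M) (hIM : I ≤ M) (hI : I ≠ ⊥) :
    ∃ χ : ↥M →* ℂˣ, (∃ x : ↥M, (x : G) ∈ I ∧ χ x ≠ 1) ∧
      ∀ s ∈ (S : Subgroup G), ∀ x : ↥M, (x : G) ∈ I → ∀ x' : ↥M, (x' : G) = s * x * s⁻¹ →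
        χ x' = χ x := by
  classical
  haveI : Fact (Nat.Prime 2) := ⟨Nat.prime_two⟩
  letI : CommGroup ↥M := { (inferInstance : Group ↥M) with mul_comm := hM.1.is_comm.comm }
  set I' := I.subgroupOf M with hI'
  haveI : NeZero (Monoid.exponent ↥M) := ⟨Monoid.exponent_ne_zero_of_finite⟩
  haveI : HasEnoughRootsOfUnity ℂ (Monoid.exponent ↥M) := inferInstance
  haveI : NeZero (Monoid.exponent ↥I') := ⟨Monoid.exponent_ne_zero_of_finite⟩
  haveI : HasEnoughRootsOfUnity ℂ (Monoid.exponent ↥I') := inferInstance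
  haveI : Finite (↥I' →* ℂˣ) :=
    Finite.of_equiv ↥I' (CommGroup.monoidHom_mulEquiv_of_hasEnoughRootsOfUnity ↥I' ℂ).some.toEquiv.symm
  have hn : ∀ (g : G) (x : ↥I'), g * ((x : ↥M) : G) * g⁻¹ ∈ I := fun g x =>
    (inferInstance : I.Normal).conj_mem _ x.2 g
  let cj : G → ↥I' →* ↥I' := fun g => MonoidHom.mk'
    (fun x => ⟨⟨g * ((x : ↥M) : G) * g⁻¹, hIM (hn g x)⟩, hn g x⟩)
    fun x y => Subtype.ext (Subtype.ext (by simp [mul_assoc]))
  have hcj : ∀ (g : G) (x : ↥I'), (((cj g x : ↥I') : ↥M) : G) = g * ((x : ↥M) : G) * g⁻¹ :=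
    fun g x => rfl
  letI : MulAction ↥(S : Subgroup G) (↥I' →* ℂˣ) :=
    { smul := fun s φ => φ.comp (cj ((s : G)⁻¹))
      one_smul := fun φ => MonoidHom.ext fun x => by
        show φ (cj ((1 : ↥(S : Subgroup G)) : G)⁻¹ x) = φ x
        congr 1
        exact Subtype.ext (Subtype.ext (by rw [hcj]; simp))
      mul_smul := fun s t φ => MonoidHom.ext fun x => by
        show φ (cj ((s * t : ↥(S : Subgroup G)) : G)⁻¹ x) = φ (cj (t : G)⁻¹ (cj (s : G)⁻¹ x))
        congr 1
        exact Subtype.ext (Subtype.ext (by rw [hcj, hcj, hcj]; simp [mul_assoc])) }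
  have hdvd : 2 ∣ Nat.card (↥I' →* ℂˣ) := by
    rw [CommGroup.card_monoidHom_of_hasEnoughRootsOfUnity,
      Nat.card_congr (Subgroup.subgroupOfEquivOfLe hIM).toEquiv]
    have h2 : IsPGroup 2 ↥I := fun x => ⟨1, Subtype.ext (by rw [pow_one]; exact hM.2 _ (hIM x.2))⟩
    obtain ⟨j, hj⟩ := IsPGroup.iff_card.1 h2
    rw [hj]
    refine dvd_pow_self 2 fun h => hI ?_
    rw [← Subgroup.card_eq_one, hj, h, pow_zero]
  obtain ⟨φ, hφ, hφ1⟩ := (S.2 : IsPGroup 2 ↥(S : Subgroup G)).exists_fixed_point_of_prime_dvd_card_of_fixed_point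
    (↥I' →* ℂˣ) hdvd (a := 1) (fun s => MonoidHom.ext fun x => rfl)
  obtain ⟨χ, hχ⟩ := MonoidHom.domRestrict_surjective ℂ I' φ
  have hres : ∀ x : ↥I', χ (x : ↥M) = φ x := fun x => DFunLike.congr_fun hχ x
  refine ⟨χ, ?_, ?_⟩
  · by_contra h
    push Not at h
    exact hφ1 (MonoidHom.ext fun x => by rw [← hres]; exact (h _ x.2).symm)
  · intro s hs x hx x' hx'
    have e : χ x = φ ⟨x, hx⟩ := hres ⟨x, hx⟩
    have hx'I : (x' : G) ∈ I := by rw [hx']; exact (inferInstance : I.Normal).conj_mem _ hx s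
    have e' : χ x' = φ ⟨x', hx'I⟩ := hres ⟨x', hx'I⟩
    rw [e, e']
    have h := DFunLike.congr_fun (hφ ⟨s, hs⟩) (⟨x', hx'I⟩ : ↥I')
    rw [← h]
    show φ (cj (s : G)⁻¹ _) = _
    congr 1
    exact Subtype.ext (Subtype.ext (by rw [hcj]; show s⁻¹ * (x' : G) * s⁻¹⁻¹ = x; rw [hx']; group))

end Cfsg.Agent.T51.EG
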