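import Cfsg.Agent.T51.ECore
import Cfsg.Agent.T51.EKeyTools

/-!
In the reduced configuration `T` centralizes every subgroup with the property, and `W` is
centralized by `O²(G)`.
-/

set_option autoImplicit false
set_option linter.unusedVariables false
set_option linter.unusedSectionVars false
set_option linter.style.haveILetI false

namespace Cfsg.Agent.T51.EG

open Thompson Equiv
open Cfsg.Agent.T51.Bnd
open scoped commutatorElement

universe u

variable {G : Type u} [Group G] [Finite G]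

theorem conj_max {S : Sylow 2 G} {A : Subgroup G} (hA : IsMaxEAIn 2 A (S : Subgroup G)) {s : G}
    (hs : s ∈ (S : Subgroup G)) :
    IsMaxEAIn 2 (A.map (MulAut.conj s).toMonoidHom) (S : Subgroup G) := by
  have e : (S : Subgroup G).map (MulAut.conj s).toMonoidHom = (S : Subgroup G) := by
    refine Subgroup.ext fun x => ⟨?_, fun hx => ?_⟩
    · rintro ⟨y, hy, rfl⟩
      exact mul_mem (mul_mem hs hy) (inv_mem hs)
    · exact ⟨s⁻¹ * x * s, mul_mem (mul_mem (inv_mem hs) hx) hs, by simp [mul_assoc]⟩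
  have := isMaxEAIn_smul hA s
  rwa [e] at this

theorem sup_pResidual_eq_top (S : Sylow 2 G) :
    (S : Subgroup G) ⊔ Cfsg.pResidual 2 G = ⊤ := by
  haveI : Fact (Nat.Prime 2) := ⟨Nat.prime_two⟩
  set U := (S : Subgroup G) ⊔ Cfsg.pResidual 2 G with hU
  refine Subgroup.eq_top_of_le_card U ?_
  refine Nat.le_of_dvd Nat.card_pos ((Nat.factorization_prime_le_iff_dvd Nat.card_pos.ne'
    Nat.card_pos.ne').1 fun p hp => ?_)
  haveI := Fact.mk hp
  rw [← hp.pow_dvd_iff_le_factorization Nat.card_pos.ne']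
  rcases eq_or_ne p 2 with rfl | hp2
  · rw [← S.card_eq_multiplicity]
    exact Subgroup.card_dvd_of_le le_sup_left
  · obtain ⟨T⟩ := (inferInstance : Nonempty (Sylow p G))
    rw [← T.card_eq_multiplicity]
    refine Subgroup.card_dvd_of_le fun x hx => Subgroup.mem_sup_right (mem_pResidual_of_odd ?_)
    obtain ⟨k, hk⟩ := T.2 ⟨x, hx⟩
    exact (hp.odd_of_ne_two hp2).pow.of_dvd_nat
      (orderOf_dvd_of_pow_eq_one (congrArg Subtype.val hk))

theorem exists_eq_mul (S : Sylow 2 G) (g : G) :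
    ∃ s ∈ (S : Subgroup G), ∃ p ∈ Cfsg.pResidual 2 G, g = s * p := by
  haveI : (Cfsg.pResidual 2 G).Normal := pResidual_normal
  obtain ⟨s, hs, p, hp, e⟩ := Subgroup.mem_sup_of_normal_right.1
    (sup_pResidual_eq_top S ▸ Subgroup.mem_top g : g ∈ (S : Subgroup G) ⊔ Cfsg.pResidual 2 G)
  exact ⟨s, hs, p, hp, e.symm⟩

/-- A generating family of commuting elementary abelian subgroups. -/
theorem elementary_normalClosure {W : Subgroup G} (hW : Cfsg.IsElementaryAbelian 2 W)
    (h : ∀ g : G, ∀ a ∈ W, ∀ b ∈ W, Commute a (g * b * g⁻¹)) :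
    Cfsg.IsElementaryAbelian 2 (Subgroup.normalClosure (W : Set G)) := by
  refine isElementaryAbelian_closure (fun x hx y hy => ?_) (fun x hx => ?_)
  · obtain ⟨a, ha, hax⟩ := Group.mem_conjugatesOfSet_iff.1 hx
    obtain ⟨b, hb, hby⟩ := Group.mem_conjugatesOfSet_iff.1 hy
    obtain ⟨c, rfl⟩ := isConj_iff.1 hax
    obtain ⟨d, rfl⟩ := isConj_iff.1 hby
    have := (h (c⁻¹ * d) a ha b hb).map (MulAut.conj c).toMonoidHom
    simpa [mul_assoc] using this.eq
  · obtain ⟨a, ha, hax⟩ := Group.mem_conjugatesOfSet_iff.1 hx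
    obtain ⟨c, rfl⟩ := isConj_iff.1 hax
    rw [conj_pow, hW.2 a ha, mul_one, mul_inv_cancel]

variable (hchar : Subgroup.centralizer (Cfsg.pCore 2 G : Set G) ≤ Cfsg.pCore 2 G)
  (hfree : ¬ Cfsg.Involves (Perm (Fin 4)) G) (hc : CompK G) {S : Sylow 2 G} {P0 : Subgroup G}
  (hR : Red S P0) {A : Subgroup G} (hA : IsMaxEAIn 2 A (S : Subgroup G))

include hchar hfree hc hR in
theorem hyp_commute_conj {V0 : Subgroup G} (hV : HypIn (tT S) V0) (g : G) :
    ∀ a ∈ V0, ∀ b ∈ V0, Commute a (g * b * g⁻¹) := by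
  haveI : Fact (Nat.Prime 2) := ⟨Nat.prime_two⟩
  have hQ := hyp_le_core hchar hfree hc hR hV
  obtain ⟨B, hB⟩ := exists_isMaxEAIn 2 (S : Subgroup G)
  have hJT : Cfsg.thompsonSubgroupOf 2 (S : Subgroup G) ≤ tT S :=
    (thompson_le_jh _).trans (jh_le_tT S)
  have hVB : V0 ≤ B := le_max hB ((le_thompsonSubgroupOf hB).trans hJT) hV (hV.le.trans (tT_le S))
  have key : ∀ g : G, ¬ V0.map (MulAut.conj g).toMonoidHom ≤ Subgroup.centralizer (V0 : Set G) →
      (Nat.card V0) ^ 2 * (Nat.card ↥(V0.map (MulAut.conj g).toMonoidHom ⊓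
          Subgroup.centralizer (V0 : Set G))) ^ 3 >
        (Nat.card V0) ^ 3 * (Nat.card ↥(V0 ⊓ Subgroup.centralizer
          ((V0.map (MulAut.conj g).toMonoidHom : Subgroup G) : Set G))) ^ 2 := by
    intro g hg
    have hRT : V0.map (MulAut.conj g).toMonoidHom ≤ tT S := by
      refine le_trans (le_inf ?_ (Subgroup.map_mono hVB)) (inter_le_tT S hB g)
      rintro _ ⟨v, hv, rfl⟩
      exact Thompson.pCore_le_sylow S ((inferInstance : (Cfsg.pCore 2 G).Normal).conj_mem v (hQ hv) g)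
    have he := map_elem (MulAut.conj g).toMonoidHom hV.elem
    obtain ⟨h1, -⟩ := hV.ineq _ hRT
      (by
        rw [Subgroup.commutator_eq_bot_iff_le_centralizer.2
          (fun r hr => Subgroup.mem_centralizer_iff.2 fun s hs => elemAb_comm he.1 hs hr)]
        exact bot_le)
      (fun r hr => by rw [he.2 r hr]; exact one_mem _) hg
    rwa [Subgroup.card_map_of_injective (MulAut.conj g).injective] at h1
  by_contra hcon
  have hg : ¬ V0.map (MulAut.conj g).toMonoidHom ≤ Subgroup.centralizer (V0 : Set G) := fun h =>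
    hcon fun a ha b hb => Subgroup.mem_centralizer_iff.1 (h ⟨b, hb, rfl⟩) a ha
  have hconj : ∀ (X Y : Subgroup G) (g : G),
      (X ⊓ Subgroup.centralizer (Y : Set G)).map (MulAut.conj g).toMonoidHom =
        X.map (MulAut.conj g).toMonoidHom ⊓
          Subgroup.centralizer ((Y.map (MulAut.conj g).toMonoidHom : Subgroup G) : Set G) :=
    fun X Y g => (map_centralizer_inf _ (MulAut.conj g).injective X Y).symm
  have hback : ∀ X : Subgroup G, (X.map (MulAut.conj g⁻¹).toMonoidHom).map (MulAut.conj g).toMonoidHom = X := by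
    intro X
    rw [Subgroup.map_map]
    conv_rhs => rw [← Subgroup.map_id X]
    congr 1
    ext z
    simp [mul_assoc]
  have hg' : ¬ V0.map (MulAut.conj g⁻¹).toMonoidHom ≤ Subgroup.centralizer (V0 : Set G) := by
    intro h
    refine hg (Subgroup.le_centralizer_iff.1 ?_)
    have := (map_le_centralizer_iff (MulAut.conj g).toMonoidHom (MulAut.conj g).injective _ _).2 h
    rwa [hback] at this
  have e1 : Nat.card ↥(V0.map (MulAut.conj g⁻¹).toMonoidHom ⊓ Subgroup.centralizer (V0 : Set G)) =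
      Nat.card ↥(V0 ⊓ Subgroup.centralizer
        ((V0.map (MulAut.conj g).toMonoidHom : Subgroup G) : Set G)) := by
    rw [← Subgroup.card_map_of_injective (f := (MulAut.conj g).toMonoidHom) (MulAut.conj g).injective,
      hconj, hback]
  have e2 : Nat.card ↥(V0 ⊓ Subgroup.centralizer
      ((V0.map (MulAut.conj g⁻¹).toMonoidHom : Subgroup G) : Set G)) =
      Nat.card ↥(V0.map (MulAut.conj g).toMonoidHom ⊓ Subgroup.centralizer (V0 : Set G)) := by
    rw [← Subgroup.card_map_of_injective (f := (MulAut.conj g).toMonoidHom) (MulAut.conj g).injective,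
      hconj, hback]
  have h1 := key g hg
  have h2 := key g⁻¹ hg'
  rw [e1, e2] at h2
  set V := Nat.card V0
  set z := Nat.card ↥(V0.map (MulAut.conj g).toMonoidHom ⊓ Subgroup.centralizer (V0 : Set G))
  set w := Nat.card ↥(V0 ⊓ Subgroup.centralizer
      ((V0.map (MulAut.conj g).toMonoidHom : Subgroup G) : Set G))
  have hz : z ≤ V := (Subgroup.card_le_of_le inf_le_left).trans
    (Subgroup.card_map_of_injective (MulAut.conj g).injective).le
  have hw : w ≤ V := Subgroup.card_le_of_le inf_le_left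
  have hV0 : 0 < V := Nat.card_pos
  have h1' : V * w ^ 2 < z ^ 3 := by
    refine Nat.lt_of_mul_lt_mul_left (a := V ^ 2) ?_
    calc V ^ 2 * (V * w ^ 2) = V ^ 3 * w ^ 2 := by ring
      _ < _ := h1
  have h2' : V * z ^ 2 < w ^ 3 := by
    refine Nat.lt_of_mul_lt_mul_left (a := V ^ 2) ?_
    calc V ^ 2 * (V * z ^ 2) = V ^ 3 * z ^ 2 := by ring
      _ < _ := h2
  rcases le_total z w with h | h
  · exact absurd h1' (not_lt.2 (calc z ^ 3 = z * z ^ 2 := by ring
      _ ≤ V * w ^ 2 := Nat.mul_le_mul hz (Nat.pow_le_pow_left h 2)))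
  · exact absurd h2' (not_lt.2 (calc w ^ 3 = w * w ^ 2 := by ring
      _ ≤ V * z ^ 2 := Nat.mul_le_mul hw (Nat.pow_le_pow_left h 2)))

include hA in
/-- Maximality of `A`. -/
theorem card_mul_le {D : Subgroup G} [D.Normal] (hDe : Cfsg.IsElementaryAbelian 2 D)
    (hDS : D ≤ (S : Subgroup G)) :
    Nat.card D * Nat.card ↥(A ⊓ Subgroup.centralizer (D : Set G)) ≤
      Nat.card A * Nat.card ↥(D ⊓ A) := by
  set A1 := A ⊓ Subgroup.centralizer (D : Set G) with hA1
  have hBe : Cfsg.IsElementaryAbelian 2 (A1 ⊔ D : Subgroup G) :=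
    isElementaryAbelian_sup ⟨⟨⟨fun x y => Subtype.ext (elemAb_comm hA.2.1.1 x.2.1 y.2.1)⟩⟩,
      fun x hx => hA.2.1.2 x hx.1⟩ hDe inf_le_right
  have hBc := hA.2.2 _ (sup_le (inf_le_left.trans hA.1) hDS) hBe
  have e := Thompson.card_sup_mul_card_inf (H := D) (K := A1) Subgroup.le_normalizer_of_normal
  rw [sup_comm] at e
  exact e ▸ Nat.mul_le_mul hBc (Subgroup.card_le_of_le (inf_le_inf_left D inf_le_left))

include hA in
theorem inf_le_inf_centralizer (D : Subgroup G) :
    D ⊓ A ≤ D ⊓ Subgroup.centralizer (A : Set G) :=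
  le_inf inf_le_left fun x hx => Subgroup.mem_centralizer_iff.2 fun a ha => elemAb_comm hA.2.1.1 ha hx.2

include hchar hfree hc hR hA in
/-- A normal subgroup centralized by `A ∩ O₂(G)`. -/
theorem false_of_centralizes {D : Subgroup G} [D.Normal] (hDe : Cfsg.IsElementaryAbelian 2 D)
    (hDS : D ≤ (S : Subgroup G)) (hnc : ¬ Cfsg.pResidual 2 G ≤ Subgroup.centralizer (D : Set G))
    (hB : A ⊓ Cfsg.pCore 2 G ≤ Subgroup.centralizer (D : Set G))
    (hAQ : ¬ A ≤ Cfsg.pCore 2 G) : False := by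
  have h1 := sect_normal hchar hfree hc hR hA D hDe hnc
  have h2 := card_mul_le hA hDe hDS
  have h3 : Nat.card ↥(A ⊓ Cfsg.pCore 2 G) ≤ Nat.card ↥(A ⊓ Subgroup.centralizer (D : Set G)) :=
    Subgroup.card_le_of_le (le_inf inf_le_left hB)
  have h4 := Subgroup.card_le_of_le (inf_le_inf_centralizer hA D)
  have hlt : Nat.card ↥(A ⊓ Cfsg.pCore 2 G) < Nat.card A :=
    lt_of_le_of_ne (Subgroup.card_le_of_le inf_le_left)
      fun h => hAQ ((Subgroup.eq_of_le_of_card_ge inf_le_left h.ge).ge.trans inf_le_right)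
  set a := Nat.card A
  set q := Nat.card ↥(A ⊓ Cfsg.pCore 2 G)
  set w := Nat.card ↥(D ⊓ A)
  have hw : 0 < w := Nat.card_pos
  have hq : 0 < q := Nat.card_pos
  have h5 : a ^ 2 * w * q ≤ a * w * q ^ 2 :=
    calc a ^ 2 * w * q ≤ Nat.card D * q ^ 2 * q :=
          Nat.mul_le_mul_right _ ((Nat.mul_le_mul_left _ h4).trans h1)
      _ = (Nat.card D * q) * q ^ 2 := by ring
      _ ≤ (Nat.card D * Nat.card ↥(A ⊓ Subgroup.centralizer (D : Set G))) * q ^ 2 :=
          Nat.mul_le_mul_right _ (Nat.mul_le_mul_left _ h3)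
      _ ≤ a * w * q ^ 2 := Nat.mul_le_mul_right _ h2
  have h6 : a * (a * w * q) ≤ q * (a * w * q) :=
    calc a * (a * w * q) = a ^ 2 * w * q := by ring
      _ ≤ _ := h5
      _ = _ := by ring
  have : a ≤ q := Nat.le_of_mul_le_mul_right h6 (Nat.mul_pos (Nat.mul_pos Nat.card_pos hw) hq)
  omega

include hchar hfree hc hR hA in
/-- The module argument. -/
theorem residual_centralizes (hAQ : ¬ A ≤ Cfsg.pCore 2 G) {V0 : Subgroup G}
    (hV : HypIn (tT S) V0) :
    Cfsg.pResidual 2 G ≤ Subgroup.centralizer (Subgroup.normalClosure (V0 : Set G) : Set G) := by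
  classical
  haveI : Fact (Nat.Prime 2) := ⟨Nat.prime_two⟩
  haveI hP2n : (Cfsg.pResidual 2 G).Normal := pResidual_normal
  set Q := Cfsg.pCore 2 G with hQdef
  set P2 := Cfsg.pResidual 2 G with hP2
  set D := Subgroup.normalClosure (V0 : Set G) with hD
  have hQ2 : IsPGroup 2 Q := Thompson.isPGroup_pCore
  have hQS : Q ≤ (S : Subgroup G) := Thompson.pCore_le_sylow S
  have hVQ : V0 ≤ Q := hyp_le_core hchar hfree hc hR hV
  have hDQ : D ≤ Q := Subgroup.normalClosure_le_normal hVQ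
  have hDe : Cfsg.IsElementaryAbelian 2 D :=
    elementary_normalClosure hV.elem (hyp_commute_conj hchar hfree hc hR hV)
  have hDab : ∀ x ∈ D, ∀ y ∈ D, x * y = y * x := fun x hx y hy => elemAb_comm hDe.1 hx hy
  have hJT : Cfsg.thompsonSubgroupOf 2 (S : Subgroup G) ≤ tT S :=
    (thompson_le_jh _).trans (jh_le_tT S)
  have hVmax : ∀ B, IsMaxEAIn 2 B (S : Subgroup G) → V0 ≤ B := fun B hB =>
    le_max hB ((le_thompsonSubgroupOf hB).trans hJT) hV (hV.le.trans (tT_le S))
  by_contra hnc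
  haveI : (Subgroup.centralizer (D : Set G)).Normal := inferInstance
  -- the part generated by `S`
  set DS := Subgroup.closure {x : G | ∃ s ∈ (S : Subgroup G), ∃ v ∈ V0, x = s * v * s⁻¹} with hDSdef
  have hDSA : DS ≤ A := by
    rw [hDSdef, Subgroup.closure_le]
    rintro _ ⟨s, hs, v, hv, rfl⟩
    obtain ⟨w, hw, hwe⟩ := hVmax _ (conj_max hA ((S : Subgroup G).inv_mem hs)) hv
    have hwe' : s⁻¹ * w * s⁻¹⁻¹ = v := hwe
    rw [← hwe', show s * (s⁻¹ * w * s⁻¹⁻¹) * s⁻¹ = w by group]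
    exact hw
  have hDSD : DS ≤ D := by
    rw [hDSdef, Subgroup.closure_le]
    rintro _ ⟨s, -, v, hv, rfl⟩
    exact (inferInstance : D.Normal).conj_mem v (Subgroup.subset_normalClosure hv) s
  have hV0DS : V0 ≤ DS := fun v hv => Subgroup.subset_closure ⟨1, one_mem _, v, hv, by simp⟩
  -- the orders
  set B := A ⊓ Q with hB
  set c := Nat.card ↥(A ⊓ Subgroup.centralizer (D : Set G)) with hcdef
  set q := Nat.card B with hqdef
  set a := Nat.card A with hadef
  set w := Nat.card ↥(D ⊓ A) with hwdef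
  have hmax : Nat.card D * c ≤ a * w := card_mul_le hA hDe (hDQ.trans hQS)
  have hCB : A ⊓ Subgroup.centralizer (D : Set G) = B ⊓ Subgroup.centralizer (D : Set G) := by
    refine le_antisymm ?_ (inf_le_inf_right _ inf_le_left)
    exact le_inf (le_inf inf_le_left ((inf_le_inf_right _ hA.1).trans (hR.inf_le inferInstance hnc)))
      inf_le_right
  -- the chain
  have hchain : q ^ 3 * w ^ 2 ≤ c ^ 3 * Nat.card D ^ 2 := by
    let f : Subgroup G → ℕ := fun U =>
      Nat.card ↥(B ⊓ Subgroup.centralizer (U : Set G)) ^ 3 * Nat.card U ^ 2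
    have h0 : q ^ 3 * w ^ 2 ≤ f (D ⊓ A) := by
      have : B ⊓ Subgroup.centralizer ((D ⊓ A : Subgroup G) : Set G) = B :=
        inf_eq_left.2 fun b hb => Subgroup.mem_centralizer_iff.2 fun x hx =>
          elemAb_comm hA.2.1.1 hx.2 hb.1
      show _ ≤ _ ^ 3 * _ ^ 2
      rw [this]
    obtain ⟨U, ⟨hU1, hU2⟩, hUmax⟩ := Set.exists_max_image
      {U : Subgroup G | D ⊓ A ≤ U ∧ U ≤ D} f (Set.toFinite _) ⟨D ⊓ A, le_rfl, inf_le_left⟩
    have hUD : U = D := by
      by_contra hne
      obtain ⟨g, hg⟩ : ∃ g : G, ¬ V0.map (MulAut.conj g).toMonoidHom ≤ U := by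
        by_contra h
        push Not at h
        refine hne (le_antisymm hU2 ?_)
        rw [hD, Subgroup.normalClosure, Subgroup.closure_le]
        intro x hx
        obtain ⟨v, hv, hvx⟩ := Group.mem_conjugatesOfSet_iff.1 hx
        obtain ⟨g, rfl⟩ := isConj_iff.1 hvx
        exact h g ⟨v, hv, rfl⟩
      set Vg := V0.map (MulAut.conj g).toMonoidHom with hVg
      have hVgD : Vg ≤ D := by
        rintro _ ⟨v, hv, rfl⟩
        exact (inferInstance : D.Normal).conj_mem v (Subgroup.subset_normalClosure hv) g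
      set CU := B ⊓ Subgroup.centralizer (U : Set G) with hCU
      set U' := U ⊔ Vg with hU'
      have hU'D : U' ≤ D := sup_le hU2 hVgD
      have hC' : B ⊓ Subgroup.centralizer (U' : Set G) = CU ⊓ Subgroup.centralizer (Vg : Set G) := by
        refine le_antisymm (le_inf (inf_le_inf_left _ (Subgroup.centralizer_le (SetLike.coe_subset_coe.2 le_sup_left)))
          (inf_le_right.trans (Subgroup.centralizer_le (SetLike.coe_subset_coe.2 le_sup_right)))) ?_
        rintro x ⟨⟨hxB, hxU⟩, hxV⟩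
        refine ⟨hxB, Subgroup.mem_centralizer_iff.2 fun y hy => ?_⟩
        have hle : U' ≤ Subgroup.centralizer ({x} : Set G) :=
          sup_le (fun y hy => Subgroup.mem_centralizer_singleton_iff.2
            (Subgroup.mem_centralizer_iff.1 hxU y hy))
            (fun y hy => Subgroup.mem_centralizer_singleton_iff.2
            (Subgroup.mem_centralizer_iff.1 hxV y hy))
        exact Subgroup.mem_centralizer_singleton_iff.1 (hle hy)
      have e : Nat.card U' * Nat.card ↥(Vg ⊓ U) = Nat.card Vg * Nat.card U := by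
        have := Thompson.card_sup_mul_card_inf (H := U) (K := Vg)
          (fun v hv => Subgroup.centralizer_le_normalizer _
            (Subgroup.mem_centralizer_iff.2 fun u hu => hDab u (hU2 hu) v (hVgD hv)))
        rw [inf_comm Vg U, mul_comm (Nat.card Vg)]
        exact this
      have hgt : f U < f U' := by
        show Nat.card CU ^ 3 * Nat.card U ^ 2 <
          Nat.card ↥(B ⊓ Subgroup.centralizer (U' : Set G)) ^ 3 * Nat.card U' ^ 2
        rw [hC']
        have hUU' : Nat.card U < Nat.card U' := by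
          refine lt_of_le_of_ne (Subgroup.card_le_of_le le_sup_left) fun h => hg ?_
          exact le_sup_right.trans (Subgroup.eq_of_le_of_card_ge le_sup_left h.ge).ge
        by_cases hcv : CU ≤ Subgroup.centralizer (Vg : Set G)
        · rw [inf_eq_left.2 hcv]
          exact Nat.mul_lt_mul_of_pos_left (Nat.pow_lt_pow_left hUU' two_ne_zero)
            (pow_pos Nat.card_pos 3)
        set R := CU.map (MulAut.conj g⁻¹).toMonoidHom with hRdef
        have hRg : R.map (MulAut.conj g).toMonoidHom = CU := by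
          rw [hRdef, Subgroup.map_map]
          conv_rhs => rw [← Subgroup.map_id CU]
          congr 1
          ext z
          simp [mul_assoc]
        have hRT : R ≤ tT S := by
          refine le_trans (le_inf ?_ (Subgroup.map_mono (inf_le_left.trans inf_le_left)))
            (inter_le_tT S hA g⁻¹)
          rintro _ ⟨x, hx, rfl⟩
          exact hQS ((inferInstance : Q.Normal).conj_mem x hx.1.2 g⁻¹)
        have hRn : ¬ R ≤ Subgroup.centralizer (V0 : Set G) := fun h => hcv (by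
          have := (map_le_centralizer_iff (MulAut.conj g).toMonoidHom (MulAut.conj g).injective _ _).2 h
          rwa [hRg] at this)
        have he : Cfsg.IsElementaryAbelian 2 R := map_elem _
          ⟨⟨⟨fun x y => Subtype.ext (elemAb_comm hA.2.1.1 x.2.1.1 y.2.1.1)⟩⟩,
            fun x hx => hA.2.1.2 x hx.1.1⟩
        obtain ⟨hineq, -⟩ := hV.ineq R hRT
          (by
            rw [Subgroup.commutator_eq_bot_iff_le_centralizer.2
              (fun r hr => Subgroup.mem_centralizer_iff.2 fun s hs => elemAb_comm he.1 hs hr)]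
            exact bot_le)
          (fun r hr => by rw [he.2 r hr]; exact one_mem _) hRn
        rw [← Subgroup.card_map_of_injective (K := V0) (f := (MulAut.conj g).toMonoidHom)
            (MulAut.conj g).injective,
          ← Subgroup.card_map_of_injective (K := R) (f := (MulAut.conj g).toMonoidHom)
            (MulAut.conj g).injective,
          ← Subgroup.card_map_of_injective (K := R ⊓ Subgroup.centralizer (V0 : Set G))
            (f := (MulAut.conj g).toMonoidHom) (MulAut.conj g).injective,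
          ← Subgroup.card_map_of_injective (K := V0 ⊓ Subgroup.centralizer (R : Set G))
            (f := (MulAut.conj g).toMonoidHom) (MulAut.conj g).injective,
          ← map_centralizer_inf _ (MulAut.conj g).injective,
          ← map_centralizer_inf _ (MulAut.conj g).injective, hRg, ← hVg] at hineq
        have hint : Nat.card ↥(Vg ⊓ U) ≤ Nat.card ↥(Vg ⊓ Subgroup.centralizer (CU : Set G)) :=
          Subgroup.card_le_of_le (inf_le_inf_left _ (Subgroup.le_centralizer_iff.1 inf_le_right))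
        set C0 := Nat.card CU
        set C1 := Nat.card ↥(CU ⊓ Subgroup.centralizer (Vg : Set G))
        set v := Nat.card Vg
        set i := Nat.card ↥(Vg ⊓ U)
        set u := Nat.card U
        have hu : 0 < u := Nat.card_pos
        refine Nat.lt_of_mul_lt_mul_right (a := i ^ 2) ?_
        calc C0 ^ 3 * u ^ 2 * i ^ 2 = (C0 ^ 3 * i ^ 2) * u ^ 2 := by ring
          _ < (v ^ 2 * C1 ^ 3) * u ^ 2 := Nat.mul_lt_mul_of_pos_right
              (lt_of_le_of_lt (Nat.mul_le_mul_left _ (Nat.pow_le_pow_left hint 2)) hineq) (pow_pos hu 2)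
          _ = C1 ^ 3 * (v * u) ^ 2 := by ring
          _ = C1 ^ 3 * (Nat.card U' * i) ^ 2 := by rw [e]
          _ = _ := by ring
      exact absurd (hUmax U' ⟨hU1.trans le_sup_left, hU'D⟩) (not_le.2 hgt)
    have h1 := h0.trans (hUmax (D ⊓ A) ⟨le_rfl, inf_le_left⟩)
    rw [hUD] at h1
    refine h1.trans (le_of_eq ?_)
    show _ ^ 3 * _ ^ 2 = _
    rw [← hCB]
  -- `[D, O²(G)]` and its maximal part
  set D3 := ⁅D, P2⁆ with hD3
  haveI : D3.Normal := Subgroup.commutator_normal D P2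
  have hD3D : D3 ≤ D := Subgroup.commutator_le_left D P2
  have hodd_t : ∀ y : G, Odd (orderOf y) → ∀ d ∈ D, y * d * y⁻¹ * d⁻¹ ∈ D3 := fun y hy d hd => by
    rw [← commutatorElement_def, hD3, Subgroup.commutator_comm]
    exact Subgroup.commutator_mem_commutator (mem_pResidual_of_odd hy) hd
  have hD3ne : D3 ≠ ⊥ := fun h => hnc (by
    rw [hD3, Subgroup.commutator_comm] at h
    exact Subgroup.commutator_eq_bot_iff_le_centralizer.1 h)
  obtain ⟨M1, ⟨hM1n, hM1lt⟩, hM1max⟩ := Set.exists_max_image {K : Subgroup G | K.Normal ∧ K < D3}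
    (fun K => Nat.card K) (Set.toFinite _) ⟨⊥, inferInstance, bot_lt_iff_ne_bot.2 hD3ne⟩
  haveI := hM1n
  have hM1D : M1 ≤ D := hM1lt.le.trans hD3D
  have hirr : ∀ K : Subgroup G, K.Normal → M1 ≤ K → K ≤ D3 → K = M1 ∨ K = D3 := by
    intro K hK hMK hKD
    by_cases h : K = D3
    · exact Or.inr h
    · exact Or.inl (Subgroup.eq_of_le_of_card_ge hMK (hM1max K ⟨hK, lt_of_le_of_ne hKD h⟩)).symm
  have hD3e : Cfsg.IsElementaryAbelian 2 D3 :=
    ⟨⟨⟨fun x y => Subtype.ext (hDab x (hD3D x.2) y (hD3D y.2))⟩⟩, fun x hx => hDe.2 x (hD3D hx)⟩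
  have hM1e : Cfsg.IsElementaryAbelian 2 M1 :=
    ⟨⟨⟨fun x y => Subtype.ext (hDab x (hM1D x.2) y (hM1D y.2))⟩⟩, fun x hx => hDe.2 x (hM1D hx)⟩
  have hD3nc : ¬ ⁅D3, P2⁆ ≤ M1 := by
    intro h
    refine hM1lt.not_ge ?_
    -- odd elements fix `D` modulo `M1`
    have hfix : P2 ≤ (Subgroup.centralizer ((D.map (QuotientGroup.mk' M1) :
        Subgroup (G ⧸ M1)) : Set (G ⧸ M1))).comap (QuotientGroup.mk' M1) := by
      refine eq_pResidual_le fun y hy => Subgroup.mem_comap.2 (Subgroup.mem_centralizer_iff.2 ?_)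
      rintro _ ⟨d, hd, rfl⟩
      set π := QuotientGroup.mk' M1
      set t := y * d * y⁻¹ * d⁻¹ with ht
      have htD3 : t ∈ D3 := hodd_t y hy d hd
      have hyt : π (y * t * y⁻¹ * t⁻¹) = 1 := (QuotientGroup.eq_one_iff _).2 (h (by
        rw [← commutatorElement_def, Subgroup.commutator_comm]
        exact Subgroup.commutator_mem_commutator (mem_pResidual_of_odd hy) htD3))
      rw [map_mul, map_mul, map_mul, map_inv, map_inv, mul_inv_eq_one, mul_inv_eq_iff_eq_mul] at hyt
      refine (commute_of_sq (Odd.of_dvd_nat hy (orderOf_map_dvd π y)) ?_ ?_).symm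
      · show Commute (π y) (π y * π d * (π y)⁻¹ * (π d)⁻¹)
        rw [← map_inv, ← map_inv, ← map_mul, ← map_mul, ← map_mul]
        exact hyt
      · rw [← map_inv, ← map_inv, ← map_mul, ← map_mul, ← map_mul, ← map_pow, hD3e.2 t htD3, map_one]
    rw [hD3]
    refine Subgroup.commutator_le.2 fun d hd p hp => (QuotientGroup.eq_one_iff _).1 ?_
    show QuotientGroup.mk' M1 ⁅d, p⁆ = 1
    rw [map_commutatorElement, commutatorElement_eq_one_iff_mul_comm]
    exact Subgroup.mem_centralizer_iff.1 (hfix hp) _ ⟨d, hd, rfl⟩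
  have hs3 := sect hchar hfree hc hR hA D3 M1 hD3e hM1lt.le hM1lt.ne' hirr hD3nc
  have hwC := Subgroup.card_le_of_le (inf_le_inf_centralizer hA D)
  set CD := D ⊓ Subgroup.centralizer (A : Set G) with hCD
  have hDD3 : Nat.card CD * Nat.card D3 ≤
      Nat.card D * Nat.card ↥(D3 ⊓ Subgroup.centralizer (A : Set G)) := by
    have e := Thompson.card_sup_mul_card_inf (H := D3) (K := CD) Subgroup.le_normalizer_of_normal
    rw [hCD, ← inf_assoc, inf_eq_left.2 hD3D] at e
    rw [mul_comm (Nat.card CD), hCD, ← e]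
    exact Nat.mul_le_mul_right _ (Subgroup.card_le_of_le (sup_le hD3D inf_le_left))
  have hqa : q < a := lt_of_le_of_ne (Subgroup.card_le_of_le inf_le_left)
    fun h => hAQ ((Subgroup.eq_of_le_of_card_ge inf_le_left h.ge).ge.trans inf_le_right)
  have hM1c : P2 ≤ Subgroup.centralizer (M1 : Set G) := by
    by_contra hM1c
    have hs1 := sect_normal hchar hfree hc hR hA M1 hM1e hM1c
    set cM := Nat.card ↥(M1 ⊓ Subgroup.centralizer (A : Set G))
    set c3 := Nat.card ↥(D3 ⊓ Subgroup.centralizer (A : Set G))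
    have hcM : 0 < cM := Nat.card_pos
    have h4 : a ^ 4 * c3 ≤ Nat.card D3 * q ^ 4 := by
      refine Nat.le_of_mul_le_mul_right ?_ (Nat.mul_pos hcM (Nat.card_pos (α := ↥M1)))
      calc a ^ 4 * c3 * (cM * Nat.card M1) = (a ^ 2 * c3 * Nat.card M1) * (a ^ 2 * cM) := by ring
        _ ≤ (Nat.card D3 * q ^ 2 * cM) * (Nat.card M1 * q ^ 2) := Nat.mul_le_mul hs3 hs1
        _ = _ := by ring
    have h5 : a ^ 4 * w ≤ Nat.card D * q ^ 4 := by
      refine Nat.le_of_mul_le_mul_right ?_ (Nat.card_pos (α := ↥D3))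
      calc a ^ 4 * w * Nat.card D3 ≤ a ^ 4 * (Nat.card D * c3) := by
            rw [mul_assoc]
            exact Nat.mul_le_mul_left _ ((Nat.mul_le_mul_right _ hwC).trans hDD3)
        _ = Nat.card D * (a ^ 4 * c3) := by ring
        _ ≤ Nat.card D * (Nat.card D3 * q ^ 4) := Nat.mul_le_mul_left _ h4
        _ = _ := by ring
    have hw0 : 0 < w := Nat.card_pos
    have hc0 : 0 < c := Nat.card_pos
    have hq0 : 0 < q := Nat.card_pos
    have h6 : q ^ 3 ≤ a ^ 2 * c := by
      refine Nat.le_of_mul_le_mul_right ?_ (show 0 < w ^ 2 * c ^ 2 by positivity)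
      calc q ^ 3 * (w ^ 2 * c ^ 2) = (q ^ 3 * w ^ 2) * c ^ 2 := by ring
        _ ≤ (c ^ 3 * Nat.card D ^ 2) * c ^ 2 := Nat.mul_le_mul_right _ hchain
        _ = c ^ 3 * (Nat.card D * c) ^ 2 := by ring
        _ ≤ c ^ 3 * (a * w) ^ 2 := Nat.mul_le_mul_left _ (Nat.pow_le_pow_left hmax 2)
        _ = _ := by ring
    have h7 : a ^ 3 * c ≤ q ^ 4 := by
      refine Nat.le_of_mul_le_mul_right ?_ (Nat.mul_pos (lt_of_le_of_lt (Nat.zero_le q) hqa) hw0)
      calc a ^ 3 * c * (a * w) = (a ^ 4 * w) * c := by ring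
        _ ≤ (Nat.card D * q ^ 4) * c := Nat.mul_le_mul_right _ h5
        _ = (Nat.card D * c) * q ^ 4 := by ring
        _ ≤ (a * w) * q ^ 4 := Nat.mul_le_mul_right _ hmax
        _ = _ := by ring
    have h8 : a * (a ^ 2 * q ^ 3) ≤ q * (a ^ 2 * q ^ 3) := by
      calc a * (a ^ 2 * q ^ 3) = a ^ 3 * q ^ 3 := by ring
        _ ≤ a ^ 3 * (a ^ 2 * c) := Nat.mul_le_mul_left _ h6
        _ = a ^ 2 * (a ^ 3 * c) := by ring
        _ ≤ a ^ 2 * q ^ 4 := Nat.mul_le_mul_left _ h7
        _ = _ := by ring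
    have ha0 : 0 < a := Nat.card_pos
    exact absurd (Nat.le_of_mul_le_mul_right h8 (by positivity)) (not_le.2 hqa)
  -- `R = [Q, O²(G)]`
  set R := ⁅Q, P2⁆ with hRdef
  haveI : R.Normal := Subgroup.commutator_normal Q P2
  have hRT : R ≤ tT S := comm_le_tT S
  have hRQ : R ≤ Q := Subgroup.commutator_le_left Q P2
  have hRP2 : R ≤ P2 := Subgroup.commutator_le_right Q P2
  have hQsec : ∀ d ∈ D3, ∀ r ∈ Q, d * r * d⁻¹ * r⁻¹ ∈ M1 := by
    intro d hd r hr
    set π := QuotientGroup.mk' M1 with hπ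
    have hπs : Function.Surjective π := QuotientGroup.mk'_surjective M1
    set V := D3.map π
    haveI : V.Normal := (inferInstance : D3.Normal).map π hπs
    haveI : (Q.map π).Normal := (inferInstance : Q.Normal).map π hπs
    obtain ⟨k, hk⟩ := IsPGroup.iff_card.1 (hQ2.map π)
    set C := Subgroup.centralizer (V : Set (G ⧸ M1))
    have hdvd : C.relIndex (C ⊔ Q.map π) ∣ 2 ^ k := by
      rw [sup_comm, Subgroup.relIndex_sup_right, ← hk]
      exact Subgroup.relIndex_dvd_card _ _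
    obtain ⟨j, -, hj⟩ := (Nat.dvd_prime_pow Nat.prime_two).1 hdvd
    have hle : Q.map π ≤ C := le_sup_right.trans (centralizes_minimal (S.mapSurjective hπs) V
      (map_elem π hD3e) (fun h => hM1lt.not_ge (by
        rwa [Subgroup.map_eq_bot_iff, hπ, QuotientGroup.ker_mk'] at h))
      (fun K hK hKV => by
        haveI := hK
        rcases hirr (K.comap π) inferInstance
            (fun m hm => by
              rw [Subgroup.mem_comap, show π m = 1 from (QuotientGroup.eq_one_iff m).2 hm]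
              exact one_mem _)
            ((Subgroup.comap_mono hKV).trans (by
              rw [Subgroup.comap_map_eq, hπ, QuotientGroup.ker_mk']
              exact sup_le le_rfl hM1lt.le)) with h | h
        · left
          rw [← Subgroup.map_comap_eq_self_of_surjective hπs K, h, Subgroup.map_eq_bot_iff, hπ,
            QuotientGroup.ker_mk']
        · right
          rw [← Subgroup.map_comap_eq_self_of_surjective hπs K, h])
      le_sup_left hj)
    refine (QuotientGroup.eq_one_iff _).1 ?_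
    show π (d * r * d⁻¹ * r⁻¹) = 1
    rw [map_mul, map_mul, map_mul, map_inv, map_inv,
      Subgroup.mem_centralizer_iff.1 (hle ⟨r, hr, rfl⟩) (π d) ⟨d, hd, rfl⟩, mul_inv_cancel_right,
      mul_inv_cancel]
  -- `DS` covers `D` over `D3`
  have hcover : D ≤ DS ⊔ D3 := by
    rw [hD, Subgroup.normalClosure, Subgroup.closure_le]
    intro x hx
    obtain ⟨v, hv, hvx⟩ := Group.mem_conjugatesOfSet_iff.1 hx
    obtain ⟨g, rfl⟩ := isConj_iff.1 hvx
    obtain ⟨s, hs, p, hp, rfl⟩ := exists_eq_mul S g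
    have h1 : p * v * p⁻¹ * v⁻¹ ∈ D3 := by
      rw [← commutatorElement_def, hD3, Subgroup.commutator_comm]
      exact Subgroup.commutator_mem_commutator hp (Subgroup.subset_normalClosure hv)
    have e : s * p * v * (s * p)⁻¹ = s * (p * v * p⁻¹ * v⁻¹) * s⁻¹ * (s * v * s⁻¹) := by group
    rw [SetLike.mem_coe, e]
    exact mul_mem (Subgroup.mem_sup_right ((inferInstance : D3.Normal).conj_mem _ h1 s))
      (Subgroup.mem_sup_left (Subgroup.subset_closure ⟨s, hs, v, hv, rfl⟩))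
  have hV0R : ∀ r ∈ R, r ∈ Subgroup.normalizer (V0 : Set G) := fun r hr => hV.norm (hRT hr)
  have hDSR : ∀ d ∈ DS, ∀ r ∈ R, r * d * r⁻¹ ∈ DS := by
    intro d hd r hr
    have : DS.map (MulAut.conj r).toMonoidHom ≤ DS := by
      rw [hDSdef, MonoidHom.map_closure, Subgroup.closure_le]
      rintro _ ⟨_, ⟨s, hs, v, hv, rfl⟩, rfl⟩
      refine Subgroup.subset_closure ⟨s, hs, (s⁻¹ * r * s) * v * (s⁻¹ * r * s)⁻¹, ?_, by simp [mul_assoc]⟩
      have hr' : s⁻¹ * r * s ∈ R := by
        simpa using (inferInstance : R.Normal).conj_mem r hr s⁻¹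
      exact (Subgroup.mem_normalizer_iff.1 (hV0R _ hr') v).1 hv
    exact this ⟨d, hd, rfl⟩
  have hDRD3 : ∀ d ∈ D, ∀ r ∈ R, d * r * d⁻¹ * r⁻¹ ∈ D3 := fun d hd r hr => by
    rw [← commutatorElement_def]
    exact Subgroup.commutator_mem_commutator hd (hRP2 hr)
  -- `[DS, R] ≤ M1`
  have hDSM : ∀ d ∈ DS, ∀ r ∈ R, d * r * d⁻¹ * r⁻¹ ∈ M1 := by
    set π := QuotientGroup.mk' M1 with hπ
    set N := Subgroup.closure {x : G | ∃ d ∈ DS, ∃ r ∈ R, x = d * r * d⁻¹ * r⁻¹} ⊔ M1 with hN
    have hNA : ∀ x ∈ N, ∀ a' ∈ A, π x * π a' = π a' * π x := by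
      intro x hx a' ha'
      have hle : N ≤ (Subgroup.centralizer ({π a'} : Set (G ⧸ M1))).comap π := by
        refine sup_le ((Subgroup.closure_le _).2 ?_) fun m hm => ?_
        · rintro _ ⟨d, hd, r, hr, rfl⟩
          rw [SetLike.mem_coe, Subgroup.mem_comap, Subgroup.mem_centralizer_singleton_iff, ← map_mul,
            ← map_mul]
          congr 1
          refine elemAb_comm hA.2.1.1 ?_ ha'
          rw [mul_assoc d, mul_assoc d]
          exact A.mul_mem (hDSA hd) (hDSA (hDSR _ (DS.inv_mem hd) r hr))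
        · rw [Subgroup.mem_comap, show π m = 1 from (QuotientGroup.eq_one_iff m).2 hm]
          exact one_mem _
      exact Subgroup.mem_centralizer_singleton_iff.1 (hle hx)
    have hNn : N.Normal := by
      refine Subgroup.normalizer_eq_top_iff.1 (top_le_iff.1 ?_)
      rw [← sup_pResidual_eq_top S]
      have hgen : ∀ g : G, (∀ d ∈ DS, ∀ r ∈ R, g * (d * r * d⁻¹ * r⁻¹) * g⁻¹ ∈ N) →
          N.map (MulAut.conj g).toMonoidHom ≤ N := by
        intro g h
        rw [hN, Subgroup.map_sup, MonoidHom.map_closure]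
        refine sup_le ((Subgroup.closure_le _).2 ?_) ?_
        · rintro _ ⟨_, ⟨d, hd, r, hr, rfl⟩, rfl⟩
          exact h d hd r hr
        · rintro _ ⟨m, hm, rfl⟩
          exact Subgroup.mem_sup_right (hM1n.conj_mem m hm g)
      have hmem : ∀ H : Subgroup G, (∀ g ∈ H, N.map (MulAut.conj g).toMonoidHom ≤ N) →
          H ≤ Subgroup.normalizer (N : Set G) := by
        intro H hH g hg
        refine Subgroup.mem_normalizer_iff.2 fun x => ⟨fun hx => hH g hg ⟨x, hx, rfl⟩, fun hx => ?_⟩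
        have := hH g⁻¹ (H.inv_mem hg) ⟨_, hx, rfl⟩
        simpa [mul_assoc] using this
      refine sup_le (hmem _ fun s hs => hgen s fun d hd r hr => ?_)
        (hmem _ fun p hp => hgen p fun d hd r hr => ?_)
      · refine Subgroup.mem_sup_left (Subgroup.subset_closure ⟨s * d * s⁻¹, ?_, s * r * s⁻¹,
          (inferInstance : R.Normal).conj_mem r hr s, by group⟩)
        have : DS.map (MulAut.conj s).toMonoidHom ≤ DS := by
          rw [hDSdef, MonoidHom.map_closure, Subgroup.closure_le]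
          rintro _ ⟨_, ⟨s', hs', v, hv, rfl⟩, rfl⟩
          exact Subgroup.subset_closure ⟨s * s', mul_mem hs hs', v, hv, by simp [mul_assoc]⟩
        exact this ⟨d, hd, rfl⟩
      · set t := p * d * p⁻¹ * d⁻¹ with ht
        have htD3 : t ∈ D3 := by
          rw [ht, ← commutatorElement_def, hD3, Subgroup.commutator_comm]
          exact Subgroup.commutator_mem_commutator hp (hDSD hd)
        set r' := p * r * p⁻¹ with hr'
        have hr'R : r' ∈ R := (inferInstance : R.Normal).conj_mem r hr p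
        rw [show p * (d * r * d⁻¹ * r⁻¹) * p⁻¹ = (p * d * p⁻¹) * r' * (p * d * p⁻¹)⁻¹ * r'⁻¹ by
            rw [hr']; group,
          show p * d * p⁻¹ = t * d by rw [ht, inv_mul_cancel_right],
          show t * d * r' * (t * d)⁻¹ * r'⁻¹ =
            t * (d * r' * d⁻¹ * r'⁻¹) * t⁻¹ * (t * r' * t⁻¹ * r'⁻¹) by group,
          show t * (d * r' * d⁻¹ * r'⁻¹) * t⁻¹ = d * r' * d⁻¹ * r'⁻¹ by
            rw [hDab t (hD3D htD3) _ (hD3D (hDRD3 d (hDSD hd) r' hr'R)), mul_inv_cancel_right]]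
        exact mul_mem (Subgroup.mem_sup_left (Subgroup.subset_closure ⟨d, hd, r', hr'R, rfl⟩))
          (Subgroup.mem_sup_right (hQsec t htD3 r' (hRQ hr'R)))
    have hND3 : N ≤ D3 := sup_le ((Subgroup.closure_le _).2 (by
      rintro _ ⟨d, hd, r, hr, rfl⟩
      exact hDRD3 d (hDSD hd) r hr)) hM1lt.le
    rcases hirr N hNn le_sup_right hND3 with h | h
    · intro d hd r hr
      rw [← h]
      exact Subgroup.mem_sup_left (Subgroup.subset_closure ⟨d, hd, r, hr, rfl⟩)
    · exfalso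
      -- then `A` centralizes `D3` modulo `M1`
      have hAM : ∀ a' ∈ A, ∀ d ∈ D3, a' * d * a'⁻¹ * d⁻¹ ∈ M1 := by
        intro a' ha' d hd
        refine (QuotientGroup.eq_one_iff _).1 ?_
        show π (a' * d * a'⁻¹ * d⁻¹) = 1
        rw [map_mul, map_mul, map_mul, map_inv, map_inv, ← hNA d (h ▸ hd) a' ha', mul_inv_cancel_right,
          mul_inv_cancel]
      -- contradicting the bound
      have hle : D3 ≤ (D3 ⊓ (Subgroup.centralizer ((A.map π : Subgroup (G ⧸ M1)) :
          Set (G ⧸ M1))).comap π) := by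
        refine le_inf le_rfl fun d hd => Subgroup.mem_comap.2 (Subgroup.mem_centralizer_iff.2 ?_)
        rintro _ ⟨a', ha', rfl⟩
        exact (hNA d (h ▸ hd) a' ha').symm
      -- the image of `A` in `G/C(D3/M1)` is trivial
      set V := D3.map π
      haveI : V.Normal := (inferInstance : D3.Normal).map π (QuotientGroup.mk'_surjective M1)
      set K := (Subgroup.centralizer (V : Set (G ⧸ M1))).comap π with hK
      have hKnot : ¬ P2 ≤ K := fun h2 => hD3nc (Subgroup.commutator_le.2 fun n hn p hp =>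
        (QuotientGroup.eq_one_iff _).1 (by
          show π ⁅n, p⁆ = 1
          rw [map_commutatorElement, commutatorElement_eq_one_iff_mul_comm]
          exact Subgroup.mem_centralizer_iff.1 (h2 hp) _ ⟨n, hn, rfl⟩))
      have hAK : A ≤ K := fun a' ha' => Subgroup.mem_comap.2 (Subgroup.mem_centralizer_iff.2 (by
        rintro _ ⟨d, hd, rfl⟩
        exact hNA d (h ▸ hd) a' ha'))
      exact hAQ fun a' ha' => hR.inf_le inferInstance hKnot ⟨hA.1 ha', hAK ha'⟩
  have hDM : ∀ d ∈ D, ∀ r ∈ R, d * r * d⁻¹ * r⁻¹ ∈ M1 := by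
    intro d hd r hr
    obtain ⟨e, he, f, hf, rfl⟩ := Subgroup.mem_sup_of_normal_right.1 (hcover hd)
    rw [show e * f * r * (e * f)⁻¹ * r⁻¹ = e * (f * r * f⁻¹ * r⁻¹) * e⁻¹ * (e * r * e⁻¹ * r⁻¹) by group]
    exact mul_mem (hM1n.conj_mem _ (hQsec f hf r (hRQ hr)) e) (hDSM e he r hr)
  have hMfix : ∀ p ∈ P2, ∀ m ∈ M1, p * m = m * p := fun p hp m hm =>
    (Subgroup.mem_centralizer_iff.1 (hM1c hp) m hm).symm
  by_cases hI3 : ∀ d ∈ D3, ∀ r ∈ R, d * r = r * d
  · -- `R` centralizes `D`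
    have hkey : ∀ y : G, Odd (orderOf y) → ∀ r ∈ R, ∀ d ∈ D,
        (y * r * y⁻¹ * r⁻¹) * d = d * (y * r * y⁻¹ * r⁻¹) := by
      intro y hy r hr d hd
      set r1 := y * r * y⁻¹ with hr1
      have hr1R : r1 ∈ R := (inferInstance : R.Normal).conj_mem r hr y
      set d1 := y⁻¹ * d * y with hd1
      have hd1D : d1 ∈ D := by simpa using (inferInstance : D.Normal).conj_mem d hd y⁻¹
      set t := d1 * d⁻¹ with ht
      have htD3 : t ∈ D3 := by
        have := hodd_t y⁻¹ (by rwa [orderOf_inv]) d hd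
        rwa [inv_inv] at this
      have e1 : d1 * r * d1⁻¹ * r⁻¹ = d * r * d⁻¹ * r⁻¹ := by
        rw [show d1 = t * d by rw [ht, inv_mul_cancel_right],
          show t * d * r * (t * d)⁻¹ * r⁻¹ = t * (d * r * d⁻¹ * r⁻¹) * t⁻¹ * (t * r * t⁻¹ * r⁻¹) by group,
          hDab t (hD3D htD3) _ (hM1D (hDM d hd r hr)), mul_inv_cancel_right,
          hI3 t htD3 r hr, mul_inv_cancel_right, mul_inv_cancel, mul_one]
      have e2 : d * r1 * d⁻¹ * r1⁻¹ = d * r * d⁻¹ * r⁻¹ := by
        calc d * r1 * d⁻¹ * r1⁻¹ = y * (d1 * r * d1⁻¹ * r⁻¹) * y⁻¹ := by rw [hr1, hd1]; group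
          _ = _ := by
            rw [e1, hMfix y (mem_pResidual_of_odd hy) _ (hDM d hd r hr), mul_inv_cancel_right]
      have e3 : r1 * d⁻¹ * r1⁻¹ = r * d⁻¹ * r⁻¹ := by
        have := e2
        rw [mul_assoc d, mul_assoc d, mul_assoc d r, mul_assoc d] at this
        exact mul_left_cancel this
      have e3' : r1 * d * r1⁻¹ = r * d * r⁻¹ := by
        have := congrArg (fun z => z⁻¹) e3
        simpa [mul_assoc] using this
      -- apply to `r⁻¹ d r`
      have hdr : r⁻¹ * d * r ∈ D := by simpa using (inferInstance : D.Normal).conj_mem d hd r⁻¹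
      have e4 : r1 * (r⁻¹ * d * r) * r1⁻¹ = d := by
        have hmem : r⁻¹ * d * r = d * ((d⁻¹) * r⁻¹ * d⁻¹⁻¹ * r⁻¹⁻¹) := by group
        have hm1 := hDM d⁻¹ (D.inv_mem hd) r⁻¹ (R.inv_mem hr)
        rw [hmem, show r1 * (d * (d⁻¹ * r⁻¹ * d⁻¹⁻¹ * r⁻¹⁻¹)) * r1⁻¹ =
          (r1 * d * r1⁻¹) * (r1 * (d⁻¹ * r⁻¹ * d⁻¹⁻¹ * r⁻¹⁻¹) * r1⁻¹) by group, e3',
          show r1 * (d⁻¹ * r⁻¹ * d⁻¹⁻¹ * r⁻¹⁻¹) * r1⁻¹ = d⁻¹ * r⁻¹ * d⁻¹⁻¹ * r⁻¹⁻¹ by
            rw [hMfix r1 (hRP2 hr1R) _ hm1, mul_inv_cancel_right],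
          show r * d * r⁻¹ * (d⁻¹ * r⁻¹ * d⁻¹⁻¹ * r⁻¹⁻¹) =
            (r * d * r⁻¹ * d⁻¹) * (r⁻¹ * d * r * d⁻¹) * d by group,
          show r * d * r⁻¹ * d⁻¹ = (d * r * d⁻¹ * r⁻¹)⁻¹ by group,
          show r⁻¹ * d * r * d⁻¹ = r⁻¹ * (d * r * d⁻¹ * r⁻¹) * r by group,
          show r⁻¹ * (d * r * d⁻¹ * r⁻¹) * r = d * r * d⁻¹ * r⁻¹ by
            rw [mul_assoc, ← hMfix r (hRP2 hr) _ (hDM d hd r hr), inv_mul_cancel_left],
          inv_mul_cancel, one_mul]
      calc r1 * r⁻¹ * d = (r1 * (r⁻¹ * d * r) * r1⁻¹) * (r1 * r⁻¹) := by group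
        _ = _ := by rw [e4]
    have hRC : R ≤ Subgroup.centralizer (D : Set G) := by
      rw [hRdef, Subgroup.commutator_comm]
      refine Subgroup.commutator_le.2 fun p hp qq hqq => ?_
      set N := R ⊓ Subgroup.centralizer (D : Set G) with hN
      set π := QuotientGroup.mk' N with hπ
      have hle : P2 ≤ (Subgroup.centralizer ((Q.map π : Subgroup (G ⧸ N)) : Set (G ⧸ N))).comap π := by
        refine eq_pResidual_le fun y hy => Subgroup.mem_comap.2 (Subgroup.mem_centralizer_iff.2 ?_)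
        rintro _ ⟨q', hq', rfl⟩
        set t := y * q' * y⁻¹ * q'⁻¹ with ht
        have htR : t ∈ R := by
          rw [ht, ← commutatorElement_def, hRdef, Subgroup.commutator_comm]
          exact Subgroup.commutator_mem_commutator (mem_pResidual_of_odd hy) hq'
        obtain ⟨k, hk⟩ := hQ2 ⟨t, hRQ htR⟩
        have hk' : t ^ 2 ^ k = 1 := congrArg Subtype.val hk
        refine (commute_of_commute_comm (t := π t) (Odd.of_dvd_nat hy (orderOf_map_dvd π y))
          (by rw [← map_inv, ← map_inv, ← map_mul, ← map_mul, ← map_mul]) ?_ (k := k)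
          (by rw [← map_pow, hk', map_one])).symm
        have hN' : π (y * t * y⁻¹ * t⁻¹) = 1 := (QuotientGroup.eq_one_iff _).2
          ⟨R.mul_mem ((inferInstance : R.Normal).conj_mem t htR y) (R.inv_mem htR),
            Subgroup.mem_centralizer_iff.2 fun d hd => (hkey y hy t htR d hd).symm⟩
        rw [map_mul, map_mul, map_mul, map_inv, map_inv, mul_inv_eq_one, mul_inv_eq_iff_eq_mul] at hN'
        exact hN'
      have h1 : π ⁅p, qq⁆ = 1 := by
        rw [map_commutatorElement, commutatorElement_eq_one_iff_mul_comm]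
        exact (Subgroup.mem_centralizer_iff.1 (hle hp) _ ⟨qq, hqq, rfl⟩).symm
      exact ((QuotientGroup.eq_one_iff _).1 h1).2
    -- then so does `A ∩ Q`
    refine false_of_centralizes hchar hfree hc hR hA hDe (hDQ.trans hQS) hnc ?_ hAQ
    intro b hb
    refine Subgroup.mem_centralizer_iff.2 fun x hx => ?_
    have hle : D ≤ Subgroup.centralizer ({b} : Set G) := by
      rw [hD, Subgroup.normalClosure, Subgroup.closure_le]
      intro x hx
      obtain ⟨v, hv, hvx⟩ := Group.mem_conjugatesOfSet_iff.1 hx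
      obtain ⟨g, rfl⟩ := isConj_iff.1 hvx
      obtain ⟨s, hs, p, hp, rfl⟩ := exists_eq_mul S g
      set p' := s * p * s⁻¹ with hp'
      have hp'2 : p' ∈ P2 := hP2n.conj_mem p hp s
      set v' := s * v * s⁻¹ with hv'
      have hv'DS : v' ∈ DS := Subgroup.subset_closure ⟨s, hs, v, hv, rfl⟩
      have hv'D : v' ∈ D := hDSD hv'DS
      set u := p' * v' * p'⁻¹ with hu
      rw [SetLike.mem_coe, show s * p * v * (s * p)⁻¹ = u by rw [hu, hp', hv']; group,
        Subgroup.mem_centralizer_singleton_iff]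
      have huD : u ∈ D := (inferInstance : D.Normal).conj_mem v' hv'D p'
      set k := b⁻¹ * p' * b * p'⁻¹ with hk
      have hkR : k ∈ R := by
        have := Subgroup.commutator_mem_commutator (H₁ := Q) (H₂ := P2) (Q.inv_mem hb.2) hp'2
        rwa [commutatorElement_def, inv_inv] at this
      have hku : k * u * k⁻¹ = u := by
        rw [← Subgroup.mem_centralizer_iff.1 (hRC hkR) u huD, mul_inv_cancel_right]
      have hbv : b * v' = v' * b := elemAb_comm hA.2.1.1 hb.1 (hDSA hv'DS)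
      calc u * b = b * (b⁻¹ * u * b) := by group
        _ = b * (k * u * k⁻¹) := by
          congr 1
          rw [hk, hu]
          calc b⁻¹ * (p' * v' * p'⁻¹) * b = b⁻¹ * p' * (b * v' * b⁻¹) * p'⁻¹ * b := by
                rw [show b * v' * b⁻¹ = v' by rw [hbv, mul_inv_cancel_right]]; group
            _ = _ := by group
        _ = b * u := by rw [hku]
    exact Subgroup.mem_centralizer_singleton_iff.1 (hle hx)
  -- the radical
  push Not at hI3
  obtain ⟨d0, hd0, r0, hr0, hne0⟩ := hI3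
  set I3 := ⁅D3, R⁆ with hI3def
  haveI : I3.Normal := Subgroup.commutator_normal D3 R
  have hI3M : I3 ≤ M1 := Subgroup.commutator_le.2 fun d hd r hr => by
    rw [commutatorElement_def]; exact hQsec d hd r (hRQ hr)
  have hI3ne : I3 ≠ ⊥ := fun h => hne0 (commutatorElement_eq_one_iff_mul_comm.1
    (Subgroup.mem_bot.1 (h ▸ Subgroup.commutator_mem_commutator hd0 hr0)))
  obtain ⟨χ, ⟨x0, hx0I, hx0⟩, hχS⟩ := exists_invariant_char S hM1e hI3M hI3ne
  let F : (d : G) → d ∈ D → (↥R →* ℂˣ) := fun d hd => MonoidHom.mk'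
    (fun r => χ ⟨d * r * d⁻¹ * (r : G)⁻¹, hDM d hd r r.2⟩) (fun r r' => by
      show χ _ = χ _ * χ _
      rw [← map_mul]
      congr 1
      refine Subtype.ext ?_
      show d * ((r : G) * r') * d⁻¹ * ((r : G) * r')⁻¹ =
        (d * r * d⁻¹ * (r : G)⁻¹) * (d * r' * d⁻¹ * (r' : G)⁻¹)
      rw [show d * ((r : G) * r') * d⁻¹ * ((r : G) * r')⁻¹ =
        (d * r * d⁻¹ * (r : G)⁻¹) * ((r : G) * (d * r' * d⁻¹ * (r' : G)⁻¹) * (r : G)⁻¹) by group,
        hMfix r (hRP2 r.2) _ (hDM d hd r' r'.2), mul_inv_cancel_right])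
  have hF : ∀ d hd (r : ↥R), F d hd r = χ ⟨d * r * d⁻¹ * (r : G)⁻¹, hDM d hd r r.2⟩ :=
    fun d hd r => rfl
  have hFmul : ∀ d hd d' hd' r, F (d * d') (D.mul_mem hd hd') r = F d hd r * F d' hd' r := by
    intro d hd d' hd' r
    rw [hF _ (D.mul_mem hd hd') r, hF _ hd r, hF _ hd' r, ← map_mul]
    congr 1
    refine Subtype.ext ?_
    show d * d' * r * (d * d')⁻¹ * (r : G)⁻¹ =
      (d * r * d⁻¹ * (r : G)⁻¹) * (d' * r * d'⁻¹ * (r : G)⁻¹)
    rw [show d * d' * r * (d * d')⁻¹ * (r : G)⁻¹ =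
      d * (d' * r * d'⁻¹ * (r : G)⁻¹) * d⁻¹ * (d * r * d⁻¹ * (r : G)⁻¹) by group,
      hDab d hd _ (hM1D (hDM d' hd' r r.2)), mul_inv_cancel_right,
      hDab _ (hM1D (hDM d' hd' r r.2)) _ (hM1D (hDM d hd r r.2))]
  have hF1 : ∀ r, F 1 D.one_mem r = 1 := fun r => by
    rw [hF _ D.one_mem r, ← map_one χ]; congr 1; exact Subtype.ext (by simp)
  let Rad : Subgroup G :=
    { carrier := {d | ∃ hd : d ∈ D, F d hd = 1}
      one_mem' := ⟨D.one_mem, MonoidHom.ext hF1⟩
      mul_mem' := fun {d d'} hd hd' => ⟨D.mul_mem hd.1 hd'.1, MonoidHom.ext fun r => by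
        rw [hFmul d hd.1 d' hd'.1 r, DFunLike.congr_fun hd.2 r, DFunLike.congr_fun hd'.2 r]
        exact one_mul _⟩
      inv_mem' := fun {d} hd => by
        have : d⁻¹ = d := inv_eq_of_mul_eq_one_right (by rw [← pow_two]; exact hDe.2 d hd.1)
        rw [this]; exact hd }
  have hRadD : Rad ≤ D := fun d hd => hd.1
  have hRadP : ∀ p ∈ P2, ∀ d ∈ Rad, p * d * p⁻¹ ∈ Rad := by
    rintro p hp d ⟨hdD, hd⟩
    refine ⟨(inferInstance : D.Normal).conj_mem d hdD p, MonoidHom.ext fun r => ?_⟩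
    have hr' : p⁻¹ * (r : G) * p ∈ R := by
      simpa using (inferInstance : R.Normal).conj_mem _ r.2 p⁻¹
    have h1 := DFunLike.congr_fun hd ⟨_, hr'⟩
    rw [hF _ hdD, MonoidHom.one_apply] at h1
    rw [hF _ ((inferInstance : D.Normal).conj_mem d hdD p) r, MonoidHom.one_apply, ← h1]
    congr 1
    refine Subtype.ext ?_
    show p * d * p⁻¹ * r * (p * d * p⁻¹)⁻¹ * (r : G)⁻¹ =
      d * (p⁻¹ * r * p) * d⁻¹ * (p⁻¹ * r * p)⁻¹
    rw [show p * d * p⁻¹ * r * (p * d * p⁻¹)⁻¹ * (r : G)⁻¹ =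
      p * (d * (p⁻¹ * r * p) * d⁻¹ * (p⁻¹ * r * p)⁻¹) * p⁻¹ by group,
      hMfix p hp _ (hDM d hdD _ hr'), mul_inv_cancel_right]
  have hM1R : M1 ≤ Rad := fun m hm => ⟨hM1D hm, MonoidHom.ext fun r => by
    rw [hF _ (hM1D hm) r, MonoidHom.one_apply, ← map_one χ]
    congr 1
    refine Subtype.ext ?_
    show m * r * m⁻¹ * (r : G)⁻¹ = 1
    rw [← hMfix r (hRP2 r.2) m hm, mul_inv_cancel_right, mul_inv_cancel]⟩
  have hRad3 : Rad ⊓ D3 = M1 := by
    have hn : (Rad ⊓ D3).Normal := by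
      refine ⟨fun d hd g => ⟨?_, (inferInstance : D3.Normal).conj_mem d hd.2 g⟩⟩
      obtain ⟨s, hs, p, hp, rfl⟩ := exists_eq_mul S g
      obtain ⟨hd1D, hd1⟩ := hRadP p hp d hd.1
      have hd13 : p * d * p⁻¹ ∈ D3 := (inferInstance : D3.Normal).conj_mem d hd.2 p
      rw [show s * p * d * (s * p)⁻¹ = s * (p * d * p⁻¹) * s⁻¹ by group]
      refine ⟨(inferInstance : D.Normal).conj_mem _ hd1D s, MonoidHom.ext fun r => ?_⟩
      set d1 := p * d * p⁻¹ with hd1def
      have hr' : s⁻¹ * (r : G) * s ∈ R := by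
        simpa using (inferInstance : R.Normal).conj_mem _ r.2 s⁻¹
      have h1 := DFunLike.congr_fun hd1 ⟨_, hr'⟩
      rw [hF _ hd1D, MonoidHom.one_apply] at h1
      rw [hF _ ((inferInstance : D.Normal).conj_mem _ hd1D s) r, MonoidHom.one_apply, ← h1]
      refine hχS s hs ⟨_, hDM d1 hd1D _ hr'⟩ ?_ _ ?_
      · have h := Subgroup.commutator_mem_commutator (H₁ := D3) (H₂ := R) hd13 hr'
        rw [commutatorElement_def] at h
        exact h
      · show s * d1 * s⁻¹ * r * (s * d1 * s⁻¹)⁻¹ * (r : G)⁻¹ =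
          s * (d1 * (s⁻¹ * r * s) * d1⁻¹ * (s⁻¹ * r * s)⁻¹) * s⁻¹
        group
    refine (hirr _ hn (le_inf hM1R hM1lt.le) inf_le_right).resolve_right fun h => hx0 ?_
    have hle : I3 ≤ (χ.ker).map M1.subtype := Subgroup.commutator_le.2 fun d hd r hr => by
      have hdR : d ∈ Rad ⊓ D3 := h.ge hd
      obtain ⟨hdD, hF0⟩ := hdR.1
      exact ⟨⟨_, hDM d hdD r hr⟩, MonoidHom.mem_ker.2 ((hF d hdD ⟨r, hr⟩).symm.trans (DFunLike.congr_fun hF0 (⟨r, hr⟩ : ↥R))), rfl⟩
    obtain ⟨m, hm, hme⟩ := hle hx0I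
    rw [← show m = x0 from Subtype.ext hme]
    exact hm
  have hRadR : ∀ d ∈ Rad, ∀ r ∈ R, r * d = d * r := by
    intro d hd r hr
    have hle : P2 ≤ Subgroup.centralizer ({d} : Set G) := eq_pResidual_le fun y hy => by
      refine Subgroup.mem_centralizer_singleton_iff.2 ?_
      have htR : y * d * y⁻¹ * d⁻¹ ∈ M1 := hRad3.le
        ⟨Rad.mul_mem (hRadP y (mem_pResidual_of_odd hy) d hd) (Rad.inv_mem hd), hodd_t y hy d (hRadD hd)⟩
      refine commute_of_sq hy (hMfix y (mem_pResidual_of_odd hy) _ htR) (hM1e.2 _ htR)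
    exact Subgroup.mem_centralizer_singleton_iff.1 (hle (hRP2 hr))
  -- the count
  have hRn : ¬ R ≤ Subgroup.centralizer (V0 : Set G) := by
    intro h
    refine hne0 ?_
    have hle : D ≤ Subgroup.centralizer (R : Set G) := by
      haveI : (Subgroup.centralizer (R : Set G)).Normal := inferInstance
      exact Subgroup.normalClosure_le_normal (Subgroup.le_centralizer_iff.1 h)
    exact (Subgroup.mem_centralizer_iff.1 (hle (hD3D hd0)) r0 hr0).symm
  have hVD : V0 ≤ D := Subgroup.subset_normalClosure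
  have hact : ∀ r ∈ R, ∀ v ∈ V0, ∃ m ∈ M1, r * v * r⁻¹ = v * m ∧ v⁻¹ * r * v * r⁻¹ = m := by
    intro r hr v hv
    refine ⟨v⁻¹ * r * v * r⁻¹, ?_, by group, rfl⟩
    have := hDM v⁻¹ (D.inv_mem (hVD hv)) r hr
    rwa [inv_inv] at this
  obtain ⟨hineq, -⟩ := hV.ineq R hRT
    (Subgroup.commutator_le.2 fun r hr r' hr' => Subgroup.mem_centralizer_iff.2 fun v0 hv0 => by
      have he : ∀ v ∈ V0, (r * r') * v * (r * r')⁻¹ = (r' * r) * v * (r' * r)⁻¹ := by
        intro v hv
        obtain ⟨m, hm, hrv, -⟩ := hact r hr v hv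
        obtain ⟨m', hm', hr'v, -⟩ := hact r' hr' v hv
        have hrm : r * m' * r⁻¹ = m' := by rw [hMfix r (hRP2 hr) m' hm', mul_inv_cancel_right]
        have hr'm : r' * m * r'⁻¹ = m := by rw [hMfix r' (hRP2 hr') m hm, mul_inv_cancel_right]
        calc (r * r') * v * (r * r')⁻¹ = r * (r' * v * r'⁻¹) * r⁻¹ := by group
          _ = (r * v * r⁻¹) * (r * m' * r⁻¹) := by rw [hr'v]; group
          _ = v * (m * m') := by rw [hrv, hrm, mul_assoc]
          _ = v * (m' * m) := by rw [hDab m (hM1D hm) m' (hM1D hm')]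
          _ = (r' * v * r'⁻¹) * (r' * m * r'⁻¹) := by rw [hr'v, hr'm, mul_assoc]
          _ = r' * (r * v * r⁻¹) * r'⁻¹ := by rw [hrv]; group
          _ = _ := by group
      have hmem : ∀ w ∈ V0, ∀ r'' ∈ R, r'' * w * r''⁻¹ ∈ V0 := fun w hw r'' hr'' =>
        (Subgroup.mem_normalizer_iff.1 (hV0R r'' hr'') w).1 hw
      have hw : (r' * r)⁻¹ * v0 * (r' * r) ∈ V0 := by
        have := hmem _ hv0 _ (R.inv_mem (R.mul_mem hr' hr))
        rwa [inv_inv] at this
      have h1 := he _ hw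
      rw [show (r' * r) * ((r' * r)⁻¹ * v0 * (r' * r)) * (r' * r)⁻¹ = v0 by group] at h1
      calc v0 * ⁅r, r'⁆ = ((r * r') * ((r' * r)⁻¹ * v0 * (r' * r)) * (r * r')⁻¹) * ⁅r, r'⁆ := by rw [h1]
        _ = _ := by rw [commutatorElement_def]; group)
    (fun r hr => Subgroup.mem_centralizer_iff.2 fun v hv => by
      obtain ⟨m, hm, hrv, -⟩ := hact r hr v hv
      have hrm : r * m * r⁻¹ = m := by rw [hMfix r (hRP2 hr) m hm, mul_inv_cancel_right]
      have : r ^ 2 * v * (r ^ 2)⁻¹ = v := by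
        calc r ^ 2 * v * (r ^ 2)⁻¹ = r * (r * v * r⁻¹) * r⁻¹ := by rw [pow_two]; group
          _ = r * (v * m) * r⁻¹ := by rw [hrv]
          _ = (r * v * r⁻¹) * (r * m * r⁻¹) := by group
          _ = v * (m * m) := by rw [hrv, hrm, mul_assoc]
          _ = _ := by rw [← pow_two, hM1e.2 m hm, mul_one]
      exact (mul_inv_eq_iff_eq_mul.1 this).symm) hRn
  -- the characters given by `V0`
  set Z := R ⊓ Subgroup.centralizer (V0 : Set G) with hZ
  haveI : (Z.subgroupOf R).Normal := by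
    refine ⟨fun z hz r => ⟨R.mul_mem (R.mul_mem r.2 z.2) (R.inv_mem r.2), Subgroup.mem_centralizer_iff.2 fun v hv => ?_⟩⟩
    have hv' : (r : G)⁻¹ * v * r ∈ V0 := by
      have := (Subgroup.mem_normalizer_iff.1 (hV0R _ (R.inv_mem r.2)) v).1 hv
      simpa using this
    have hz2 : (r : G)⁻¹ * v * r * (z : G) = (z : G) * ((r : G)⁻¹ * v * r) :=
      Subgroup.mem_centralizer_iff.1 hz.2 _ hv'
    show v * ((r : G) * z * (r : G)⁻¹) = (r : G) * z * (r : G)⁻¹ * v
    calc v * ((r : G) * z * (r : G)⁻¹) = (r : G) * (((r : G)⁻¹ * v * r) * z) * (r : G)⁻¹ := by group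
      _ = (r : G) * ((z : G) * ((r : G)⁻¹ * v * r)) * (r : G)⁻¹ := by rw [← hz2]
      _ = _ := by group
  let Φ : ↥V0 →* (↥R →* ℂˣ) := MonoidHom.mk' (fun v => F v (hVD v.2))
    fun v v' => MonoidHom.ext fun r => hFmul _ (hVD v.2) _ (hVD v'.2) r
  haveI : Finite Φ.range := Finite.of_surjective Φ.rangeRestrict Φ.rangeRestrict_surjective
  have hcount : Nat.card Φ.range * Nat.card Z ≤ Nat.card R := by
    rw [← Nat.card_congr (Subgroup.subgroupOfEquivOfLe (inf_le_left : Z ≤ R)).toEquiv]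
    refine card_le_index (Z.subgroupOf R) (fun φ : ↥Φ.range => (φ : ↥R →* ℂˣ)) Subtype.val_injective ?_
    rintro ⟨_, v, rfl⟩ z hz
    show F (v : G) (hVD v.2) z = 1
    rw [hF _ (hVD v.2) z, ← map_one χ]
    congr 1
    refine Subtype.ext ?_
    show (v : G) * z * (v : G)⁻¹ * (z : G)⁻¹ = 1
    have hzv : (v : G) * z = z * v := Subgroup.mem_centralizer_iff.1 hz.2 v v.2
    rw [hzv, mul_inv_cancel_right, mul_inv_cancel]
  have hker : Nat.card Φ.ker ≤ Nat.card ↥(V0 ⊓ Subgroup.centralizer (R : Set G)) :=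
    Nat.card_le_card_of_injective
      (fun v => (⟨((v : ↥V0) : G), (v : ↥V0).2, Subgroup.mem_centralizer_iff.2 fun r hr =>
        hRadR _ ⟨hVD (v : ↥V0).2, v.2⟩ r hr⟩ : ↥(V0 ⊓ Subgroup.centralizer (R : Set G))))
      (fun v v' h => Subtype.ext (Subtype.ext
        (congrArg (fun z : ↥(V0 ⊓ Subgroup.centralizer (R : Set G)) => (z : G)) h)))
  have hVz : Nat.card V0 * Nat.card Z ≤
      Nat.card R * Nat.card ↥(V0 ⊓ Subgroup.centralizer (R : Set G)) := by
    rw [← QOff.card_map_mul_card_ker Φ]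
    calc Nat.card Φ.range * Nat.card Φ.ker * Nat.card Z
        = (Nat.card Φ.range * Nat.card Z) * Nat.card Φ.ker := by ring
      _ ≤ _ := Nat.mul_le_mul hcount hker
  set V := Nat.card V0
  set z := Nat.card Z
  set r := Nat.card R
  set w0 := Nat.card ↥(V0 ⊓ Subgroup.centralizer (R : Set G))
  have hz : z ≤ r := Subgroup.card_le_of_le inf_le_left
  exact lt_irrefl _ <|
    calc r ^ 3 * w0 ^ 2 < V ^ 2 * z ^ 3 := hineq
      _ = (V * z) ^ 2 * z := by ring
      _ ≤ (r * w0) ^ 2 * r := Nat.mul_le_mul (Nat.pow_le_pow_left hVz 2) hz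
      _ = r ^ 3 * w0 ^ 2 := by ring

include hchar hfree hc hR hA in
/-- `T` is an E-group. -/
theorem tT_centralizes (hAQ : ¬ A ≤ Cfsg.pCore 2 G) : EForm (tT S) := by
  classical
  haveI : Fact (Nat.Prime 2) := ⟨Nat.prime_two⟩
  intro V0 hV
  set D := Subgroup.normalClosure (V0 : Set G) with hD
  haveI : (Subgroup.centralizer (D : Set G)).Normal := inferInstance
  have hP2D := residual_centralizes hchar hfree hc hR hA hAQ hV
  have hJT : Cfsg.thompsonSubgroupOf 2 (S : Subgroup G) ≤ tT S :=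
    (thompson_le_jh _).trans (jh_le_tT S)
  -- every member of `𝒜(S)` centralizes `D`
  have hmem : ∀ B, IsMaxEAIn 2 B (S : Subgroup G) → B ≤ Subgroup.centralizer (D : Set G) := by
    intro B hB
    rw [Subgroup.le_centralizer_iff, hD, Subgroup.normalClosure, Subgroup.closure_le]
    intro x hx
    obtain ⟨v, hv, hvx⟩ := Group.mem_conjugatesOfSet_iff.1 hx
    obtain ⟨g, rfl⟩ := isConj_iff.1 hvx
    obtain ⟨s, hs, p, hp, rfl⟩ := exists_eq_mul S g
    have hpv : p * v * p⁻¹ = v := by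
      rw [← Subgroup.mem_centralizer_iff.1 (hP2D hp) v (Subgroup.subset_normalClosure hv),
        mul_inv_cancel_right]
    have hvB := le_max (conj_max hB ((S : Subgroup G).inv_mem hs))
      ((le_thompsonSubgroupOf (conj_max hB ((S : Subgroup G).inv_mem hs))).trans hJT) hV
      (hV.le.trans (tT_le S)) hv
    obtain ⟨w, hw, hwe⟩ := hvB
    have hwe' : s⁻¹ * w * s⁻¹⁻¹ = v := hwe
    rw [SetLike.mem_coe, show s * p * v * (s * p)⁻¹ = s * (p * v * p⁻¹) * s⁻¹ by group, hpv, ← hwe',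
      show s * (s⁻¹ * w * s⁻¹⁻¹) * s⁻¹ = w by group]
    exact Subgroup.mem_centralizer_iff.2 fun b hb => elemAb_comm hB.2.1.1 hb hw
  have hle : Subgroup.centralizer (D : Set G) ≤ Subgroup.centralizer (V0 : Set G) :=
    Subgroup.centralizer_le Subgroup.subset_normalClosure
  refine sup_le (sup_le (jh_le_centralizer (tT_le S) (jh_le_tT S) hV) ?_) (sSup_le ?_)
  · exact ((Subgroup.commutator_le_right _ _).trans hP2D).trans hle
  · rintro _ ⟨B, g, hB, rfl⟩
    refine inf_le_right.trans (le_trans ?_ hle)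
    rintro _ ⟨b, hb, rfl⟩
    exact (inferInstance : (Subgroup.centralizer (D : Set G)).Normal).conj_mem b (hmem B hB hb) g

include hchar hfree hc hR hA in
/-- `O²(G)` centralizes `W`. -/
theorem residual_centralizes_wh (hAQ : ¬ A ≤ Cfsg.pCore 2 G) :
    Cfsg.pResidual 2 G ≤ Subgroup.centralizer (wh (S : Subgroup G) : Set G) := by
  classical
  haveI : Fact (Nat.Prime 2) := ⟨Nat.prime_two⟩
  haveI hP2n : (Cfsg.pResidual 2 G).Normal := pResidual_normal
  set Q := Cfsg.pCore 2 G with hQdef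
  set W := wh (S : Subgroup G) with hW
  have hQS : Q ≤ (S : Subgroup G) := Thompson.pCore_le_sylow S
  have hTJ : tT S ≤ jh (S : Subgroup G) := le_jh (tT_le S) (tT_centralizes hchar hfree hc hR hA hAQ)
    ((thompson_le_jh _).trans (jh_le_tT S))
  have hWT : tT S ≤ Subgroup.centralizer (W : Set G) :=
    hTJ.trans (Subgroup.le_centralizer_iff.1 (wh_le_centralizer_jh _))
  have hWQ : W ≤ Q := by
    intro v hv
    by_contra hvQ
    set π := QuotientGroup.mk' Q with hπ
    have hv2 : v * v = 1 := by rw [← pow_two]; exact (wh_elem _).2 v hv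
    have hO : ∀ N : Subgroup (G ⧸ Q), N.Normal → IsPGroup 2 N → N = ⊥ := fun N hN hN2 => by
      haveI := hN
      have h1 : IsPGroup 2 (N.comap π) := by
        refine hN2.comap_of_ker_isPGroup π ?_
        rw [hπ, QuotientGroup.ker_mk']
        exact Thompson.isPGroup_pCore
      have h2 := Thompson.le_pCore (inferInstance : (N.comap π).Normal) h1
      rw [← Subgroup.map_comap_eq_self_of_surjective (QuotientGroup.mk'_surjective Q) N,
        Subgroup.map_eq_bot_iff, QuotientGroup.ker_mk']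
      exact h2
    have hva : π v * π v = 1 := by rw [← map_mul, hv2, map_one]
    have hvc : π v ∉ Subgroup.centralizer ((⊤ : Subgroup (G ⧸ Q)) : Set (G ⧸ Q)) := by
      intro h
      set N := Subgroup.zpowers (π v) with hN
      have hn : N.Normal := ⟨fun z hz g => by
        obtain ⟨i, rfl⟩ := Subgroup.mem_zpowers_iff.1 hz
        have hcg : Commute g (π v) := Subgroup.mem_centralizer_iff.1 h g (Subgroup.mem_top g)
        rw [show g * π v ^ i * g⁻¹ = π v ^ i by
          rw [(hcg.zpow_right i).eq, mul_inv_cancel_right]]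
        exact Subgroup.zpow_mem_zpowers _ i⟩
      have hN2 : IsPGroup 2 N := by
        obtain ⟨j, -, hj⟩ := (Nat.dvd_prime_pow Nat.prime_two).1
          (orderOf_dvd_of_pow_eq_one (x := π v) (n := 2 ^ 1) (by rw [pow_one, pow_two]; exact hva))
        exact IsPGroup.of_card (n := j) (by rw [Nat.card_zpowers, hj])
      have := hO N hn hN2
      rw [hN, Subgroup.zpowers_eq_bot] at this
      exact hvQ ((QuotientGroup.eq_one_iff v).1 this)
    obtain ⟨yb, -, hyb1, hyodd, hinv⟩ := exists_inverted_involution (H := (⊤ : Subgroup (G ⧸ Q))) hva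
      (Subgroup.le_normalizer (Subgroup.mem_top _)) (fun N hN hN2 => by
        haveI := hN
        have h1 := hO (N.map (⊤ : Subgroup (G ⧸ Q)).subtype)
          (hN.map (Subgroup.topEquiv (G := G ⧸ Q)).toMonoidHom
            (Subgroup.topEquiv (G := G ⧸ Q)).surjective) (hN2.map _)
        exact (Subgroup.map_eq_bot_iff_of_injective _ (Subgroup.subtype_injective _)).1 h1) hvc
    obtain ⟨y, hyo, hyi, -⟩ := lift_inverted Q Thompson.isPGroup_pCore hv2 hyodd hinv
    have hy1 : y ≠ 1 := fun h => hyb1 (orderOf_eq_one_iff.1 (by rw [← hyo, h, orderOf_one]))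
    have hyodd' : Odd (orderOf y) := hyo ▸ hyodd
    refine hy1 (eq_one_of_centralizes_comm hchar hyodd' fun q hq => ?_)
    set t := y * q * y⁻¹ * q⁻¹ with ht
    haveI : (⁅Q, Cfsg.pResidual 2 G⁆).Normal := Subgroup.commutator_normal _ _
    have htR : t ∈ ⁅Q, Cfsg.pResidual 2 G⁆ := by
      rw [ht, ← commutatorElement_def, Subgroup.commutator_comm]
      exact Subgroup.commutator_mem_commutator (mem_pResidual_of_odd hyodd') hq
    have hfix : ∀ x ∈ ⁅Q, Cfsg.pResidual 2 G⁆, v * x * v⁻¹ = x := fun x hx => by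
      rw [Subgroup.mem_centralizer_iff.1 (hWT (comm_le_tT S hx)) v hv, mul_inv_cancel_right]
    have h1 := hfix (y * t * y⁻¹) ((inferInstance : (⁅Q, Cfsg.pResidual 2 G⁆).Normal).conj_mem t htR y)
    rw [show v * (y * t * y⁻¹) * v⁻¹ = (v * y * v⁻¹) * (v * t * v⁻¹) * (v * y * v⁻¹)⁻¹ by group, hyi,
      hfix t htR, inv_inv] at h1
    have h2 : Commute (y ^ 2) t := by
      show y ^ 2 * t = t * y ^ 2
      calc y ^ 2 * t = y * (y * t * y⁻¹) * y := by rw [pow_two]; group
        _ = y * (y⁻¹ * t * y) * y := by rw [h1]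
        _ = _ := by rw [pow_two]; group
    obtain ⟨j, hj⟩ := hyodd'
    have h3 : y = (y ^ 2) ^ (j + 1) := by
      rw [← pow_mul, show 2 * (j + 1) = orderOf y + 1 by omega, pow_succ, pow_orderOf_eq_one, one_mul]
    show Commute y t
    rw [h3]
    exact h2.pow_left _
  obtain hcom : ∀ g : G, ∀ a ∈ W, ∀ b ∈ W, Commute a (g * b * g⁻¹) := fun g a ha b hb => by
    refine Subgroup.mem_centralizer_iff.1 (hWT (inter_le_tT S hA g ⟨?_, ⟨b, wh_le_max hA hb, rfl⟩⟩)) a ha
    exact hQS ((inferInstance : Q.Normal).conj_mem b (hWQ hb) g)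
  set D := Subgroup.normalClosure (W : Set G) with hD
  have hDe : Cfsg.IsElementaryAbelian 2 D := elementary_normalClosure (wh_elem _) hcom
  by_contra hnc
  have hnc' : ¬ Cfsg.pResidual 2 G ≤ Subgroup.centralizer (D : Set G) := fun h =>
    hnc (h.trans (Subgroup.centralizer_le Subgroup.subset_normalClosure))
  refine false_of_centralizes hchar hfree hc hR hA hDe
    ((Subgroup.normalClosure_le_normal hWQ).trans hQS) hnc' ?_ hAQ
  rw [Subgroup.le_centralizer_iff, hD, Subgroup.normalClosure, Subgroup.closure_le]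
  intro x hx
  obtain ⟨w, hw, hwx⟩ := Group.mem_conjugatesOfSet_iff.1 hx
  obtain ⟨g, rfl⟩ := isConj_iff.1 hwx
  refine Subgroup.mem_centralizer_iff.2 fun b hb => ?_
  have hb' : g⁻¹ * b * g⁻¹⁻¹ ∈ tT S := inter_le_tT S hA g⁻¹
    ⟨hQS ((inferInstance : Q.Normal).conj_mem b hb.2 g⁻¹), b, hb.1, rfl⟩
  have h1 : Commute w (g⁻¹ * b * g⁻¹⁻¹) := Subgroup.mem_centralizer_iff.1 (hWT hb') w hw
  have h2 := h1.map (MulAut.conj g).toMonoidHom
  have e : (MulAut.conj g).toMonoidHom (g⁻¹ * b * g⁻¹⁻¹) = b := by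
    show g * (g⁻¹ * b * g⁻¹⁻¹) * g⁻¹ = b
    group
  rw [e] at h2
  exact h2.symm

end Cfsg.Agent.T51.EG
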