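import Cfsg.Agent.T51.BndAut
import Cfsg.Agent.Lib.Coprime.Generation

/-!
An elementary abelian 2-group acting on a group of odd order, lifting of inverted elements, and the
size of the commutator of an inverted element of large order on an elementary abelian 2-group.
-/

set_option autoImplicit false
set_option linter.unusedVariables false
set_option linter.unusedSectionVars false
set_option linter.style.haveILetI false

namespace Cfsg.Agent.T51.EG

open Equiv
open Cfsg.Agent.T51.Bnd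

universe u

variable {X : Type u} [Group X] [Finite X]

/-- An elementary abelian 2-group acting nontrivially on a group of odd order. -/
theorem odd_case (hS3 : ¬ Cfsg.Involves (Perm (Fin 3)) X) (A F : Subgroup X)
    (hA : ∀ a ∈ A, a * a = 1) (hAF : A ≤ Subgroup.normalizer (F : Set X)) (hodd : Odd (Nat.card F))
    (hnc : ¬ A ≤ Subgroup.centralizer (F : Set X)) :
    ∃ a ∈ A, ∃ B ≤ A, ∃ y ∈ F, (orderOf y).Prime ∧ 5 ≤ orderOf y ∧ a * y * a⁻¹ = y⁻¹ ∧
      (∀ b ∈ B, b * y = y * b) ∧ Nat.card A ≤ 2 * Nat.card B := by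
  classical
  haveI : Fact (Nat.Prime 2) := ⟨Nat.prime_two⟩
  have hcomm : ∀ a ∈ A, ∀ b ∈ A, a * b = b * a := fun a ha b hb => by
    rw [← inv_eq_of_mul_eq_one_right (hA _ (A.mul_mem ha hb)), _root_.mul_inv_rev,
      inv_eq_of_mul_eq_one_right (hA a ha), inv_eq_of_mul_eq_one_right (hA b hb)]
  obtain ⟨B, ⟨hBA, hBn⟩, hBmax⟩ := Set.exists_max_image
    {B : Subgroup X | B ≤ A ∧
      ¬ A ≤ Subgroup.centralizer ((F ⊓ Subgroup.centralizer (B : Set X) : Subgroup X) : Set X)}
    (fun B => Nat.card B) (Set.toFinite _) ⟨⊥, bot_le, fun h => hnc (by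
      rwa [show F ⊓ Subgroup.centralizer ((⊥ : Subgroup X) : Set X) = F by
        rw [inf_eq_left]; intro f _; exact Subgroup.mem_centralizer_iff.2 fun z hz => by
          rw [Subgroup.mem_bot.1 hz, one_mul, mul_one]] at h)⟩
  set FB := F ⊓ Subgroup.centralizer (B : Set X) with hFB
  have hFBn : ∀ a ∈ A, ∀ f ∈ FB, a * f * a⁻¹ ∈ FB := fun a ha f hf =>
    ⟨(Subgroup.mem_normalizer_iff.1 (hAF ha) f).1 hf.1, Subgroup.mem_centralizer_iff.2 fun b hb => by
      calc b * (a * f * a⁻¹) = (b * a) * f * a⁻¹ := by group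
        _ = a * (b * f) * a⁻¹ := by rw [hcomm b (hBA hb) a ha]; group
        _ = a * f * (b * a⁻¹) := by rw [Subgroup.mem_centralizer_iff.1 hf.2 b hb]; group
        _ = _ := by rw [hcomm b (hBA hb) a⁻¹ (A.inv_mem ha)]; group⟩
  have hnB : ∀ (z : X), z ∈ A → z ∉ B → A ≤
      Subgroup.centralizer ((FB ⊓ Subgroup.centralizer ({z} : Set X) : Subgroup X) : Set X) := by
    intro z hz hzB
    by_contra h
    have hle : B ⊔ Subgroup.zpowers z ≤ A := sup_le hBA (Subgroup.zpowers_le.2 hz)
    have hlt : B < B ⊔ Subgroup.zpowers z := lt_of_le_of_ne le_sup_left fun he =>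
      hzB (he ▸ Subgroup.mem_sup_right (Subgroup.mem_zpowers z))
    have hsub : FB ⊓ Subgroup.centralizer ({z} : Set X) ≤
        F ⊓ Subgroup.centralizer ((B ⊔ Subgroup.zpowers z : Subgroup X) : Set X) := by
      intro f hf
      refine ⟨hf.1.1, ?_⟩
      have h1 : B ⊔ Subgroup.zpowers z ≤ Subgroup.centralizer ({f} : Set X) := by
        refine sup_le (fun b hb => Subgroup.mem_centralizer_singleton_iff.2
          (Subgroup.mem_centralizer_iff.1 hf.1.2 b hb)) (Subgroup.zpowers_le.2 ?_)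
        exact Subgroup.mem_centralizer_singleton_iff.2 (Subgroup.mem_centralizer_singleton_iff.1 hf.2).symm
      exact Subgroup.mem_centralizer_iff.2 fun w hw => Subgroup.mem_centralizer_singleton_iff.1 (h1 hw)
    have hlt' : Nat.card B < Nat.card ↥(B ⊔ Subgroup.zpowers z) := by
      by_contra hge
      exact hlt.ne (Subgroup.eq_of_le_of_card_ge le_sup_left (not_lt.1 hge))
    exact absurd (hBmax _ ⟨hle, fun h' => h (h'.trans (Subgroup.centralizer_le hsub))⟩) (not_le.2 hlt')
  obtain ⟨a, ha, hac⟩ := SetLike.not_le_iff_exists.1 hBn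
  have haB : a ∉ B := fun h => hac (Subgroup.mem_centralizer_iff.2 fun f hf =>
    (Subgroup.mem_centralizer_iff.1 hf.2 a h).symm)
  have hB2 : Nat.card A ≤ 2 * Nat.card B := by
    by_contra hbig
    obtain ⟨b, hb, hbB, habB⟩ : ∃ b ∈ A, b ∉ B ∧ a * b ∉ B := by
      by_contra hno
      push Not at hno
      refine hbig ?_
      have hle : A ≤ B ⊔ Subgroup.zpowers a := fun b hb => by
        by_cases hb1 : b ∈ B
        · exact Subgroup.mem_sup_left hb1
        · have h := Subgroup.mul_mem _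
            (Subgroup.mem_sup_right (Subgroup.mem_zpowers a) : a ∈ B ⊔ Subgroup.zpowers a)
            (Subgroup.mem_sup_left (hno b hb hb1))
          rwa [← mul_assoc, hA a ha, one_mul] at h
      refine (Subgroup.card_le_of_le hle).trans ?_
      rw [mul_comm]
      refine le_trans ?_ (Nat.mul_le_mul_left _ (show Nat.card (Subgroup.zpowers a) ≤ 2 from ?_))
      · rw [← Thompson.card_sup_mul_card_inf (H := B) (K := Subgroup.zpowers a) ?_]
        · exact Nat.le_mul_of_pos_right _ Nat.card_pos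
        · intro z hz
          exact Subgroup.centralizer_le_normalizer _ (Subgroup.mem_centralizer_iff.2 fun w hw =>
            hcomm w (hBA hw) z (Subgroup.zpowers_le.2 ha hz))
      · rw [Nat.card_zpowers]
        exact Nat.le_of_dvd two_pos (orderOf_dvd_of_pow_eq_one (by rw [pow_two]; exact hA a ha))
    set K := Subgroup.closure ({a, b} : Set X) with hK
    have hgen : ∀ z ∈ ({a, b} : Set X), z ∈ A := by
      rintro z (rfl | rfl)
      · exact ha
      · exact hb
    have hKA : K ≤ A := (Subgroup.closure_le A).2 hgen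
    have hai : a⁻¹ = a := inv_eq_of_mul_eq_one_right (hA a ha)
    have hbi : b⁻¹ = b := inv_eq_of_mul_eq_one_right (hA b hb)
    have hfour : ∀ z ∈ K, z = 1 ∨ z = a ∨ z = b ∨ z = a * b := by
      intro z hz
      induction hz using Subgroup.closure_induction with
      | mem z hz =>
        rcases hz with h | h
        · exact Or.inr (Or.inl h)
        · exact Or.inr (Or.inr (Or.inl h))
      | one => exact Or.inl rfl
      | mul x z _ _ hx hz =>
        have e1 : b * a = a * b := hcomm b hb a ha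
        have e2 : a * (a * b) = b := by rw [← mul_assoc, hA a ha, one_mul]
        have e3 : b * (a * b) = a := by rw [← mul_assoc, e1, mul_assoc, hA b hb, mul_one]
        have e4 : a * b * a = b := by rw [mul_assoc, e1, e2]
        have e5 : a * b * b = a := by rw [mul_assoc, hA b hb, mul_one]
        have e6 : a * b * (a * b) = 1 := hA _ (A.mul_mem ha hb)
        rcases hx with h | h | h | h <;> rcases hz with h' | h' | h' | h' <;> rw [h, h'] <;>
          simp [hA a ha, hA b hb, e1, e2, e3, e4, e5, e6]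
      | inv x _ hx =>
        rcases hx with h | h | h | h <;> rw [h]
        · exact Or.inl inv_one
        · exact Or.inr (Or.inl hai)
        · exact Or.inr (Or.inr (Or.inl hbi))
        · exact Or.inr (Or.inr (Or.inr (inv_eq_of_mul_eq_one_right (hA _ (A.mul_mem ha hb)))))
    haveI : IsMulCommutative ↥K :=
      ⟨⟨fun x y => Subtype.ext (hcomm x (hKA x.2) y (hKA y.2))⟩⟩
    have hab : a ≠ b := fun h => habB (by rw [h, hA b hb]; exact B.one_mem)
    have hKc : ¬ IsCyclic ↥K := by
      intro hcy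
      obtain ⟨g, hg⟩ := hcy.exists_generator
      have h2 : Nat.card ↥K ≤ 2 := by
        rw [← orderOf_eq_card_of_forall_mem_zpowers hg]
        exact Nat.le_of_dvd two_pos (orderOf_dvd_of_pow_eq_one (Subtype.ext (by
          rw [pow_two]; exact hA g (hKA g.2))))
      have haK : a ∈ K := Subgroup.subset_closure (Or.inl rfl)
      have hbK : b ∈ K := Subgroup.subset_closure (Or.inr rfl)
      haveI : Fintype ↥K := Fintype.ofFinite _
      have h3 : ({1, ⟨a, haK⟩, ⟨b, hbK⟩} : Finset ↥K).card = 3 := by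
        have n1 : (1 : ↥K) ≠ ⟨a, haK⟩ := fun h => haB ((show (1 : X) = a from congrArg Subtype.val h) ▸ B.one_mem)
        have n2 : (1 : ↥K) ≠ ⟨b, hbK⟩ := fun h => hbB ((show (1 : X) = b from congrArg Subtype.val h) ▸ B.one_mem)
        have n3 : (⟨a, haK⟩ : ↥K) ≠ ⟨b, hbK⟩ := fun h => hab (congrArg Subtype.val h)
        simp [n1, n2, n3]
      have h4 := Finset.card_le_univ ({1, ⟨a, haK⟩, ⟨b, hbK⟩} : Finset ↥K)
      rw [h3, ← Nat.card_eq_fintype_card] at h4
      omega
    have hcopK : (Nat.card ↥K).Coprime (Nat.card ↥FB) := by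
      obtain ⟨i, hi⟩ := IsPGroup.iff_card.1
        (show IsPGroup 2 ↥K from fun g => ⟨1, Subtype.ext (by rw [pow_one, pow_two]; exact hA g (hKA g.2))⟩)
      rw [hi]
      exact (Nat.coprime_two_left.2
        (hodd.of_dvd_nat (Subgroup.card_dvd_of_le inf_le_left))).pow_left i
    have hle := Coprime.le_of_centralizer_le K FB (Subgroup.centralizer (A : Set X)) hKc
      (fun z hz => Subgroup.mem_normalizer_iff.2 fun f => ⟨hFBn z (hKA hz) f, fun h => by
        have := hFBn z⁻¹ (A.inv_mem (hKA hz)) _ h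
        simpa [mul_assoc] using this⟩)
      hcopK (fun e he he1 => by
        have heB : e ∉ B := by
          rcases hfour e he with h | h | h | h <;> rw [h]
          · exact absurd h he1
          · exact haB
          · exact hbB
          · exact habB
        exact Subgroup.le_centralizer_iff.1 (hnB e (hKA he) heB))
    exact hBn (Subgroup.le_centralizer_iff.1 hle)
  obtain ⟨f, hf, hfa⟩ : ∃ f ∈ FB, a * f * a⁻¹ ≠ f := by
    by_contra h
    push Not at h
    exact hac (Subgroup.mem_centralizer_iff.2 fun f hf => (mul_inv_eq_iff_eq_mul.1 (h f hf)).symm)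
  set y0 := f * (a * f * a⁻¹)⁻¹ with hy0
  have hy0F : y0 ∈ FB := FB.mul_mem hf (FB.inv_mem (hFBn a ha f hf))
  have hy01 : y0 ≠ 1 := fun h => hfa (mul_inv_eq_one.1 h).symm
  have hy0i : a * y0 * a⁻¹ = y0⁻¹ := by
    rw [hy0]
    calc a * (f * (a * f * a⁻¹)⁻¹) * a⁻¹ = (a * f * a⁻¹) * ((a * a) * f * (a * a)⁻¹)⁻¹ := by group
      _ = _ := by rw [hA a ha]; group
  have hn1 : orderOf y0 ≠ 1 := fun h => hy01 (orderOf_eq_one_iff.1 h)
  set p := (orderOf y0).minFac with hp
  haveI hpp : Fact p.Prime := ⟨Nat.minFac_prime hn1⟩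
  set y := y0 ^ (orderOf y0 / p) with hy
  have hyo : orderOf y = p := orderOf_pow_orderOf_div (orderOf_pos y0).ne' (Nat.minFac_dvd _)
  have hyF : y ∈ FB := FB.pow_mem hy0F _
  have hyi : a * y * a⁻¹ = y⁻¹ := by rw [hy, ← conj_pow, hy0i, inv_pow]
  have hp2 : p ≠ 2 := fun h => by
    have h1 : orderOf y0 ∣ Nat.card F := Subgroup.orderOf_dvd_natCard F hy0F.1
    have := (Nat.minFac_dvd (orderOf y0)).trans h1
    rw [← hp, h] at this
    exact Nat.not_even_iff_odd.2 hodd (even_iff_two_dvd.2 this)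
  have hp3 : p ≠ 3 := fun h => by
    refine hS3 (QOff.involves_perm_three_of_pair (a := a) (x := y) ?_ (hyo.trans h) hyi)
    refine orderOf_eq_prime (by rw [pow_two]; exact hA a ha) fun h1 => ?_
    exact haB (h1 ▸ B.one_mem)
  refine ⟨a, ha, B, hBA, y, hyF.1, hyo ▸ hpp.out, ?_, hyi,
    fun b hb => Subgroup.mem_centralizer_iff.1 hyF.2 b hb, hB2⟩
  rw [hyo]
  have h4 : p ≠ 4 := fun h => by
    have := hpp.out
    rw [h] at this
    norm_num at this
  have := hpp.out.two_le
  omega

/-- An inverted element of odd order in a quotient by a 2-group is covered by one in the group. -/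
theorem lift_inverted {G : Type u} [Group G] [Finite G] (N : Subgroup G) [N.Normal]
    (hN : IsPGroup 2 N) {v : G} (hv : v * v = 1) {y : G ⧸ N} (hodd : Odd (orderOf y))
    (hy : QuotientGroup.mk' N v * y * (QuotientGroup.mk' N v)⁻¹ = y⁻¹) :
    ∃ y' : G, orderOf y' = orderOf y ∧ v * y' * v⁻¹ = y'⁻¹ ∧
      QuotientGroup.mk' N y' ∈ Subgroup.zpowers y := by
  haveI : Fact (Nat.Prime 2) := ⟨Nat.prime_two⟩
  obtain ⟨w, hw⟩ := QuotientGroup.mk'_surjective N y
  set n := orderOf y with hn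
  set z := v * w * v⁻¹ * w⁻¹ with hz
  have hzi : v * z * v⁻¹ = z⁻¹ := by
    rw [hz]
    calc v * (v * w * v⁻¹ * w⁻¹) * v⁻¹ = (v * v) * w * v⁻¹ * w⁻¹ * v⁻¹ := by group
      _ = w * v * w⁻¹ * v⁻¹ := by rw [hv, one_mul, inv_eq_of_mul_eq_one_right hv]
      _ = _ := by group
  have hzy : QuotientGroup.mk' N z = y⁻¹ * y⁻¹ := by
    rw [hz, map_mul, map_mul, map_mul, map_inv, map_inv, hw, hy]
  have hzo : orderOf (QuotientGroup.mk' N z) = n := by
    rw [hzy, ← pow_two, Nat.Coprime.orderOf_pow (by rw [orderOf_inv]; exact Nat.coprime_two_right.2 hodd),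
      orderOf_inv]
  have hzn : z ^ n ∈ N := by
    rw [← QuotientGroup.eq_one_iff]
    show QuotientGroup.mk' N (z ^ n) = 1
    rw [map_pow, ← hzo, pow_orderOf_eq_one]
  obtain ⟨i, hi⟩ := hN ⟨_, hzn⟩
  have hi' : (z ^ n) ^ 2 ^ i = 1 := congrArg Subtype.val hi
  have hy'n : (z ^ 2 ^ i) ^ n = 1 := by rw [← pow_mul, mul_comm, pow_mul]; exact hi'
  have himg : orderOf (QuotientGroup.mk' N (z ^ 2 ^ i)) = n := by
    rw [map_pow, Nat.Coprime.orderOf_pow (by rw [hzo]; exact (Nat.coprime_two_right.2 hodd).pow_right _), hzo]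
  refine ⟨z ^ 2 ^ i, ?_, by rw [← conj_pow, hzi, inv_pow], ?_⟩
  · refine Nat.dvd_antisymm (orderOf_dvd_of_pow_eq_one hy'n) ?_
    exact himg.symm ▸ orderOf_map_dvd _ _
  · rw [map_pow, hzy]
    exact Subgroup.pow_mem _ (Subgroup.mul_mem _ (Subgroup.inv_mem _ (Subgroup.mem_zpowers y))
      (Subgroup.inv_mem _ (Subgroup.mem_zpowers y))) _

/-- The orders of elements used to bound commutators from below. -/
def Big (n α : ℕ) : Prop :=
  (n.Prime ∧ 5 ≤ n ∧ α = 1) ∨
    ∃ ℓ e, ℓ.Prime ∧ ℓ ≠ 2 ∧ n = ℓ ^ (e + 1) ∧ ∀ k, 0 < k → ℓ ^ (e + 1) ∣ 2 ^ k - 1 → 4 * α ≤ k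

theorem Big.odd {n α : ℕ} (h : Big n α) : Odd n := by
  rcases h with ⟨hp, h5, -⟩ | ⟨ℓ, e, hℓ, hℓ2, rfl, -⟩
  · exact hp.odd_of_ne_two (by omega)
  · exact (hℓ.odd_of_ne_two hℓ2).pow

variable {V : Type u} [CommGroup V] [Finite V]

/-- The map `m ↦ η(m) m⁻¹`. -/
def dif (η : MulAut V) : V →* V :=
  MonoidHom.mk' (fun m => η m * m⁻¹) fun m k => by
    rw [map_mul, mul_inv]; exact mul_mul_mul_comm _ _ _ _

theorem dif_ker (η : MulAut V) : (dif η).ker = fx η := by
  ext m
  rw [MonoidHom.mem_ker, mem_fx]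
  exact mul_inv_eq_one

theorem eq_one_of_fix_range (h2 : ∀ v : V, v * v = 1) {η : MulAut V} (hη : Odd (orderOf η)) {t : V}
    (ht : t ∈ (dif η).range) (hfix : η t = t) : t = 1 := by
  obtain ⟨m, rfl⟩ := ht
  have hn : ∀ k : ℕ, (η ^ k) m = dif η m ^ k * m := by
    intro k
    induction k with
    | zero => simp
    | succ k ih =>
      rw [pow_succ', MulAut.mul_apply, ih, map_mul, map_pow, hfix, pow_succ, mul_assoc]
      congr 1
      show η m = η m * m⁻¹ * m
      rw [inv_mul_cancel_right]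
  have h3 := hn (orderOf η)
  rw [pow_orderOf_eq_one, MulAut.one_apply] at h3
  obtain ⟨j, hj⟩ := hη
  rw [hj, pow_succ, pow_mul, pow_two, h2, one_pow, one_mul] at h3
  exact mul_eq_right.1 h3.symm

/-- A large commutator. -/
theorem big_bound (h2 : ∀ v : V, v * v = 1) {n α : ℕ} (hB : Big n α) {η σ : MulAut V}
    (hσ : σ * σ = 1) (hinv : σ * η * σ⁻¹ = η⁻¹) (hn : orderOf η = n) :
    2 ^ (2 * α) ≤ Nat.card ↥((dif η).range.map (dif σ)) := by
  haveI := finite_aut (V := V)
  haveI : Fact (Nat.Prime 2) := ⟨Nat.prime_two⟩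
  set R := (dif η).range with hR
  set I := R.map (dif σ) with hI
  have hodd : Odd (orderOf η) := hn ▸ hB.odd
  have hRfx : Nat.card R * Nat.card (fx η) = Nat.card V := by
    rw [← dif_ker, QOff.card_map_mul_card_ker]
  -- `σ` preserves `R`
  have hσi : σ⁻¹ = σ := inv_eq_of_mul_eq_one_right hσ
  have hση : ∀ m, σ (η m) = η⁻¹ (σ m) := fun m => by
    rw [← hinv, hσi, MulAut.mul_apply, MulAut.mul_apply]
    congr 1
    congr 1
    rw [← MulAut.mul_apply, hσ, MulAut.one_apply]
  set K := R ⊓ fx σ with hK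
  have hKI : Nat.card K * Nat.card I = Nat.card R := by
    let f := (dif σ).comp R.subtype
    have hr : f.range = I := by rw [MonoidHom.range_comp, Subgroup.range_subtype]
    have hk : f.ker = (fx σ).subgroupOf R := by
      rw [← dif_ker]; ext x; rfl
    rw [← QOff.card_map_mul_card_ker f, hr, hk, ← Subgroup.inf_subgroupOf_right,
      Nat.card_congr (Subgroup.subgroupOfEquivOfLe
        (inf_le_right : fx σ ⊓ R ≤ R)).toEquiv, hK, inf_comm, mul_comm]
  have hηR : ∀ t ∈ R, η t ∈ R := by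
    rintro _ ⟨m, rfl⟩
    refine ⟨η m, ?_⟩
    show η (η m) * (η m)⁻¹ = η (η m * m⁻¹)
    rw [map_mul, map_inv]
  have hK2 : Nat.card K * Nat.card K ≤ Nat.card R := by
    rw [← Nat.card_prod]
    refine Nat.card_le_card_of_injective
      (fun p : ↥K × ↥K => (⟨(p.1 : V) * η p.2, R.mul_mem p.1.2.1 (hηR _ p.2.2.1)⟩ : ↥R)) ?_
    rintro ⟨a, b⟩ ⟨c, d⟩ h
    have h' : (a : V) * η b = c * η d := congrArg Subtype.val h
    have e1 : (c : V)⁻¹ * a = η ((d : V) * (b : V)⁻¹) := by
      rw [map_mul, map_inv, inv_mul_eq_iff_eq_mul, ← mul_assoc, ← h', mul_inv_cancel_right]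
    set t := (d : V) * (b : V)⁻¹ with ht
    have htK : t ∈ K := K.mul_mem d.2 (K.inv_mem b.2)
    have htK' : η t ∈ K := e1 ▸ K.mul_mem (K.inv_mem c.2) a.2
    have hfix : η t = t := by
      have h1 : η⁻¹ (σ t) = η t := by rw [← hση]; exact mem_fx.1 htK'.2
      rw [mem_fx.1 htK.2] at h1
      have h3 : (η ^ 2) t = t := by
        rw [pow_two, MulAut.mul_apply, ← h1]
        exact MulAut.apply_inv_self V η t
      obtain ⟨j, hj⟩ := hodd
      have h4 : ∀ i : ℕ, ((η ^ 2) ^ i) t = t := by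
        intro i
        induction i with
        | zero => simp
        | succ i ih => rw [pow_succ', MulAut.mul_apply, ih, h3]
      have h5 : (η ^ orderOf η) t = η t := by
        rw [hj, pow_succ', pow_mul, MulAut.mul_apply, h4]
      rw [pow_orderOf_eq_one, MulAut.one_apply] at h5
      exact h5.symm
    have ht1 : t = 1 := eq_one_of_fix_range h2 hodd htK.1 hfix
    have hbd : b = d := Subtype.ext (mul_inv_eq_one.1 ht1).symm
    refine Prod.ext (Subtype.ext ?_) hbd
    show (a : V) = c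
    rw [ht1, map_one, inv_mul_eq_one] at e1
    exact e1.symm
  have hKI' : Nat.card K ≤ Nat.card I :=
    Nat.le_of_mul_le_mul_left (hKI.symm ▸ hK2) Nat.card_pos
  have hRI : Nat.card R ≤ Nat.card I ^ 2 := by
    rw [← hKI, pow_two]; exact Nat.mul_le_mul_right _ hKI'
  rcases hB with ⟨hp, h5, rfl⟩ | ⟨ℓ, e, hℓ, hℓ2, rfl, hprim⟩
  · by_contra hlt
    obtain ⟨i, hi⟩ := IsPGroup.iff_card.1 ((isPGroup_two h2).to_subgroup I)
    rw [hi] at hlt hRI
    have hi1 : i ≤ 1 := by
      by_contra h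
      exact hlt (Nat.pow_le_pow_right two_pos (by omega))
    have hR4 : Nat.card R ≤ 4 :=
      hRI.trans ((Nat.pow_le_pow_left (Nat.pow_le_pow_right two_pos hi1) 2).trans le_rfl)
    haveI := Fact.mk hp
    have h1 : η = 1 := eq_one_of_prime h2 (p := n) (by omega) (by omega)
      (by rw [← hn]; exact pow_orderOf_eq_one η) (F := fx η) (fun v hv => mem_fx.1 hv)
      (hRfx ▸ Nat.mul_le_mul_right _ hR4)
    rw [h1, orderOf_one] at hn
    omega
  · have hkey := pow_mul_card_fx_le h2 hℓ hℓ2 hn (d := 4 * α) hprim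
    have hfx : fx η ≤ fx (η ^ ℓ ^ e) := fun m hm => mem_fx.2 (by
      have : η ∈ MulAction.stabilizer (MulAut V) m := mem_fx.1 hm
      exact (MulAction.stabilizer (MulAut V) m).pow_mem this _)
    have h4 : 2 ^ (4 * α) ≤ Nat.card R := by
      have h' : 2 ^ (4 * α) * Nat.card (fx η) ≤ Nat.card R * Nat.card (fx η) := by
        rw [hRfx]
        exact (Nat.mul_le_mul_left _ (Subgroup.card_le_of_le hfx)).trans hkey
      exact Nat.le_of_mul_le_mul_right h' Nat.card_pos
    refine (Nat.pow_le_pow_iff_left two_ne_zero).1 ?_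
    rw [← pow_mul, show 2 * α * 2 = 4 * α by ring]
    exact h4.trans hRI

end Cfsg.Agent.T51.EG
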