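import Cfsg.Agent.T51.EFacBasic
import Cfsg.Agent.T51.EOdd

/-!
The subgroup `T` and the elimination of an inverted element of large order: a subgroup with the
property of an E-group premise lies in `O₂`.
-/

set_option autoImplicit false
set_option linter.unusedVariables false
set_option linter.unusedSectionVars false
set_option linter.style.haveILetI false

namespace Cfsg.Agent.T51.EG

open Thompson Equiv
open Cfsg.Agent.T51.Bnd

universe u

variable {G : Type u} [Group G]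

/-- `Ĵ(S)`, `[O₂(G), O²(G)]` and the intersections of `S` with the conjugates of the members of
`𝒜(S)`. -/
def tT (S : Sylow 2 G) : Subgroup G :=
  jh (S : Subgroup G) ⊔ ⁅Cfsg.pCore 2 G, Cfsg.pResidual 2 G⁆ ⊔
    sSup {U : Subgroup G | ∃ A g, IsMaxEAIn 2 A (S : Subgroup G) ∧
      U = (S : Subgroup G) ⊓ A.map (MulAut.conj (g : G)).toMonoidHom}

theorem jh_le_tT (S : Sylow 2 G) : jh (S : Subgroup G) ≤ tT S := le_sup_left.trans le_sup_left

theorem comm_le_tT (S : Sylow 2 G) : ⁅Cfsg.pCore 2 G, Cfsg.pResidual 2 G⁆ ≤ tT S :=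
  le_sup_right.trans le_sup_left

theorem inter_le_tT (S : Sylow 2 G) {A : Subgroup G} (hA : IsMaxEAIn 2 A (S : Subgroup G)) (g : G) :
    (S : Subgroup G) ⊓ A.map (MulAut.conj g).toMonoidHom ≤ tT S :=
  by
    refine le_trans (le_sSup ?_) le_sup_right
    exact ⟨A, g, hA, rfl⟩

theorem mem_pResidual_of_odd {y : G} (hy : Odd (orderOf y)) : y ∈ Cfsg.pResidual 2 G :=
  Subgroup.subset_closure (Nat.coprime_two_right.2 hy)

variable [Finite G]

theorem tT_le (S : Sylow 2 G) : tT S ≤ (S : Subgroup G) := by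
  haveI : Fact (Nat.Prime 2) := ⟨Nat.prime_two⟩
  refine sup_le (sup_le (jh_le _) ?_) (sSup_le ?_)
  · exact (Subgroup.commutator_le_left _ _).trans (Thompson.pCore_le_sylow S)
  · rintro _ ⟨A, g, -, rfl⟩
    exact inf_le_left

/-- An odd element centralizing `[O₂, y]` is trivial. -/
theorem eq_one_of_centralizes_comm (hchar : Subgroup.centralizer (Cfsg.pCore 2 G : Set G) ≤ Cfsg.pCore 2 G)
    {y : G} (hy : Odd (orderOf y))
    (h : ∀ q ∈ Cfsg.pCore 2 G, Commute y (y * q * y⁻¹ * q⁻¹)) : y = 1 := by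
  haveI : Fact (Nat.Prime 2) := ⟨Nat.prime_two⟩
  set Q := Cfsg.pCore 2 G with hQ
  have hQ2 : IsPGroup 2 Q := Thompson.isPGroup_pCore
  have hyQ : y ∈ Q := by
    refine hchar (Subgroup.mem_centralizer_iff.2 fun q hq => ?_)
    set t := y * q * y⁻¹ * q⁻¹ with ht
    have htQ : t ∈ Q := Q.mul_mem ((inferInstance : Q.Normal).conj_mem q hq y) (Q.inv_mem hq)
    have hc : Commute y t := h q hq
    have hn : ∀ k : ℕ, y ^ k * q * (y ^ k)⁻¹ = t ^ k * q := by
      intro k
      induction k with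
      | zero => simp
      | succ k ih =>
        rw [pow_succ' y, _root_.mul_inv_rev,
          show y * y ^ k * q * ((y ^ k)⁻¹ * y⁻¹) = y * (y ^ k * q * (y ^ k)⁻¹) * y⁻¹ by group, ih,
          show y * (t ^ k * q) * y⁻¹ = (y * t ^ k * y⁻¹) * (y * q * y⁻¹) by group,
          (hc.pow_right k).eq, mul_inv_cancel_right, pow_succ,
          show y * q * y⁻¹ = t * q by rw [ht, inv_mul_cancel_right], ← mul_assoc]
    have h1 := hn (orderOf y)
    rw [pow_orderOf_eq_one, one_mul, inv_one, mul_one] at h1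
    have h2 : t ^ orderOf y = 1 := mul_eq_right.1 h1.symm
    obtain ⟨k, hk⟩ := hQ2 ⟨t, htQ⟩
    have h3 : t ^ 2 ^ k = 1 := congrArg Subtype.val hk
    have ht1 : t = 1 := orderOf_eq_one_iff.1 (Nat.Coprime.eq_one_of_dvd
      (Nat.Coprime.coprime_dvd_left (orderOf_dvd_of_pow_eq_one h3)
        ((Nat.coprime_two_left.2 hy).pow_left k)) (orderOf_dvd_of_pow_eq_one h2))
    rw [ht, mul_inv_eq_one, mul_inv_eq_iff_eq_mul] at ht1
    exact ht1.symm
  obtain ⟨k, hk⟩ := hQ2 ⟨y, hyQ⟩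
  have h3 : y ^ 2 ^ k = 1 := congrArg Subtype.val hk
  exact orderOf_eq_one_iff.1 (Nat.Coprime.eq_one_of_dvd
    (Nat.Coprime.coprime_dvd_left (orderOf_dvd_of_pow_eq_one h3)
      ((Nat.coprime_two_left.2 hy).pow_left k)) dvd_rfl)

/-- The elimination step. -/
theorem kill (hchar : Subgroup.centralizer (Cfsg.pCore 2 G : Set G) ≤ Cfsg.pCore 2 G) (S : Sylow 2 G)
    {V0 : Subgroup G} (hV : HypIn (tT S) V0) {v : G} (hv : v ∈ V0) {B : Subgroup G} (hB : B ≤ V0)
    {y : G} {n α : ℕ} (hn : orderOf y = n) (hbig : Big n α) (hinv : v * y * v⁻¹ = y⁻¹)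
    (hBy : ∀ b ∈ B, b * y * b⁻¹ * y⁻¹ ∈ Cfsg.pCore 2 G)
    (hidx : Nat.card V0 ≤ 2 ^ α * Nat.card B) : False := by
  classical
  haveI : Fact (Nat.Prime 2) := ⟨Nat.prime_two⟩
  set Q := Cfsg.pCore 2 G with hQ
  have hQ2 : IsPGroup 2 Q := Thompson.isPGroup_pCore
  have hQS : Q ≤ (S : Subgroup G) := Thompson.pCore_le_sylow S
  have hyodd : Odd (orderOf y) := hn ▸ hbig.odd
  have hv2 : v * v = 1 := by rw [← pow_two]; exact hV.elem.2 v hv
  obtain ⟨A, hA⟩ := exists_isMaxEAIn 2 (S : Subgroup G)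
  have hJT : Cfsg.thompsonSubgroupOf 2 (S : Subgroup G) ≤ tT S :=
    (thompson_le_jh _).trans (jh_le_tT S)
  have hVA : V0 ≤ A := le_max hA ((le_thompsonSubgroupOf hA).trans hJT) hV (hV.le.trans (tT_le S))
  have hVab : ∀ a ∈ V0, ∀ b ∈ V0, a * b = b * a := fun a ha b hb => elemAb_comm hV.elem.1 ha hb
  -- enlarge `B`
  set B' := B ⊔ V0 ⊓ Q with hB'
  have hB'V : B' ≤ V0 := sup_le hB inf_le_left
  have hB'y : ∀ b ∈ B', b * y * b⁻¹ * y⁻¹ ∈ Q := by
    have hc : B' ≤ (Subgroup.centralizer ({QuotientGroup.mk' Q y} : Set (G ⧸ Q))).comap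
        (QuotientGroup.mk' Q) := by
      refine sup_le (fun b hb => ?_) fun b hb => ?_
      · rw [Subgroup.mem_comap, Subgroup.mem_centralizer_singleton_iff, ← mul_inv_eq_iff_eq_mul,
          ← mul_inv_eq_one, ← map_mul, ← map_inv, ← map_mul, ← map_inv, ← map_mul]
        exact (QuotientGroup.eq_one_iff _).2 (hBy b hb)
      · rw [Subgroup.mem_comap, show QuotientGroup.mk' Q b = 1 from (QuotientGroup.eq_one_iff b).2 hb.2]
        exact one_mem _
    intro b hb
    have h1 := hc hb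
    rw [Subgroup.mem_comap, Subgroup.mem_centralizer_singleton_iff, ← mul_inv_eq_iff_eq_mul,
      ← mul_inv_eq_one, ← map_mul, ← map_inv, ← map_mul, ← map_inv, ← map_mul] at h1
    exact (QuotientGroup.eq_one_iff _).1 h1
  set R := B'.map (MulAut.conj y).toMonoidHom with hR
  have hBS : ∀ b ∈ B', y * b * y⁻¹ ∈ (S : Subgroup G) := by
    intro b hb
    have hbS : b ∈ (S : Subgroup G) := tT_le S (hV.le (hB'V hb))
    have hq : b⁻¹ * (y * b * y⁻¹) ∈ Q := by
      have h0 := hB'y b⁻¹ (B'.inv_mem hb)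
      rwa [inv_inv, show b⁻¹ * y * b * y⁻¹ = b⁻¹ * (y * b * y⁻¹) by group] at h0
    have := mul_mem hbS (hQS hq)
    rwa [mul_inv_cancel_left] at this
  have hRT : R ≤ tT S := by
    refine le_trans (le_inf ?_ (Subgroup.map_mono (hB'V.trans hVA))) (inter_le_tT S hA y)
    rintro _ ⟨b, hb, rfl⟩
    exact hBS b hb
  -- the module `Q/Φ(Q)`
  set Φ := (frattini ↥Q).map Q.subtype with hΦ
  haveI hΦn : Φ.Normal := ConjAct.normal_of_characteristic_of_normal
  set π := QuotientGroup.mk' Φ with hπ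
  set M := Q.map π with hM
  haveI hMn : M.Normal := (inferInstance : Q.Normal).map π (QuotientGroup.mk'_surjective Φ)
  have hMsq : ∀ m ∈ M, m * m = 1 := by
    rintro _ ⟨t, ht, rfl⟩
    rw [← map_mul]
    refine (QuotientGroup.eq_one_iff _).2 ⟨⟨t, ht⟩ * ⟨t, ht⟩, ?_, rfl⟩
    have := PGroup.pow_mem_frattini hQ2 ⟨t, ht⟩
    rwa [pow_two] at this
  letI : CommGroup ↥M := { (inferInstance : Group ↥M) with
    mul_comm := fun a b => Subtype.ext (by
      show (a : G ⧸ Φ) * b = b * a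
      rw [← inv_eq_of_mul_eq_one_right (hMsq _ (M.mul_mem a.2 b.2)), _root_.mul_inv_rev,
        inv_eq_of_mul_eq_one_right (hMsq _ a.2), inv_eq_of_mul_eq_one_right (hMsq _ b.2)]) }
  haveI := finite_aut (V := ↥M)
  have h2 : ∀ m : ↥M, m * m = 1 := fun m => Subtype.ext (hMsq m m.2)
  let θ : G →* MulAut ↥M := (actHom M).comp π
  have hθ : ∀ (g : G) (m : ↥M), ((θ g m : ↥M) : G ⧸ Φ) = π g * m * (π g)⁻¹ := fun g m => rfl
  have hfaith : ∀ z ∈ Subgroup.zpowers y, θ z = 1 → z = 1 := by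
    intro z hz hz1
    have hzodd : Odd (orderOf z) := Odd.of_dvd_nat hyodd (orderOf_dvd_of_mem_zpowers hz)
    have hle := Coprime.le_centralizer_of_frattini (Subgroup.zpowers z) Q
      (by rw [Subgroup.normalizer_eq_top_iff.2 inferInstance]; exact le_top)
      (by
        obtain ⟨j, hj⟩ := IsPGroup.iff_card.1 (hQ2.to_subgroup (frattini ↥Q))
        rw [Nat.card_zpowers, hj]
        exact (Nat.coprime_two_right.2 hzodd).pow_right j)
      (by
        intro a ha k hk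
        refine (QuotientGroup.eq_one_iff _).1 ?_
        show π (a * k * a⁻¹ * k⁻¹) = 1
        have hθa : θ a = 1 := by
          obtain ⟨i, rfl⟩ := Subgroup.mem_zpowers_iff.1 ha
          rw [map_zpow, hz1, one_zpow]
        have h1 := hθ a ⟨π k, ⟨k, hk, rfl⟩⟩
        rw [hθa, MulAut.one_apply] at h1
        rw [map_mul, map_mul, map_mul, map_inv, map_inv, ← h1, mul_inv_cancel])
    have hzQ : z ∈ Q := hchar (hle (Subgroup.mem_zpowers z))
    obtain ⟨k, hk⟩ := hQ2 ⟨z, hzQ⟩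
    have h3 : z ^ 2 ^ k = 1 := congrArg Subtype.val hk
    exact orderOf_eq_one_iff.1 (Nat.Coprime.eq_one_of_dvd
      (Nat.Coprime.coprime_dvd_left (orderOf_dvd_of_pow_eq_one h3)
        ((Nat.coprime_two_left.2 hzodd).pow_left k)) dvd_rfl)
  set η := θ y with hη
  set σ := θ v with hσ
  have hηn : orderOf η = n := by
    rw [← hn]
    refine Nat.dvd_antisymm (orderOf_map_dvd θ y) (orderOf_dvd_of_pow_eq_one ?_)
    exact hfaith _ (Subgroup.npow_mem_zpowers y _) (by rw [map_pow, pow_orderOf_eq_one])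
  have hσ2 : σ * σ = 1 := by rw [hσ, ← map_mul, hv2, map_one]
  have hσinv : σ * η * σ⁻¹ = η⁻¹ := by rw [hσ, hη, ← map_mul, ← map_inv, ← map_mul, hinv, map_inv]
  have hI := big_bound h2 hbig hσ2 hσinv hηn
  set I := (dif η).range.map (dif σ) with hIdef
  have hσI : ∀ i ∈ I, σ i = i := by
    rintro _ ⟨t, -, rfl⟩
    show σ (σ t * t⁻¹) = σ t * t⁻¹
    rw [map_mul, map_inv, ← MulAut.mul_apply, hσ2, MulAut.one_apply,
      show (σ t)⁻¹ = σ t from inv_eq_of_mul_eq_one_right (h2 _),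
      show t⁻¹ = t from inv_eq_of_mul_eq_one_right (h2 _), mul_comm]
  have hσR : ∀ t ∈ (dif η).range, σ t ∈ (dif η).range := by
    rintro _ ⟨m, rfl⟩
    refine ⟨η⁻¹ (σ m), ?_⟩
    have e : σ (η m) = η⁻¹ (σ m) := by
      rw [← hσinv, inv_eq_of_mul_eq_one_right hσ2, MulAut.mul_apply, MulAut.mul_apply,
        show σ (σ m) = m by rw [← MulAut.mul_apply, hσ2, MulAut.one_apply]]
    show η (η⁻¹ (σ m)) * (η⁻¹ (σ m))⁻¹ = σ (η m * m⁻¹)
    rw [MulAut.apply_inv_self, map_mul, map_inv, e,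
      show (η⁻¹ (σ m))⁻¹ = η⁻¹ (σ m) from inv_eq_of_mul_eq_one_right (h2 _),
      show (σ m)⁻¹ = σ m from inv_eq_of_mul_eq_one_right (h2 _), mul_comm]
  -- its lift inside `V0 ∩ Q`
  have hlift : ∀ i ∈ I, ∃ w ∈ V0 ⊓ Q, π w = (i : G ⧸ Φ) := by
    rintro _ ⟨_, ⟨m, rfl⟩, rfl⟩
    obtain ⟨q, hq, hqm⟩ := m.2
    set w := y * q * y⁻¹ * q⁻¹ with hw
    have hwQ : w ∈ Q := Q.mul_mem ((inferInstance : Q.Normal).conj_mem q hq y) (Q.inv_mem hq)
    have hwT : w ∈ tT S := comm_le_tT S (by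
      rw [Subgroup.commutator_comm, hw, ← commutatorElement_def]
      exact Subgroup.commutator_mem_commutator (mem_pResidual_of_odd hyodd) hq)
    refine ⟨v * w * v⁻¹ * w⁻¹, ⟨?_, ?_⟩, ?_⟩
    · rw [mul_assoc v, mul_assoc v]
      exact V0.mul_mem hv ((Subgroup.mem_normalizer_iff.1 (hV.norm hwT) _).1 (V0.inv_mem hv))
    · exact Q.mul_mem ((inferInstance : Q.Normal).conj_mem w hwQ v) (Q.inv_mem hwQ)
    · have e1 : π w = ((dif η m : ↥M) : G ⧸ Φ) := by
        show π w = ((η m * m⁻¹ : ↥M) : G ⧸ Φ)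
        rw [Subgroup.coe_mul, Subgroup.coe_inv, hη, hθ, hw, map_mul, map_mul, map_mul, map_inv,
          map_inv, hqm]
      show π (v * w * v⁻¹ * w⁻¹) = ((σ (dif η m) * (dif η m)⁻¹ : ↥M) : G ⧸ Φ)
      rw [Subgroup.coe_mul, Subgroup.coe_inv, hσ, hθ, map_mul, map_mul, map_mul, map_inv, map_inv, e1]
  -- the lower bound for `R`
  let R1 : Subgroup G := R ⊓ ((I.map η.toMonoidHom).map M.subtype).comap π
  set z := Nat.card ↥(R ⊓ Subgroup.centralizer (V0 : Set G)) with hz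
  have hlow : Nat.card I * z ≤ Nat.card R := by
    have hsurj : (I.map η.toMonoidHom).map M.subtype ≤ R1.map π := by
      rintro _ ⟨_, ⟨i, hi, rfl⟩, rfl⟩
      obtain ⟨w, hw, hwi⟩ := hlift i hi
      refine ⟨y * w * y⁻¹, ⟨⟨w, Subgroup.mem_sup_right hw, rfl⟩, ?_⟩, ?_⟩
      · refine ⟨η i, ⟨i, hi, rfl⟩, ?_⟩
        show ((η i : ↥M) : G ⧸ Φ) = π (y * w * y⁻¹)
        rw [hη, hθ, map_mul, map_mul, map_inv, hwi]
      · show π (y * w * y⁻¹) = ((η i : ↥M) : G ⧸ Φ)
        rw [hη, hθ, map_mul, map_mul, map_inv, hwi]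
    have hcardI : Nat.card ↥((I.map η.toMonoidHom).map M.subtype) = Nat.card I := by
      rw [Subgroup.card_map_of_injective M.subtype_injective, Subgroup.card_map_of_injective η.injective]
    have hker : R1 ⊓ Subgroup.centralizer (V0 : Set G) ≤ R1 ⊓ π.ker := by
      rintro t ⟨ht, htc⟩
      refine ⟨ht, ?_⟩
      obtain ⟨_, ⟨i, hi, rfl⟩, hti⟩ := ht.2
      have hti' : ((η i : ↥M) : G ⧸ Φ) = π t := hti
      have hfix : σ (η i) = η i := Subtype.ext (by
        rw [hσ, hθ, hti', ← map_inv, ← map_mul, ← map_mul, Subgroup.mem_centralizer_iff.1 htc v hv,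
          mul_inv_cancel_right])
      have e : σ (η i) = η⁻¹ (σ i) := by
        rw [← hσinv, inv_eq_of_mul_eq_one_right hσ2, MulAut.mul_apply, MulAut.mul_apply,
          show σ (σ i) = i by rw [← MulAut.mul_apply, hσ2, MulAut.one_apply]]
      rw [e, hσI i hi] at hfix
      have hirange : i ∈ (dif η).range := by
        obtain ⟨t', ht', rfl⟩ := hi
        exact mul_mem (hσR t' ht') (inv_mem ht')
      have hi1 : i = 1 := by
        have hodd : Odd (orderOf η) := hηn ▸ hbig.odd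
        refine eq_one_of_fix_range h2 hodd hirange ?_
        have h3 : (η ^ 2) i = i := by
          rw [pow_two, MulAut.mul_apply, ← hfix]
          exact MulAut.apply_inv_self _ η i
        obtain ⟨j, hj⟩ := hodd
        have h4 : ∀ k : ℕ, ((η ^ 2) ^ k) i = i := by
          intro k
          induction k with
          | zero => simp
          | succ k ih => rw [pow_succ', MulAut.mul_apply, ih, h3]
        have h5 : (η ^ orderOf η) i = η i := by
          rw [hj, pow_succ', pow_mul, MulAut.mul_apply, h4]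
        rw [pow_orderOf_eq_one, MulAut.one_apply] at h5
        exact h5.symm
      show π t = 1
      rw [← hti', hi1, map_one, Subgroup.coe_one]
    have hR1 : Nat.card I * Nat.card ↥(R1 ⊓ π.ker) ≤ Nat.card R1 := by
      let f : ↥R1 →* G ⧸ Φ := π.comp R1.subtype
      have hk : f.ker = π.ker.subgroupOf R1 := rfl
      rw [← QOff.card_map_mul_card_ker f, hk, MonoidHom.range_comp, Subgroup.range_subtype,
        ← Subgroup.inf_subgroupOf_right, Nat.card_congr (Subgroup.subgroupOfEquivOfLe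
          (inf_le_right : π.ker ⊓ R1 ≤ R1)).toEquiv, inf_comm π.ker R1]
      exact Nat.mul_le_mul_right _ (hcardI ▸ Subgroup.card_le_of_le hsurj)
    have hnorm : R ⊓ Subgroup.centralizer (V0 : Set G) ≤ Subgroup.normalizer (R1 : Set G) := by
      refine inf_le_left.trans (le_trans ?_ (Subgroup.centralizer_le_normalizer _))
      rintro _ ⟨b, hb, rfl⟩
      refine Subgroup.mem_centralizer_iff.2 fun t ht => ?_
      obtain ⟨c, hc, rfl⟩ := ht.1
      rw [← map_mul, ← map_mul, hVab c (hB'V hc) b (hB'V hb)]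
    have e := Thompson.card_sup_mul_card_inf (H := R1) (K := R ⊓ Subgroup.centralizer (V0 : Set G)) hnorm
    have e2 : R1 ⊓ (R ⊓ Subgroup.centralizer (V0 : Set G)) = R1 ⊓ Subgroup.centralizer (V0 : Set G) := by
      rw [← inf_assoc, inf_eq_left.2 (inf_le_left : R1 ≤ R)]
    rw [e2] at e
    refine Nat.le_of_mul_le_mul_right ?_ (Nat.card_pos (α := ↥(R1 ⊓ π.ker)))
    calc Nat.card I * z * Nat.card ↥(R1 ⊓ π.ker) = Nat.card I * Nat.card ↥(R1 ⊓ π.ker) * z := by ring
      _ ≤ Nat.card R1 * z := Nat.mul_le_mul_right _ hR1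
      _ = _ := e.symm
      _ ≤ Nat.card R * Nat.card ↥(R1 ⊓ π.ker) :=
          Nat.mul_le_mul (Subgroup.card_le_of_le (sup_le inf_le_left inf_le_left))
            (Subgroup.card_le_of_le hker)
  -- the upper bound
  have hw : z ≤ Nat.card ↥(V0 ⊓ Subgroup.centralizer (R : Set G)) := by
    have hle : (R ⊓ Subgroup.centralizer (V0 : Set G)).map (MulAut.conj y⁻¹).toMonoidHom ≤
        V0 ⊓ Subgroup.centralizer (R : Set G) := by
      rintro _ ⟨_, ⟨⟨b, hb, rfl⟩, htc⟩, rfl⟩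
      show y⁻¹ * (y * b * y⁻¹) * y⁻¹⁻¹ ∈ _
      rw [show y⁻¹ * (y * b * y⁻¹) * y⁻¹⁻¹ = b by group]
      refine ⟨hB'V hb, Subgroup.mem_centralizer_iff.2 ?_⟩
      rintro _ ⟨c, hc, rfl⟩
      -- `b` commutes with `y⁻¹ c y`, hence, conjugating by `v`, with `y c y⁻¹`
      have h1 : c * (y * b * y⁻¹) = (y * b * y⁻¹) * c :=
        Subgroup.mem_centralizer_iff.1 htc c (hB'V hc)
      have h3 : Commute b (y⁻¹ * c * y) := by
        have := (show Commute c (y * b * y⁻¹) from h1).map (MulAut.conj y⁻¹).toMonoidHom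
        simpa [mul_assoc] using this.symm
      have hfix : ∀ b' ∈ B', v * b' * v⁻¹ = b' := fun b' hb' => by
        rw [hVab v hv b' (hB'V hb'), mul_inv_cancel_right]
      have hvyi : v * y⁻¹ * v⁻¹ = y := by rw [← conj_inv, hinv, inv_inv]
      have h4 := h3.map (MulAut.conj v).toMonoidHom
      have e1 : (MulAut.conj v).toMonoidHom b = b := hfix b hb
      have e2 : (MulAut.conj v).toMonoidHom (y⁻¹ * c * y) = y * c * y⁻¹ := by
        show v * (y⁻¹ * c * y) * v⁻¹ = _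
        calc v * (y⁻¹ * c * y) * v⁻¹ = (v * y⁻¹ * v⁻¹) * (v * c * v⁻¹) * (v * y * v⁻¹) := by group
          _ = _ := by rw [hvyi, hinv, hfix c hc]
      rw [e1, e2] at h4
      exact h4.symm
    rw [hz, ← Subgroup.card_map_of_injective
      (f := (MulAut.conj y⁻¹).toMonoidHom) (MulAut.conj y⁻¹).injective]
    exact Subgroup.card_le_of_le hle
  have hRcard : Nat.card R = Nat.card B' := Subgroup.card_map_of_injective (MulAut.conj y).injective
  have hup : Nat.card V0 ≤ 2 ^ α * Nat.card R :=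
    hidx.trans (Nat.mul_le_mul_left _ (hRcard ▸ Subgroup.card_le_of_le le_sup_left))
  have hz0 : 0 < z := Nat.card_pos
  have hRn : ¬ R ≤ Subgroup.centralizer (V0 : Set G) := by
    intro h
    rw [hz, inf_eq_left.2 h] at hlow
    have hI1 : Nat.card I ≤ 1 := Nat.le_of_mul_le_mul_right (by rw [one_mul]; exact hlow) Nat.card_pos
    have hα : 1 ≤ α ∨ α = 0 := by omega
    rcases hα with hα | rfl
    · have : 2 ^ 2 ≤ 2 ^ (2 * α) := Nat.pow_le_pow_right two_pos (by omega)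
      omega
    · -- no element is moved
      have hsub : ¬ V0 ≤ B' := by
        intro hle
        have hvB : v ∈ B' := hle hv
        have h0 := hB'y v hvB
        rw [hinv] at h0
        have hy2Q : y ^ 2 ∈ Q := by
          have := Q.inv_mem h0
          rwa [_root_.mul_inv_rev, inv_inv, ← pow_two] at this
        obtain ⟨k, hk⟩ := hQ2 ⟨y ^ 2, hy2Q⟩
        have h3 : (y ^ 2) ^ 2 ^ k = 1 := congrArg Subtype.val hk
        have h4 : orderOf y ∣ 2 * 2 ^ k := orderOf_dvd_of_pow_eq_one (by rw [pow_mul]; exact h3)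
        rw [← pow_succ'] at h4
        have := Nat.Coprime.eq_one_of_dvd ((Nat.coprime_two_right.2 hyodd).pow_right _) h4
        rcases hbig with ⟨hp, h5, h⟩ | ⟨ℓ, e, hℓ, -, hne, -⟩
        · omega
        · rw [hn, hne] at this
          exact absurd this (Nat.one_lt_pow (Nat.succ_ne_zero e) hℓ.one_lt).ne'
      rw [pow_zero, one_mul] at hidx
      exact hsub ((Subgroup.eq_of_le_of_card_ge hB hidx).ge.trans le_sup_left)
  have hRA : ∀ r ∈ R, ∀ s ∈ R, r * s = s * r := by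
    rintro _ ⟨a, ha, rfl⟩ _ ⟨b, hb, rfl⟩
    rw [← map_mul, ← map_mul, hVab a (hB'V ha) b (hB'V hb)]
  obtain ⟨hineq, -⟩ := hV.ineq R hRT
    (by
      rw [Subgroup.commutator_eq_bot_iff_le_centralizer.2
        (fun r hr => Subgroup.mem_centralizer_iff.2 fun s hs => hRA s hs r hr)]
      exact bot_le)
    (fun r hr => by
      obtain ⟨b, hb, rfl⟩ := hr
      rw [← map_pow, hV.elem.2 b (hB'V hb), map_one]
      exact one_mem _) hRn
  set V := Nat.card V0
  set r := Nat.card R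
  set w := Nat.card ↥(V0 ⊓ Subgroup.centralizer (R : Set G))
  have hr : 0 < r := Nat.card_pos
  have hw0 : 0 < w := Nat.card_pos
  have e4 : (2 ^ α) ^ 2 ≤ Nat.card I := by rw [← pow_mul, mul_comm]; exact hI
  have h1 : V * z ≤ 2 ^ α * r * w := Nat.mul_le_mul hup hw
  have h2' : r ^ 3 * w ^ 2 < r ^ 3 * w ^ 2 :=
    calc r ^ 3 * w ^ 2 < V ^ 2 * z ^ 3 := hineq
      _ = (V * z) ^ 2 * z := by ring
      _ ≤ (2 ^ α * r * w) ^ 2 * z := Nat.mul_le_mul_right _ (Nat.pow_le_pow_left h1 2)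
      _ = ((2 ^ α) ^ 2 * z) * (r ^ 2 * w ^ 2) := by ring
      _ ≤ (Nat.card I * z) * (r ^ 2 * w ^ 2) := Nat.mul_le_mul_right _ (Nat.mul_le_mul_right _ e4)
      _ ≤ r * (r ^ 2 * w ^ 2) := Nat.mul_le_mul_right _ hlow
      _ = r ^ 3 * w ^ 2 := by ring
  exact lt_irrefl _ h2'

end Cfsg.Agent.T51.EG
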