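import Cfsg.Agent.T51.EKill
import Cfsg.Agent.Lib.PGroup.Basic

/-!
Noncentral sections of a normal elementary abelian 2-subgroup, for a group in which the top
`P/P₀` has kernel `O₂`: the bound `|A : A ∩ O₂|² ≤ |N : C_N(A)|`.
-/

set_option autoImplicit false
set_option linter.unusedVariables false
set_option linter.unusedSectionVars false
set_option linter.style.haveILetI false

namespace Cfsg.Agent.T51.EG

open Thompson Equiv
open Cfsg.Agent.T51.Bnd
open scoped commutatorElement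

universe u

variable {G : Type u} [Group G] [Finite G]

/-- The reduced configuration: a normal subgroup `P₀` containing every normal subgroup of
`O₂(G) O²(G)` not containing `O²(G)`, with `O₂(G)` as the kernel of `S` on the top. -/
structure Red (S : Sylow 2 G) (P0 : Subgroup G) : Prop where
  normal : P0.Normal
  le : Cfsg.pCore 2 G ≤ P0
  leP : P0 ≤ Cfsg.pCore 2 G ⊔ Cfsg.pResidual 2 G
  top : ¬ Cfsg.pResidual 2 G ≤ P0
  max : ∀ N : Subgroup G, N.Normal → N ≤ Cfsg.pCore 2 G ⊔ Cfsg.pResidual 2 G →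
    ¬ Cfsg.pResidual 2 G ≤ N → N ≤ P0
  ker : ∀ s ∈ (S : Subgroup G), (∀ x ∈ Cfsg.pResidual 2 G, s * x * s⁻¹ * x⁻¹ ∈ P0) →
    s ∈ Cfsg.pCore 2 G

theorem pResidual_normal : (Cfsg.pResidual 2 G).Normal := by
  refine ⟨fun z hz g => ?_⟩
  have h : (Cfsg.pResidual 2 G).map (MulAut.conj g).toMonoidHom ≤ Cfsg.pResidual 2 G := by
    rw [Cfsg.pResidual, MonoidHom.map_closure]
    refine Subgroup.closure_mono ?_
    rintro _ ⟨x, hx, rfl⟩
    show (orderOf (MulAut.conj g x)).Coprime 2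
    rwa [MulEquiv.orderOf_eq]
  exact h ⟨z, hz, rfl⟩

theorem eq_pResidual_le {N : Subgroup G} (h : ∀ x : G, Odd (orderOf x) → x ∈ N) :
    Cfsg.pResidual 2 G ≤ N :=
  (Subgroup.closure_le N).2 fun x hx => h x (Nat.coprime_two_right.1 hx)

/-- A normal subgroup not containing `O²(G)` meets `S` in `O₂(G)`. -/
theorem Red.inf_le {S : Sylow 2 G} {P0 : Subgroup G} (hR : Red S P0) {K : Subgroup G}
    (hK : K.Normal) (hnot : ¬ Cfsg.pResidual 2 G ≤ K) :
    (S : Subgroup G) ⊓ K ≤ Cfsg.pCore 2 G := by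
  haveI := hK
  haveI : (Cfsg.pResidual 2 G).Normal := pResidual_normal
  set P := Cfsg.pCore 2 G ⊔ Cfsg.pResidual 2 G with hP
  have hle : K ⊓ P ≤ P0 := hR.max _ inferInstance inf_le_right fun h => hnot (h.trans inf_le_left)
  rintro s ⟨hs, hsK⟩
  refine hR.ker s hs fun x hx => hle ⟨?_, Subgroup.mem_sup_right ?_⟩
  · rw [mul_assoc s, mul_assoc s]
    exact K.mul_mem hsK (hK.conj_mem _ (K.inv_mem hsK) x)
  · exact mul_mem ((inferInstance : (Cfsg.pResidual 2 G).Normal).conj_mem x hx s)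
      (inv_mem hx)

/-- A normal 2-subgroup modulo the kernel fixes a minimal normal elementary abelian subgroup. -/
theorem centralizes_minimal (S : Sylow 2 G) (V : Subgroup G) [V.Normal]
    (hV : Cfsg.IsElementaryAbelian 2 V) (hne : V ≠ ⊥)
    (hmin : ∀ N : Subgroup G, N.Normal → N ≤ V → N = ⊥ ∨ N = V) {L : Subgroup G} [L.Normal]
    (hCL : Subgroup.centralizer (V : Set G) ≤ L) {k : ℕ}
    (hk : (Subgroup.centralizer (V : Set G)).relIndex L = 2 ^ k) :
    L ≤ Subgroup.centralizer (V : Set G) := by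
  haveI : Fact (Nat.Prime 2) := ⟨Nat.prime_two⟩
  have h1 := le_sup_sylow hCL hk S
  set T := (S : Subgroup G) ⊓ L with hT
  have hV2 : IsPGroup 2 V := fun v => ⟨1, Subtype.ext (by rw [pow_one]; exact hV.2 v v.2)⟩
  have hVS : V ≤ (S : Subgroup G) := hV2.le_sylow_of_normal S
  set W := T ⊔ V with hW
  have hW2 : IsPGroup 2 W := S.2.to_le (sup_le inf_le_left hVS)
  haveI : (V.subgroupOf W).Normal := inferInstance
  have hne' : V.subgroupOf W ≠ ⊥ := fun h => hne (by
    rw [← Subgroup.map_subgroupOf_eq_of_le (le_sup_right : V ≤ W), h, Subgroup.map_bot])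
  obtain ⟨z, hz, hz1⟩ := Subgroup.ne_bot_iff_exists_ne_one.1 (PGroup.inf_center_ne_bot hW2 hne') |>
    fun ⟨z, hz⟩ => (⟨(z : ↥W), z.2, fun h => hz (Subtype.ext h)⟩ : ∃ z : ↥W, z ∈ V.subgroupOf W ⊓
      Subgroup.center ↥W ∧ z ≠ 1)
  set F := V ⊓ Subgroup.centralizer (L : Set G) with hF
  have hzF : (z : G) ∈ F := by
    refine ⟨hz.1, ?_⟩
    have hle : L ≤ Subgroup.centralizer ({(z : G)} : Set G) := h1.trans (sup_le
      (fun c hc => Subgroup.mem_centralizer_singleton_iff.2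
        (Subgroup.mem_centralizer_iff.1 hc z hz.1).symm)
      (fun t ht => Subgroup.mem_centralizer_singleton_iff.2
        (congrArg Subtype.val (Subgroup.mem_center_iff.1 hz.2 ⟨t, Subgroup.mem_sup_left ht⟩))))
    exact Subgroup.mem_centralizer_iff.2 fun l hl => Subgroup.mem_centralizer_singleton_iff.1 (hle hl)
  rcases hmin F inferInstance inf_le_left with h | h
  · exact absurd (Subtype.ext (Subgroup.mem_bot.1 (h ▸ hzF))) hz1
  · exact Subgroup.le_centralizer_iff.1 (inf_eq_left.1 h)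

theorem map_elem {G' : Type u} [Group G'] (f : G →* G') {N : Subgroup G}
    (h : Cfsg.IsElementaryAbelian 2 N) : Cfsg.IsElementaryAbelian 2 (N.map f) :=
  isElementaryAbelian_map f h

theorem card_map_mk (M N : Subgroup G) [M.Normal] (hMN : M ≤ N) :
    Nat.card ↥(N.map (QuotientGroup.mk' M)) * Nat.card M = Nat.card N := by
  let q : ↥N →* G ⧸ M := (QuotientGroup.mk' M).comp N.subtype
  have hk : q.ker = M.subgroupOf N := by
    ext x
    rw [MonoidHom.mem_ker, Subgroup.mem_subgroupOf]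
    exact QuotientGroup.eq_one_iff (N := M) (x : G)
  rw [← QOff.card_map_mul_card_ker q, hk, MonoidHom.range_comp, Subgroup.range_subtype,
    Nat.card_congr (Subgroup.subgroupOfEquivOfLe hMN).toEquiv]

variable (hchar : Subgroup.centralizer (Cfsg.pCore 2 G : Set G) ≤ Cfsg.pCore 2 G)
  (hfree : ¬ Cfsg.Involves (Perm (Fin 4)) G) (hc : CompK G) {S : Sylow 2 G} {P0 : Subgroup G}
  (hR : Red S P0) {A : Subgroup G} (hA : IsMaxEAIn 2 A (S : Subgroup G))

include hchar hfree hc hR hA in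
/-- The bound on a noncentral chief section. -/
theorem sect (N M : Subgroup G) [hN : N.Normal] [hM : M.Normal]
    (hNe : Cfsg.IsElementaryAbelian 2 N) (hMN : M ≤ N) (hne : N ≠ M)
    (hmax : ∀ K : Subgroup G, K.Normal → M ≤ K → K ≤ N → K = M ∨ K = N)
    (hnc : ¬ ⁅N, Cfsg.pResidual 2 G⁆ ≤ M) :
    Nat.card A ^ 2 * Nat.card ↥(N ⊓ Subgroup.centralizer (A : Set G)) * Nat.card M ≤
      Nat.card N * Nat.card ↥(A ⊓ Cfsg.pCore 2 G) ^ 2 *
        Nat.card ↥(M ⊓ Subgroup.centralizer (A : Set G)) := by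
  classical
  haveI : Fact (Nat.Prime 2) := ⟨Nat.prime_two⟩
  set Q := Cfsg.pCore 2 G with hQ
  set π := QuotientGroup.mk' M with hπ
  have hπs : Function.Surjective π := QuotientGroup.mk'_surjective M
  set V := N.map π with hV
  haveI hVn : V.Normal := hN.map π hπs
  have hVe : Cfsg.IsElementaryAbelian 2 V := map_elem π hNe
  have hVne : V ≠ ⊥ := fun h => hne (le_antisymm
    (by rw [hV, Subgroup.map_eq_bot_iff, hπ, QuotientGroup.ker_mk'] at h; exact h) hMN)
  have hVmin : ∀ K : Subgroup (G ⧸ M), K.Normal → K ≤ V → K = ⊥ ∨ K = V := by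
    intro K hK hKV
    haveI := hK
    have h1 : M ≤ K.comap π := fun m hm => by
      rw [Subgroup.mem_comap, show π m = 1 from (QuotientGroup.eq_one_iff m).2 hm]
      exact one_mem _
    have h2 : K.comap π ≤ N := by
      refine (Subgroup.comap_mono hKV).trans ?_
      rw [hV, Subgroup.comap_map_eq, hπ, QuotientGroup.ker_mk']
      exact sup_le le_rfl hMN
    rcases hmax _ inferInstance h1 h2 with h | h
    · left
      rw [← Subgroup.map_comap_eq_self_of_surjective hπs K, h, Subgroup.map_eq_bot_iff, hπ,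
        QuotientGroup.ker_mk']
    · right
      rw [← Subgroup.map_comap_eq_self_of_surjective hπs K, h]
  set C := Subgroup.centralizer (V : Set (G ⧸ M)) with hC
  set S' := S.mapSurjective hπs with hS'
  have hQC : Q.map π ≤ C := by
    haveI : (Q.map π).Normal := (inferInstance : Q.Normal).map π hπs
    refine le_trans (le_sup_right : Q.map π ≤ C ⊔ Q.map π) ?_
    obtain ⟨k, hk⟩ := IsPGroup.iff_card.1 ((Thompson.isPGroup_pCore (p := 2) (G := G)).map π)
    have hdvd : C.relIndex (C ⊔ Q.map π) ∣ 2 ^ k := by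
      rw [sup_comm, Subgroup.relIndex_sup_right, ← hk]
      exact Subgroup.relIndex_dvd_card _ _
    obtain ⟨j, -, hj⟩ := (Nat.dvd_prime_pow Nat.prime_two).1 hdvd
    exact centralizes_minimal S' V hVe hVne hVmin le_sup_left hj
  have hO : Cfsg.pCore 2 ((G ⧸ M) ⧸ C) = ⊥ := by
    set L := (Cfsg.pCore 2 ((G ⧸ M) ⧸ C)).comap (QuotientGroup.mk' C) with hL
    have hCL : C ≤ L := fun c hc => by
      show QuotientGroup.mk' C c ∈ Cfsg.pCore 2 ((G ⧸ M) ⧸ C)
      rw [show QuotientGroup.mk' C c = 1 from (QuotientGroup.eq_one_iff c).2 hc]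
      exact one_mem _
    obtain ⟨k, hk⟩ := IsPGroup.iff_card.1 (Thompson.isPGroup_pCore (p := 2) (G := (G ⧸ M) ⧸ C))
    have hr : C.relIndex L = 2 ^ k := by
      have := Subgroup.relIndex_comap (⊥ : Subgroup ((G ⧸ M) ⧸ C)) (QuotientGroup.mk' C) L
      rw [MonoidHom.comap_bot, QuotientGroup.ker_mk', Subgroup.relIndex_bot_left,
        Subgroup.map_comap_eq_self_of_surjective (QuotientGroup.mk'_surjective C)] at this
      rw [this, hk]
    have hLC : L ≤ C := centralizes_minimal S' V hVe hVne hVmin hCL hr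
    rw [← Subgroup.map_comap_eq_self_of_surjective (QuotientGroup.mk'_surjective C)
      (Cfsg.pCore 2 ((G ⧸ M) ⧸ C)), ← hL, Subgroup.map_eq_bot_iff, QuotientGroup.ker_mk']
    exact hLC
  let f : G ⧸ Q →* (G ⧸ M) ⧸ C := QuotientGroup.lift Q ((QuotientGroup.mk' C).comp π)
    fun q hq => (QuotientGroup.eq_one_iff _).2 (hQC ⟨q, hq, rfl⟩)
  have hfs : Function.Surjective f := by
    intro y
    obtain ⟨x, rfl⟩ := QuotientGroup.mk'_surjective C y
    obtain ⟨g, rfl⟩ := hπs x
    exact ⟨QuotientGroup.mk' Q g, rfl⟩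
  have hS3 : ¬ Cfsg.Involves (Perm (Fin 3)) ((G ⧸ M) ⧸ C) := fun h =>
    not_involves_three hchar hfree (LocalEven61.involves_trans h
      (LocalEven61.involves_of_hom f hfs (MonoidHom.id _) Function.injective_id))
  set K := C.comap π with hK
  have hKnot : ¬ Cfsg.pResidual 2 G ≤ K := by
    intro h
    refine hnc (Subgroup.commutator_le.2 fun n hn p hp => (QuotientGroup.eq_one_iff _).1 ?_)
    show π ⁅n, p⁆ = 1
    rw [map_commutatorElement, commutatorElement_eq_one_iff_mul_comm]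
    exact Subgroup.mem_centralizer_iff.1 (h hp) _ ⟨n, hn, rfl⟩
  have hAK : A ⊓ K ≤ A ⊓ Q :=
    le_inf inf_le_left ((inf_le_inf_right _ hA.1).trans (hR.inf_le inferInstance hKnot))
  set R := A.map π with hR'
  obtain ⟨hb, -⟩ := bound_normal V hVe hO hS3 (composition_surjective π hπs hc) R (by
    rintro _ ⟨a, ha, rfl⟩
    rw [← map_pow, hA.2.1.2 a ha, map_one]
    exact one_mem _)
  -- transfer of the orders
  set CN := N ⊓ Subgroup.centralizer (A : Set G) with hCN
  have hCNV : Nat.card ↥(CN.map π) ≤ Nat.card ↥(V ⊓ Subgroup.centralizer (R : Set (G ⧸ M))) := by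
    refine Subgroup.card_le_of_le (le_inf (Subgroup.map_mono inf_le_left) ?_)
    rintro _ ⟨x, hx, rfl⟩
    refine Subgroup.mem_centralizer_iff.2 ?_
    rintro _ ⟨a, ha, rfl⟩
    rw [← map_mul, ← map_mul, Subgroup.mem_centralizer_iff.1 hx.2 a ha]
  have hCNcard : Nat.card ↥(CN.map π) * Nat.card ↥(M ⊓ Subgroup.centralizer (A : Set G)) =
      Nat.card CN := by
    let q : ↥CN →* G ⧸ M := π.comp CN.subtype
    have hk : q.ker = M.subgroupOf CN := by
      ext x
      rw [MonoidHom.mem_ker, Subgroup.mem_subgroupOf]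
      exact QuotientGroup.eq_one_iff (N := M) (x : G)
    have e : M ⊓ CN = M ⊓ Subgroup.centralizer (A : Set G) := by
      rw [hCN, ← inf_assoc, inf_eq_left.2 hMN]
    rw [← QOff.card_map_mul_card_ker q, hk, MonoidHom.range_comp, Subgroup.range_subtype,
      ← Subgroup.inf_subgroupOf_right, Nat.card_congr (Subgroup.subgroupOfEquivOfLe
        (inf_le_right : M ⊓ CN ≤ CN)).toEquiv, e]
  have hRcard : Nat.card A * Nat.card ↥(R ⊓ C) = Nat.card R * Nat.card ↥(A ⊓ K) := by
    let q : ↥A →* G ⧸ M := π.comp A.subtype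
    have e1 := QOff.card_map_mul_card_ker q
    let q' : ↥(A ⊓ K) →* G ⧸ M := π.comp (A ⊓ K).subtype
    have e2 := QOff.card_map_mul_card_ker q'
    have h1 : q.range = R := by rw [MonoidHom.range_comp, Subgroup.range_subtype]
    have h2 : q'.range = R ⊓ C := by
      rw [MonoidHom.range_comp, Subgroup.range_subtype]
      refine le_antisymm ?_ ?_
      · rintro _ ⟨a, ha, rfl⟩; exact ⟨⟨a, ha.1, rfl⟩, ha.2⟩
      · rintro _ ⟨⟨a, ha, rfl⟩, hac⟩; exact ⟨a, ⟨ha, hac⟩, rfl⟩
    have h3 : Nat.card q.ker = Nat.card q'.ker := by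
      refine Nat.card_congr
        { toFun := fun x => ⟨⟨((x : ↥A) : G), (x : ↥A).2, ?_⟩, x.2⟩
          invFun := fun x => ⟨⟨((x : ↥(A ⊓ K)) : G), (x : ↥(A ⊓ K)).2.1⟩, x.2⟩
          left_inv := fun x => rfl
          right_inv := fun x => rfl }
      show π ((x : ↥A) : G) ∈ C
      rw [show π ((x : ↥A) : G) = 1 from x.2]
      exact one_mem _
    rw [h1, h3] at e1
    rw [h2] at e2
    rw [← e1, ← e2]
    ring
  have hVN : Nat.card V * Nat.card M = Nat.card N := card_map_mk M N hMN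
  set a := Nat.card A
  set r := Nat.card R
  set rc := Nat.card ↥(R ⊓ C)
  set q := Nat.card ↥(A ⊓ Q)
  set cA := Nat.card ↥(M ⊓ Subgroup.centralizer (A : Set G))
  have hq : Nat.card ↥(A ⊓ K) ≤ q := Subgroup.card_le_of_le hAK
  have hrc : 0 < rc := Nat.card_pos
  refine Nat.le_of_mul_le_mul_left ?_ (pow_pos hrc 2)
  calc rc ^ 2 * (a ^ 2 * Nat.card CN * Nat.card M)
      = (a * rc) ^ 2 * Nat.card CN * Nat.card M := by ring
    _ ≤ (r * q) ^ 2 * (Nat.card ↥(V ⊓ Subgroup.centralizer (R : Set (G ⧸ M))) * cA) * Nat.card M := by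
        refine Nat.mul_le_mul_right _ (Nat.mul_le_mul (Nat.pow_le_pow_left ?_ 2) ?_)
        · rw [hRcard]; exact Nat.mul_le_mul_left _ hq
        · rw [← hCNcard]; exact Nat.mul_le_mul_right _ hCNV
    _ = (r ^ 2 * Nat.card ↥(V ⊓ Subgroup.centralizer (R : Set (G ⧸ M)))) * (q ^ 2 * cA * Nat.card M) := by ring
    _ ≤ (Nat.card V * rc ^ 2) * (q ^ 2 * cA * Nat.card M) := Nat.mul_le_mul_right _ hb
    _ = rc ^ 2 * ((Nat.card V * Nat.card M) * q ^ 2 * cA) := by ring
    _ = _ := by rw [hVN]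

include hchar hfree hc hR hA in
/-- The bound on a noncentral normal subgroup. -/
theorem sect_normal (N : Subgroup G) [hN : N.Normal] (hNe : Cfsg.IsElementaryAbelian 2 N)
    (hnc : ¬ Cfsg.pResidual 2 G ≤ Subgroup.centralizer (N : Set G)) :
    Nat.card A ^ 2 * Nat.card ↥(N ⊓ Subgroup.centralizer (A : Set G)) ≤
      Nat.card N * Nat.card ↥(A ⊓ Cfsg.pCore 2 G) ^ 2 := by
  classical
  obtain ⟨N', ⟨hN'n, hN'le, hN'c⟩, hmin⟩ := Set.exists_min_image
    {K : Subgroup G | K.Normal ∧ K ≤ N ∧ ¬ Cfsg.pResidual 2 G ≤ Subgroup.centralizer (K : Set G)}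
    (fun K => Nat.card K) (Set.toFinite _) ⟨N, hN, le_rfl, hnc⟩
  haveI := hN'n
  have hne : N' ≠ ⊥ := fun h => hN'c (by
    rw [h, Subgroup.le_centralizer_iff]; exact bot_le)
  obtain ⟨M, ⟨hMn, hMlt⟩, hMmax⟩ := Set.exists_max_image {K : Subgroup G | K.Normal ∧ K < N'}
    (fun K => Nat.card K) (Set.toFinite _) ⟨⊥, inferInstance, bot_lt_iff_ne_bot.2 hne⟩
  haveI := hMn
  have hmax : ∀ K : Subgroup G, K.Normal → M ≤ K → K ≤ N' → K = M ∨ K = N' := by
    intro K hK hMK hKN
    by_cases h : K = N'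
    · exact Or.inr h
    · exact Or.inl (Subgroup.eq_of_le_of_card_ge hMK (hMmax K ⟨hK, lt_of_le_of_ne hKN h⟩)).symm
  have hMc : Cfsg.pResidual 2 G ≤ Subgroup.centralizer (M : Set G) := by
    by_contra h
    exact hMlt.ne (Subgroup.eq_of_le_of_card_ge hMlt.le (hmin M ⟨hMn, hMlt.le.trans hN'le, h⟩))
  have hN'e : Cfsg.IsElementaryAbelian 2 N' :=
    ⟨⟨⟨fun x y => Subtype.ext (elemAb_comm hNe.1 (hN'le x.2) (hN'le y.2))⟩⟩,
      fun x hx => hNe.2 x (hN'le hx)⟩
  have hnc' : ¬ ⁅N', Cfsg.pResidual 2 G⁆ ≤ M := by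
    intro h
    refine hN'c (eq_pResidual_le fun y hy => Subgroup.mem_centralizer_iff.2 fun n hn => ?_)
    have ht : y * n * y⁻¹ * n⁻¹ ∈ M := by
      refine h ?_
      rw [Subgroup.commutator_comm, ← commutatorElement_def]
      exact Subgroup.commutator_mem_commutator (mem_pResidual_of_odd hy) hn
    set t := y * n * y⁻¹ * n⁻¹ with htdef
    have hct : Commute y t :=
      (Subgroup.mem_centralizer_iff.1 (hMc (mem_pResidual_of_odd hy)) t ht).symm
    have hk : ∀ k : ℕ, y ^ k * n * (y ^ k)⁻¹ = t ^ k * n := by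
      intro k
      induction k with
      | zero => simp
      | succ k ih =>
        rw [pow_succ' y, _root_.mul_inv_rev,
          show y * y ^ k * n * ((y ^ k)⁻¹ * y⁻¹) = y * (y ^ k * n * (y ^ k)⁻¹) * y⁻¹ by group, ih,
          show y * (t ^ k * n) * y⁻¹ = (y * t ^ k * y⁻¹) * (y * n * y⁻¹) by group,
          (hct.pow_right k).eq, mul_inv_cancel_right, pow_succ,
          show y * n * y⁻¹ = t * n by rw [htdef, inv_mul_cancel_right], ← mul_assoc]
    have h1 := hk (orderOf y)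
    rw [pow_orderOf_eq_one, one_mul, inv_one, mul_one] at h1
    have h2 : t ^ orderOf y = 1 := mul_eq_right.1 h1.symm
    obtain ⟨j, hj⟩ := hy
    rw [hj, pow_succ, pow_mul, hNe.2 t (hN'le (hMlt.le ht)), one_pow, one_mul, htdef,
      mul_inv_eq_one, mul_inv_eq_iff_eq_mul] at h2
    exact h2.symm
  have h1 := sect hchar hfree hc hR hA N' M hN'e hMlt.le hMlt.ne' hmax hnc'
  have h2 : Nat.card A ^ 2 * Nat.card ↥(N' ⊓ Subgroup.centralizer (A : Set G)) ≤
      Nat.card N' * Nat.card ↥(A ⊓ Cfsg.pCore 2 G) ^ 2 :=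
    Nat.le_of_mul_le_mul_right (h1.trans (Nat.mul_le_mul_left _
      (Subgroup.card_le_of_le (inf_le_left : M ⊓ Subgroup.centralizer (A : Set G) ≤ M))))
      (Nat.card_pos (α := ↥M))
  -- from `N'` to `N`
  set CN := N ⊓ Subgroup.centralizer (A : Set G) with hCN
  have e := Thompson.card_sup_mul_card_inf (H := N') (K := CN) Subgroup.le_normalizer_of_normal
  have e2 : N' ⊓ CN = N' ⊓ Subgroup.centralizer (A : Set G) := by
    rw [hCN, ← inf_assoc, inf_eq_left.2 hN'le]
  rw [e2] at e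
  refine Nat.le_of_mul_le_mul_left ?_ (Nat.card_pos (α := ↥N'))
  calc Nat.card N' * (Nat.card A ^ 2 * Nat.card CN)
      = Nat.card A ^ 2 * (Nat.card N' * Nat.card CN) := by ring
    _ ≤ Nat.card A ^ 2 * (Nat.card N * Nat.card ↥(N' ⊓ Subgroup.centralizer (A : Set G))) := by
        rw [← e]
        exact Nat.mul_le_mul_left _ (Nat.mul_le_mul_right _
          (Subgroup.card_le_of_le (sup_le hN'le inf_le_left)))
    _ = Nat.card N * (Nat.card A ^ 2 * Nat.card ↥(N' ⊓ Subgroup.centralizer (A : Set G))) := by ring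
    _ ≤ Nat.card N * (Nat.card N' * Nat.card ↥(A ⊓ Cfsg.pCore 2 G) ^ 2) := Nat.mul_le_mul_left _ h2
    _ = _ := by ring

end Cfsg.Agent.T51.EG
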