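import Cfsg.Agent.T51.QuadOffenderMain
import Cfsg.Agent.Lib.Thompson.Replacement

/-!
Best offenders of exponent two inside a Sylow 2-subgroup of a group of automorphisms of a group of
exponent two: definitions, transport, and Timmesfeld replacement.
-/

set_option autoImplicit false
set_option linter.unusedVariables false
set_option linter.unusedSectionVars false
set_option linter.style.haveILetI false

namespace Cfsg.Agent.T51.FacGen

open QOff
open scoped commutatorElement

universe u

variable {V : Type u} [CommGroup V]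

/-- Elementary abelian best offenders inside `T`. -/
def Sig (T : Subgroup (MulAut V)) : Set (Subgroup (MulAut V)) :=
  {A | A ≤ T ∧ (∀ a ∈ A, a * a = 1) ∧ Best A}

/-- The subgroup they generate. -/
def rad (T : Subgroup (MulAut V)) : Subgroup (MulAut V) := sSup (Sig T)

theorem rad_le (T : Subgroup (MulAut V)) : rad T ≤ T := sSup_le fun _ hA => hA.1

theorem le_rad {T A : Subgroup (MulAut V)} (h : A ∈ Sig T) : A ≤ rad T := le_sSup h

theorem sig_mono {T T' A : Subgroup (MulAut V)} (h : A ∈ Sig T) (hle : A ≤ T') : A ∈ Sig T' :=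
  ⟨hle, h.2.1, h.2.2⟩

/-- The stabilizer of all points of `U`. -/
def fixStab (U : Subgroup V) : Subgroup (MulAut V) where
  carrier := {x | ∀ v ∈ U, x v = v}
  one_mem' v _ := rfl
  mul_mem' := by
    intro x y hx hy v hv
    rw [MulAut.mul_apply, hy v hv, hx v hv]
  inv_mem' := by
    intro x hx v hv
    conv_lhs => rw [← hx v hv]
    exact MulAut.inv_apply_self V x v

theorem mem_fixStab {U : Subgroup V} {x : MulAut V} : x ∈ fixStab U ↔ ∀ v ∈ U, x v = v := Iff.rfl

theorem fixStab_anti {U W : Subgroup V} (h : U ≤ W) : fixStab W ≤ fixStab U :=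
  fun x hx v hv => hx v (h hv)

theorem le_fixStab_fixSub (T : Subgroup (MulAut V)) : T ≤ fixStab (fixSub T) :=
  fun t ht v hv => hv t ht

theorem mem_cj {h x : MulAut V} {A : Subgroup (MulAut V)} :
    x ∈ cj h A ↔ h⁻¹ * x * h ∈ A := by
  constructor
  · rintro ⟨a, ha, rfl⟩
    show h⁻¹ * (h * a * h⁻¹) * h ∈ A
    simpa [mul_assoc] using ha
  · intro hx
    refine ⟨_, hx, ?_⟩
    show h * (h⁻¹ * x * h) * h⁻¹ = x
    group

theorem cj_mono {A B : Subgroup (MulAut V)} (h : MulAut V) (hle : A ≤ B) : cj h A ≤ cj h B :=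
  Subgroup.map_mono hle

theorem cj_inv_cj (h : MulAut V) (A : Subgroup (MulAut V)) : cj h⁻¹ (cj h A) = A := by
  rw [cj_mul, inv_mul_cancel, cj_one]

theorem cj_cj_inv (h : MulAut V) (A : Subgroup (MulAut V)) : cj h (cj h⁻¹ A) = A := by
  rw [cj_mul, mul_inv_cancel, cj_one]

theorem cj_eq_self {h : MulAut V} {A : Subgroup (MulAut V)}
    (hh : h ∈ Subgroup.normalizer (A : Set (MulAut V))) : cj h A = A := by
  ext x
  rw [mem_cj, Subgroup.mem_normalizer_iff.1 hh (h⁻¹ * x * h)]
  simp [mul_assoc]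

theorem mem_normalizer_of_cj {h : MulAut V} {A : Subgroup (MulAut V)} (hh : cj h A = A) :
    h ∈ Subgroup.normalizer (A : Set (MulAut V)) := by
  rw [Subgroup.mem_normalizer_iff]
  intro x
  conv_rhs => rw [← hh]
  rw [mem_cj]
  simp [mul_assoc]

theorem sig_cj {T A : Subgroup (MulAut V)} (h : MulAut V) (hA : A ∈ Sig T) :
    cj h A ∈ Sig (cj h T) := by
  refine ⟨cj_mono h hA.1, ?_, hA.2.2.cj h⟩
  rintro _ ⟨a, ha, rfl⟩
  rw [← map_mul, hA.2.1 a ha, map_one]

theorem rad_cj (h : MulAut V) (T : Subgroup (MulAut V)) : rad (cj h T) = cj h (rad T) := by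
  apply le_antisymm
  · refine sSup_le fun A hA => ?_
    have h1 := sig_cj h⁻¹ hA
    rw [cj_inv_cj] at h1
    have := cj_mono h (le_rad h1)
    rwa [cj_cj_inv] at this
  · rw [cj, Subgroup.map_le_iff_le_comap]
    refine sSup_le fun A hA => ?_
    rw [← Subgroup.map_le_iff_le_comap]
    exact le_rad (sig_cj h hA)

theorem isMulCommutative_of_sq {A : Subgroup (MulAut V)} (h : ∀ a ∈ A, a * a = 1) :
    ∀ a ∈ A, ∀ b ∈ A, a * b = b * a := by
  intro a ha b hb
  have e1 : a⁻¹ = a := inv_eq_of_mul_eq_one_right (h a ha)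
  have e2 : b⁻¹ = b := inv_eq_of_mul_eq_one_right (h b hb)
  have e3 : (a * b)⁻¹ = a * b := inv_eq_of_mul_eq_one_right (h _ (mul_mem ha hb))
  rw [mul_inv_rev, e1, e2] at e3
  exact e3.symm

/-- **Timmesfeld replacement**: a nontrivial best offender contains a quadratic one. -/
theorem exists_quadratic [Finite V] (h2 : ∀ v : V, v * v = 1) {T A : Subgroup (MulAut V)}
    (hA : A ∈ Sig T) (hne : A ≠ ⊥) :
    ∃ B, B ≤ A ∧ B ∈ Sig T ∧ B ≠ ⊥ ∧ dltSub B ≤ fixSub B := by
  classical
  haveI : Fact (Nat.Prime 2) := ⟨Nat.prime_two⟩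
  haveI : Finite (MulAut V) := Finite.of_injective (fun e : MulAut V => (e : V → V))
    DFunLike.coe_injective
  let P := SemidirectProduct V (MulAut V) (MonoidHom.id (MulAut V))
  haveI : Finite P := Finite.of_injective (fun x : P => (x.left, x.right))
    fun x y h => SemidirectProduct.ext (congrArg Prod.fst h) (congrArg Prod.snd h)
  let i : V →* P := SemidirectProduct.inl
  let j : MulAut V →* P := SemidirectProduct.inr
  have hij : ∀ (x : MulAut V) (v : V), j x * i v * (j x)⁻¹ = i (x v) := fun x v => by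
    rw [← map_inv]
    exact (SemidirectProduct.inl_aut _ _).symm
  have hii : Function.Injective i := SemidirectProduct.inl_injective
  have hji : Function.Injective j := SemidirectProduct.inr_injective
  set V' : Subgroup P := i.range with hV'
  set A' : Subgroup P := A.map j with hA'
  have hfix : ∀ B : Subgroup (MulAut V),
      V' ⊓ Subgroup.centralizer ((B.map j : Subgroup P) : Set P) = (fixSub B).map i := by
    intro B
    ext x
    constructor
    · rintro ⟨⟨v, rfl⟩, hx⟩
      refine ⟨v, fun b hb => hii ?_, rfl⟩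
      rw [← hij, Subgroup.mem_centralizer_iff.1 hx (j b) ⟨b, hb, rfl⟩, mul_inv_cancel_right]
    · rintro ⟨v, hv, rfl⟩
      refine ⟨⟨v, rfl⟩, Subgroup.mem_centralizer_iff.2 ?_⟩
      rintro _ ⟨b, hb, rfl⟩
      have := hij b v
      rw [hv b hb] at this
      exact mul_inv_eq_iff_eq_mul.1 this
  have hm : ∀ B : Subgroup (MulAut V),
      Nat.card (B.map j) * Nat.card ↥(V' ⊓ Subgroup.centralizer ((B.map j : Subgroup P) : Set P)) =
        Nat.card B * Nat.card (fixSub B) := fun B => by
    rw [hfix, Subgroup.card_map_of_injective hji, Subgroup.card_map_of_injective hii]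
  have hV'p : IsPGroup 2 V' := fun x => by
    obtain ⟨_, v, rfl⟩ := x
    exact ⟨1, Subtype.ext (by rw [pow_one, pow_two]; show i v * i v = 1; rw [← map_mul, h2, map_one])⟩
  have hV'c : IsMulCommutative V' := ⟨⟨fun ⟨_, v, hv⟩ ⟨_, w, hw⟩ => Subtype.ext (by
    subst hv hw
    show i v * i w = i w * i v
    rw [← map_mul, ← map_mul, mul_comm])⟩⟩
  have hAV : A' ≤ Subgroup.normalizer (V' : Set P) := by
    rw [Subgroup.le_normalizer_iff]
    rintro _ ⟨a, -, rfl⟩ _ ⟨v, rfl⟩
    exact ⟨a v, (hij a v).symm⟩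
  have hAbest : Cfsg.IsBestOffenderOn 2 V' A' := by
    refine ⟨fun B hB => ?_, ?_, ?_⟩
    · have hBA : B.comap j ≤ A := fun b hb => by
        obtain ⟨a, ha, hab⟩ := hB hb
        exact hji hab ▸ ha
      have hBe : (B.comap j).map j = B := Subgroup.map_comap_eq_self fun b hb => by
        obtain ⟨a, -, rfl⟩ := hB hb
        exact ⟨a, rfl⟩
      have := hA.2.2 _ hBA
      rw [← hm, ← hm, hBe] at this
      exact this
    · rw [hA', ← Subgroup.map_commutator,
        Subgroup.commutator_eq_bot_iff_le_centralizer.2 fun a ha => Subgroup.mem_centralizer_iff.2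
          fun b hb => isMulCommutative_of_sq hA.2.1 b hb a ha, Subgroup.map_bot]
      exact bot_le
    · rintro _ ⟨a, ha, rfl⟩
      rw [pow_two, ← map_mul, hA.2.1 a ha, map_one]
      exact one_mem _
  obtain ⟨hB, -, hBne⟩ := Thompson.bestOffender_replacement hV'p hV'c hAV hAbest le_rfl
  set B' := A' ⊓ Subgroup.centralizer ((⁅V', A'⁆ : Subgroup P) : Set P) with hB'
  set B := B'.comap j with hBd
  have hBA : B ≤ A := fun b hb => by
    obtain ⟨a, ha, hab⟩ := (show j b ∈ A' from hb.1)
    exact hji hab ▸ ha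
  have hBe : B.map j = B' := Subgroup.map_comap_eq_self fun b hb => by
    obtain ⟨a, -, rfl⟩ := hb.1
    exact ⟨a, rfl⟩
  have hcomm : ∀ (v : V) (a : MulAut V), a ∈ A → i (dltHom a v) ∈ (⁅V', A'⁆ : Subgroup P) := by
    intro v a ha
    have := Subgroup.commutator_mem_commutator (show i v ∈ V' from ⟨v, rfl⟩)
      (show j a ∈ A' from ⟨a, ha, rfl⟩)
    have e : ⁅i v, j a⁆ = i (dltHom a v) := by
      rw [commutatorElement_def, dltHom_apply, mul_comm, map_mul, mul_assoc, mul_assoc,
        show j a * ((i v)⁻¹ * (j a)⁻¹) = j a * (i v)⁻¹ * (j a)⁻¹ from (mul_assoc _ _ _).symm,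
        ← map_inv i v, hij, show v⁻¹ = v from inv_eq_of_mul_eq_one_right (h2 v)]
    rwa [e] at this
  refine ⟨B, hBA, ⟨hBA.trans hA.1, fun b hb => hA.2.1 b (hBA hb), fun C hC => ?_⟩, ?_, ?_⟩
  · have := hB.1 (C.map j) (hBe ▸ Subgroup.map_mono hC)
    rw [← hBe, hm, hm] at this
    exact this
  · intro h0
    have hVA : ⁅V', A'⁆ ≠ ⊥ := by
      intro h1
      refine hne (eq_bot_iff.2 fun a ha => Subgroup.mem_bot.2 (MulEquiv.ext fun v => ?_))
      have h3 := hcomm v a ha
      rw [h1, Subgroup.mem_bot] at h3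
      exact ((mul_eq_one_iff_eq h2).1 (hii (h3.trans (map_one i).symm)) : a v = v)
    refine hBne hVA ?_
    show ⁅V', B'⁆ = ⊥
    rw [← hBe, h0, Subgroup.map_bot, Subgroup.commutator_bot_right]
  · refine dltSub_le_iff.2 fun b hb v c hc => hii ?_
    rw [← hij, ← Subgroup.mem_centralizer_iff.1
      (show j c ∈ Subgroup.centralizer ((⁅V', A'⁆ : Subgroup P) : Set P) from hc.2) _
      (hcomm v b (hBA hb)), mul_inv_cancel_right]

end Cfsg.Agent.T51.FacGen
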