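import Cfsg.Agent.T51.FacGenBasic
import Cfsg.Agent.WeakClosure.Local

/-!
A quadratic offender lying in a unique maximal subgroup forces a symmetric group of degree three.
-/

set_option autoImplicit false
set_option linter.unusedVariables false
set_option linter.unusedSectionVars false
set_option linter.style.haveILetI false

namespace Cfsg.Agent.T51.FacGen

open QOff Equiv

universe u

variable {V : Type u} [CommGroup V]

/-- No nontrivial normal 2-subgroup. -/
def NoCore (X : Subgroup (MulAut V)) : Prop :=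
  ∀ N : Subgroup (MulAut V), N ≤ X → IsPGroup 2 N →
    X ≤ Subgroup.normalizer (N : Set (MulAut V)) → N = ⊥

/-- `M` is the only maximal subgroup of `X` containing `A`, and likewise for the conjugates. -/
def Uniq (X A M : Subgroup (MulAut V)) : Prop :=
  M < X ∧ A ≤ M ∧ ∀ h ∈ X, ∀ Y : Subgroup (MulAut V), Y < X → cj h A ≤ Y → Y ≤ cj h M

theorem cj_eq_of_mem {X : Subgroup (MulAut V)} {h : MulAut V} (hh : h ∈ X) : cj h X = X :=
  cj_eq_self (Subgroup.le_normalizer hh)

theorem cj_lt {M X : Subgroup (MulAut V)} (hM : M < X) {h : MulAut V} (hh : h ∈ X) :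
    cj h M < X := by
  refine lt_of_le_of_ne (cj_le hM.le hh) fun e => hM.ne ?_
  rw [← cj_inv_cj h M, e, cj_eq_of_mem (inv_mem hh)]

section Irred

variable [Finite V] {X A M : Subgroup (MulAut V)} {g : MulAut V}

theorem involves_of_fixed_free (h2 : ∀ v : V, v * v = 1) (hU : Uniq X A M) (hC : NoCore X)
    (hgX : g ∈ X) (hgen : A ⊔ cj g A = X) (hA2 : IsPGroup 2 A) (hne : A ≠ ⊥)
    (hq : dltSub A ≤ fixSub A)
    (hoff : Nat.card V ≤ Nat.card A * Nat.card (fixSub A)) (hfix : fixSub X = ⊥)
    (htop : dltSub X = ⊤) : Cfsg.Involves (Perm (Fin 3)) ↥X := by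
  classical
  haveI : Fact (Nat.Prime 2) := ⟨Nat.prime_two⟩
  haveI : Finite (MulAut V) := Finite.of_injective (fun e : MulAut V => (e : V → V))
    DFunLike.coe_injective
  obtain ⟨hMX, hAM, huniq⟩ := hU
  have hAX : A ≤ X := hAM.trans hMX.le
  set C := fixSub A with hCd
  -- facts about a generating pair
  have hpair : ∀ h ∈ X, A ⊔ cj h A = X →
      C ⊓ fixSub (cj h A) = ⊥ ∧ C ⊔ fixSub (cj h A) = ⊤ ∧
        Nat.card V = Nat.card C * Nat.card C ∧ dltSub A = C := by
    intro h hh hge
    have hinf : C ⊓ fixSub (cj h A) = ⊥ := by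
      rw [eq_bot_iff, ← hfix, ← hge]
      exact fun v hv => fixSub_sup hv.1 hv.2
    have hsup : dltSub A ⊔ dltSub (cj h A) = ⊤ := by
      rw [eq_top_iff, ← htop, ← hge]
      exact dltSub_sup_le h2 le_sup_left le_sup_right
    have i1 := card_mul_card_le_of_inf hinf
    have i2 := card_le_of_sup hsup
    rw [card_fixSub_cj, ← hCd] at i1
    rw [card_dltSub_cj] at i2
    have i3 : Nat.card (dltSub A) ≤ Nat.card C := Subgroup.card_le_of_le hq
    have e : Nat.card V = Nat.card C * Nat.card C := le_antisymm (i2.trans (Nat.mul_le_mul i3 i3)) i1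
    refine ⟨hinf, Subgroup.eq_top_of_le_card _ ?_, e, Subgroup.eq_of_le_of_card_ge hq ?_⟩
    · have h' := Thompson.card_sup_mul_card_inf (H := C) (K := fixSub (cj h A))
        Subgroup.le_normalizer_of_normal
      rw [hinf, Subgroup.card_bot, mul_one, card_fixSub_cj, ← hCd] at h'
      rw [h', e]
    · by_contra hlt
      rw [not_le] at hlt
      have : Nat.card (dltSub A) * Nat.card (dltSub A) < Nat.card C * Nat.card C :=
        Nat.mul_self_lt_mul_self hlt
      omega
  obtain ⟨hinf, hsup, hcardV, hE⟩ := hpair g hgX hgen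
  set W := fixSub (cj g A) with hWd
  have hcardW : Nat.card W = Nat.card C := card_fixSub_cj g A
  -- every nontrivial element of `A` fixes exactly `C`
  have hCt : ∀ t ∈ A, t ≠ 1 → fixSub (Subgroup.zpowers t) = C := by
    intro t ht ht1
    refine le_antisymm (fun v hv => ?_) (fixSub_anti ((Subgroup.zpowers_le).2 ht))
    by_contra hvC
    apply ht1
    -- `t` lies in every conjugate of `M`
    have hall : ∀ h ∈ X, t ∈ cj h M := by
      intro h hh
      by_cases hle : cj h A ≤ M
      · have h1 : M ≤ cj h M := huniq h hh M hMX hle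
        exact h1 (hAM ht)
      have hge : A ⊔ cj h A = X := by
        by_contra hne'
        have hlt := lt_of_le_of_ne (sup_le hAX (cj_le hAX hh)) hne'
        have h1 := huniq 1 X.one_mem _ hlt (by rw [cj_one]; exact le_sup_left)
        rw [cj_one] at h1
        exact hle (le_sup_right.trans h1)
      obtain ⟨hinf', hsup', -, -⟩ := hpair h hh hge
      obtain ⟨c, hc, y, hy, rfl⟩ := Subgroup.mem_sup.1 (hsup'.ge (Subgroup.mem_top v))
      have hty : t y = y := by
        have e := hv t (Subgroup.mem_zpowers t)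
        rw [map_mul, hc t ht] at e
        exact mul_left_cancel e
      set Y := X ⊓ fixStab (Subgroup.zpowers y) with hY
      have hfixy : ∀ x : MulAut V, x y = y → x ∈ fixStab (Subgroup.zpowers y) := by
        intro x hx w hw
        obtain ⟨k, rfl⟩ := Subgroup.mem_zpowers_iff.1 hw
        rw [map_zpow, hx]
      have hYX : Y < X := by
        refine lt_of_le_of_ne inf_le_left fun e => hvC ?_
        have hyX : y ∈ fixSub X := fun x hx =>
          (e.ge hx : x ∈ Y).2 y (Subgroup.mem_zpowers y)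
        rw [hfix, Subgroup.mem_bot] at hyX
        rw [hyX, mul_one]
        exact hc
      exact huniq h hh Y hYX (fun x hx => ⟨cj_le hAX hh hx, hfixy x (hy x hx)⟩)
        ⟨hAX ht, hfixy t hty⟩
    -- the intersection of these conjugates is normal of odd order
    set K : Subgroup (MulAut V) := X ⊓ ⨅ h : X, cj (h : MulAut V) M with hK
    have hKM : K ≤ M := fun x hx => by
      have := Subgroup.mem_iInf.1 hx.2 1
      rwa [OneMemClass.coe_one, cj_one] at this
    have hKn : X ≤ Subgroup.normalizer (K : Set (MulAut V)) := by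
      rw [Subgroup.le_normalizer_iff]
      intro x hx k hk
      refine ⟨X.mul_mem (X.mul_mem hx hk.1) (X.inv_mem hx), Subgroup.mem_iInf.2 fun h => ?_⟩
      have := Subgroup.mem_iInf.1 hk.2 ⟨x⁻¹ * h, mul_mem (inv_mem hx) h.2⟩
      rw [mem_cj] at this ⊢
      simpa [mul_assoc] using this
    haveI hK' : (K.subgroupOf X).Normal := Subgroup.normal_subgroupOf_of_le_normalizer hKn
    obtain ⟨T, hT⟩ := (hA2.comap_of_injective X.subtype X.subtype_injective).exists_le_sylow
    set P := (T : Subgroup ↥X) ⊓ K.subgroupOf X with hP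
    have hfr := PLocalB.normalizer_inf_sup_eq_top T (K.subgroupOf X)
    have htP : (⟨t, hAX ht⟩ : ↥X) ∈ P := ⟨hT ht, hAX ht, Subgroup.mem_iInf.2 fun h => hall h h.2⟩
    by_contra ht1'
    set Nm := (Subgroup.normalizer (P : Set ↥X)).map X.subtype with hNm
    have hAT : ∀ a (ha : a ∈ A), (⟨a, hAX ha⟩ : ↥X) ∈ (T : Subgroup ↥X) := fun a ha => hT ha
    have hAN : A ≤ Nm := fun a ha => by
      refine ⟨⟨a, hAX ha⟩, ?_, rfl⟩
      refine Subgroup.mem_normalizer_iff.2 fun z => ⟨fun hz => ⟨?_, ?_⟩, fun hz => ⟨?_, ?_⟩⟩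
      · exact (T : Subgroup ↥X).mul_mem ((T : Subgroup ↥X).mul_mem (hAT a ha) hz.1) ((T : Subgroup ↥X).inv_mem (hAT a ha))
      · exact hK'.conj_mem z hz.2 _
      · have := (T : Subgroup ↥X).mul_mem
          ((T : Subgroup ↥X).mul_mem ((T : Subgroup ↥X).inv_mem (hAT a ha)) hz.1) (hAT a ha)
        show z ∈ (T : Subgroup ↥X)
        group at this
        exact this
      · have := hK'.conj_mem _ hz.2 (⟨a, hAX ha⟩ : ↥X)⁻¹
        simpa [mul_assoc] using this
    have hNlt : Nm < X := by
      refine lt_of_le_of_ne (Subgroup.map_subtype_le _) fun e => ?_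
      have hP2 : IsPGroup 2 (P.map X.subtype) := (T.isPGroup'.to_le inf_le_left).map _
      have hn : X ≤ Subgroup.normalizer ((P.map X.subtype : Subgroup (MulAut V)) : Set (MulAut V)) := by
        conv_lhs => rw [← e]
        exact Subgroup.le_normalizer_map X.subtype
      have hbot := hC _ (Subgroup.map_subtype_le _) hP2 hn
      have hmem : t ∈ P.map X.subtype := ⟨_, htP, rfl⟩
      rw [hbot, Subgroup.mem_bot] at hmem
      exact ht1' hmem
    have hNM : Nm ≤ M := by
      have := huniq 1 X.one_mem Nm hNlt (by rw [cj_one]; exact hAN)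
      rwa [cj_one] at this
    refine hMX.ne (le_antisymm hMX.le ?_)
    intro x hx
    have hmem : (⟨x, hx⟩ : ↥X) ∈ Subgroup.normalizer (P : Set ↥X) ⊔ K.subgroupOf X :=
      hfr.symm ▸ Subgroup.mem_top _
    refine (sup_le ?_ ?_ : Subgroup.normalizer (P : Set ↥X) ⊔ K.subgroupOf X ≤ M.comap X.subtype) hmem
    · exact fun z hz => hNM ⟨z, hz, rfl⟩
    · exact fun z hz => hKM hz
  -- transitivity of `A` on the cosets of `C`
  have hCne : Nat.card C ≠ 1 := by
    intro h1
    obtain ⟨t, ht, ht1⟩ := A.bot_or_exists_ne_one.resolve_left hne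
    rw [h1, mul_one] at hcardV
    haveI := (Nat.card_eq_one_iff_unique.1 hcardV).1
    exact ht1 (MulEquiv.ext fun v => Subsingleton.elim _ _)
  have htrans : ∀ v, v ∉ C → ∀ c ∈ C, ∃ a ∈ A, dltHom a v = c := by
    intro v hv c hc
    let f : ↥A → ↥C := fun a => ⟨dltHom (a : MulAut V) v, hE ▸ dltHom_mem_dltSub a.2 v⟩
    have hinj : Function.Injective f := by
      intro a b hab
      by_contra hne'
      have h : (a : MulAut V) v = (b : MulAut V) v :=
        mul_right_cancel (Subtype.ext_iff.1 hab : (a : MulAut V) v * v = (b : MulAut V) v * v)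
      have hd : (b : MulAut V)⁻¹ * a ≠ 1 := fun h1 => hne' (Subtype.ext (inv_mul_eq_one.1 h1).symm)
      refine hv ?_
      rw [← hCt _ (A.mul_mem (A.inv_mem b.2) a.2) hd]
      intro d hd'
      have hst : Subgroup.zpowers ((b : MulAut V)⁻¹ * a) ≤ MulAction.stabilizer (MulAut V) v := by
        rw [Subgroup.zpowers_le]
        show ((b : MulAut V)⁻¹ * a) v = v
        rw [MulAut.mul_apply, h, MulAut.inv_apply_self]
      exact hst hd'
    have hge : Nat.card C ≤ Nat.card A := by
      rw [hcardV] at hoff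
      exact Nat.le_of_mul_le_mul_right hoff Nat.card_pos
    obtain ⟨a, ha⟩ := ((Nat.bijective_iff_injective_and_card f).2
      ⟨hinj, le_antisymm (Nat.card_le_card_of_injective f hinj) hge⟩).2 ⟨c, hc⟩
    exact ⟨a, a.2, congrArg Subtype.val ha⟩
  have htrans' : ∀ v, v ∉ W → ∀ w ∈ W, ∃ b ∈ cj g A, dltHom b v = w := by
    intro v hv w hw
    rw [hWd, fixSub_cj] at hv hw
    obtain ⟨c, hc, rfl⟩ := hw
    obtain ⟨a, ha, hac⟩ := htrans (g⁻¹ v)
      (fun h => hv ⟨g⁻¹ v, h, MulAut.apply_inv_self V g v⟩) c hc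
    refine ⟨g * a * g⁻¹, ⟨a, ha, rfl⟩, ?_⟩
    show (g * a * g⁻¹) v * v = g c
    rw [← hac, dltHom_apply, map_mul, MulAut.apply_inv_self, MulAut.mul_apply, MulAut.mul_apply]
  -- the four-element subgroup
  obtain ⟨y, hy, hy1⟩ : ∃ y ∈ W, y ≠ (1 : V) :=
    W.bot_or_exists_ne_one.resolve_left fun h => hCne (by rw [← hcardW, h, Subgroup.card_bot])
  obtain ⟨c, hc, hc1⟩ : ∃ c ∈ C, c ≠ (1 : V) :=
    C.bot_or_exists_ne_one.resolve_left fun h => hCne (by rw [h, Subgroup.card_bot])
  have hyC : y ∉ C := fun h => hy1 (Subgroup.mem_bot.1 (hinf ▸ ⟨h, hy⟩))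
  have hcW : c ∉ W := fun h => hc1 (Subgroup.mem_bot.1 (hinf ▸ ⟨hc, h⟩))
  obtain ⟨a, ha, hac⟩ := htrans y hyC c hc
  obtain ⟨b, hb, hbc⟩ := htrans' c hcW y hy
  have hap : ∀ (x : MulAut V) v, x v = dltHom x v * v := fun x v => by
    rw [dltHom_apply, mul_assoc, h2, mul_one]
  have hay : a y = c * y := by rw [hap, hac]
  have hac' : a c = c := hc a ha
  have hbc' : b c = y * c := by rw [hap, hbc]
  have hby : b y = y := hy b hb
  set U : Subgroup V := Subgroup.closure {c, y} with hUd
  have hcU : c ∈ U := Subgroup.subset_closure (Set.mem_insert c _)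
  have hyU : y ∈ U := Subgroup.subset_closure (Set.mem_insert_of_mem _ rfl)
  set St : Subgroup (MulAut V) :=
    { carrier := {x | U.map x.toMonoidHom = U}
      one_mem' := Subgroup.map_id U
      mul_mem' := by
        intro x z hx hz
        show U.map (x * z).toMonoidHom = U
        rw [show (x * z).toMonoidHom = x.toMonoidHom.comp z.toMonoidHom from rfl, ← Subgroup.map_map,
          show U.map z.toMonoidHom = U from hz, show U.map x.toMonoidHom = U from hx]
      inv_mem' := by
        intro x hx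
        show U.map (x⁻¹).toMonoidHom = U
        conv_lhs => rw [← (show U.map x.toMonoidHom = U from hx), Subgroup.map_map]
        convert Subgroup.map_id U
        ext v
        exact MulAut.inv_apply_self V x v } with hSt
  have hgenU : ∀ x : MulAut V, x c ∈ U → x y ∈ U → x ∈ St := by
    intro x h1 h3
    refine Subgroup.eq_of_le_of_card_ge ?_ (le_of_eq ?_)
    · rw [Subgroup.map_le_iff_le_comap, hUd, Subgroup.closure_le]
      rintro _ (rfl | rfl)
      exacts [h1, h3]
    · exact (Subgroup.card_map_of_injective x.injective).symm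
  have haX : a ∈ X := hAX ha
  have hbX : b ∈ X := cj_le hAX hgX hb
  have haS : a ∈ St := hgenU a (by rw [hac']; exact hcU) (by rw [hay]; exact mul_mem hcU hyU)
  have hbS : b ∈ St := hgenU b (by rw [hbc']; exact mul_mem hyU hcU) (by rw [hby]; exact hyU)
  set D := X ⊓ St with hD
  have hinv : ∀ x ∈ D, ∀ v ∈ U, x v ∈ U := fun x hx v hv =>
    hx.2.le ⟨v, hv, rfl⟩
  set a' := subAct hinv ⟨a, haX, haS⟩ with ha'
  set b' := subAct hinv ⟨b, hbX, hbS⟩ with hb'
  have hext : ∀ e : MulAut ↥U, (e ⟨c, hcU⟩ : V) = c → (e ⟨y, hyU⟩ : V) = y → e = 1 := by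
    intro e h1 h3
    refine MulEquiv.ext fun r => ?_
    let F : Subgroup ↥U := MonoidHom.eqLocus e.toMonoidHom (MonoidHom.id _)
    suffices hF : F = ⊤ from (hF.ge (Subgroup.mem_top r) : _)
    rw [eq_top_iff]
    have hcl : (U : Subgroup V) ≤ F.map U.subtype := by
      conv_lhs => rw [hUd]
      rw [Subgroup.closure_le]
      rintro _ (rfl | rfl)
      exacts [⟨⟨_, hcU⟩, Subtype.ext h1, rfl⟩, ⟨⟨_, hyU⟩, Subtype.ext h3, rfl⟩]
    intro z _
    obtain ⟨w, hw, hwz⟩ := hcl z.2
    exact Subtype.ext hwz ▸ hw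
  have ha2 : a' * a' = 1 := hext _
    (show a (a c) = c by rw [hac', hac'])
    (show a (a y) = y by rw [hay, map_mul, hac', hay, ← mul_assoc, h2, one_mul])
  have hb2 : b' * b' = 1 := hext _
    (show b (b c) = c by rw [hbc', map_mul, hby, hbc', ← mul_assoc, h2, one_mul])
    (show b (b y) = y by rw [hby, hby])
  set z := a' * b' with hz
  have hzc : a (b c) = y := by rw [hbc', map_mul, hay, hac', mul_comm c y, mul_assoc, h2, mul_one]
  have hzy : a (b y) = c * y := by rw [hby, hay]
  have hz3 : z ^ 3 = 1 := hext _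
    (show a (b (a (b (a (b c))))) = c by
      rw [hzc, hzy, map_mul, map_mul, hzc, hzy, mul_left_comm, h2, mul_one])
    (show a (b (a (b (a (b y))))) = y by
      rw [hzy, map_mul, map_mul, hzc, hzy, mul_left_comm, h2, mul_one, hzc])
  have hz1 : z ≠ 1 := by
    intro h
    have e : a (b y) = y := congrArg (fun e : MulAut ↥U => ((e ⟨y, hyU⟩ : ↥U) : V)) h
    rw [hzy] at e
    exact hc1 (mul_eq_right.1 e)
  have ha1 : a' ≠ 1 := by
    intro h
    have e : a y = y := congrArg (fun e : MulAut ↥U => ((e ⟨y, hyU⟩ : ↥U) : V)) h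
    rw [hay] at e
    exact hc1 (mul_eq_right.1 e)
  refine involves_of_le (inf_le_left : D ≤ X) (involves_of_range (subAct hinv)
    (involves_perm_three_of_pair (a := ⟨a', ⟨_, rfl⟩⟩)
      (x := ⟨z, mul_mem (⟨_, rfl⟩ : a' ∈ (subAct hinv).range) ⟨_, rfl⟩⟩) ?_ ?_ ?_))
  · exact orderOf_eq_prime (Subtype.ext (by simpa [pow_two] using ha2))
      (fun h => ha1 (congrArg Subtype.val h))
  · haveI : Fact (Nat.Prime 3) := ⟨Nat.prime_three⟩
    exact orderOf_eq_prime (Subtype.ext (by simpa using hz3))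
      (fun h => hz1 (congrArg Subtype.val h))
  · refine Subtype.ext ?_
    show a' * (a' * b') * a'⁻¹ = (a' * b')⁻¹
    rw [← mul_assoc a' a' b', ha2, one_mul, mul_inv_rev,
      inv_eq_of_mul_eq_one_right ha2, inv_eq_of_mul_eq_one_right hb2]

end Irred

/-- Reduction to the fixed-point-free case. -/
theorem involves_of_uniq : ∀ (n : ℕ) (V : Type u) [CommGroup V] [Finite V],
    Nat.card V ≤ n → (∀ v : V, v * v = 1) → ∀ (X A M : Subgroup (MulAut V)) (g : MulAut V),
      Uniq X A M → NoCore X → g ∈ X → A ⊔ cj g A = X → IsPGroup 2 A → A ≠ ⊥ →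
      dltSub A ≤ fixSub A → Nat.card V ≤ Nat.card A * Nat.card (fixSub A) →
      Cfsg.Involves (Perm (Fin 3)) ↥X := by
  intro n
  induction n using Nat.strong_induction_on with
  | _ n ih =>
  intro V _ _ hn h2 X A M g hU hC hgX hgen hA2 hne hq hoff
  haveI : Fact (Nat.Prime 2) := ⟨Nat.prime_two⟩
  have hAX : A ≤ X := hU.2.1.trans hU.1.le
  -- passing to a smaller faithful module
  have step : ∀ (V' : Type u) [CommGroup V'] [Finite V'], Nat.card V' < Nat.card V →
      ∀ q : ↥X →* MulAut V', (∀ v : V', v * v = 1) → IsPGroup 2 q.ker →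
      dltSub (img q A) ≤ fixSub (img q A) →
      Nat.card V' ≤ Nat.card A * Nat.card (fixSub (img q A)) →
      Cfsg.Involves (Perm (Fin 3)) ↥X := by
    intro V' _ _ hlt q h2' hk hq' hoff'
    have hker : q.ker = ⊥ := by
      have := hC (q.ker.map X.subtype) (Subgroup.map_subtype_le _) (hk.map _) (by
        refine le_trans ?_ (Subgroup.le_normalizer_map X.subtype)
        rw [Subgroup.normalizer_eq_top, ← MonoidHom.range_eq_map, Subgroup.range_subtype])
      exact (Subgroup.map_eq_bot_iff_of_injective _ X.subtype_injective).1 this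
    have hinj : Function.Injective q := (MonoidHom.ker_eq_bot_iff q).1 hker
    have hpre : ∀ {B : Subgroup (MulAut V)}, B ≤ X → pre q (img q B) = B := by
      intro B hB
      rw [pre, img, Subgroup.comap_map_eq_self_of_injective hinj, Subgroup.map_subgroupOf_eq_of_le hB]
    have hcard : ∀ {B : Subgroup (MulAut V)}, B ≤ X → Nat.card (img q B) = Nat.card B := by
      intro B hB
      rw [img, Subgroup.card_map_of_injective hinj,
        Nat.card_congr (Subgroup.subgroupOfEquivOfLe hB).toEquiv]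
    have himX : ∀ {Y' : Subgroup (MulAut V')}, Y' ≤ q.range → Y' ≠ q.range → pre q Y' < X := by
      intro Y' hY hne'
      refine lt_of_le_of_ne (pre_le q Y') fun he => hne' ?_
      rw [← img_pre q hY, he, img_self]
    refine involves_of_range q (ih (Nat.card V') (hlt.trans_le hn) V' le_rfl h2' q.range (img q A)
      (img q M) (q ⟨g, hgX⟩) ⟨?_, img_mono q hU.2.1, ?_⟩ ?_ ⟨_, rfl⟩ ?_ (isPGroup_img q hA2) ?_
      hq' ?_)
    · refine lt_of_le_of_ne ((img_mono q hU.1.le).trans (img_self q).le) fun e => hU.1.ne ?_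
      rw [← hpre hU.1.le, e, ← img_self q, hpre le_rfl]
    · rintro _ ⟨h, rfl⟩ Y' hY' hle
      rw [← img_cj q h] at hle ⊢
      have h1 := hU.2.2 _ h.2 _ (himX hY'.le hY'.ne) (le_pre q (cj_le hAX h.2) hle)
      have h3 := img_mono q h1
      rwa [img_pre q hY'.le] at h3
    · intro N hN hN2 hnorm
      have h1 := hC (pre q N) (pre_le q N) (isPGroup_pre q hN2 hk) (by
        intro x hx
        refine Subgroup.le_normalizer_map X.subtype ⟨⟨x, hx⟩, ?_, rfl⟩
        refine Subgroup.mem_normalizer_iff.2 fun z => ?_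
        show q z ∈ N ↔ q _ ∈ N
        rw [map_mul, map_mul, map_inv]
        exact Subgroup.mem_normalizer_iff.1 (hnorm ⟨⟨x, hx⟩, rfl⟩) _)
      rw [← img_pre q hN, h1, img, Subgroup.bot_subgroupOf, Subgroup.map_bot]
    · rw [← img_cj q (B := A) ⟨g, hgX⟩, ← img_sup q hAX (cj_le hAX hgX), hgen, img_self]
    · intro h
      refine hne (Subgroup.eq_bot_of_card_eq A ?_)
      rw [← hcard hAX, h, Subgroup.card_bot]
    · rw [hcard hAX]; exact hoff'
  by_cases htop : dltSub X = ⊤
  swap
  · set R := dltSub X with hR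
    have hinv : ∀ x ∈ X, ∀ v ∈ R, x v ∈ R := fun x hx v hv => map_dltSub_le h2 hx hv
    refine step R (lt_of_le_of_ne (Subgroup.card_le_card_group R)
      fun h => htop (Subgroup.eq_top_of_card_eq R h)) (subAct hinv) (fun r => Subtype.ext (h2 r)) ?_ ?_ ?_
    · refine isPGroup_two_of_stab h2 fun k hk v => ?_
      have e : subAct hinv k ⟨dltHom (k : MulAut V) v, dltHom_mem_dltSub k.2 v⟩ =
          ⟨_, dltHom_mem_dltSub k.2 v⟩ := by
        rw [MonoidHom.mem_ker.1 hk]; rfl
      exact congrArg Subtype.val e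
    · refine dltSub_le_iff.2 fun a' ha' r b' hb' => Subtype.ext ?_
      obtain ⟨a, haX, ha, rfl⟩ := (mem_img _).1 ha'
      obtain ⟨b, hbX, hb, rfl⟩ := (mem_img _).1 hb'
      exact hq (dltHom_mem_dltSub ha (r : V)) b hb
    · have hle : (fixSub A).comap R.subtype ≤ fixSub (img (subAct hinv) A) := by
        intro r hr a' ha'
        obtain ⟨a, haX, ha, rfl⟩ := (mem_img _).1 ha'
        exact Subtype.ext (hr a ha)
      refine le_trans ?_ (Nat.mul_le_mul_left _ (Subgroup.card_le_of_le hle))
      have e1 : Nat.card ↥((fixSub A).comap R.subtype) = Nat.card ↥(R ⊓ fixSub A) := by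
        rw [← Subgroup.card_map_of_injective (K := (fixSub A).comap R.subtype) R.subtype_injective,
          Subgroup.map_comap_eq, Subgroup.range_subtype]
      rw [e1]
      have e2 := Thompson.card_sup_mul_card_inf (H := R) (K := fixSub A)
        Subgroup.le_normalizer_of_normal
      refine Nat.le_of_mul_le_mul_right ?_ (Nat.card_pos (α := ↥(fixSub A)))
      calc Nat.card R * Nat.card (fixSub A) = Nat.card ↥(R ⊔ fixSub A) * Nat.card ↥(R ⊓ fixSub A) :=
            e2.symm
        _ ≤ Nat.card A * Nat.card (fixSub A) * Nat.card ↥(R ⊓ fixSub A) :=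
            Nat.mul_le_mul_right _ ((Subgroup.card_le_card_group _).trans hoff)
        _ = _ := by ring
  by_cases hfix : fixSub X = ⊥
  · exact involves_of_fixed_free h2 hU hC hgX hgen hA2 hne hq hoff hfix htop
  set U := fixSub X with hUd
  have hinv : ∀ x ∈ X, ∀ v ∈ U, x v ∈ U := fun x hx v hv => by rw [hv x hx]; exact hv
  set π := QuotientGroup.mk' U with hπ
  have hπs : Function.Surjective π := QuotientGroup.mk'_surjective U
  have hcardV : Nat.card V = Nat.card (V ⧸ U) * Nat.card U :=
    Subgroup.card_eq_card_quotient_mul_card_subgroup U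
  refine step (V ⧸ U) ?_ (quotAct hinv) ?_ ?_ ?_ ?_
  · rw [hcardV]
    exact lt_mul_of_one_lt_right Nat.card_pos ((U.one_lt_card_iff_ne_bot).2 hfix)
  · intro w
    obtain ⟨v, rfl⟩ := hπs w
    rw [← map_mul, h2, map_one]
  · refine isPGroup_two_of_stab h2 fun k hk v => ?_
    have hmem : dltHom (k : MulAut V) v ∈ U := by
      have e : π ((k : MulAut V) v) = π v := by
        rw [hπ, ← quotAct_mk hinv, MonoidHom.mem_ker.1 hk]; rfl
      rw [dltHom_apply, ← QuotientGroup.eq_one_iff]
      show π ((k : MulAut V) v * v) = 1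
      rw [map_mul, e, ← map_mul, h2, map_one]
    exact hmem k k.2
  · refine dltSub_le_iff.2 fun a' ha' w b' hb' => ?_
    obtain ⟨a, haX, ha, rfl⟩ := (mem_img _).1 ha'
    obtain ⟨b, hbX, hb, rfl⟩ := (mem_img _).1 hb'
    obtain ⟨v, rfl⟩ := hπs w
    have e : dltHom (quotAct hinv ⟨a, haX⟩) (π v) = π (dltHom a v) := by
      rw [dltHom_apply, hπ, quotAct_mk, dltHom_apply, map_mul]
    rw [e, hπ, quotAct_mk]
    exact congrArg _ (hq (dltHom_mem_dltSub ha v) b hb)
  · have hUC : U ≤ fixSub A := fixSub_anti hAX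
    have hle : (fixSub A).map π ≤ fixSub (img (quotAct hinv) A) := by
      rintro _ ⟨v, hv, rfl⟩ a' ha'
      obtain ⟨a, haX, ha, rfl⟩ := (mem_img _).1 ha'
      rw [hπ, quotAct_mk hinv]
      exact congrArg _ (hv a ha)
    have hc : Nat.card ↥((fixSub A).map π) * Nat.card U = Nat.card (fixSub A) := by
      have h := card_map_mul_card_ker (π.comp (fixSub A).subtype)
      rw [MonoidHom.range_comp, Subgroup.range_subtype] at h
      have hk : (π.comp (fixSub A).subtype).ker = U.subgroupOf (fixSub A) := by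
        rw [← MonoidHom.comap_ker, hπ, QuotientGroup.ker_mk']
        rfl
      rw [hk, Nat.card_congr (Subgroup.subgroupOfEquivOfLe hUC).toEquiv] at h
      exact h
    refine Nat.le_of_mul_le_mul_right ?_ (Nat.card_pos (α := U))
    rw [← hcardV, mul_assoc]
    refine hoff.trans (Nat.mul_le_mul_left _ ?_)
    rw [← hc]
    exact Nat.mul_le_mul_right _ (Subgroup.card_le_of_le hle)

end Cfsg.Agent.T51.FacGen
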