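import Cfsg.Agent.T51.FacGenCore

/-!
A group of automorphisms of a group of exponent two without a section `S₃` is generated by the
stabilizer of the fixed points of a Sylow 2-subgroup and the normalizer of the subgroup generated
by the best offenders in it.
-/

set_option autoImplicit false
set_option linter.unusedVariables false
set_option linter.unusedSectionVars false
set_option linter.style.haveILetI false

namespace Cfsg.Agent.T51.FacGen

open QOff Equiv

universe u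

variable {V : Type u} [CommGroup V]

/-- `T` is a Sylow 2-subgroup of `X`. -/
def IsSyl (T X : Subgroup (MulAut V)) : Prop :=
  T ≤ X ∧ IsPGroup 2 T ∧ ∀ T', T' ≤ X → IsPGroup 2 T' → Nat.card T' ≤ Nat.card T

theorem IsSyl.cj {T X : Subgroup (MulAut V)} (h : IsSyl T X) {x : MulAut V} (hx : x ∈ X) :
    IsSyl (cj x T) X :=
  ⟨cj_le h.1 hx, h.2.1.map _, fun T' h1 h3 => (h.2.2 T' h1 h3).trans (card_cj x T).ge⟩

theorem IsSyl.mono {T X Y : Subgroup (MulAut V)} (h : IsSyl T X) (hY : Y ≤ X) (hT : T ≤ Y) :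
    IsSyl T Y :=
  ⟨hT, h.2.1, fun T' h1 h3 => h.2.2 T' (h1.trans hY) h3⟩

variable [Finite V]

instance : Fact (Nat.Prime 2) := ⟨Nat.prime_two⟩

theorem finite_aut : Finite (MulAut V) :=
  Finite.of_injective (fun e : MulAut V => (e : V → V)) DFunLike.coe_injective

theorem IsSyl.exists_sylow {T X : Subgroup (MulAut V)} (h : IsSyl T X) :
    ∃ S : Sylow 2 ↥X, (S : Subgroup ↥X) = T.subgroupOf X := by
  haveI := finite_aut (V := V)
  obtain ⟨S, hS⟩ := (h.2.1.comap_of_injective X.subtype X.subtype_injective).exists_le_sylow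
  refine ⟨S, (Subgroup.eq_of_le_of_card_ge hS ?_).symm⟩
  have := h.2.2 ((S : Subgroup ↥X).map X.subtype) (Subgroup.map_subtype_le _) (S.isPGroup'.map _)
  rw [Subgroup.card_map_of_injective X.subtype_injective] at this
  exact this.trans (Nat.card_congr (Subgroup.subgroupOfEquivOfLe h.1).toEquiv).ge

theorem exists_syl {P Y : Subgroup (MulAut V)} (hP : IsPGroup 2 P) (hPY : P ≤ Y) :
    ∃ T, IsSyl T Y ∧ P ≤ T := by
  haveI := finite_aut (V := V)
  obtain ⟨S, hS⟩ := (hP.comap_of_injective Y.subtype Y.subtype_injective).exists_le_sylow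
  refine ⟨(S : Subgroup ↥Y).map Y.subtype,
    ⟨Subgroup.map_subtype_le _, S.isPGroup'.map _, fun T' h1 h3 => ?_⟩,
    fun x hx => ⟨⟨x, hPY hx⟩, hS hx, rfl⟩⟩
  obtain ⟨S', hS'⟩ := (h3.comap_of_injective Y.subtype Y.subtype_injective).exists_le_sylow
  rw [Subgroup.card_map_of_injective Y.subtype_injective, S.card_eq_multiplicity,
    ← S'.card_eq_multiplicity, ← Nat.card_congr (Subgroup.subgroupOfEquivOfLe h1).toEquiv]
  exact Subgroup.card_le_of_le hS'

theorem IsSyl.exists_conj {T X P : Subgroup (MulAut V)} (h : IsSyl T X) (hP : IsPGroup 2 P)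
    (hPX : P ≤ X) : ∃ x ∈ X, P ≤ QOff.cj x T := by
  haveI := finite_aut (V := V)
  obtain ⟨S, hS⟩ := h.exists_sylow
  obtain ⟨S', hS'⟩ := (hP.comap_of_injective X.subtype X.subtype_injective).exists_le_sylow
  obtain ⟨x, rfl⟩ := MulAction.exists_smul_eq ↥X S S'
  refine ⟨x, x.2, fun p hp => ?_⟩
  have := hS' (show (⟨p, hPX hp⟩ : ↥X) ∈ P.comap X.subtype from hp)
  change (⟨p, hPX hp⟩ : ↥X) ∈ ((x • S : Sylow 2 ↥X) : Subgroup ↥X) at this
  rw [Sylow.coe_subgroup_smul, Subgroup.mem_pointwise_smul_iff_inv_smul_mem] at this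
  change (MulAut.conj x)⁻¹ • (⟨p, hPX hp⟩ : ↥X) ∈ (S : Subgroup ↥X) at this
  rw [hS] at this
  exact mem_cj.2 this

theorem frattini {X T K : Subgroup (MulAut V)} (h : IsSyl T X) (hK : K ≤ X)
    (hKn : X ≤ Subgroup.normalizer (K : Set (MulAut V))) :
    X ≤ (X ⊓ Subgroup.normalizer ((T ⊓ K : Subgroup (MulAut V)) : Set (MulAut V))) ⊔ K := by
  haveI := finite_aut (V := V)
  obtain ⟨S, hS⟩ := h.exists_sylow
  haveI : (K.subgroupOf X).Normal := Subgroup.normal_subgroupOf_of_le_normalizer hKn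
  have hfr := PLocalB.normalizer_inf_sup_eq_top S (K.subgroupOf X)
  intro x hx
  have hmem : (⟨x, hx⟩ : ↥X) ∈ Subgroup.normalizer
      (((S : Subgroup ↥X) ⊓ K.subgroupOf X : Subgroup ↥X) : Set ↥X) ⊔ K.subgroupOf X :=
    hfr.symm ▸ Subgroup.mem_top _
  refine (sup_le ?_ ?_ : _ ≤ ((X ⊓ Subgroup.normalizer
    ((T ⊓ K : Subgroup (MulAut V)) : Set (MulAut V))) ⊔ K).comap X.subtype) hmem
  · intro z hz
    refine Subgroup.mem_sup_left (S := _) ⟨z.2, ?_⟩
    have h1 := Subgroup.le_normalizer_map X.subtype ⟨z, hz, rfl⟩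
    rwa [hS, Subgroup.map_inf _ _ _ X.subtype_injective, Subgroup.map_subgroupOf_eq_of_le h.1,
      Subgroup.map_subgroupOf_eq_of_le hK] at h1
  · exact fun z hz => Subgroup.mem_sup_right hz

/-- The subgroup in the theorem. -/
def facSub (T X : Subgroup (MulAut V)) : Subgroup (MulAut V) :=
  (X ⊓ fixStab (fixSub T)) ⊔ (X ⊓ Subgroup.normalizer (rad T : Set (MulAut V)))

theorem facSub_le (T X : Subgroup (MulAut V)) : facSub T X ≤ X := sup_le inf_le_left inf_le_left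

theorem le_facSub {T X : Subgroup (MulAut V)} (hT : T ≤ X) : T ≤ facSub T X :=
  le_trans (le_inf hT (le_fixStab_fixSub T)) le_sup_left

theorem mem_facSub_of_rad {T X : Subgroup (MulAut V)} {x : MulAut V} (hx : x ∈ X)
    (h : x ∈ Subgroup.normalizer (rad T : Set (MulAut V))) : x ∈ facSub T X :=
  Subgroup.mem_sup_right ⟨hx, h⟩

theorem normalizer_le_normalizer_rad {T P : Subgroup (MulAut V)} (hPT : P ≤ T) (hR : rad T ≤ P) :
    Subgroup.normalizer (P : Set (MulAut V)) ≤ Subgroup.normalizer (rad T : Set (MulAut V)) := by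
  have e : rad P = rad T := le_antisymm (sSup_le fun A hA => le_rad (sig_mono hA (hA.1.trans hPT)))
    (sSup_le fun A hA => le_rad (sig_mono hA ((le_rad hA).trans hR)))
  intro x hx
  refine mem_normalizer_of_cj ?_
  rw [← e, ← rad_cj, cj_eq_self hx]

theorem normalizer_le_normalizer_rad' (T : Subgroup (MulAut V)) :
    Subgroup.normalizer (T : Set (MulAut V)) ≤ Subgroup.normalizer (rad T : Set (MulAut V)) :=
  normalizer_le_normalizer_rad le_rfl (rad_le T)

/-- A best offender acts as a best offender on an invariant subgroup. -/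
theorem best_img_subAct {U : Subgroup V} {X A : Subgroup (MulAut V)} (hAX : A ≤ X)
    (hinv : ∀ x ∈ X, ∀ v ∈ U, x v ∈ U) (hB : Best A) : Best (img (subAct hinv) A) := by
  haveI := finite_aut (V := V)
  set q := subAct hinv with hq
  intro B' hB'
  set B := A ⊓ pre q B' with hBdef
  have hBX : B ≤ X := inf_le_left.trans hAX
  let fA := q.comp (Subgroup.inclusion hAX)
  let fB := q.comp (Subgroup.inclusion hBX)
  have eA : fA.range = img q A := by
    ext x'
    rw [mem_img]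
    exact ⟨fun ⟨a, ha⟩ => ⟨a, hAX a.2, a.2, ha⟩, fun ⟨a, _, ha, he⟩ => ⟨⟨a, ha⟩, he⟩⟩
  have eB : fB.range = B' := by
    ext x'
    constructor
    · rintro ⟨b, rfl⟩
      obtain ⟨_, hb⟩ := (mem_pre q).1 b.2.2
      exact hb
    · intro hx'
      obtain ⟨a, haX, ha, rfl⟩ := (mem_img q).1 (hB' hx')
      exact ⟨⟨a, ha, (mem_pre q).2 ⟨haX, hx'⟩⟩, rfl⟩
  have ek : Nat.card fA.ker = Nat.card fB.ker := Nat.card_congr
    { toFun := fun a => ⟨⟨a.1.1, a.1.2, (mem_pre q).2 ⟨hAX a.1.2, by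
          have h : q ⟨a.1.1, hAX a.1.2⟩ = 1 := a.2
          rw [h]; exact one_mem _⟩⟩, a.2⟩
      invFun := fun b => ⟨⟨b.1.1, b.1.2.1⟩, b.2⟩
      left_inv := fun a => rfl
      right_inv := fun b => rfl }
  have cA := card_map_mul_card_ker fA
  have cB := card_map_mul_card_ker fB
  rw [eA, ek] at cA
  rw [eB] at cB
  set CA := fixSub A with hCA
  set CR := (fixSub B').map U.subtype with hCR
  have hCRB : CR ⊔ CA ≤ fixSub B := by
    refine sup_le ?_ (fixSub_anti inf_le_left)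
    rintro _ ⟨r, hr, rfl⟩ b hb
    obtain ⟨_, hb'⟩ := (mem_pre q).1 hb.2
    exact congrArg Subtype.val (hr _ hb')
  have hinf : CR ⊓ CA ≤ (fixSub (img q A)).map U.subtype := by
    rintro _ ⟨⟨r, hr, rfl⟩, hra⟩
    refine ⟨r, fun a' ha' => ?_, rfl⟩
    obtain ⟨a, haX, ha, rfl⟩ := (mem_img q).1 ha'
    exact Subtype.ext (hra a ha)
  have e1 : Nat.card CR = Nat.card (fixSub B') :=
    Subgroup.card_map_of_injective U.subtype_injective
  have e2 : Nat.card ↥(CR ⊓ CA) ≤ Nat.card (fixSub (img q A)) :=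
    (Subgroup.card_le_of_le hinf).trans (Subgroup.card_map_of_injective U.subtype_injective).le
  have e3 : Nat.card (fixSub B') * Nat.card CA ≤ Nat.card (fixSub B) * Nat.card (fixSub (img q A)) := by
    rw [← e1, ← Thompson.card_sup_mul_card_inf (H := CR) (K := CA) Subgroup.le_normalizer_of_normal]
    exact Nat.mul_le_mul (Subgroup.card_le_of_le hCRB) e2
  have hbest := hB B inf_le_left
  rw [← cA, ← cB, ← hCA] at hbest
  have hpos : 0 < Nat.card fB.ker * (Nat.card (fixSub B) * Nat.card CA) :=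
    Nat.mul_pos Nat.card_pos (Nat.mul_pos Nat.card_pos Nat.card_pos)
  refine Nat.le_of_mul_le_mul_right ?_ hpos
  calc Nat.card B' * Nat.card (fixSub B') * (Nat.card fB.ker * (Nat.card (fixSub B) * Nat.card CA))
      = Nat.card B' * Nat.card fB.ker * Nat.card (fixSub B) *
          (Nat.card (fixSub B') * Nat.card CA) := by ring
    _ ≤ Nat.card (img q A) * Nat.card fB.ker * Nat.card CA *
          (Nat.card (fixSub B) * Nat.card (fixSub (img q A))) := Nat.mul_le_mul hbest e3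
    _ = _ := by ring

/-- The first reduction: a nontrivial normal 2-subgroup. -/
theorem facSub_of_core (ih : ∀ (V' : Type u) [CommGroup V'] [Finite V'] (X' T' : Subgroup (MulAut V')),
      Nat.card V' < Nat.card V → Nat.card X' ≤ Nat.card (MulAut V) → (∀ v : V', v * v = 1) →
      ¬ Cfsg.Involves (Perm (Fin 3)) ↥X' → IsSyl T' X' → X' ≤ facSub T' X')
    (h2 : ∀ v : V, v * v = 1) {X T N : Subgroup (MulAut V)}
    (hS3 : ¬ Cfsg.Involves (Perm (Fin 3)) ↥X) (hT : IsSyl T X) (hNX : N ≤ X) (hN2 : IsPGroup 2 N)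
    (hNn : X ≤ Subgroup.normalizer (N : Set (MulAut V))) (hN : N ≠ ⊥) : X ≤ facSub T X := by
  haveI := finite_aut (V := V)
  have hNT : N ≤ T := by
    have h1 : IsPGroup 2 (N ⊔ T : Subgroup (MulAut V)) :=
      hN2.to_sup_of_normal_left' hT.2.1 (hT.1.trans hNn)
    have h3 := hT.2.2 _ (sup_le hNX hT.1) h1
    exact le_sup_left.trans (Subgroup.eq_of_le_of_card_ge le_sup_right h3).ge
  set U := fixSub N with hU
  have hTU : fixSub T ≤ U := fixSub_anti hNT
  have hUV : Nat.card U < Nat.card V := by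
    refine lt_of_le_of_ne (Subgroup.card_le_card_group U) fun h => hN ?_
    have htop := Subgroup.eq_top_of_card_eq U h
    exact eq_bot_iff.2 fun x hx => Subgroup.mem_bot.2
      (MulEquiv.ext fun v => (htop.ge (Subgroup.mem_top v) : v ∈ U) x hx)
  have hinv : ∀ x ∈ X, ∀ v ∈ U, x v ∈ U := by
    intro x hx v hv n hn
    have h1 : x⁻¹ * n * x ∈ N := by
      have := (Subgroup.mem_normalizer_iff.1 (inv_mem (hNn hx)) n).1 hn
      simpa using this
    have e := hv _ h1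
    rw [MulAut.mul_apply, MulAut.mul_apply] at e
    calc n (x v) = x (x⁻¹ (n (x v))) := (MulAut.apply_inv_self V x _).symm
      _ = x v := by rw [e]
  set q := subAct hinv with hq
  set T' := img q T with hT'
  have hT'syl : IsSyl T' q.range := by
    obtain ⟨S, hS⟩ := hT.exists_sylow
    have hmap := Sylow.mapSurjective (f := q.rangeRestrict) q.rangeRestrict_surjective S
    refine ⟨(img_mono q hT.1).trans (img_self q).le, isPGroup_img q hT.2.1, fun P hP hP2 => ?_⟩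
    obtain ⟨S', hS'⟩ := (hP2.comap_of_injective q.range.subtype q.range.subtype_injective).exists_le_sylow
    have e : ((Sylow.mapSurjective q.rangeRestrict_surjective S : Sylow 2 ↥q.range) :
        Subgroup ↥q.range).map q.range.subtype = T' := by
      rw [Sylow.coe_mapSurjective, Subgroup.map_map, hS]
      rfl
    rw [← e, Subgroup.card_map_of_injective q.range.subtype_injective, Sylow.card_eq_multiplicity,
      ← S'.card_eq_multiplicity, ← Nat.card_congr (Subgroup.subgroupOfEquivOfLe hP).toEquiv]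
    exact Subgroup.card_le_of_le hS'
  have hcardX : Nat.card q.range ≤ Nat.card (MulAut V) :=
    (Nat.card_le_card_of_surjective q.rangeRestrict q.rangeRestrict_surjective).trans
      (Subgroup.card_le_card_group X)
  have hmain := ih U q.range T' hUV hcardX (fun r => Subtype.ext (h2 r))
    (fun h => hS3 (involves_of_range q h)) hT'syl
  set H := facSub T X with hH
  set H' := H.comap X.subtype with hH'
  have hker : q.ker ≤ H' := by
    intro k hk
    refine Subgroup.mem_sup_left ⟨k.2, fun v hv => ?_⟩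
    exact congrArg Subtype.val (DFunLike.congr_fun (MonoidHom.mem_ker.1 hk) (⟨v, hTU hv⟩ : U))
  suffices hle : q.range ≤ H'.map q by
    intro x hx
    obtain ⟨y, hy, hyx⟩ := hle ⟨⟨x, hx⟩, rfl⟩
    have h1 : y⁻¹ * ⟨x, hx⟩ ∈ q.ker := by rw [MonoidHom.mem_ker, map_mul, map_inv, hyx, inv_mul_cancel]
    have h3 := H'.mul_mem hy (hker h1)
    rw [mul_inv_cancel_left] at h3
    exact h3
  refine hmain.trans (sup_le ?_ ?_)
  · rintro x' ⟨hx'1, hx'⟩
    obtain ⟨x, rfl⟩ := hx'1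
    refine ⟨x, Subgroup.mem_sup_left ⟨x.2, fun v hv => ?_⟩, rfl⟩
    have hv' : (⟨v, hTU hv⟩ : U) ∈ fixSub T' := by
      rintro t' ht'
      obtain ⟨t, htX, ht, rfl⟩ := (mem_img q).1 ht'
      exact Subtype.ext (hv t ht)
    exact congrArg Subtype.val (hx' _ hv')
  · set R' := rad T' with hR'
    set M := X ⊓ pre q (q.range ⊓ Subgroup.normalizer (R' : Set (MulAut ↥U))) with hM
    set K := pre q R' with hK
    have hR'n : R' ≤ q.range ⊓ Subgroup.normalizer (R' : Set (MulAut ↥U)) :=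
      le_inf ((rad_le _).trans hT'syl.1) Subgroup.le_normalizer
    have hKM : K ≤ M := le_inf (pre_le q _) (fun k hk => by
      obtain ⟨hkX, hk'⟩ := (mem_pre q).1 hk
      exact (mem_pre q).2 ⟨hkX, hR'n hk'⟩)
    have hTM : T ≤ M := le_inf hT.1 (fun t ht => (mem_pre q).2 ⟨hT.1 ht, ⟨_, rfl⟩,
      normalizer_le_normalizer_rad' _ (Subgroup.le_normalizer ((mem_img q).2 ⟨t, hT.1 ht, ht, rfl⟩))⟩)
    have hKn : M ≤ Subgroup.normalizer (K : Set (MulAut V)) := by
      rintro m ⟨hmX, hm⟩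
      obtain ⟨_, -, hm'⟩ := (mem_pre q).1 hm
      refine Subgroup.mem_normalizer_iff.2 fun z => ?_
      constructor
      · intro hz
        obtain ⟨hzX, hz'⟩ := (mem_pre q).1 hz
        refine (mem_pre q).2 ⟨X.mul_mem (X.mul_mem hmX hzX) (X.inv_mem hmX), ?_⟩
        have e : (⟨_, X.mul_mem (X.mul_mem hmX hzX) (X.inv_mem hmX)⟩ : ↥X) =
            ⟨m, hmX⟩ * ⟨z, hzX⟩ * ⟨m, hmX⟩⁻¹ := rfl
        rw [e, map_mul, map_mul, map_inv]
        exact (Subgroup.mem_normalizer_iff.1 hm' _).1 hz'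
      · intro hz
        obtain ⟨hzX', hz'⟩ := (mem_pre q).1 hz
        have hzX : z ∈ X := by
          have := X.mul_mem (X.mul_mem (X.inv_mem hmX) hzX') hmX
          simpa [mul_assoc] using this
        refine (mem_pre q).2 ⟨hzX, ?_⟩
        have e : (⟨_, hzX'⟩ : ↥X) = ⟨m, hmX⟩ * ⟨z, hzX⟩ * ⟨m, hmX⟩⁻¹ := rfl
        rw [e, map_mul, map_mul, map_inv] at hz'
        exact (Subgroup.mem_normalizer_iff.1 hm' _).2 hz'
    have hfr := frattini (hT.mono inf_le_left hTM) hKM hKn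
    have hRP : rad T ≤ T ⊓ K := sSup_le fun A hA => le_inf hA.1 fun a ha => by
      refine (mem_pre q).2 ⟨hT.1 (hA.1 ha), ?_⟩
      refine le_rad (T := T') (A := img q A) ⟨img_mono q hA.1, ?_, best_img_subAct (hA.1.trans hT.1) hinv hA.2.2⟩
        ((mem_img q).2 ⟨a, _, ha, rfl⟩)
      intro b' hb'
      obtain ⟨b, hbX, hb, rfl⟩ := (mem_img q).1 hb'
      rw [← map_mul, show (⟨b, hbX⟩ : ↥X) * ⟨b, hbX⟩ = 1 from Subtype.ext (hA.2.1 b hb), map_one]
    have hMH : M ≤ H := by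
      refine hfr.trans (sup_le ?_ ?_)
      · exact fun m hm => mem_facSub_of_rad hm.1.1
          (normalizer_le_normalizer_rad inf_le_left hRP hm.2)
      · intro k hk
        obtain ⟨hkX, hk'⟩ := (mem_pre q).1 hk
        obtain ⟨t, htX, ht, hte⟩ := (mem_img q).1 (rad_le _ hk')
        have h1 : (⟨t, htX⟩ : ↥X)⁻¹ * ⟨k, hkX⟩ ∈ q.ker := by
          rw [MonoidHom.mem_ker, map_mul, map_inv, hte, inv_mul_cancel]
        have h3 := H'.mul_mem (show (⟨t, htX⟩ : ↥X) ∈ H' from le_facSub hT.1 ht) (hker h1)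
        rw [mul_inv_cancel_left] at h3
        exact h3
    rintro x' ⟨⟨x, rfl⟩, hx'⟩
    exact ⟨x, hMH ⟨x.2, (mem_pre q).2 ⟨x.2, ⟨_, rfl⟩, hx'⟩⟩, rfl⟩

/-- In a nilpotent group, a proper conjugation-invariant part can be enlarged inside a normalizer. -/
theorem exists_sig_normalizing {T : Subgroup (MulAut V)} (hT : IsPGroup 2 T)
    (Δ : Set (Subgroup (MulAut V))) (hΔ : Δ ⊆ Sig T) (hne : Δ ≠ Sig T) :
    ∃ A ∈ Sig T, A ∉ Δ ∧ A ≤ Subgroup.normalizer ((sSup Δ : Subgroup (MulAut V)) : Set (MulAut V)) := by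
  haveI := finite_aut (V := V)
  set D : Subgroup (MulAut V) := sSup Δ with hD
  have hDT : D ≤ T := sSup_le fun A hA => (hΔ hA).1
  set N := T ⊓ Subgroup.normalizer (D : Set (MulAut V)) with hN
  by_cases hNT : T ≤ N
  · obtain ⟨A, hA, hAΔ⟩ : ∃ A ∈ Sig T, A ∉ Δ := by
      by_contra hc
      push Not at hc
      exact hne (Set.Subset.antisymm hΔ hc)
    exact ⟨A, hA, hAΔ, hA.1.trans (hNT.trans inf_le_right)⟩
  have hlt : N.subgroupOf T < ⊤ := by
    rw [lt_top_iff_ne_top, Ne, Subgroup.subgroupOf_eq_top]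
    exact hNT
  haveI := hT.isNilpotent
  obtain ⟨⟨x, hxT⟩, hx, hxN⟩ := SetLike.exists_of_lt (Group.normalizerCondition_of_isNilpotent _ hlt)
  have hxn : ∀ y ∈ N, x * y * x⁻¹ ∈ N := fun y hy =>
    (Subgroup.mem_normalizer_iff.1 hx ⟨y, hy.1⟩).1 hy
  have hex : ∃ A ∈ Δ, cj x A ∉ Δ := by
    by_contra hc
    push Not at hc
    refine hxN (Subgroup.mem_subgroupOf.2 ⟨hxT, mem_normalizer_of_cj ?_⟩)
    refine Subgroup.eq_of_le_of_card_ge ?_ (card_cj x D).ge
    rw [cj, Subgroup.map_le_iff_le_comap]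
    refine sSup_le fun A hA => ?_
    rw [← Subgroup.map_le_iff_le_comap]
    exact le_sSup (hc A hA)
  obtain ⟨A, hA, hxA⟩ := hex
  have hAN : cj x A ≤ N := by
    rintro _ ⟨a, ha, rfl⟩
    exact hxn a ⟨(hΔ hA).1 ha, Subgroup.le_normalizer ((le_sSup hA : A ≤ D) ha)⟩
  exact ⟨cj x A, sig_mono (sig_cj x (hΔ hA)) (hAN.trans inf_le_left), hxA, hAN.trans inf_le_right⟩

/-- The second reduction: no normal 2-subgroup. -/
theorem facSub_of_noCore (h2 : ∀ v : V, v * v = 1) {X T : Subgroup (MulAut V)}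
    (ih : ∀ Y T' : Subgroup (MulAut V), Y < X → IsSyl T' Y → Y ≤ facSub T' Y)
    (hS3 : ¬ Cfsg.Involves (Perm (Fin 3)) ↥X) (hT : IsSyl T X) (hC : NoCore X) :
    X ≤ facSub T X := by
  haveI := finite_aut (V := V)
  classical
  by_contra hXH
  set H := facSub T X with hH
  have hTH : T ≤ H := le_facSub hT.1
  have hHX : H < X := lt_of_le_not_ge (facSub_le T X) hXH
  -- `H` is the only maximal subgroup containing `T`
  have hover : ∀ Y : Subgroup (MulAut V), Y < X → T ≤ Y → Y ≤ H := fun Y hY hTY =>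
    (ih Y T hY (hT.mono hY.le hTY)).trans
      (sup_le_sup (inf_le_inf_right _ hY.le) (inf_le_inf_right _ hY.le))
  have hHn : ∀ x ∈ X, cj x H = H → x ∈ H := by
    intro x hx hxH
    set N := X ⊓ Subgroup.normalizer (H : Set (MulAut V)) with hN
    have hNX : N < X := by
      refine lt_of_le_of_ne inf_le_left fun e => hXH ?_
      refine (frattini hT hHX.le (inf_eq_left.1 e)).trans (sup_le ?_ le_rfl)
      rintro z ⟨hzX, hz⟩
      rw [inf_of_le_left hTH] at hz
      exact mem_facSub_of_rad hzX (normalizer_le_normalizer_rad' T hz)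
    exact hover N hNX (le_inf hT.1 (hTH.trans Subgroup.le_normalizer)) ⟨hx, mem_normalizer_of_cj hxH⟩
  have hHn' : ∀ g ∈ X, ∀ x ∈ X, cj x (cj g H) = cj g H → x ∈ cj g H := by
    intro g hg x hx hxH
    rw [mem_cj]
    refine hHn _ (mul_mem (mul_mem (inv_mem hg) hx) hg) ?_
    rw [← cj_mul, ← cj_mul, hxH, cj_inv_cj]
  obtain ⟨u0, hu0, hu0X⟩ : ∃ u0 ∈ fixSub T, u0 ∉ fixSub X := by
    by_contra hc
    push Not at hc
    exact hXH (le_trans (le_inf (le_refl X) (fun x hx => mem_fixStab.2 fun v hv => hc v hv x hx :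
      X ≤ fixStab (fixSub T))) le_sup_left)
  -- stabilizers of the distinguished fixed points
  have hstab : ∀ g ∈ X, X ⊓ fixStab (fixSub (cj g T)) ≤ cj g H := by
    intro g hg x hx
    rw [mem_cj]
    set Y := X ⊓ fixStab (fixSub T) with hY
    have hYX : Y < X := lt_of_le_of_ne inf_le_left fun e =>
      hu0X fun z hz => (e.ge hz : z ∈ Y).2 u0 hu0
    refine hover Y hYX (le_inf hT.1 (le_fixStab_fixSub T))
      ⟨X.mul_mem (X.mul_mem (X.inv_mem hg) hx.1) hg, fun v hv => ?_⟩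
    have h1 : x (g v) = g v := hx.2 _ (by rw [fixSub_cj]; exact ⟨v, hv, rfl⟩)
    rw [MulAut.mul_apply, MulAut.mul_apply, h1, MulAut.inv_apply_self]
  have hradlt : ∀ g ∈ X, ∀ x ∈ X, cj x (rad (cj g T)) = rad (cj g T) → x ∈ cj g H := by
    intro g hg x hx he
    rw [mem_cj]
    refine mem_facSub_of_rad (mul_mem (mul_mem (inv_mem hg) hx) hg) (mem_normalizer_of_cj ?_)
    rw [rad_cj] at he
    rw [← cj_mul, ← cj_mul, he, cj_inv_cj]
  -- offenders determine the maximal subgroup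
  have U1 : ∀ g₁ ∈ X, ∀ g₂ ∈ X, ∀ A : Subgroup (MulAut V), A ≠ ⊥ → A ∈ Sig (cj g₁ T) →
      A ∈ Sig (cj g₂ T) → cj g₁ H = cj g₂ H := by
    by_contra hc
    push Not at hc
    obtain ⟨g₁, hg₁, g₂, hg₂, A, hA, hA1, hA2, hne⟩ := hc
    set S : Set (MulAut V × MulAut V) := {p | p.1 ∈ X ∧ p.2 ∈ X ∧
      (∃ A : Subgroup (MulAut V), A ≠ ⊥ ∧ A ∈ Sig (cj p.1 T) ∧ A ∈ Sig (cj p.2 T)) ∧
      cj p.1 H ≠ cj p.2 H} with hS
    obtain ⟨⟨x₁, x₂⟩, ⟨hx₁, hx₂, ⟨B, hB, hB1, hB2⟩, hne'⟩, hmax⟩ := Set.exists_max_image S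
      (fun p => (Sig (cj p.1 T) ∩ Sig (cj p.2 T)).ncard) (Set.toFinite _)
      ⟨(g₁, g₂), hg₁, hg₂, ⟨A, hA, hA1, hA2⟩, hne⟩
    set Δ := Sig (cj x₁ T) ∩ Sig (cj x₂ T) with hΔ
    have big : ∀ p₁ ∈ X, ∀ p₂ ∈ X, ∀ Δ' : Set (Subgroup (MulAut V)),
        Δ' ⊆ Sig (cj p₁ T) → Δ' ⊆ Sig (cj p₂ T) → (∃ C ∈ Δ', C ≠ ⊥) → Δ.ncard < Δ'.ncard →
        cj p₁ H = cj p₂ H := by
      intro p₁ hp₁ p₂ hp₂ Δ' h1 h3 hnt hlt
      by_contra hne''
      obtain ⟨C, hC', hC0⟩ := hnt
      have := hmax (p₁, p₂) ⟨hp₁, hp₂, ⟨C, hC0, h1 hC', h3 hC'⟩, hne''⟩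
      have h4 := Set.ncard_le_ncard (Set.subset_inter h1 h3) (Set.toFinite _)
      exact absurd hlt (not_lt.2 (h4.trans this))
    have hstrict : ∀ p₁ ∈ X, ∀ p₂ ∈ X, Sig (cj p₁ T) ⊆ Sig (cj p₂ T) → cj p₁ H = cj p₂ H := by
      intro p₁ hp₁ p₂ hp₂ hsub
      have hr : rad (cj p₂ T) = rad (cj p₁ T) := by
        refine (Subgroup.eq_of_le_of_card_ge (sSup_le_sSup hsub) ?_).symm
        show Nat.card (rad (cj p₂ T)) ≤ Nat.card (rad (cj p₁ T))
        rw [rad_cj, rad_cj, card_cj, card_cj]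
      have hmem := hradlt p₁ hp₁ (p₂ * p₁⁻¹) (mul_mem hp₂ (inv_mem hp₁)) (by
        rw [← rad_cj, cj_mul, inv_mul_cancel_right, hr])
      have e := cj_eq_of_mem hmem
      rw [cj_mul, inv_mul_cancel_right] at e
      exact e.symm
    set D : Subgroup (MulAut V) := sSup Δ with hD
    have hDT : D ≤ cj x₁ T := sSup_le fun C hC' => hC'.1.1
    have hD2 : D ≤ cj x₂ T := sSup_le fun C hC' => hC'.2.1
    have hD0 : D ≠ ⊥ := fun h => hB (eq_bot_iff.2 (h ▸ le_sSup (show B ∈ Δ from ⟨hB1, hB2⟩)))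
    set Y := X ⊓ Subgroup.normalizer (D : Set (MulAut V)) with hY
    have hYX : Y < X := lt_of_le_of_ne inf_le_left fun e =>
      hD0 (hC D (hDT.trans (cj_le hT.1 hx₁)) ((hT.2.1.map _).to_le hDT) (inf_eq_left.1 e))
    obtain ⟨A₁, hA₁, hA₁Δ, hA₁N⟩ := exists_sig_normalizing (hT.2.1.map _) Δ Set.inter_subset_left
      (fun e => hne' (hstrict _ hx₁ _ hx₂ fun C hC' => (e.ge hC').2))
    obtain ⟨A₂, hA₂, hA₂Δ, hA₂N⟩ := exists_sig_normalizing (hT.2.1.map _) Δ Set.inter_subset_right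
      (fun e => hne' (hstrict _ hx₂ _ hx₁ fun C hC' => (e.ge hC').1).symm)
    set N₁ := cj x₁ T ⊓ Subgroup.normalizer (D : Set (MulAut V)) with hN₁
    set N₂ := cj x₂ T ⊓ Subgroup.normalizer (D : Set (MulAut V)) with hN₂
    obtain ⟨T₁, hT₁, hNT₁⟩ := exists_syl ((hT.2.1.map _).to_le inf_le_left)
      (show N₁ ≤ Y from inf_le_inf_right _ (cj_le hT.1 hx₁))
    obtain ⟨T₂, hT₂, hNT₂⟩ := exists_syl ((hT.2.1.map _).to_le inf_le_left)
      (show N₂ ≤ Y from inf_le_inf_right _ (cj_le hT.1 hx₂))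
    obtain ⟨y, hyY, hy⟩ := hT₁.exists_conj hT₂.2.1 hT₂.1
    obtain ⟨g₃, hg₃, hT₁g⟩ := hT.exists_conj hT₁.2.1 (hT₁.1.trans hYX.le)
    have hnt : ∀ Δ' : Set (Subgroup (MulAut V)), Δ ⊆ Δ' → ∃ C ∈ Δ', C ≠ ⊥ :=
      fun Δ' h => ⟨B, h ⟨hB1, hB2⟩, hB⟩
    have hins : ∀ {C : Subgroup (MulAut V)}, C ∉ Δ → Δ.ncard < (insert C Δ).ncard := by
      intro C hC'
      rw [Set.ncard_insert_of_notMem hC' (Set.toFinite _)]
      exact Nat.lt_succ_self _
    have hsub₁ : insert A₁ Δ ⊆ Sig T₁ := by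
      rintro C (rfl | hC')
      · exact sig_mono hA₁ ((le_inf hA₁.1 hA₁N).trans hNT₁)
      · exact sig_mono hC'.1 ((le_inf hC'.1.1 ((le_sSup hC' : C ≤ D).trans Subgroup.le_normalizer)).trans hNT₁)
    have hsub₂ : insert A₂ Δ ⊆ Sig T₂ := by
      rintro C (rfl | hC')
      · exact sig_mono hA₂ ((le_inf hA₂.1 hA₂N).trans hNT₂)
      · exact sig_mono hC'.2 ((le_inf hC'.2.1 ((le_sSup hC' : C ≤ D).trans Subgroup.le_normalizer)).trans hNT₂)
    have hup : ∀ {T' : Subgroup (MulAut V)} {k : MulAut V}, T' ≤ cj k T → Sig T' ⊆ Sig (cj k T) :=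
      fun h C hC' => sig_mono hC' (hC'.1.trans h)
    have e13 : cj x₁ H = cj g₃ H := big _ hx₁ _ hg₃ (insert A₁ Δ)
      (Set.insert_subset hA₁ Set.inter_subset_left) (hsub₁.trans (hup hT₁g))
      (hnt _ (Set.subset_insert _ _)) (hins hA₁Δ)
    have hyX : y ∈ X := hYX.le hyY
    have hT₂g : T₂ ≤ cj (y * g₃) T := by
      rw [← cj_mul]
      exact hy.trans (cj_mono y hT₁g)
    have e23 : cj x₂ H = cj (y * g₃) H := big _ hx₂ _ (mul_mem hyX hg₃) (insert A₂ Δ)
      (Set.insert_subset hA₂ Set.inter_subset_right) (hsub₂.trans (hup hT₂g))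
      (hnt _ (Set.subset_insert _ _)) (hins hA₂Δ)
    have hYH : Y ≤ cj g₃ H := by
      refine (ih Y T₁ hYX hT₁).trans (sup_le ?_ ?_)
      · exact le_trans (inf_le_inf hYX.le (fixStab_anti (fixSub_anti hT₁g))) (hstab g₃ hg₃)
      · rintro n ⟨hnY, hn⟩
        have hnX : n ∈ X := hYX.le hnY
        refine hHn' g₃ hg₃ n hnX ?_
        have e := big (n * g₃) (mul_mem hnX hg₃) g₃ hg₃ ((cj n) '' insert A₁ Δ) ?_ ?_ ?_ ?_
        · rwa [← cj_mul] at e
        · rintro _ ⟨C, hC', rfl⟩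
          rw [← cj_mul]
          exact sig_cj n (hup hT₁g (hsub₁ hC'))
        · rintro _ ⟨C, hC', rfl⟩
          refine sig_mono (sig_cj n (hsub₁ hC')) ?_
          refine (cj_mono n (le_rad (hsub₁ hC'))).trans ?_
          rw [cj_eq_self hn]
          exact (rad_le _).trans hT₁g
        · refine ⟨cj n B, ⟨B, Set.mem_insert_of_mem _ ⟨hB1, hB2⟩, rfl⟩, fun h => hB ?_⟩
          exact (Subgroup.map_eq_bot_iff_of_injective _ (MulAut.conj n).injective).1 h
        · rw [Set.ncard_image_of_injective _ (fun C C' h => by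
            simpa [cj_inv_cj] using congrArg (QOff.cj n⁻¹) h)]
          exact hins hA₁Δ
    apply hne'
    rw [e13, e23, ← cj_mul, cj_eq_of_mem (hYH hyY)]
  -- every proper subgroup containing a nontrivial offender lies in one maximal subgroup
  have U2 : ∀ g ∈ X, ∀ A : Subgroup (MulAut V), A ≠ ⊥ → A ∈ Sig (cj g T) →
      ∀ Y : Subgroup (MulAut V), Y < X → A ≤ Y → Y ≤ cj g H := by
    intro g hg A hA hAs Y hY hAY
    obtain ⟨T₁, hT₁, hAT₁⟩ := exists_syl ((hT.2.1.map _).to_le hAs.1) hAY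
    obtain ⟨g₃, hg₃, hT₁g⟩ := hT.exists_conj hT₁.2.1 (hT₁.1.trans hY.le)
    have e : cj g H = cj g₃ H := U1 g hg g₃ hg₃ A hA hAs (sig_mono hAs (hAT₁.trans hT₁g))
    rw [e]
    refine (ih Y T₁ hY hT₁).trans (sup_le ?_ ?_)
    · exact le_trans (inf_le_inf hY.le (fixStab_anti (fixSub_anti hT₁g))) (hstab g₃ hg₃)
    · rintro n ⟨hnY, hn⟩
      have hnX : n ∈ X := hY.le hnY
      refine hHn' g₃ hg₃ n hnX ?_
      have hAT : A ∈ Sig T₁ := sig_mono hAs hAT₁
      have e' := U1 (n * g₃) (mul_mem hnX hg₃) g₃ hg₃ (cj n A)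
        (fun h => hA ((Subgroup.map_eq_bot_iff_of_injective _ (MulAut.conj n).injective).1 h))
        (by rw [← cj_mul]; exact sig_cj n (sig_mono hAT (hAT₁.trans hT₁g)))
        (sig_mono (sig_cj n hAT) ((cj_mono n (le_rad hAT)).trans
          (by rw [cj_eq_self hn]; exact (rad_le _).trans hT₁g)))
      rwa [← cj_mul] at e'
  -- a quadratic offender
  obtain ⟨A0, hA0, hA0ne⟩ : ∃ A0 ∈ Sig T, A0 ≠ ⊥ := by
    by_contra hc
    push Not at hc
    refine hXH fun x hx => mem_facSub_of_rad hx (mem_normalizer_of_cj ?_)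
    have hr : rad T = ⊥ := sSup_eq_bot.2 hc
    rw [hr]
    exact Subgroup.map_bot _
  obtain ⟨A, -, hAs, hAne, hAq⟩ := exists_quadratic h2 hA0 hA0ne
  have hAH : A ≤ H := hAs.1.trans hTH
  have hU : Uniq X A H := by
    refine ⟨hHX, hAH, fun h hh Y hY hle => ?_⟩
    exact U2 h hh (cj h A)
      (fun e => hAne ((Subgroup.map_eq_bot_iff_of_injective _ (MulAut.conj h).injective).1 e))
      (sig_cj h hAs) Y hY hle
  obtain ⟨h, hh, hhA⟩ : ∃ h ∈ X, ¬ cj h A ≤ H := by
    by_contra! hall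
    set N : Subgroup (MulAut V) := ⨆ x : X, cj (x : MulAut V) A with hNd
    have hNH : N ≤ H := iSup_le fun x => hall x x.2
    have hAN : A ≤ N := le_trans (le_of_eq (cj_one A).symm) (le_iSup (fun x : X => cj (x : MulAut V) A) 1)
    have hNn : X ≤ Subgroup.normalizer (N : Set (MulAut V)) := by
      intro x hx
      refine mem_normalizer_of_cj (Subgroup.eq_of_le_of_card_ge ?_ (card_cj x N).ge)
      rw [cj, Subgroup.map_le_iff_le_comap]
      refine iSup_le fun y => ?_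
      rw [← Subgroup.map_le_iff_le_comap]
      refine le_trans (le_of_eq (cj_mul x (y : MulAut V) A))
        (le_iSup (fun x : X => cj (x : MulAut V) A) ⟨x * y, mul_mem hx y.2⟩)
    refine hXH ((frattini hT (hNH.trans hHX.le) hNn).trans (sup_le ?_ hNH))
    set P := T ⊓ N with hP
    set Y := X ⊓ Subgroup.normalizer (P : Set (MulAut V)) with hY
    have hYX : Y < X := lt_of_le_of_ne inf_le_left fun e => hAne (eq_bot_iff.2
      ((hC P (inf_le_left.trans hT.1) (hT.2.1.to_le inf_le_left) (inf_eq_left.1 e)) ▸ le_inf hAs.1 hAN))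
    refine hover Y hYX (le_inf hT.1 fun t ht => mem_normalizer_of_cj ?_)
    refine Subgroup.eq_of_le_of_card_ge (le_inf ((cj_mono t inf_le_left).trans
      (cj_eq_of_mem ht).le) ((cj_mono t inf_le_right).trans (cj_eq_self (hNn (hT.1 ht))).le)) (card_cj t P).ge
  have hgen : A ⊔ cj h A = X := by
    by_contra hne
    have hlt := lt_of_le_of_ne (sup_le (hAH.trans hHX.le) (cj_le (hAH.trans hHX.le) hh)) hne
    have h1 := hU.2.2 1 X.one_mem _ hlt (by rw [cj_one]; exact le_sup_left)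
    rw [cj_one] at h1
    exact hhA (le_sup_right.trans h1)
  refine hS3 (involves_of_uniq _ V le_rfl h2 X A H h hU hC hh hgen (hT.2.1.to_le hAs.1) hAne hAq ?_)
  refine le_trans ?_ (hAs.2.2 ⊥ bot_le)
  rw [Subgroup.card_bot, one_mul,
    show fixSub (⊥ : Subgroup (MulAut V)) = ⊤ from eq_top_iff.2 fun v _ a ha => by
      rw [Subgroup.mem_bot.1 ha, MulAut.one_apply], Subgroup.card_top]

/-- **Generation.** -/
theorem le_facSub_all : ∀ (n : ℕ) (V : Type u) [CommGroup V] [Finite V] (X T : Subgroup (MulAut V)),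
    Nat.card V ≤ n → (∀ v : V, v * v = 1) → ¬ Cfsg.Involves (Perm (Fin 3)) ↥X → IsSyl T X →
      X ≤ facSub T X := by
  intro n
  induction n using Nat.strong_induction_on with
  | _ n ih =>
  intro V _ _ X T hn h2 hS3 hT
  haveI := finite_aut (V := V)
  induction hm : Nat.card X using Nat.strong_induction_on generalizing X T with
  | _ m ihX =>
  subst hm
  by_cases hC : NoCore X
  · refine facSub_of_noCore h2 (fun Y T' hY hT' => ?_) hS3 hT hC
    refine ihX (Nat.card Y) ?_ Y T' (fun h => hS3 (involves_of_le hY.le h)) hT' rfl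
    by_contra hge
    exact hY.ne (Subgroup.eq_of_le_of_card_ge hY.le (not_lt.1 hge))
  · simp only [NoCore, not_forall] at hC
    obtain ⟨N, hNX, hN2, hNn, hN⟩ := hC
    exact facSub_of_core (fun V' _ _ X' T' hlt _ => ih (Nat.card V') (hlt.trans_le hn) V' X' T' le_rfl)
      h2 hS3 hT hNX hN2 hNn hN

end Cfsg.Agent.T51.FacGen
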