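import Cfsg.Agent.T51.FacGenMain

/-!
Subgroups on which a group of automorphisms of a group of exponent two has no offenders.
-/

set_option autoImplicit false
set_option linter.unusedVariables false
set_option linter.unusedSectionVars false
set_option linter.style.haveILetI false

namespace Cfsg.Agent.T51.Off

open QOff FacGen

universe u

variable {V : Type u} [CommGroup V]

/-- No subgroup of `T` inducing involutions on `W` is an offender on `W`. -/
def Free (T : Subgroup (MulAut V)) (W : Subgroup V) : Prop :=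
  ∀ E ≤ T, (∀ e ∈ E, ∀ w ∈ W, e (e w) = w) → ¬ E ≤ fixStab W →
    Nat.card E * Nat.card ↥(W ⊓ fixSub E) < Nat.card ↥(E ⊓ fixStab W) * Nat.card W

theorem Free.mono {T T' : Subgroup (MulAut V)} {W : Subgroup V} (h : Free T W) (hle : T' ≤ T) :
    Free T' W :=
  fun E hE => h E (hE.trans hle)

theorem fixStab_map (g : MulAut V) (W : Subgroup V) :
    fixStab (W.map g.toMonoidHom) = QOff.cj g (fixStab W) := by
  ext x
  rw [mem_cj, mem_fixStab, mem_fixStab]
  constructor
  · intro h w hw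
    rw [MulAut.mul_apply, MulAut.mul_apply, h (g w) ⟨w, hw, rfl⟩, MulAut.inv_apply_self]
  · rintro h _ ⟨w, hw, rfl⟩
    have e := congrArg g (h w hw)
    rw [MulAut.mul_apply, MulAut.mul_apply, MulAut.apply_inv_self] at e
    exact e

theorem Free.cj {T : Subgroup (MulAut V)} {W : Subgroup V} (h : Free T W) (g : MulAut V) :
    Free (QOff.cj g T) (W.map g.toMonoidHom) := by
  intro E hE hinv hne
  obtain ⟨E0, hE0, rfl⟩ : ∃ E0, E0 ≤ T ∧ QOff.cj g E0 = E :=
    ⟨QOff.cj g⁻¹ E, (cj_mono g⁻¹ hE).trans (cj_inv_cj g T).le, cj_cj_inv g E⟩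
  have h0 := h E0 hE0 (fun e he w hw => ?_) (fun hle => hne ?_)
  · rw [fixStab_map, fixSub_cj, ← Subgroup.map_inf _ _ _ g.injective, card_cj,
      ← Subgroup.map_inf _ _ _ (MulAut.conj g).injective,
      Subgroup.card_map_of_injective (f := g.toMonoidHom) g.injective,
      Subgroup.card_map_of_injective (f := g.toMonoidHom) g.injective,
      Subgroup.card_map_of_injective (f := (MulAut.conj g).toMonoidHom) (MulAut.conj g).injective]
    exact h0
  · have e1 := hinv (g * e * g⁻¹) ⟨e, he, rfl⟩ (g w) ⟨w, hw, rfl⟩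
    simp only [MulAut.mul_apply, MulAut.inv_apply_self] at e1
    exact g.injective e1
  · rw [fixStab_map]
    exact cj_mono g hle

section Finite

variable [Finite V]

/-- Best offenders fix a subgroup without offenders. -/
theorem fix_of_free {T A : Subgroup (MulAut V)} {W : Subgroup V} (h : Free T W) (hA : A ∈ Sig T) :
    A ≤ fixStab W := by
  by_contra hne
  have h1 := h A hA.1 (fun e he w _ => by rw [← MulAut.mul_apply, hA.2.1 e he, MulAut.one_apply]) hne
  set B := A ⊓ fixStab W with hB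
  have hle : W ⊔ fixSub A ≤ fixSub B :=
    sup_le (fun w hw b hb => hb.2 w hw) (fixSub_anti inf_le_left)
  have h3 := Thompson.card_sup_mul_card_inf (H := W) (K := fixSub A) Subgroup.le_normalizer_of_normal
  have key : Nat.card B * Nat.card W * Nat.card (fixSub A) ≤
      Nat.card A * Nat.card ↥(W ⊓ fixSub A) * Nat.card (fixSub A) :=
    calc Nat.card B * Nat.card W * Nat.card (fixSub A)
        = Nat.card B * Nat.card ↥(W ⊔ fixSub A) * Nat.card ↥(W ⊓ fixSub A) := by
          rw [mul_assoc, ← h3, ← mul_assoc]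
      _ ≤ Nat.card A * Nat.card (fixSub A) * Nat.card ↥(W ⊓ fixSub A) :=
          Nat.mul_le_mul_right _ ((Nat.mul_le_mul_left _ (Subgroup.card_le_of_le hle)).trans
            (hA.2.2 B inf_le_left))
      _ = _ := by ring
  exact absurd h1 (not_lt.2 (Nat.le_of_mul_le_mul_right key Nat.card_pos))

theorem rad_le_fixStab {T : Subgroup (MulAut V)} {W : Subgroup V} (h : Free T W) :
    rad T ≤ fixStab W :=
  sSup_le fun _ hA => fix_of_free h hA

theorem fixStab_top : fixStab (⊤ : Subgroup V) = ⊥ :=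
  eq_bot_iff.2 fun _ hx => Subgroup.mem_bot.2
    (MulEquiv.ext fun v => hx v (Subgroup.mem_top v))

/-- Without best offenders there are no offenders. -/
theorem free_top_of_sig {T : Subgroup (MulAut V)} (h : ∀ A ∈ Sig T, A = ⊥) :
    Free T (⊤ : Subgroup V) := by
  haveI := finite_aut (V := V)
  intro E hE hinv hne
  rw [fixStab_top] at hne ⊢
  rw [inf_bot_eq, Subgroup.card_bot, one_mul, top_inf_eq, Subgroup.card_top]
  by_contra hge
  rw [not_lt] at hge
  obtain ⟨F, ⟨hFE, hF⟩, hmax⟩ := Set.exists_max_image {F : Subgroup (MulAut V) | F ≤ E ∧ F ≠ ⊥}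
    (fun F => Nat.card F * Nat.card (fixSub F)) (Set.toFinite _) ⟨E, le_rfl, fun h => hne h.le⟩
  refine hF (h F ⟨hFE.trans hE, fun a ha => MulEquiv.ext fun v => ?_, fun B hB => ?_⟩)
  · rw [MulAut.mul_apply, hinv a (hFE ha) v (Subgroup.mem_top v), MulAut.one_apply]
  · by_cases hB0 : B = ⊥
    · subst hB0
      rw [Subgroup.card_bot, one_mul]
      exact (Subgroup.card_le_card_group _).trans (hge.trans (hmax E ⟨le_rfl, fun h => hne h.le⟩))
    · exact hmax B ⟨hB.trans hFE, hB0⟩

end Finite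

section Sub

variable [Finite V] {Y T : Subgroup (MulAut V)} {U W : Subgroup V}
  (hinv : ∀ x ∈ Y, ∀ v ∈ U, x v ∈ U)

theorem card_img_mul {E : Subgroup (MulAut V)} (hE : E ≤ Y) :
    Nat.card (img (subAct hinv) E) * Nat.card ↥(E ⊓ fixStab U) = Nat.card E := by
  have h := QOff.card_map_mul_card_ker ((subAct hinv).comp (Subgroup.inclusion hE))
  have e1 : ((subAct hinv).comp (Subgroup.inclusion hE)).range = img (subAct hinv) E := by
    ext x'
    rw [mem_img]
    exact ⟨fun ⟨a, ha⟩ => ⟨a, hE a.2, a.2, ha⟩, fun ⟨a, _, ha, he⟩ => ⟨⟨a, ha⟩, he⟩⟩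
  have e2 : Nat.card ((subAct hinv).comp (Subgroup.inclusion hE)).ker =
      Nat.card ↥(E ⊓ fixStab U) := Nat.card_congr
    { toFun := fun a => ⟨a.1.1, a.1.2, fun u hu =>
        congrArg Subtype.val (DFunLike.congr_fun (MonoidHom.mem_ker.1 a.2) (⟨u, hu⟩ : U))⟩
      invFun := fun a => ⟨⟨a.1, a.2.1⟩, MonoidHom.mem_ker.2
        (MulEquiv.ext fun u => Subtype.ext (a.2.2 u u.2))⟩
      left_inv := fun _ => rfl
      right_inv := fun _ => rfl }
  rw [e1, e2] at h
  exact h

theorem map_inf_fixSub_img {E : Subgroup (MulAut V)} (hE : E ≤ Y) (hWU : W ≤ U) :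
    (W.subgroupOf U ⊓ fixSub (img (subAct hinv) E)).map U.subtype = W ⊓ fixSub E := by
  ext v
  constructor
  · rintro ⟨w, ⟨hw, hw'⟩, rfl⟩
    exact ⟨hw, fun e he => congrArg Subtype.val (hw' _ ((mem_img _).2 ⟨e, hE he, he, rfl⟩))⟩
  · rintro ⟨hv, hv'⟩
    refine ⟨⟨v, hWU hv⟩, ⟨hv, ?_⟩, rfl⟩
    rintro e' he'
    obtain ⟨e, _, he, rfl⟩ := (mem_img _).1 he'
    exact Subtype.ext (hv' e he)

theorem free_img (hTY : T ≤ Y) (hWU : W ≤ U) (h : Free T W) :
    Free (img (subAct hinv) T) (W.subgroupOf U) := by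
  intro E' hE' hinv' hne
  set q := subAct hinv with hq
  set E := T ⊓ pre q E' with hE
  have hEY : E ≤ Y := inf_le_left.trans hTY
  have himg : img q E = E' := by
    ext x'
    rw [mem_img]
    constructor
    · rintro ⟨x, hx, hxE, rfl⟩
      exact ((mem_pre q).1 hxE.2).2
    · intro hx'
      obtain ⟨x, hx, hxT, rfl⟩ := (mem_img q).1 (hE' hx')
      exact ⟨x, hx, ⟨hxT, (mem_pre q).2 ⟨hx, hx'⟩⟩, rfl⟩
  have hfix : img q (E ⊓ fixStab W) = E' ⊓ fixStab (W.subgroupOf U) := by
    ext x'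
    rw [mem_img]
    constructor
    · rintro ⟨x, hx, hxE, rfl⟩
      exact ⟨((mem_pre q).1 hxE.1.2).2, fun w hw => Subtype.ext (hxE.2 _ hw)⟩
    · rintro ⟨hx', hxW⟩
      obtain ⟨x, hx, hxT, rfl⟩ := (mem_img q).1 (hE' hx')
      exact ⟨x, hx, ⟨⟨hxT, (mem_pre q).2 ⟨hx, hx'⟩⟩,
        fun w hw => congrArg Subtype.val (hxW ⟨w, hWU hw⟩ hw)⟩, rfl⟩
  have h0 := h E inf_le_left (fun e he w hw => congrArg Subtype.val
    (hinv' _ ((mem_pre q).1 he.2).2 ⟨w, hWU hw⟩ hw)) (fun hle => hne ?_)
  · have c1 := card_img_mul hinv hEY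
    have c2 := card_img_mul hinv (inf_le_left.trans hEY : E ⊓ fixStab W ≤ Y)
    rw [← hq, himg] at c1
    rw [← hq, hfix, inf_assoc, inf_eq_right.2 (fixStab_anti hWU)] at c2
    have c3 : Nat.card ↥(W ⊓ fixSub E) = Nat.card ↥(W.subgroupOf U ⊓ fixSub E') := by
      rw [← map_inf_fixSub_img hinv hEY hWU, ← hq, himg,
        Subgroup.card_map_of_injective U.subtype_injective]
    have c4 : Nat.card W = Nat.card (W.subgroupOf U) :=
      (Nat.card_congr (Subgroup.subgroupOfEquivOfLe hWU).toEquiv).symm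
    rw [← c1, ← c2, c3, c4] at h0
    refine Nat.lt_of_mul_lt_mul_right (a := Nat.card ↥(E ⊓ fixStab U)) ?_
    calc _ = _ := by ring
      _ < _ := h0
      _ = _ := by ring
  · intro x' hx'
    obtain ⟨x, hx, hxE, rfl⟩ := (mem_img q).1 (himg.ge hx')
    exact fun w hw => Subtype.ext (hle hxE _ hw)

theorem free_of_img_top (hTY : T ≤ Y) (h : Free (img (subAct hinv) T) (⊤ : Subgroup U)) :
    Free T U := by
  intro E hE hinv' hne
  have h0 := h (img (subAct hinv) E) (img_mono _ hE) ?_ ?_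
  · rw [fixStab_top, inf_bot_eq, Subgroup.card_bot, one_mul, Subgroup.card_top] at h0
    have c1 := card_img_mul hinv (hE.trans hTY)
    have c2 := map_inf_fixSub_img hinv (hE.trans hTY) (le_refl U)
    rw [Subgroup.subgroupOf_self] at c2
    rw [← c1, ← c2, Subgroup.card_map_of_injective U.subtype_injective]
    calc _ = _ := by ring
      _ < Nat.card U * Nat.card ↥(E ⊓ fixStab U) := Nat.mul_lt_mul_of_pos_right h0 Nat.card_pos
      _ = _ := by ring
  · rintro e' he' w -
    obtain ⟨e, _, he, rfl⟩ := (mem_img _).1 he'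
    exact Subtype.ext (hinv' e he w w.2)
  · intro hle
    refine hne fun e he v hv => ?_
    exact congrArg Subtype.val (hle ((mem_img _).2 ⟨e, hTY (hE he), he, rfl⟩) ⟨v, hv⟩ (Subgroup.mem_top _))

theorem isSyl_img (hT : IsSyl T Y) : IsSyl (img (subAct hinv) T) (subAct hinv).range := by
  set q := subAct hinv with hq
  haveI := finite_aut (V := V)
  haveI := finite_aut (V := ↥U)
  obtain ⟨S, hS⟩ := hT.exists_sylow
  refine ⟨(img_mono q hT.1).trans (img_self q).le, isPGroup_img q hT.2.1, fun P hP hP2 => ?_⟩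
  obtain ⟨S', hS'⟩ := (hP2.comap_of_injective q.range.subtype q.range.subtype_injective).exists_le_sylow
  have e : ((Sylow.mapSurjective q.rangeRestrict_surjective S : Sylow 2 ↥q.range) :
      Subgroup ↥q.range).map q.range.subtype = img q T := by
    rw [Sylow.coe_mapSurjective, Subgroup.map_map, hS]
    rfl
  rw [← e, Subgroup.card_map_of_injective q.range.subtype_injective, Sylow.card_eq_multiplicity,
    ← S'.card_eq_multiplicity, ← Nat.card_congr (Subgroup.subgroupOfEquivOfLe hP).toEquiv]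
  exact Subgroup.card_le_of_le hS'

end Sub

/-- The subgroup generated by the images of `W` under `X`. -/
def orb (X : Subgroup (MulAut V)) (W : Subgroup V) : Subgroup V :=
  ⨆ x : X, W.map (x : MulAut V).toMonoidHom

theorem map_le_orb {X : Subgroup (MulAut V)} {W : Subgroup V} {x : MulAut V} (hx : x ∈ X) :
    W.map x.toMonoidHom ≤ orb X W :=
  le_iSup (fun x : X => W.map (x : MulAut V).toMonoidHom) ⟨x, hx⟩

theorem le_orb (X : Subgroup (MulAut V)) (W : Subgroup V) : W ≤ orb X W :=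
  fun w hw => map_le_orb X.one_mem ⟨w, hw, rfl⟩

theorem orb_le {X : Subgroup (MulAut V)} {W E : Subgroup V}
    (h : ∀ x ∈ X, ∀ w ∈ W, x w ∈ E) : orb X W ≤ E :=
  iSup_le fun x => by rintro _ ⟨w, hw, rfl⟩; exact h x x.2 w hw

theorem orb_inv {X : Subgroup (MulAut V)} {W : Subgroup V} :
    ∀ x ∈ X, ∀ v ∈ orb X W, x v ∈ orb X W := by
  intro x hx v hv
  have h : orb X W ≤ (orb X W).comap x.toMonoidHom :=
    orb_le fun y hy w hw => map_le_orb (mul_mem hx hy) ⟨w, hw, rfl⟩
  exact h hv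

theorem orb_mono {X : Subgroup (MulAut V)} {W W' : Subgroup V} (h : W ≤ W') :
    orb X W ≤ orb X W' :=
  orb_le fun x hx w hw => map_le_orb hx ⟨w, h hw, rfl⟩

/-- Everything fixing a generating set is trivial. -/
theorem eq_bot_of_fix_orb {X N : Subgroup (MulAut V)} {W : Subgroup V} (horb : orb X W = ⊤)
    (hN : N ≤ fixStab W) (hn : X ≤ Subgroup.normalizer (N : Set (MulAut V))) : N = ⊥ := by
  refine eq_bot_iff.2 fun n hn' => Subgroup.mem_bot.2 (MulEquiv.ext fun v => ?_)
  have h : orb X W ≤ fixSub N := orb_le fun x hx w hw k hk => by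
    have h1 := hN ((Subgroup.mem_normalizer_iff.1 (inv_mem (hn hx)) k).1 hk) w hw
    rw [inv_inv, MulAut.mul_apply, MulAut.mul_apply] at h1
    have e := congrArg x h1
    rwa [MulAut.apply_inv_self] at e
  rw [horb] at h
  exact h (Subgroup.mem_top v) n hn'

end Cfsg.Agent.T51.Off
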