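import Cfsg.Agent.T51.OffPoly

/-!
The counting argument: a linear space of fixed-point-free invertible maps preserving a space of
homomorphisms without offenders.
-/

set_option autoImplicit false
set_option linter.unusedVariables false
set_option linter.unusedSectionVars false
set_option linter.style.haveILetI false

namespace Cfsg.Agent.T51.Off

open Polynomial Module

instance : Fact (Nat.Prime 2) := ⟨Nat.prime_two⟩

section Bdd

variable {ι F : Type*} [Field F]

/-- Total degree in the variables and the indeterminate. -/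
def Bdd (d : ℕ) (f : (MvPolynomial ι F)[X]) : Prop :=
  ∀ i, f.coeff i ≠ 0 → i + (f.coeff i).totalDegree ≤ d

theorem Bdd.add {d : ℕ} {f g : (MvPolynomial ι F)[X]} (hf : Bdd d f) (hg : Bdd d g) :
    Bdd d (f + g) := by
  intro i hi
  rw [coeff_add] at hi ⊢
  by_cases h1 : f.coeff i = 0
  · rw [h1, zero_add] at hi ⊢
    exact hg i hi
  by_cases h2 : g.coeff i = 0
  · rw [h2, add_zero] at hi ⊢
    exact hf i hi
  have := MvPolynomial.totalDegree_add (f.coeff i) (g.coeff i)
  have a1 := hf i h1
  have a2 := hg i h2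
  omega

theorem Bdd.neg {d : ℕ} {f : (MvPolynomial ι F)[X]} (hf : Bdd d f) : Bdd d (-f) := by
  intro i hi
  rw [coeff_neg] at hi ⊢
  rw [MvPolynomial.totalDegree_neg]
  exact hf i (neg_ne_zero.1 hi)

/-- Division by a monic polynomial keeps the bound. -/
theorem Bdd.div {b d : ℕ} {g : (MvPolynomial ι F)[X]} (hg : g.Monic) (hgd : g.natDegree = b)
    (hgB : Bdd b g) (hbd : b ≤ d) :
    ∀ (k : ℕ) (f : (MvPolynomial ι F)[X]), f.natDegree ≤ k → Bdd d f →
      ∃ q r, f = g * q + r ∧ r.degree < g.degree ∧ Bdd (d - b) q := by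
  intro k
  induction k using Nat.strong_induction_on with
  | _ k ih =>
  intro f hfk hf
  by_cases hlt : f.degree < g.degree
  · exact ⟨0, f, by simp, hlt, fun i hi => absurd (coeff_zero i) hi⟩
  have hf0 : f ≠ 0 := fun h => hlt (by rw [h, degree_zero]; exact bot_lt_iff_ne_bot.2 (fun h0 => hg.ne_zero (degree_eq_bot.1 h0)))
  rw [not_lt, degree_eq_natDegree hf0, degree_eq_natDegree hg.ne_zero, hgd, Nat.cast_le] at hlt
  set c := f.leadingCoeff with hc
  have hc0 : c ≠ 0 := leadingCoeff_ne_zero.2 hf0
  set j := f.natDegree - b with hj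
  set t : (MvPolynomial ι F)[X] := C c * X ^ j with ht
  have hjc := hf f.natDegree (by rwa [coeff_natDegree])
  rw [coeff_natDegree, ← hc] at hjc
  have htB : Bdd (d - b) t := by
    intro i hi
    rw [ht, coeff_C_mul_X_pow] at hi ⊢
    split at hi
    · rename_i he
      subst he
      rw [if_pos rfl]
      omega
    · exact absurd rfl hi
  set f' := f - g * t with hf'
  have hdeg : (g * t).degree = f.degree := by
    rw [degree_mul, ht, degree_C_mul_X_pow _ hc0, degree_eq_natDegree hf0,
      degree_eq_natDegree hg.ne_zero, hgd, ← Nat.cast_add]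
    congr 1
    omega
  have hlc : f.leadingCoeff = (g * t).leadingCoeff := by
    rw [leadingCoeff_mul, hg.leadingCoeff, one_mul, ht, leadingCoeff_C_mul_X_pow]
  have hf'B : Bdd d f' := by
    rw [hf', sub_eq_add_neg]
    refine hf.add (Bdd.neg ?_)
    intro i hi
    rw [ht, mul_comm, mul_assoc, coeff_C_mul, coeff_X_pow_mul'] at hi ⊢
    split at hi
    · rename_i he
      rw [if_pos he]
      have hgi : g.coeff (i - j) ≠ 0 := fun h => hi (by rw [h, mul_zero])
      have h1 := hgB _ hgi
      have h2 := MvPolynomial.totalDegree_mul c (g.coeff (i - j))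
      omega
    · exact absurd (mul_zero c) hi
  have hlt' : f'.degree < f.degree := degree_sub_lt hdeg.symm hf0 hlc
  by_cases hf'0 : f' = 0
  · refine ⟨t, 0, ?_, ?_, htB⟩
    · rw [add_zero]; exact sub_eq_zero.1 hf'0
    · rw [degree_zero]; exact bot_lt_iff_ne_bot.2 (fun h0 => hg.ne_zero (degree_eq_bot.1 h0))
  obtain ⟨q, r, hq, hr, hqB⟩ := ih f'.natDegree
    (lt_of_lt_of_le ((natDegree_lt_natDegree_iff hf'0).2 hlt') hfk) f' le_rfl hf'B
  exact ⟨t + q, r, by rw [mul_add, add_assoc, ← hq, hf', add_sub_cancel], hr, htB.add hqB⟩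

theorem bdd_polyCharpoly {L M : Type*} [AddCommGroup L] [Module F L] [AddCommGroup M] [Module F M]
    [FiniteDimensional F M] [Fintype ι] [DecidableEq ι] (φ : L →ₗ[F] Module.End F M)
    (b : Basis ι F L) : Bdd (finrank F M) (φ.polyCharpoly b) := by
  intro i hi
  have hle : i ≤ finrank F M := by
    rw [← φ.polyCharpoly_natDegree b]
    exact le_natDegree_of_ne_zero hi
  have := (φ.polyCharpoly_coeff_isHomogeneous b i (finrank F M - i) (by omega)).totalDegree hi
  omega

end Bdd

theorem sum_ite_zero {F : Type*} [CommRing F] (h : F[X]) (n : ℕ) (hn : h.natDegree ≤ n) :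
    ∑ i ∈ Finset.range (n + 1), (if i = 0 then 0 else h.coeff i) = h.eval 1 - h.eval 0 := by
  rw [eval_eq_sum_range' (Nat.lt_succ_of_le hn), ← coeff_zero_eq_eval_zero]
  simp only [one_pow, mul_one]
  rw [Finset.sum_range_succ', Finset.sum_range_succ']
  simp

section Main

variable {R Z : Type*} [AddCommGroup R] [Module (ZMod 2) R] [Finite R]
  [AddCommGroup Z] [Module (ZMod 2) Z] [Finite Z]

/-- The linear algebra behind the offender lemma. -/
theorem no_pencil (L : Submodule (ZMod 2) (Module.End (ZMod 2) R))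
    (P : Submodule (ZMod 2) (R →ₗ[ZMod 2] Z))
    (hinj : ∀ M ∈ L, M ≠ 0 → Function.Injective M)
    (hfix : ∀ M ∈ L, ∀ r, M r = r → r = 0)
    (hinv : ∀ M ∈ L, ∀ π ∈ P, π.comp M ∈ P)
    (hweak : ∀ P' ≤ P, ∀ W : Submodule (ZMod 2) R, (∀ π ∈ P', ∀ w ∈ W, π w = 0) →
      finrank (ZMod 2) P' + finrank (ZMod 2) W ≤ finrank (ZMod 2) R)
    (hlt : finrank (ZMod 2) P < finrank (ZMod 2) R)
    (hle : finrank (ZMod 2) R ≤ finrank (ZMod 2) L + finrank (ZMod 2) P) : False := by
  classical
  haveI : Finite (R →ₗ[ZMod 2] Z) := Finite.of_injective (fun f => (f : R → Z)) DFunLike.coe_injective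
  haveI : Finite (Module.End (ZMod 2) R) :=
    Finite.of_injective (fun f : Module.End (ZMod 2) R => (f : R → R)) DFunLike.coe_injective
  haveI : FiniteDimensional (ZMod 2) R := Module.Finite.of_finite
  let φR : L →ₗ[ZMod 2] Module.End (ZMod 2) R := L.subtype
  let φP : L →ₗ[ZMod 2] Module.End (ZMod 2) P :=
    { toFun := fun M => (LinearMap.lcomp (ZMod 2) Z (M : Module.End (ZMod 2) R)).restrict
        (fun π hπ => hinv _ M.2 π hπ)
      map_add' := fun M N => LinearMap.ext fun π => Subtype.ext (LinearMap.comp_add _ _ _)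
      map_smul' := fun c M => LinearMap.ext fun π => Subtype.ext (LinearMap.comp_smul _ _ _) }
  have hφ : ∀ (M : L) (f : (ZMod 2)[X]) (π : P),
      ((aeval (φP M) f π : P) : R →ₗ[ZMod 2] Z) =
        (π : R →ₗ[ZMod 2] Z).comp (aeval (M : Module.End (ZMod 2) R) f) := by
    intro M f
    induction f using Polynomial.induction_on with
    | C c => intro π; ext r; simp
    | add f g hf hg => intro π; rw [map_add, map_add, LinearMap.comp_add, ← hf, ← hg]; rfl
    | monomial n c ih =>
      intro π
      rw [pow_succ, ← mul_assoc]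
      conv_rhs => rw [mul_comm, map_mul, aeval_X, Module.End.mul_eq_comp, ← LinearMap.comp_assoc]
      rw [map_mul, aeval_X, Module.End.mul_apply, ih]
      rfl
  have hdvd : ∀ M : L, (φP M).charpoly ∣ (φR M).charpoly := by
    intro M
    refine charpoly_dvd_of_primary _ _ fun p N hp h1 h3 => ?_
    set g := aeval (φR M) (p ^ N) with hg
    set P' := (LinearMap.ker (aeval (φP M) (p ^ N))).map P.subtype with hP'
    have h4 := hweak P' (Submodule.map_subtype_le _ _) (LinearMap.range g) (by
      rintro _ ⟨π, hπ, rfl⟩ _ ⟨r, rfl⟩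
      have e := congrArg (fun π : P => (π : R →ₗ[ZMod 2] Z) r) (LinearMap.mem_ker.1 hπ)
      rw [hφ] at e
      exact e)
    rw [hP', Submodule.finrank_map_subtype_eq] at h4
    have h5 := g.finrank_range_add_finrank_ker
    omega
  set a := finrank (ZMod 2) L with ha
  set n := finrank (ZMod 2) R with hn
  set d := finrank (ZMod 2) P with hd
  let b : Basis (Fin a) (ZMod 2) L := Module.finBasis (ZMod 2) L
  set gR := φR.polyCharpoly b with hgR
  set gP := φP.polyCharpoly b with hgP
  obtain ⟨q, r, hqr, hr, hq⟩ := Bdd.div (φP.polyCharpoly_monic b) (φP.polyCharpoly_natDegree b)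
    (bdd_polyCharpoly φP b) hlt.le _ gR le_rfl (bdd_polyCharpoly φR b)
  set S : MvPolynomial (Fin a) (ZMod 2) :=
    ∑ i ∈ Finset.range (n - d + 1), if i = 0 then 0 else q.coeff i with hS
  have hSd : S.totalDegree < (Fintype.card (ZMod 2) - 1) * Fintype.card (Fin a) := by
    rw [ZMod.card, Fintype.card_fin]
    refine lt_of_le_of_lt (MvPolynomial.totalDegree_finsetSum_le (d := n - d - 1) ?_) (by omega)
    intro i hi
    split
    · simp
    by_cases h0 : q.coeff i = 0
    · simp [h0]
    have := hq i h0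
    omega
  have key : ∀ x : Fin a → ZMod 2, MvPolynomial.eval x S = if x = 0 then 1 else 0 := by
    intro x
    set M : L := b.equivFun.symm x with hM
    have hx : ⇑(b.repr M) = x := b.equivFun.apply_symm_apply x
    set ev := MvPolynomial.eval x with hev
    have eR : gR.map ev = (φR M).charpoly := by rw [hev, ← hx, hgR, φR.polyCharpoly_map_eq_charpoly]
    have eP : gP.map ev = (φP M).charpoly := by rw [hev, ← hx, hgP, φP.polyCharpoly_map_eq_charpoly]
    obtain ⟨h, hh⟩ := hdvd M
    have hmon := (φP M).charpoly_monic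
    have hqh : q.map ev = h := by
      have hr' : (r.map ev).degree < (φP M).charpoly.degree := by
        rw [← eP, (φP.polyCharpoly_monic b).degree_map]
        exact lt_of_le_of_lt degree_map_le hr
      have u1 := Polynomial.div_modByMonic_unique (f := (φR M).charpoly) (q.map ev) (r.map ev) hmon
        ⟨by rw [← eP, ← eR, hqr, Polynomial.map_add, Polynomial.map_mul, add_comm], hr'⟩
      have u2 := Polynomial.div_modByMonic_unique (f := (φR M).charpoly) h 0 hmon
        ⟨by rw [zero_add, hh], by rw [degree_zero]; exact bot_lt_iff_ne_bot.2 (fun h0 => hmon.ne_zero (degree_eq_bot.1 h0))⟩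
      rw [← u1.1, u2.1]
    have hh0 : h ≠ 0 := fun h0 => (φR M).charpoly_monic.ne_zero (by rw [hh, h0, mul_zero])
    have hdeg : h.natDegree = n - d := by
      have := congrArg natDegree hh
      rw [natDegree_mul hmon.ne_zero hh0, LinearMap.charpoly_natDegree,
        LinearMap.charpoly_natDegree] at this
      omega
    have hsum : MvPolynomial.eval x S = h.eval 1 - h.eval 0 := by
      rw [← sum_ite_zero h (n - d) hdeg.le, hS, map_sum]
      refine Finset.sum_congr rfl fun i _ => ?_
      rw [← hqh, coeff_map]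
      split <;> simp [hev]
    have heq : ∀ μ : ZMod 2, ¬ (φR M).HasEigenvalue μ → h.eval μ = 1 := by
      intro μ hμ
      rw [Module.End.hasEigenvalue_iff_isRoot_charpoly, IsRoot, hh, eval_mul] at hμ
      have hne : h.eval μ ≠ 0 := fun h0 => hμ (by rw [h0, mul_zero])
      revert hne
      generalize h.eval μ = z
      revert z
      decide
    have h1 : h.eval 1 = 1 := heq 1 fun he => by
      obtain ⟨v, hv, hv0⟩ := he.exists_hasEigenvector
      rw [Module.End.mem_eigenspace_iff, one_smul] at hv
      exact hv0 (hfix _ M.2 v hv)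
    rw [hsum, h1]
    by_cases hx0 : x = 0
    · rw [if_pos hx0]
      have hM0 : φR M = 0 := by rw [hM, hx0, map_zero, map_zero]
      have hP0 : φP M = 0 := by rw [hM, hx0, map_zero, map_zero]
      rw [hM0, hP0, LinearMap.charpoly_zero, LinearMap.charpoly_zero] at hh
      have h2 : h = X ^ (n - d) := mul_left_cancel₀ (pow_ne_zero d X_ne_zero)
        (hh.symm.trans (by rw [← pow_add]; congr 1; omega))
      rw [h2, eval_pow, eval_X, zero_pow (by omega), sub_zero]
    · rw [if_neg hx0, heq 0 fun he => ?_, sub_self]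
      obtain ⟨v, hv, hv0⟩ := he.exists_hasEigenvector
      rw [Module.End.mem_eigenspace_iff, zero_smul] at hv
      refine hv0 (hinj _ M.2 (fun h0 => hx0 ?_) (hv.trans (map_zero _).symm))
      rw [← hx, show M = 0 from Subtype.ext h0, map_zero]
      rfl
  have hsum := MvPolynomial.sum_eval_eq_zero S hSd
  simp only [key] at hsum
  rw [Finset.sum_ite_eq' Finset.univ (0 : Fin a → ZMod 2) (fun _ => (1 : ZMod 2)),
    if_pos (Finset.mem_univ _)] at hsum
  exact one_ne_zero hsum

end Main

end Cfsg.Agent.T51.Off
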