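import Cfsg.Agent.T51.OffHall
import Cfsg.Agent.T51.OffLinear

/-!
The configuration of a minimal counterexample is impossible.
-/

set_option autoImplicit false
set_option linter.unusedVariables false
set_option linter.unusedSectionVars false
set_option linter.style.haveILetI false

namespace Cfsg.Agent.T51.Off

open QOff FacGen Equiv

universe u

variable {V : Type u} [CommGroup V]

theorem dlt_one_iff (h2 : ∀ v : V, v * v = 1) {x : MulAut V} {v : V} :
    dltHom x v = 1 ↔ x v = v := by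
  rw [dltHom_apply, mul_eq_one_iff_eq h2]

theorem apply_eq_dlt (h2 : ∀ v : V, v * v = 1) (x : MulAut V) (v : V) : x v = dltHom x v * v := by
  rw [dltHom_apply, mul_assoc, h2, mul_one]

/-- Automorphisms in `X` moving every vector by an element of `E`. -/
def stabQ (h2 : ∀ v : V, v * v = 1) (E : Subgroup V) : Subgroup (MulAut V) where
  carrier := {x | ∀ v, dltHom x v ∈ E}
  one_mem' := fun v => by rw [dltHom_apply, MulAut.one_apply, h2]; exact E.one_mem
  mul_mem' := by
    intro x y hx hy v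
    rw [dlt_mul_eq h2]
    exact mul_mem (hx _) (hy v)
  inv_mem' := by
    intro x hx v
    have := hx (x⁻¹ v)
    rw [dltHom_apply, MulAut.apply_inv_self, mul_comm] at this
    rwa [dltHom_apply]

/-- The stabilizer of a coset of fixed points. -/
def stabMod (h2 : ∀ v : V, v * v = 1) (X : Subgroup (MulAut V)) (v : V) : Subgroup (MulAut V) where
  carrier := {x | x ∈ X ∧ dltHom x v ∈ fixSub X}
  one_mem' := ⟨X.one_mem, by rw [dltHom_apply, MulAut.one_apply, h2]; exact (fixSub X).one_mem⟩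
  mul_mem' := by
    intro x y hx hy
    refine ⟨X.mul_mem hx.1 hy.1, ?_⟩
    rw [dlt_mul_eq h2, apply_eq_dlt h2 y v, map_mul, (dlt_one_iff h2).2 (hy.2 x hx.1), one_mul]
    exact (fixSub X).mul_mem hx.2 hy.2
  inv_mem' := by
    intro x hx
    refine ⟨X.inv_mem hx.1, ?_⟩
    have e : dltHom x⁻¹ v = dltHom x v := by
      have h := dlt_mul_eq h2 x⁻¹ x v
      rw [inv_mul_cancel, apply_eq_dlt h2 x v, map_mul,
        (dlt_one_iff h2).2 (hx.2 x⁻¹ (X.inv_mem hx.1)), one_mul, dltHom_apply 1, MulAut.one_apply,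
        h2] at h
      exact (mul_eq_one_iff_eq h2).1 h.symm
    rw [e]
    exact hx.2

/-- The displacement of a commutator with an involution. -/
theorem dlt_comm (h2 : ∀ v : V, v * v = 1) {X : Subgroup (MulAut V)} {s q : MulAut V} (hs : s ∈ X)
    (hqX : q ∈ X) (hsq : s * s = 1) (hq : ∀ v, dltHom q v ∈ fixSub X) (v : V) :
    dltHom (s * q * s * q) v = dltHom q (dltHom s v) := by
  have hss : ∀ w, s (s w) = w := fun w => by rw [← MulAut.mul_apply, hsq, MulAut.one_apply]
  have e1 : dltHom q (dltHom s v) = dltHom q (s v) * dltHom q v := by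
    rw [dltHom_apply s v, map_mul]
  have a1 : s (q v) = dltHom q v * s v := by rw [apply_eq_dlt h2 q v, map_mul, hq v s hs]
  have a2 : q (s (q v)) = dltHom q v * (dltHom q (s v) * s v) := by
    rw [a1, map_mul, hq v q hqX, ← apply_eq_dlt h2 q (s v)]
  have a3 : s (q (s (q v))) = dltHom q v * (dltHom q (s v) * v) := by
    rw [a2, map_mul, hq v s hs, map_mul, hq (s v) s hs, hss]
  rw [e1, dltHom_apply (s * q * s * q), MulAut.mul_apply, MulAut.mul_apply, MulAut.mul_apply, a3,
    mul_assoc, mul_assoc, h2, mul_one, mul_comm]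

variable [Finite V]

theorem false_of_config (h2 : ∀ v : V, v * v = 1) {X T H A : Subgroup (MulAut V)} {W : Subgroup V}
    (hc : Config X T H A W) (hS3 : ¬ Cfsg.Involves (Perm (Fin 3)) ↥X) : False := by
  classical
  haveI := finite_aut (V := V)
  have hap := apply_eq_dlt h2
  have hd1 : ∀ {x : MulAut V} {v : V}, dltHom x v = 1 ↔ x v = v := fun {x} {v} => dlt_one_iff h2
  have hAT : A ≤ T := hc.sig.1
  have hTX : T ≤ X := hc.syl.1
  have hAX : A ≤ X := hAT.trans hTX
  have hsq : ∀ a ∈ A, a * a = 1 := hc.sig.2.1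
  set Z0 := fixSub X with hZ0
  set C := fixSub A with hC
  have hWC : W ≤ C := fun w hw a ha => fix_of_free hc.free hc.sig ha w hw
  have hZC : Z0 ≤ C := fixSub_anti hAX
  have hquad : ∀ g : MulAut V, dltSub (cj g A) ≤ fixSub (cj g A) := fun g => by
    rw [dltSub_cj, fixSub_cj]; exact Subgroup.map_mono hc.quad
  have hinf : ∀ g ∈ X, g ∉ H → C ⊓ fixSub (cj g A) = Z0 := fun g hg hgH => by
    refine le_antisymm (fun v hv => ?_) (le_inf hZC (fixSub_anti (cj_le hAX hg)))
    rw [hZ0, ← hc.gen g hg hgH]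
    exact fixSub_sup hv.1 hv.2
  have hsup : ∀ g ∈ X, g ∉ H → C ⊔ fixSub (cj g A) = ⊤ := fun g hg hgH => by
    rw [eq_top_iff, ← hc.orbTop]
    refine orb_le fun x hx w hw => ?_
    rw [hap x w]
    refine mul_mem ?_ (Subgroup.mem_sup_left (hWC hw))
    have hle : dltSub X ≤ C ⊔ fixSub (cj g A) := by
      rw [← hc.gen g hg hgH]
      exact dltSub_sup_le h2 (hc.quad.trans le_sup_left) ((hquad g).trans le_sup_right)
    exact hle (dltHom_mem_dltSub hx w)
  obtain ⟨g0, hg0, hg0H⟩ := SetLike.exists_of_lt hc.lt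
  set C0 := fixSub (cj g0 A) with hC0
  -- the intersection of the conjugates of `H`
  set K : Subgroup (MulAut V) := X ⊓ ⨅ h : X, cj (h : MulAut V) H with hK
  have hKg : ∀ g ∈ X, K ≤ cj g H := fun g hg x hx => Subgroup.mem_iInf.1 hx.2 ⟨g, hg⟩
  have hKH : K ≤ H := by have := hKg 1 X.one_mem; rwa [cj_one] at this
  have hKn : X ≤ Subgroup.normalizer (K : Set (MulAut V)) := by
    rw [Subgroup.le_normalizer_iff]
    intro x hx k hk
    refine ⟨X.mul_mem (X.mul_mem hx hk.1) (X.inv_mem hx), Subgroup.mem_iInf.2 fun h => ?_⟩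
    have := Subgroup.mem_iInf.1 hk.2 ⟨x⁻¹ * h, mul_mem (inv_mem hx) h.2⟩
    rw [mem_cj] at this ⊢
    simpa [mul_assoc] using this
  set Q0 := T ⊓ K with hQ0
  have hQn : X ≤ Subgroup.normalizer (Q0 : Set (MulAut V)) := by
    have hTN : T ≤ X ⊓ Subgroup.normalizer (Q0 : Set (MulAut V)) := le_inf hTX fun t ht =>
      mem_normalizer_of_cj (Subgroup.eq_of_le_of_card_ge (le_inf ((cj_mono t inf_le_left).trans
        (cj_eq_of_mem ht).le) ((cj_mono t inf_le_right).trans (cj_eq_self (hKn (hTX ht))).le))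
        (card_cj t Q0).ge)
    by_contra hn
    have hlt : X ⊓ Subgroup.normalizer (Q0 : Set (MulAut V)) < X :=
      lt_of_le_of_ne inf_le_left fun e => hn (inf_eq_left.1 e)
    exact hc.lt.not_ge ((frattini hc.syl inf_le_left hKn).trans
      (sup_le (hc.cover _ hlt hTN) hKH))
  have hQX : Q0 ≤ X := inf_le_left.trans hTX
  have hQT : ∀ g ∈ X, Q0 ≤ cj g T := fun g hg =>
    (cj_eq_self (hQn hg)).ge.trans (cj_mono g inf_le_left)
  have hQW : ∀ q ∈ Q0, ∀ g ∈ X, ∀ v ∈ W.map g.toMonoidHom, q v ∈ W.map g.toMonoidHom := by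
    rintro q hq g hg _ ⟨w, hw, rfl⟩
    refine ⟨(g⁻¹ * q * g) w, apply_mem_of_stab (hc.inv (mem_cj.1 (hKg g hg hq.2))) hw, ?_⟩
    show g ((g⁻¹ * q * g) w) = q (g w)
    rw [MulAut.mul_apply, MulAut.mul_apply, MulAut.apply_inv_self]
  have hB : ∀ a ∈ A, a ∈ K → ∀ v, dltHom a v ∈ Z0 := by
    intro a ha haK v
    have hle : orb X W ≤ Z0.comap (dltHom a) := orb_le fun x hx w hw => by
      show dltHom a (x w) ∈ Z0
      by_cases hxH : x ∈ H
      · rw [hd1.2 (hWC (apply_mem_of_stab (hc.inv hxH) hw) a ha)]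
        exact Z0.one_mem
      rw [← hinf x hx hxH]
      refine ⟨hc.quad (dltHom_mem_dltSub ha _), ?_⟩
      have hWg : W.map x.toMonoidHom ≤ fixSub (cj x A) := by
        rw [fixSub_cj]; exact Subgroup.map_mono hWC
      exact hWg (mul_mem (hQW a ⟨hAT ha, haK⟩ x hx _ ⟨w, hw, rfl⟩) ⟨w, hw, rfl⟩)
    exact hle (hc.orbTop ▸ Subgroup.mem_top v)
  obtain ⟨t0, ht0, ht0K⟩ : ∃ t0 ∈ A, t0 ∉ K := by
    by_contra! hall'
    refine hc.lt.not_ge ((hc.gen g0 hg0 hg0H).symm.le.trans (sup_le (hAT.trans hc.le) ?_))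
    intro x hx
    obtain ⟨a, ha, rfl⟩ := hx
    exact hKH ((Subgroup.mem_normalizer_iff.1 (hKn hg0) a).1 (hall' a ha))
  -- a vector fixed by a conjugate and moved only by fixed points is fixed
  have hZ : ∀ g ∈ X, g ∉ H → ∀ y ∈ fixSub (cj g A), (∀ x ∈ X, dltHom x y ∈ Z0) → y ∈ Z0 := by
    intro g hg hgH y hy hall'
    refine (hinf g hg hgH).le ⟨fun a ha => ?_, hy⟩
    set b := g * a * g⁻¹ with hb
    have hbX : b ∈ X := cj_le hAX hg ⟨a, ha, rfl⟩
    have hby : b y = y := hy b ⟨a, ha, rfl⟩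
    have hgy := hall' g hg
    have hay := hall' a (hAX ha)
    have e : b * g = g * a := by rw [hb]; group
    have e1 : dltHom (g * a) y = dltHom g y * dltHom a y := by
      rw [dlt_mul_eq h2, hap a y, map_mul, hd1.2 (hay g hg), one_mul]
    have e2 : dltHom (b * g) y = dltHom g y := by
      rw [dlt_mul_eq h2, hap g y, map_mul, hd1.2 (hgy b hbX), hd1.2 hby, one_mul, one_mul]
    rw [e, e1, mul_eq_left] at e2
    exact hd1.1 e2
  have hCt : ∀ t ∈ A, t ∉ K → ∀ v, dltHom t v ∈ Z0 → v ∈ C := by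
    intro t ht htK v hv
    by_contra hvC
    refine htK ⟨hAX ht, Subgroup.mem_iInf.2 fun g => ?_⟩
    by_cases hgH : (g : MulAut V) ∈ H
    · rw [cj_eq_of_mem hgH]
      exact hc.le (hAT ht)
    obtain ⟨c, hc', y, hy, rfl⟩ :=
      Subgroup.mem_sup.1 ((hsup g g.2 hgH).ge (Subgroup.mem_top v))
    rw [map_mul, hd1.2 (hc' t ht), one_mul] at hv
    set Y := stabMod h2 X y with hY
    have hAY : cj (g : MulAut V) A ≤ Y := fun x hx =>
      ⟨cj_le hAX g.2 hx, by rw [hd1.2 (hy x hx)]; exact Z0.one_mem⟩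
    have hlt : Y < X := lt_of_le_of_ne (fun x hx => hx.1) fun e =>
      hvC (mul_mem hc' (hZC (hZ g g.2 hgH y hy fun x hx => (e.ge hx).2)))
    exact hc.uniq g g.2 Y hlt hAY ⟨hAX ht, hv⟩
  set t1 := g0 * t0 * g0⁻¹ with ht1
  have ht1A : t1 ∈ cj g0 A := ⟨t0, ht0, rfl⟩
  have ht1X : t1 ∈ X := cj_le hAX hg0 ht1A
  have ht1sq : t1 * t1 = 1 := by
    rw [ht1, show g0 * t0 * g0⁻¹ * (g0 * t0 * g0⁻¹) = g0 * (t0 * t0) * g0⁻¹ by group,
      hsq t0 ht0, mul_one, mul_inv_cancel]
  have hCt1 : ∀ v, dltHom t1 v ∈ Z0 → v ∈ C0 := by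
    intro v hv
    have e : dltHom t0 (g0⁻¹ v) = g0⁻¹ (dltHom t1 v) := by
      rw [dltHom_apply, dltHom_apply, map_mul, ht1, MulAut.mul_apply, MulAut.mul_apply,
        MulAut.inv_apply_self]
    have := hCt t0 ht0 ht0K (g0⁻¹ v) (by rw [e, hv g0⁻¹ (X.inv_mem hg0)]; exact hv)
    rw [hC0, fixSub_cj]
    exact ⟨_, this, MulAut.apply_inv_self V g0 v⟩
  -- the maps `v ↦ [v,t,t1]`
  let m : MulAut V → (V →* V) := fun t => (dltHom t1).comp (dltHom t)
  have hm : ∀ t v, m t v = dltHom t1 (dltHom t v) := fun t v => rfl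
  have hmC0 : ∀ t v, m t v ∈ C0 := fun t v => hquad g0 (dltHom_mem_dltSub ht1A _)
  have hminj : ∀ t ∈ A, t ∉ K → ∀ v, m t v ∈ C → v ∈ C := by
    intro t ht htK v hv
    refine hCt t ht htK v ?_
    exact (hinf g0 hg0 hg0H).le ⟨hc.quad (dltHom_mem_dltSub ht v),
      hCt1 _ ((hinf g0 hg0 hg0H).le ⟨hv, hmC0 t v⟩)⟩
  have hmB : ∀ t ∈ A, t ∈ K → ∀ v, m t v = 1 := fun t ht htK v =>
    hd1.2 (hB t ht htK v t1 ht1X)
  have hmfix : ∀ t ∈ A, ∀ v, m t v * v ∈ C → v ∈ C := by
    intro t ht v hv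
    by_cases htK : t ∈ K
    · rwa [hmB t ht htK, one_mul] at hv
    obtain ⟨c, hc', y, hy, rfl⟩ :=
      Subgroup.mem_sup.1 ((hsup g0 hg0 hg0H).ge (Subgroup.mem_top v))
    refine C.mul_mem hc' ?_
    have hy' : m t y * y ∈ C := by
      have e : m t (c * y) = m t y := by
        rw [map_mul, hm t c, hd1.2 (hc' t ht), map_one, one_mul]
      rw [e, mul_left_comm] at hv
      exact (C.mul_mem_cancel_left hc').1 hv
    by_contra hyC
    set w := m t y * y with hw
    have hwZ : w ∈ Z0 := (hinf g0 hg0 hg0H).le ⟨hy', mul_mem (hmC0 t y) hy⟩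
    set c1 := dltHom t y with hc1d
    have hc1 : c1 ∈ C := hc.quad (dltHom_mem_dltSub ht y)
    have htX := hAX ht
    have hmy : m t y = w * y := by rw [hw, mul_assoc, h2, mul_one]
    set z := t1 * t with hz
    have hzX : z ∈ X := X.mul_mem ht1X htX
    have hzc : z c1 = w * y * c1 := by
      rw [hz, MulAut.mul_apply, hc1 t ht, hap t1 c1, ← hmy]
      rfl
    have hzy : z y = w * c1 := by
      rw [hz, MulAut.mul_apply, hap t y, map_mul, hy t1 ht1A, hap t1 (dltHom t y), ← hc1d,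
        show dltHom t1 c1 = w * y from hmy, mul_assoc, mul_assoc, mul_comm c1 y, ← mul_assoc y y c1,
        h2, one_mul]
    have hzw : z w = w := hwZ z hzX
    have hzzy : z (z y) = y * c1 := by
      rw [hzy, map_mul, hzw, hzc, mul_assoc w y c1, ← mul_assoc w w, h2, one_mul]
    have hz3y : (z ^ 3) y = y := by
      rw [pow_succ, pow_two, MulAut.mul_apply, MulAut.mul_apply, hzzy, map_mul, hzy, hzc,
        show w * c1 * (w * y * c1) = w * w * (c1 * c1) * y by ac_rfl, h2, h2, one_mul, one_mul]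
    have hzne : z y ≠ y := by
      intro e
      rw [hzy] at e
      have hc1' : c1 = w * y := by
        conv_rhs => rw [← e]
        rw [← mul_assoc, h2, one_mul]
      refine hyC (hCt t ht htK y ?_)
      have hc10 : c1 ∈ C0 := by
        rw [hc1']
        exact C0.mul_mem (fixSub_anti (cj_le hAX hg0) hwZ) hy
      exact (hinf g0 hg0 hg0H).le ⟨hc1, hc10⟩
    have hk3 : 3 ∣ orderOf z := by
      by_contra h3
      obtain ⟨j, hj⟩ := exists_pow_eq_self_of_coprime
        ((Nat.Prime.coprime_iff_not_dvd Nat.prime_three).2 h3)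
      have hle : Subgroup.zpowers (z ^ 3) ≤ MulAction.stabilizer (MulAut V) y := by
        rw [Subgroup.zpowers_le]
        exact hz3y
      have hz' := pow_mem (Subgroup.mem_zpowers (z ^ 3)) j
      rw [hj] at hz'
      exact hzne (hle hz')
    refine hS3 (involves_perm_three_of_pair (a := (⟨t, htX⟩ : ↥X))
      (x := (⟨z, hzX⟩ : ↥X) ^ (orderOf z / 3)) ?_ ?_ ?_)
    · refine orderOf_eq_prime (Subtype.ext ?_) fun e => htK ?_
      · rw [SubmonoidClass.coe_pow, pow_two]; exact hsq t ht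
      · rw [show t = 1 from congrArg Subtype.val e]
        exact K.one_mem
    · have hzo : orderOf (⟨z, hzX⟩ : ↥X) = orderOf z := (Subgroup.orderOf_coe _).symm
      rw [← hzo] at hk3 ⊢
      rw [orderOf_pow_orderOf_div (orderOf_pos _).ne' hk3]
    · rw [← inv_pow, ← conj_pow]
      congr 1
      refine Subtype.ext ?_
      show t * (t1 * t) * t⁻¹ = (t1 * t)⁻¹
      rw [mul_inv_rev, inv_eq_of_mul_eq_one_right ht1sq, mul_assoc, mul_assoc, mul_inv_cancel,
        mul_one, inv_eq_of_mul_eq_one_right (hsq t ht)]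
  -- the elementary abelian group containing the intersection
  set P : Subgroup (MulAut V) := Q0 ⊓ fixStab C ⊓ stabQ h2 Z0 with hP
  have hPX : P ≤ X := (inf_le_left.trans inf_le_left).trans hQX
  have hPsq : ∀ p ∈ P, p * p = 1 := fun p hp => MulEquiv.ext fun v => by
    rw [MulAut.mul_apply, hap p v, map_mul, hp.2 v p (hPX hp), hap p v, ← mul_assoc, h2, one_mul,
      MulAut.one_apply]
  have hCker : ∀ p ∈ P, C ≤ (dltHom p).ker := fun p hp v hv => hd1.2 (hp.1.2 v hv)
  -- linear algebra over the field with two elements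
  have hsurj : ∀ r : Additive (V ⧸ C), ∃ v : V, Additive.ofMul (v : V ⧸ C) = r := fun r =>
    ⟨_, congrArg Additive.ofMul (QuotientGroup.out_eq' r.toMul)⟩
  letI : Module (ZMod 2) (Additive (V ⧸ C)) := AddCommGroup.zmodModule fun r => by
    obtain ⟨v, rfl⟩ := hsurj r
    rw [two_nsmul, ← ofMul_mul, ← QuotientGroup.mk_mul, h2]
    rfl
  letI : Module (ZMod 2) (Additive V) := AddCommGroup.zmodModule fun r => by
    rw [two_nsmul]; exact h2 r.toMul
  have hkerM : ∀ t : A, C ≤ ((QuotientGroup.mk' C).comp (m t)).ker := fun t v hv => by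
    rw [MonoidHom.mem_ker, MonoidHom.comp_apply, hm, hd1.2 (hv t t.2), map_one, map_one]
  let lin : A → Module.End (ZMod 2) (Additive (V ⧸ C)) := fun t =>
    (MonoidHom.toAdditive (QuotientGroup.lift C ((QuotientGroup.mk' C).comp (m t))
      (hkerM t))).toZModLinearMap 2
  have hlin : ∀ (t : A) (v : V), lin t (Additive.ofMul (v : V ⧸ C)) =
      Additive.ofMul ((m t v : V) : V ⧸ C) := fun t v => rfl
  let f : A →* Multiplicative (Module.End (ZMod 2) (Additive (V ⧸ C))) :=
    MonoidHom.mk' (fun t => Multiplicative.ofAdd (lin t)) fun s t =>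
      congrArg Multiplicative.ofAdd (LinearMap.ext fun r => by
        obtain ⟨v, rfl⟩ := hsurj r
        show Additive.ofMul ((m ((s : MulAut V) * t) v : V) : V ⧸ C) =
          Additive.ofMul (((m s v : V) : V ⧸ C) * (m t v : V))
        rw [← QuotientGroup.mk_mul, hm, hm, hm, ← map_mul, dlt_mul_eq h2 (s : MulAut V) t, hap t v, map_mul (dltHom (s : MulAut V)),
          hd1.2 (hc.quad (dltHom_mem_dltSub t.2 v) s s.2), one_mul])
  let ker0 : ∀ p : P, C ≤ (dltHom (p : MulAut V)).ker := fun p => hCker p p.2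
  let π : P →* Multiplicative (Additive (V ⧸ C) →ₗ[ZMod 2] Additive V) :=
    MonoidHom.mk' (fun p => Multiplicative.ofAdd
      ((MonoidHom.toAdditive (QuotientGroup.lift C (dltHom (p : MulAut V)) (ker0 p))).toZModLinearMap 2))
      fun p q => congrArg Multiplicative.ofAdd (LinearMap.ext fun r => by
        obtain ⟨v, rfl⟩ := hsurj r
        show dltHom ((p : MulAut V) * (q : MulAut V)) v = dltHom (p : MulAut V) v * dltHom (q : MulAut V) v
        rw [dlt_mul_eq h2, hap q v, map_mul, hd1.2 (q.2.2 v p (hPX p.2)), one_mul])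
  have hπ : ∀ (p : P) (v : V), (π p).toAdd (Additive.ofMul (v : V ⧸ C)) =
      Additive.ofMul (dltHom (p : MulAut V) v) := fun p v => rfl
  set L : Submodule (ZMod 2) (Module.End (ZMod 2) (Additive (V ⧸ C))) :=
    AddSubgroup.toZModSubmodule 2 (Subgroup.toAddSubgroup' f.range) with hL
  set PP : Submodule (ZMod 2) (Additive (V ⧸ C) →ₗ[ZMod 2] Additive V) :=
    AddSubgroup.toZModSubmodule 2 (Subgroup.toAddSubgroup' π.range) with hPP
  have hmemL : ∀ M ∈ L, ∃ t : A, lin t = M := fun M ⟨t, ht⟩ => ⟨t, ht⟩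
  have hmemP : ∀ q ∈ PP, ∃ p : P, (π p).toAdd = q := fun q ⟨p, hp⟩ => ⟨p, hp⟩
  have hpow : ∀ {M : Type u} [AddCommGroup M] [Module (ZMod 2) M] [Finite M],
      2 ^ Module.finrank (ZMod 2) M = Nat.card M := fun {M} _ _ _ => by
    rw [Module.natCard_eq_pow_finrank (K := ZMod 2), Nat.card_zmod]
  haveI : Finite (Additive (V ⧸ C) →ₗ[ZMod 2] Additive V) :=
    Finite.of_injective (fun f => (f : Additive (V ⧸ C) → Additive V)) DFunLike.coe_injective
  haveI : Finite (Module.End (ZMod 2) (Additive (V ⧸ C))) :=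
    Finite.of_injective (fun f : Module.End (ZMod 2) (Additive (V ⧸ C)) =>
      (f : Additive (V ⧸ C) → Additive (V ⧸ C))) DFunLike.coe_injective
  have hπi : Function.Injective π := fun p q e => Subtype.ext (MulEquiv.ext fun v => by
    rw [hap (p : MulAut V) v, hap (q : MulAut V) v]
    congr 1
    have := congrArg (fun l => (l.toAdd (Additive.ofMul (v : V ⧸ C))).toMul) e
    simpa only [hπ, toMul_ofMul] using this)
  have hPcard : Nat.card PP = Nat.card P := by
    rw [Nat.card_congr (MonoidHom.ofInjective hπi).toEquiv]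
    rfl
  have hVC : Nat.card V = Nat.card (V ⧸ C) * Nat.card C :=
    Subgroup.card_eq_card_quotient_mul_card_subgroup C
  have hhall : ∀ E ≤ P, E ≠ ⊥ → Nat.card E * Nat.card (fixSub E) < Nat.card V := fun E hE hne =>
    hall hc.free hc.orbTop (fun g hg => ((hE.trans inf_le_left).trans inf_le_left).trans (hQT g hg))
      (fun e he => hPsq e (hE he)) hne
  refine no_pencil L PP ?_ ?_ ?_ ?_ ?_ ?_
  · rintro M hM hM0
    obtain ⟨t, rfl⟩ := hmemL M hM
    have htK : (t : MulAut V) ∉ K := fun htK => hM0 (LinearMap.ext fun r => by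
      obtain ⟨v, rfl⟩ := hsurj r
      show Additive.ofMul ((m t v : V) : V ⧸ C) = 0
      rw [hmB t t.2 htK]; rfl)
    rw [injective_iff_map_eq_zero]
    intro r hv
    obtain ⟨v, rfl⟩ := hsurj r
    have hv' : ((m t v : V) : V ⧸ C) = 1 := hv
    rw [QuotientGroup.eq_one_iff] at hv'
    exact congrArg Additive.ofMul ((QuotientGroup.eq_one_iff v).2 (hminj t t.2 htK v hv'))
  · rintro M hM r hv
    obtain ⟨t, rfl⟩ := hmemL M hM
    obtain ⟨v, rfl⟩ := hsurj r
    have hv' : ((m t v : V) : V ⧸ C) = (v : V ⧸ C) := hv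
    rw [QuotientGroup.eq, show (m t v)⁻¹ = m t v from inv_eq_of_mul_eq_one_right (h2 _)] at hv'
    exact congrArg Additive.ofMul ((QuotientGroup.eq_one_iff v).2 (hmfix t t.2 v hv'))
  · rintro M hM q hq
    obtain ⟨t, rfl⟩ := hmemL M hM
    obtain ⟨p, rfl⟩ := hmemP q hq
    have hpX := hPX p.2
    set s := t1 * p * t1 * p with hs
    have hconj : ∀ x ∈ X, x * x = 1 → ∀ z ∈ Q0, x * z * x * z ∈ Q0 := fun x hx hxx z hz => by
      have := (Subgroup.mem_normalizer_iff.1 (hQn hx) z).1 hz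
      rw [inv_eq_of_mul_eq_one_right hxx] at this
      exact Q0.mul_mem this hz
    have hsQ : s ∈ Q0 := hconj t1 ht1X ht1sq p p.2.1.1
    have hsd : ∀ v, dltHom s v = dltHom (p : MulAut V) (dltHom t1 v) :=
      dlt_comm h2 ht1X hpX ht1sq p.2.2
    have hsZ : ∀ v, dltHom s v ∈ Z0 := fun v => by rw [hsd]; exact p.2.2 _
    set p2 := (t : MulAut V) * s * t * s with hp2
    have hd2 : ∀ v, dltHom p2 v = dltHom (p : MulAut V) (m t v) := fun v => by
      rw [hp2, dlt_comm h2 (hAX t.2) (hQX hsQ) (hsq t t.2) hsZ, hsd, hm]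
    have hp2P : p2 ∈ P := ⟨⟨hconj t (hAX t.2) (hsq t t.2) s hsQ, fun v hv => hd1.1 (by
      rw [hd2, hm, hd1.2 (hv t t.2), map_one, map_one])⟩, fun v => by rw [hd2]; exact p.2.2 _⟩
    refine ⟨⟨p2, hp2P⟩, ?_⟩
    show (π ⟨p2, hp2P⟩).toAdd = _
    refine LinearMap.ext fun r => ?_
    obtain ⟨v, rfl⟩ := hsurj r
    exact congrArg Additive.ofMul (hd2 v)
  · intro P' hP' W' hW'
    let Eg : Subgroup P :=
      { carrier := {p | (π p).toAdd ∈ P'}
        one_mem' := by show (π 1).toAdd ∈ P'; rw [map_one]; exact P'.zero_mem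
        mul_mem' := fun {p q} hp hq => by
          show (π (p * q)).toAdd ∈ P'
          rw [map_mul]; exact P'.add_mem hp hq
        inv_mem' := fun {p} hp => by
          show (π p⁻¹).toAdd ∈ P'
          rw [map_inv]; exact P'.neg_mem hp }
    let Wg : Subgroup V :=
      { carrier := {v | Additive.ofMul (v : V ⧸ C) ∈ W'}
        one_mem' := W'.zero_mem
        mul_mem' := fun {v w} hv hw => W'.add_mem hv hw
        inv_mem' := fun {v} hv => W'.neg_mem hv }
    have cP : Nat.card (Eg.map P.subtype) = Nat.card P' := by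
      rw [Subgroup.card_map_of_injective P.subtype_injective]
      refine Nat.card_congr (Equiv.ofBijective (fun p : Eg => (⟨(π p.1).toAdd, p.2⟩ : P')) ⟨?_, ?_⟩)
      · intro p q e
        exact Subtype.ext (hπi (congrArg Subtype.val e : (π p.1).toAdd = (π q.1).toAdd))
      · rintro ⟨q, hq⟩
        obtain ⟨p, rfl⟩ := hmemP q (hP' hq)
        exact ⟨⟨p, hq⟩, rfl⟩
    have hCW : C ≤ Wg := fun c hc' => by
      show Additive.ofMul (c : V ⧸ C) ∈ W'
      rw [(QuotientGroup.eq_one_iff c).2 hc']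
      exact W'.zero_mem
    have cW : Nat.card W' * Nat.card C = Nat.card Wg := by
      rw [← QOff.card_map_mul_card_ker ((QuotientGroup.mk' C).comp Wg.subtype)]
      congr 1
      · refine Nat.card_congr (Equiv.ofBijective
          (fun r : W' => (⟨r.1.toMul, ?_⟩ : ((QuotientGroup.mk' C).comp Wg.subtype).range)) ⟨?_, ?_⟩)
        · obtain ⟨v, hv⟩ := hsurj r.1
          exact ⟨⟨v, show Additive.ofMul (v : V ⧸ C) ∈ W' by rw [hv]; exact r.2⟩,
            congrArg Additive.toMul hv⟩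
        · intro r r' e
          exact Subtype.ext (congrArg (fun z : ((QuotientGroup.mk' C).comp Wg.subtype).range => Additive.ofMul (z : V ⧸ C)) e)
        · rintro ⟨_, ⟨v, rfl⟩⟩
          exact ⟨⟨_, v.2⟩, rfl⟩
      · exact Nat.card_congr
          { toFun := fun c => ⟨⟨c, hCW c.2⟩, (QuotientGroup.eq_one_iff (c : V)).2 c.2⟩
            invFun := fun w => ⟨w.1, (QuotientGroup.eq_one_iff (w.1 : V)).1 w.2⟩
            left_inv := fun _ => rfl
            right_inv := fun _ => rfl }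
    have hWfix : Wg ≤ fixSub (Eg.map P.subtype) := by
      rintro v hv _ ⟨p, hp, rfl⟩
      refine hd1.1 ?_
      have h := hW' _ hp _ hv
      rw [hπ] at h
      exact congrArg Additive.toMul h
    have hle : Nat.card P' * Nat.card W' ≤ Nat.card (Additive (V ⧸ C)) := by
      refine Nat.le_of_mul_le_mul_right ?_ (Nat.card_pos (α := C))
      rw [mul_assoc, cW, ← cP, show Nat.card (Additive (V ⧸ C)) = Nat.card (V ⧸ C) from rfl, ← hVC]
      by_cases hE : Eg.map P.subtype = ⊥
      · rw [hE, Subgroup.card_bot, one_mul]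
        exact Subgroup.card_le_card_group _
      · exact (Nat.mul_le_mul_left _ (Subgroup.card_le_of_le hWfix)).trans
          (hhall _ (Subgroup.map_subtype_le _) hE).le
    rw [← hpow, ← hpow, ← hpow, ← pow_add] at hle
    exact (Nat.pow_le_pow_iff_right (by norm_num)).1 hle
  · refine (Nat.pow_lt_pow_iff_right (a := 2) (by norm_num)).1 ?_
    rw [hpow, hpow, hPcard]
    refine Nat.lt_of_mul_lt_mul_right (a := Nat.card C) ?_
    rw [show Nat.card (Additive (V ⧸ C)) = Nat.card (V ⧸ C) from rfl, ← hVC]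
    by_cases hP0 : P = ⊥
    · rw [hP0, Subgroup.card_bot, one_mul]
      refine lt_of_le_of_ne (Subgroup.card_le_card_group C) fun e => hc.ne ?_
      have htop := Subgroup.eq_top_of_card_eq C e
      exact eq_bot_iff.2 fun a ha => Subgroup.mem_bot.2
        (MulEquiv.ext fun v => (htop.ge (Subgroup.mem_top v) : v ∈ C) a ha)
    · refine lt_of_le_of_lt (Nat.mul_le_mul_left _ (Subgroup.card_le_of_le ?_)) (hhall P le_rfl hP0)
      exact fun v hv p hp => hp.1.2 v hv
  · refine (Nat.pow_le_pow_iff_right (a := 2) (by norm_num)).1 ?_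
    rw [pow_add, hpow, hpow, hpow, hPcard]
    refine Nat.le_of_mul_le_mul_right ?_ (Nat.card_pos (α := C))
    rw [show Nat.card (Additive (V ⧸ C)) = Nat.card (V ⧸ C) from rfl, ← hVC]
    have hoff : Nat.card V ≤ Nat.card A * Nat.card C := by
      refine le_trans ?_ (hc.sig.2.2 ⊥ bot_le)
      rw [Subgroup.card_bot, one_mul,
        show fixSub (⊥ : Subgroup (MulAut V)) = ⊤ from eq_top_iff.2 fun v _ a ha => by
          rw [Subgroup.mem_bot.1 ha, MulAut.one_apply], Subgroup.card_top]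
    refine hoff.trans (Nat.mul_le_mul_right _ ?_)
    have hcl : Nat.card L = Nat.card f.range := rfl
    rw [hcl, ← QOff.card_map_mul_card_ker f]
    refine Nat.mul_le_mul_left _ ?_
    have hk : ∀ t : f.ker, (t.1 : MulAut V) ∈ P := by
      rintro ⟨⟨t, ht⟩, hker⟩
      have hzero : ∀ v, ((m t v : V) : V ⧸ C) = 1 := fun v => by
        have := LinearMap.congr_fun (congrArg Multiplicative.toAdd (MonoidHom.mem_ker.1 hker))
          (Additive.ofMul (v : V ⧸ C))
        exact congrArg Additive.toMul this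
      have htK : t ∈ K := by
        by_contra htK
        refine hc.ne (eq_bot_iff.2 fun a ha => Subgroup.mem_bot.2 (MulEquiv.ext fun v => ?_))
        exact (hminj t ht htK v ((QuotientGroup.eq_one_iff _).1 (hzero v))) a ha
      exact ⟨⟨⟨hAT ht, htK⟩, fun v hv => hv t ht⟩, hB t ht htK⟩
    exact Nat.card_le_card_of_injective (fun t : f.ker => (⟨_, hk t⟩ : P)) fun a b e =>
      Subtype.ext (Subtype.ext (congrArg Subtype.val e :))

end Cfsg.Agent.T51.Off
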