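import Cfsg.Agent.T51.OffUniq

/-!
Freeness spreads along a generating family of invariant subgroups.
-/

set_option autoImplicit false
set_option linter.unusedVariables false
set_option linter.unusedSectionVars false
set_option linter.style.haveILetI false

namespace Cfsg.Agent.T51.Off

open QOff FacGen

universe u

variable {V : Type u} [CommGroup V]

theorem mem_fixStab_sup {x : MulAut V} {U W : Subgroup V} (hU : x ∈ fixStab U)
    (hW : x ∈ fixStab W) : x ∈ fixStab (U ⊔ W) := by
  have hle : U ⊔ W ≤ x.toMonoidHom.eqLocus (MonoidHom.id V) := sup_le hU hW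
  exact fun v hv => hle hv

variable [Finite V]

theorem hall {X T E : Subgroup (MulAut V)} {W : Subgroup V} (hfree : Free T W)
    (horb : orb X W = ⊤) (hE : ∀ g ∈ X, E ≤ QOff.cj g T) (hsq : ∀ e ∈ E, e * e = 1)
    (hne : E ≠ ⊥) : Nat.card E * Nat.card (fixSub E) < Nat.card V := by
  classical
  let Good : Set (Subgroup V) := {U | Nat.card E * Nat.card ↥(U ⊓ fixSub E) ≤
      Nat.card ↥(E ⊓ fixStab U) * Nat.card U ∧
    (¬ E ≤ fixStab U →
      Nat.card E * Nat.card ↥(U ⊓ fixSub E) < Nat.card ↥(E ⊓ fixStab U) * Nat.card U)}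
  have hbot : (⊥ : Subgroup V) ∈ Good := by
    have h : E ≤ fixStab (⊥ : Subgroup V) := fun e he v hv => by
      rw [Subgroup.mem_bot.1 hv, map_one]
    refine ⟨?_, fun h' => absurd h h'⟩
    rw [bot_inf_eq, inf_eq_left.2 h]
  obtain ⟨U, ⟨hU1, hU2⟩, hmax⟩ :=
    Set.exists_max_image Good (fun U : Subgroup V => Nat.card U) (Set.toFinite _) ⟨⊥, hbot⟩
  suffices hall' : ∀ g ∈ X, W.map g.toMonoidHom ≤ U by
    have htop : U = ⊤ := eq_top_iff.2 (horb ▸ iSup_le fun g => hall' g g.2)
    subst htop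
    have := hU2 (by rw [fixStab_top]; exact fun h => hne (eq_bot_iff.2 h))
    rwa [fixStab_top, inf_bot_eq, Subgroup.card_bot, one_mul, top_inf_eq, Subgroup.card_top] at this
  intro g hg
  set W1 := W.map g.toMonoidHom with hW1
  by_contra hle
  set U' := U ⊔ W1 with hU'
  set K := E ⊓ fixStab U with hK
  set K' := E ⊓ fixStab U' with hK'
  have hfK : Free K W1 := (hfree.cj g).mono (inf_le_left.trans (hE g hg))
  have hKW : K ⊓ fixStab W1 = K' := by
    refine le_antisymm (fun x hx => ⟨hx.1.1, mem_fixStab_sup hx.1.2 hx.2⟩) ?_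
    exact fun x hx => ⟨⟨hx.1, fixStab_anti le_sup_left hx.2⟩, fixStab_anti le_sup_right hx.2⟩
  have hinvK : ∀ k ∈ K, ∀ w ∈ W1, k (k w) = w := fun k hk w _ => by
    rw [← MulAut.mul_apply, hsq k hk.1, MulAut.one_apply]
  have a2 : Nat.card K * Nat.card ↥(W1 ⊓ fixSub K) ≤ Nat.card K' * Nat.card W1 := by
    by_cases h : K ≤ fixStab W1
    · rw [← hKW, inf_eq_left.2 h]
      exact Nat.mul_le_mul_left _ (Subgroup.card_le_of_le inf_le_left)
    · exact hKW ▸ (hfK K le_rfl hinvK h).le
  have hUK : U ≤ fixSub K := fun v hv k hk => hk.2 v hv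
  have a3 : Nat.card ↥(U' ⊓ fixSub E) * Nat.card U ≤
      Nat.card ↥(U ⊓ fixSub E) * Nat.card ↥(U' ⊓ fixSub K) := by
    rw [← Thompson.card_sup_mul_card_inf (H := U' ⊓ fixSub E) (K := U) Subgroup.le_normalizer_of_normal,
      mul_comm (Nat.card ↥(U ⊓ fixSub E))]
    refine Nat.mul_le_mul (Subgroup.card_le_of_le (sup_le (inf_le_inf_left _ (fixSub_anti inf_le_left))
      (le_inf le_sup_left hUK))) (Subgroup.card_le_of_le ?_)
    exact fun v hv => ⟨hv.2, hv.1.2⟩
  have a4 : Nat.card ↥(U' ⊓ fixSub K) * Nat.card ↥(W1 ⊓ U) =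
      Nat.card U * Nat.card ↥(W1 ⊓ fixSub K) := by
    have e : U' ⊓ fixSub K = U ⊔ (W1 ⊓ fixSub K) := (sup_inf_assoc_of_le W1 hUK)
    have e' : U ⊓ (W1 ⊓ fixSub K) = W1 ⊓ U := by
      rw [inf_left_comm, inf_eq_left.2 hUK]
    rw [e, ← Thompson.card_sup_mul_card_inf (H := U) (K := W1 ⊓ fixSub K)
      Subgroup.le_normalizer_of_normal, e']
  have a5 : Nat.card U' * Nat.card ↥(W1 ⊓ U) = Nat.card U * Nat.card W1 := by
    rw [← Thompson.card_sup_mul_card_inf (H := U) (K := W1) Subgroup.le_normalizer_of_normal,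
      inf_comm W1 U]
  set e := Nat.card E with he
  set k := Nat.card K with hk
  set k' := Nat.card K' with hk'
  set u := Nat.card U with hu
  set u' := Nat.card U' with hu'
  set w := Nat.card W1 with hw
  set i := Nat.card ↥(W1 ⊓ U) with hi
  set x := Nat.card ↥(U ⊓ fixSub E) with hx
  set x' := Nat.card ↥(U' ⊓ fixSub E) with hx'
  set y := Nat.card ↥(W1 ⊓ fixSub K) with hy
  set y' := Nat.card ↥(U' ⊓ fixSub K) with hy'
  have hpos : 0 < u * i := Nat.mul_pos Nat.card_pos Nat.card_pos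
  have step1 : e * x' * (u * i) ≤ (e * x) * u * y := by
    calc e * x' * (u * i) = e * (x' * u) * i := by ring
      _ ≤ e * (x * y') * i := Nat.mul_le_mul_right _ (Nat.mul_le_mul_left _ a3)
      _ = e * x * (y' * i) := by ring
      _ = _ := by rw [a4]; ring
  have step2 : (k * u) * u * y ≤ k' * u' * (u * i) := by
    calc (k * u) * u * y = u * u * (k * y) := by ring
      _ ≤ u * u * (k' * w) := Nat.mul_le_mul_left _ a2
      _ = k' * u * (u * w) := by ring
      _ = _ := by rw [← a5]; ring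
  have hgood : U' ∈ Good := by
    refine ⟨Nat.le_of_mul_le_mul_right (step1.trans ((Nat.mul_le_mul_right _
      (Nat.mul_le_mul_right _ hU1)).trans step2)) hpos, fun hE' => ?_⟩
    refine Nat.lt_of_mul_lt_mul_right (a := u * i) ?_
    by_cases h : E ≤ fixStab U
    · have hKE : K = E := inf_eq_left.2 h
      have hnf : ¬ K ≤ fixStab W1 := fun h' => hE' fun z hz =>
        mem_fixStab_sup (h hz) (h' (hKE.ge hz))
      have a2' : k * y < k' * w := by
        have h3 := hfK K le_rfl hinvK hnf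
        rw [hKW] at h3
        exact h3
      calc e * x' * (u * i) ≤ (e * x) * u * y := step1
        _ ≤ k * u * u * y := Nat.mul_le_mul_right _ (Nat.mul_le_mul_right _ hU1)
        _ = u * u * (k * y) := by ring
        _ < u * u * (k' * w) :=
          Nat.mul_lt_mul_of_pos_left a2' (Nat.mul_pos Nat.card_pos Nat.card_pos)
        _ = k' * u * (u * w) := by ring
        _ = _ := by rw [← a5]; ring
    · calc e * x' * (u * i) ≤ (e * x) * u * y := step1
        _ < k * u * u * y := Nat.mul_lt_mul_of_pos_right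
            (Nat.mul_lt_mul_of_pos_right (hU2 h) Nat.card_pos) Nat.card_pos
        _ ≤ _ := step2
  have hU'le := hmax U' hgood
  exact hle (le_sup_right.trans (Subgroup.eq_of_le_of_card_ge le_sup_left hU'le).ge)

end Cfsg.Agent.T51.Off
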