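import Mathlib

/-!
Primary components of an endomorphism and divisibility of characteristic polynomials.
-/

set_option autoImplicit false
set_option linter.unusedVariables false
set_option linter.unusedSectionVars false

namespace Cfsg.Agent.T51.Off

open Polynomial Module

section

variable {K : Type*} [Field K] {M : Type*} [AddCommGroup M] [Module K M] [FiniteDimensional K M]

theorem dvd_minpoly_of_dvd_charpoly {p : K[X]} (hp : Irreducible p) (f : Module.End K M)
    (h : p ∣ f.charpoly) : p ∣ minpoly K f := by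
  haveI := Fact.mk hp
  set θ := AdjoinRoot.root p with hθ
  have h1 : (f.baseChange (AdjoinRoot p)).charpoly.IsRoot θ := by
    rw [LinearMap.charpoly_baseChange, IsRoot, eval_map_algebraMap, AdjoinRoot.aeval_eq,
      AdjoinRoot.mk_eq_zero]
    exact h
  have h3 := Module.End.isRoot_of_hasEigenvalue ((Module.End.hasEigenvalue_iff_isRoot_charpoly _ _).2 h1)
  have h4 : minpoly (AdjoinRoot p) (f.baseChange (AdjoinRoot p)) ∣
      (minpoly K f).map (algebraMap K (AdjoinRoot p)) := by
    refine minpoly.dvd _ _ ?_
    have e : f.baseChange (AdjoinRoot p) = Module.End.baseChangeHom K (AdjoinRoot p) M f := rfl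
    rw [aeval_map_algebraMap, e, aeval_algHom_apply, minpoly.aeval, map_zero]
  have h5 := h3.dvd h4
  rw [IsRoot, eval_map_algebraMap, AdjoinRoot.aeval_eq, AdjoinRoot.mk_eq_zero] at h5
  exact h5

theorem restrict_aeval (f : Module.End K M) {S : Submodule K M} (hS : ∀ x ∈ S, f x ∈ S)
    (r : K[X]) (x : S) : ((aeval (f.restrict hS) r) x : M) = aeval f r (x : M) := by
  induction r using Polynomial.induction_on' generalizing x with
  | add a b ha hb => simp [ha, hb]
  | monomial n c =>
    simp only [aeval_monomial, Algebra.algebraMap_eq_smul_one, smul_mul_assoc, one_mul,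
      LinearMap.smul_apply, Submodule.coe_smul]
    rw [Module.End.pow_restrict]
    rfl

theorem charpoly_primary {p : K[X]} (hp : Irreducible p) (f : Module.End K M) {N : ℕ}
    (hN : finrank K M ≤ N) :
    ∃ (m : ℕ) (r : K[X]), f.charpoly = p ^ m * r ∧ ¬ p ∣ r ∧
      m * p.natDegree = finrank K (LinearMap.ker (aeval f (p ^ N))) := by
  set g := aeval f (p ^ N) with hg
  set S := LinearMap.ker g with hS
  set I := LinearMap.range g with hI
  have hcomm : ∀ x, g (f x) = f (g x) := fun x => by
    have e : g * f = f * g := by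
      have e1 := congrArg (aeval f) (mul_comm (p ^ N) (Polynomial.X : K[X]))
      rwa [map_mul, map_mul, aeval_X] at e1
    exact LinearMap.congr_fun e x
  have hgp : g = (aeval f p) ^ N := by rw [hg, map_pow]
  have hker2 : LinearMap.ker (g * g) = S := by
    rw [hS, hgp, ← pow_add, Module.End.ker_pow_eq_ker_pow_finrank_of_le (by omega),
      Module.End.ker_pow_eq_ker_pow_finrank_of_le hN]
  have hdisj : Disjoint S I := by
    rw [Submodule.disjoint_def]
    rintro x hx ⟨y, rfl⟩
    have : y ∈ LinearMap.ker (g * g) := hx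
    rwa [hker2] at this
  have hcompl : IsCompl S I := by
    refine ⟨hdisj, ?_⟩
    rw [codisjoint_iff]
    refine Submodule.eq_top_of_finrank_eq ?_
    have h1 := Submodule.finrank_sup_add_finrank_inf_eq S I
    rw [hdisj.eq_bot, finrank_bot, add_zero] at h1
    have h2 := LinearMap.finrank_range_add_finrank_ker g
    rw [← hS, ← hI] at h2
    omega
  have hfS : ∀ x ∈ S, f x ∈ S := fun x hx => by
    show g (f x) = 0
    rw [hcomm, LinearMap.mem_ker.1 hx, map_zero]
  have hfI : ∀ x ∈ I, f x ∈ I := by
    rintro x ⟨y, rfl⟩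
    exact ⟨f y, hcomm y⟩
  have hprod : f.charpoly = (f.restrict hfS).charpoly * (f.restrict hfI).charpoly := by
    rw [← LinearMap.charpoly_prodMap,
      ← LinearEquiv.charpoly_conj (Submodule.prodEquivOfIsCompl S I hcompl)]
    congr 1
    refine LinearMap.ext fun v => ?_
    obtain ⟨x, rfl⟩ := (Submodule.prodEquivOfIsCompl S I hcompl).surjective v
    rw [LinearEquiv.conj_apply]
    simp [Submodule.coe_prodEquivOfIsCompl']
  have hIno : ¬ p ∣ (f.restrict hfI).charpoly := by
    intro hd
    obtain ⟨s, hs⟩ := dvd_minpoly_of_dvd_charpoly hp _ hd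
    have hinj : ∀ x : I, aeval (f.restrict hfI) p x = 0 → x = 0 := by
      intro x hx
      have hx' : aeval f p (x : M) = 0 := by
        rw [← restrict_aeval f hfI p x, hx, Submodule.coe_zero]
      by_cases hN0 : N = 0
      · have : finrank K M = 0 := by omega
        haveI := Module.finrank_zero_iff.1 this
        exact Subtype.ext (Subsingleton.elim _ _)
      have hxS : (x : M) ∈ S := by
        show g (x : M) = 0
        obtain ⟨k, rfl⟩ := Nat.exists_eq_succ_of_ne_zero hN0
        rw [hgp, pow_succ, Module.End.mul_apply, hx', map_zero]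
      exact Subtype.ext (Submodule.disjoint_def.1 hdisj _ hxS x.2)
    have h0 : aeval (f.restrict hfI) (p * s) = 0 := hs ▸ minpoly.aeval K _
    have hs0 : aeval (f.restrict hfI) s = 0 := LinearMap.ext fun x => hinj _ (by
      rw [← Module.End.mul_apply, ← map_mul, h0]; rfl)
    have hne : minpoly K (f.restrict hfI) ≠ 0 := minpoly.ne_zero (Algebra.IsIntegral.isIntegral _)
    have hsne : s ≠ 0 := fun h => hne (by rw [hs, h, mul_zero])
    have h6 := Polynomial.natDegree_le_of_dvd (minpoly.dvd K _ hs0) hsne
    rw [hs, natDegree_mul hp.ne_zero hsne] at h6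
    have := hp.natDegree_pos
    omega
  have hχ : (f.restrict hfS).charpoly ≠ 0 := (LinearMap.charpoly_monic _).ne_zero
  obtain ⟨m, r0, hr0, hm⟩ := WfDvdMonoid.max_power_factor hχ hp
  have hr0u : IsUnit r0 := by
    by_contra hu
    have hr0ne : r0 ≠ 0 := fun h => hχ (by rw [hm, h, mul_zero])
    obtain ⟨q, hq, hqd⟩ := WfDvdMonoid.exists_irreducible_factor hu hr0ne
    have h1 := dvd_minpoly_of_dvd_charpoly hq (f.restrict hfS) (hm ▸ dvd_mul_of_dvd_right hqd _)
    have h2 : minpoly K (f.restrict hfS) ∣ p ^ N := minpoly.dvd K _ (LinearMap.ext fun x =>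
      Subtype.ext (by rw [restrict_aeval]; exact x.2))
    have h3 := hq.prime.dvd_of_dvd_pow (h1.trans h2)
    exact hr0 ((hq.associated_of_dvd hp h3).symm.dvd.trans hqd)
  refine ⟨m, r0 * (f.restrict hfI).charpoly, by rw [hprod, hm, mul_assoc], ?_, ?_⟩
  · intro hd
    rcases hp.prime.dvd_or_dvd hd with h | h
    exacts [hr0 h, hIno h]
  · have hdeg := LinearMap.charpoly_natDegree (f.restrict hfS)
    rw [hm, natDegree_mul (pow_ne_zero _ hp.ne_zero) hr0u.ne_zero, natDegree_pow,
      natDegree_eq_zero_of_isUnit hr0u, add_zero] at hdeg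
    exact hdeg

/-- Larger primary components give a multiple of the characteristic polynomial. -/
theorem charpoly_dvd_of_primary {M' : Type*} [AddCommGroup M'] [Module K M'] [FiniteDimensional K M']
    (f : Module.End K M) (f' : Module.End K M')
    (h : ∀ (p : K[X]) (N : ℕ), Irreducible p → finrank K M ≤ N → finrank K M' ≤ N →
      finrank K (LinearMap.ker (aeval f (p ^ N))) ≤ finrank K (LinearMap.ker (aeval f' (p ^ N)))) :
    f.charpoly ∣ f'.charpoly := by
  rw [UniqueFactorizationMonoid.dvd_iff_emultiplicity_le (LinearMap.charpoly_monic f).ne_zero]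
  intro p hp
  rw [emultiplicity_le_emultiplicity_iff]
  intro n hn
  obtain ⟨m, r, hm, hr, hdim⟩ :=
    charpoly_primary hp.irreducible f (Nat.le_add_right (finrank K M) (finrank K M'))
  obtain ⟨m', r', hm', hr', hdim'⟩ :=
    charpoly_primary hp.irreducible f' (Nat.le_add_left (finrank K M') (finrank K M))
  have h1 := h p _ hp.irreducible (Nat.le_add_right (finrank K M) (finrank K M'))
    (Nat.le_add_left (finrank K M') (finrank K M))
  rw [← hdim, ← hdim'] at h1
  have hmm : m ≤ m' := Nat.le_of_mul_le_mul_right h1 hp.irreducible.natDegree_pos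
  rw [hm] at hn
  have h3 : p ^ n ∣ p ^ m := hp.pow_dvd_of_dvd_mul_right n hr hn
  exact hm' ▸ dvd_mul_of_dvd_left (h3.trans (pow_dvd_pow p hmm)) r'

end

end Cfsg.Agent.T51.Off
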