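import Cfsg.Agent.T51.OffBasic

/-!
A quadratic best offender outside a subgroup without offenders lies in a unique maximal subgroup.
-/

set_option autoImplicit false
set_option linter.unusedVariables false
set_option linter.unusedSectionVars false
set_option linter.style.haveILetI false

namespace Cfsg.Agent.T51.Off

open QOff FacGen Equiv

universe u

variable {V : Type u} [CommGroup V]

/-- `W` is invariant under `T`. -/
def Inv (T : Subgroup (MulAut V)) (W : Subgroup V) : Prop := ∀ t ∈ T, ∀ w ∈ W, t w ∈ W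

/-- The stabilizer of `W`. -/
def stab (W : Subgroup V) : Subgroup (MulAut V) where
  carrier := {x | W.map x.toMonoidHom = W}
  one_mem' := Subgroup.map_id W
  mul_mem' := by
    intro x z hx hz
    show W.map (x * z).toMonoidHom = W
    rw [show (x * z).toMonoidHom = x.toMonoidHom.comp z.toMonoidHom from rfl, ← Subgroup.map_map,
      show W.map z.toMonoidHom = W from hz, show W.map x.toMonoidHom = W from hx]
  inv_mem' := by
    intro x hx
    show W.map (x⁻¹).toMonoidHom = W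
    conv_lhs => rw [← (show W.map x.toMonoidHom = W from hx), Subgroup.map_map]
    convert Subgroup.map_id W
    ext v
    exact MulAut.inv_apply_self V x v

theorem mem_stab {W : Subgroup V} {x : MulAut V} : x ∈ stab W ↔ W.map x.toMonoidHom = W := Iff.rfl

theorem apply_mem_of_stab {W : Subgroup V} {x : MulAut V} (h : x ∈ stab W) {w : V} (hw : w ∈ W) :
    x w ∈ W :=
  (mem_stab.1 h).le ⟨w, hw, rfl⟩

variable [Finite V]

theorem mem_stab_of_apply {W : Subgroup V} {x : MulAut V} (h : ∀ w ∈ W, x w ∈ W) : x ∈ stab W :=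
  Subgroup.eq_of_le_of_card_ge (by rintro _ ⟨w, hw, rfl⟩; exact h w hw)
    (Subgroup.card_map_of_injective x.injective).ge

theorem le_stab {T : Subgroup (MulAut V)} {W : Subgroup V} (h : Inv T W) : T ≤ stab W :=
  fun t ht => mem_stab_of_apply (h t ht)

theorem fixStab_le_stab (W : Subgroup V) : fixStab W ≤ stab W :=
  fun x hx => mem_stab_of_apply fun w hw => by rw [hx w hw]; exact hw

theorem stab_map (g : MulAut V) (W : Subgroup V) :
    stab (W.map g.toMonoidHom) ≤ QOff.cj g (stab W) := fun x hx => by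
  refine mem_cj.2 (mem_stab_of_apply fun w hw => ?_)
  obtain ⟨w', hw', e⟩ := apply_mem_of_stab hx (⟨w, hw, rfl⟩ : g w ∈ W.map g.toMonoidHom)
  rw [MulAut.mul_apply, MulAut.mul_apply, ← e]
  show g⁻¹ (g w') ∈ W
  rwa [MulAut.inv_apply_self]

/-- The induction hypothesis. -/
def Below (X : Subgroup (MulAut V)) : Prop :=
  ∀ (Y T' : Subgroup (MulAut V)) (W' : Subgroup V), Y < X → IsSyl T' Y → Inv T' W' → Free T' W' →
    Free T' (orb Y W')

theorem gen_proper {X T Y T₁ : Subgroup (MulAut V)} {W : Subgroup V} {g : MulAut V}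
    (hfree : Free T W) (hTW : Inv T W) (IH : Below X) (hY : Y < X) (hT₁ : IsSyl T₁ Y)
    (hle : T₁ ≤ QOff.cj g T) :
    Y ≤ (Y ⊓ fixStab (W.map g.toMonoidHom)) ⊔
      (Y ⊓ Subgroup.normalizer (rad T₁ : Set (MulAut V))) := by
  have hinv : Inv T₁ (W.map g.toMonoidHom) := by
    rintro t ht _ ⟨w, hw, rfl⟩
    obtain ⟨s, hs, rfl⟩ := hle ht
    refine ⟨s w, hTW s hs w hw, ?_⟩
    show g (s w) = (g * s * g⁻¹) (g w)
    rw [MulAut.mul_apply, MulAut.mul_apply, MulAut.inv_apply_self]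
  set U := orb Y (W.map g.toMonoidHom) with hU
  have hfU := IH Y T₁ _ hY hT₁ hinv ((hfree.cj g).mono hle)
  set K := Y ⊓ fixStab U with hK
  have hKn : Y ≤ Subgroup.normalizer (K : Set (MulAut V)) := by
    rw [Subgroup.le_normalizer_iff]
    intro y hy k hk
    refine ⟨Y.mul_mem (Y.mul_mem hy hk.1) (Y.inv_mem hy), fun u hu => ?_⟩
    rw [MulAut.mul_apply, MulAut.mul_apply, hk.2 _ (orb_inv _ (inv_mem hy) u hu),
      MulAut.apply_inv_self]
  refine (frattini hT₁ inf_le_left hKn).trans (sup_le ?_ ?_)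
  · refine le_sup_of_le_right (inf_le_inf_left _ (normalizer_le_normalizer_rad inf_le_left ?_))
    exact le_inf (rad_le T₁) (le_inf ((rad_le T₁).trans hT₁.1) (rad_le_fixStab hfU))
  · exact le_sup_of_le_left (inf_le_inf_left _ (fixStab_anti (le_orb Y _)))

/-- The configuration of a minimal counterexample. -/
structure Config (X T H A : Subgroup (MulAut V)) (W : Subgroup V) : Prop where
  syl : IsSyl T X
  lt : H < X
  le : T ≤ H
  inv : H ≤ stab W
  free : Free T W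
  orbTop : orb X W = ⊤
  sig : A ∈ Sig T
  ne : A ≠ ⊥
  quad : dltSub A ≤ fixSub A
  cover : ∀ Y : Subgroup (MulAut V), Y < X → T ≤ Y → Y ≤ H
  gen : ∀ g ∈ X, g ∉ H → A ⊔ QOff.cj g A = X
  uniq : ∀ g ∈ X, ∀ Y : Subgroup (MulAut V), Y < X → QOff.cj g A ≤ Y → Y ≤ QOff.cj g H

theorem exists_config (h2 : ∀ v : V, v * v = 1) {X T : Subgroup (MulAut V)} {W : Subgroup V}
    (IH : Below X) (hT : IsSyl T X) (hTW : Inv T W) (horb : orb X W = ⊤) (hfree : Free T W)
    (hmax : ∀ W' : Subgroup V, W ≤ W' → Inv T W' → Free T W' → W' = W)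
    (hnt : ¬ Free T (⊤ : Subgroup V)) :
    ∃ H A : Subgroup (MulAut V), Config X T H A W := by
  haveI := finite_aut (V := V)
  classical
  have hWne : W ≠ ⊤ := fun h => hnt (h ▸ hfree)
  set H := X ⊓ stab W with hH
  have hTH : T ≤ H := le_inf hT.1 (le_stab hTW)
  have hHX : H < X := by
    refine lt_of_le_of_ne inf_le_left fun e => hWne ?_
    rw [eq_top_iff, ← horb]
    exact orb_le fun x hx w hw => apply_mem_of_stab (e.ge hx : x ∈ H).2 hw
  have hover : ∀ Y : Subgroup (MulAut V), Y < X → T ≤ Y → Y ≤ H := by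
    intro Y hY hTY
    have e := hmax _ (le_orb Y W) (fun t ht => orb_inv t (hTY ht))
      (IH Y T W hY (hT.mono hY.le hTY) hTW hfree)
    refine fun y hy => ⟨hY.le hy, mem_stab_of_apply fun w hw => ?_⟩
    rw [← e] at hw ⊢
    exact orb_inv y hy w hw
  have hrad : rad T ≠ ⊥ := fun h =>
    hnt (free_top_of_sig fun A hA => eq_bot_iff.2 (h ▸ le_rad hA))
  have hradX : X ⊓ Subgroup.normalizer (rad T : Set (MulAut V)) ≤ H := by
    refine hover _ (lt_of_le_of_ne inf_le_left fun e => hrad ?_)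
      (le_inf hT.1 (Subgroup.le_normalizer.trans (normalizer_le_normalizer_rad' T)))
    exact eq_bot_of_fix_orb horb (rad_le_fixStab hfree) (inf_eq_left.1 e)
  have hHn : ∀ x ∈ X, cj x H = H → x ∈ H := by
    intro x hx hxH
    set N := X ⊓ Subgroup.normalizer (H : Set (MulAut V)) with hN
    have hNX : N < X := by
      refine lt_of_le_of_ne inf_le_left fun e => hHX.not_ge ?_
      refine (frattini hT hHX.le (inf_eq_left.1 e)).trans (sup_le ?_ le_rfl)
      rintro z ⟨hzX, hz⟩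
      rw [inf_of_le_left hTH] at hz
      exact hradX ⟨hzX, normalizer_le_normalizer_rad' T hz⟩
    exact hover N hNX (le_inf hT.1 (hTH.trans Subgroup.le_normalizer)) ⟨hx, mem_normalizer_of_cj hxH⟩
  have hHn' : ∀ g ∈ X, ∀ x ∈ X, cj x (cj g H) = cj g H → x ∈ cj g H := by
    intro g hg x hx hxH
    rw [mem_cj]
    refine hHn _ (mul_mem (mul_mem (inv_mem hg) hx) hg) ?_
    rw [← cj_mul, ← cj_mul, hxH, cj_inv_cj]
  have hstab : ∀ g ∈ X, X ⊓ fixStab (W.map g.toMonoidHom) ≤ cj g H := by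
    intro g hg x hx
    rw [mem_cj]
    refine ⟨X.mul_mem (X.mul_mem (X.inv_mem hg) hx.1) hg, ?_⟩
    exact mem_cj.1 (stab_map g W (fixStab_le_stab _ hx.2))
  have hradlt : ∀ g ∈ X, ∀ x ∈ X, cj x (rad (cj g T)) = rad (cj g T) → x ∈ cj g H := by
    intro g hg x hx he
    rw [mem_cj]
    refine hradX ⟨X.mul_mem (X.mul_mem (X.inv_mem hg) hx) hg, mem_normalizer_of_cj ?_⟩
    rw [rad_cj] at he
    rw [← cj_mul, ← cj_mul, he, cj_inv_cj]
  -- offenders determine the maximal subgroup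
  have U1 : ∀ g₁ ∈ X, ∀ g₂ ∈ X, ∀ A : Subgroup (MulAut V), A ≠ ⊥ → A ∈ Sig (cj g₁ T) →
      A ∈ Sig (cj g₂ T) → cj g₁ H = cj g₂ H := by
    by_contra hc
    push Not at hc
    obtain ⟨g₁, hg₁, g₂, hg₂, A, hA, hA1, hA2, hne⟩ := hc
    set S : Set (MulAut V × MulAut V) := {p | p.1 ∈ X ∧ p.2 ∈ X ∧
      (∃ A : Subgroup (MulAut V), A ≠ ⊥ ∧ A ∈ Sig (cj p.1 T) ∧ A ∈ Sig (cj p.2 T)) ∧
      cj p.1 H ≠ cj p.2 H} with hS
    obtain ⟨⟨x₁, x₂⟩, ⟨hx₁, hx₂, ⟨B, hB, hB1, hB2⟩, hne'⟩, hmax⟩ := Set.exists_max_image S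
      (fun p => (Sig (cj p.1 T) ∩ Sig (cj p.2 T)).ncard) (Set.toFinite _)
      ⟨(g₁, g₂), hg₁, hg₂, ⟨A, hA, hA1, hA2⟩, hne⟩
    set Δ := Sig (cj x₁ T) ∩ Sig (cj x₂ T) with hΔ
    have big : ∀ p₁ ∈ X, ∀ p₂ ∈ X, ∀ Δ' : Set (Subgroup (MulAut V)),
        Δ' ⊆ Sig (cj p₁ T) → Δ' ⊆ Sig (cj p₂ T) → (∃ C ∈ Δ', C ≠ ⊥) → Δ.ncard < Δ'.ncard →
        cj p₁ H = cj p₂ H := by
      intro p₁ hp₁ p₂ hp₂ Δ' h1 h3 hnt hlt
      by_contra hne''
      obtain ⟨C, hC', hC0⟩ := hnt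
      have := hmax (p₁, p₂) ⟨hp₁, hp₂, ⟨C, hC0, h1 hC', h3 hC'⟩, hne''⟩
      have h4 := Set.ncard_le_ncard (Set.subset_inter h1 h3) (Set.toFinite _)
      exact absurd hlt (not_lt.2 (h4.trans this))
    have hstrict : ∀ p₁ ∈ X, ∀ p₂ ∈ X, Sig (cj p₁ T) ⊆ Sig (cj p₂ T) → cj p₁ H = cj p₂ H := by
      intro p₁ hp₁ p₂ hp₂ hsub
      have hr : rad (cj p₂ T) = rad (cj p₁ T) := by
        refine (Subgroup.eq_of_le_of_card_ge (sSup_le_sSup hsub) ?_).symm
        show Nat.card (rad (cj p₂ T)) ≤ Nat.card (rad (cj p₁ T))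
        rw [rad_cj, rad_cj, card_cj, card_cj]
      have hmem := hradlt p₁ hp₁ (p₂ * p₁⁻¹) (mul_mem hp₂ (inv_mem hp₁)) (by
        rw [← rad_cj, cj_mul, inv_mul_cancel_right, hr])
      have e := cj_eq_of_mem hmem
      rw [cj_mul, inv_mul_cancel_right] at e
      exact e.symm
    set D : Subgroup (MulAut V) := sSup Δ with hD
    have hDT : D ≤ cj x₁ T := sSup_le fun C hC' => hC'.1.1
    have hD2 : D ≤ cj x₂ T := sSup_le fun C hC' => hC'.2.1
    have hD0 : D ≠ ⊥ := fun h => hB (eq_bot_iff.2 (h ▸ le_sSup (show B ∈ Δ from ⟨hB1, hB2⟩)))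
    set Y := X ⊓ Subgroup.normalizer (D : Set (MulAut V)) with hY
    have hYX : Y < X := lt_of_le_of_ne inf_le_left fun e => by
      have hn : X ≤ Subgroup.normalizer (D : Set (MulAut V)) := inf_eq_left.1 e
      refine hD0 (eq_bot_of_fix_orb horb ?_ hn)
      have hDr : D ≤ rad (cj x₁ T) := sSup_le_sSup Set.inter_subset_left
      rw [rad_cj] at hDr
      have h1 := (cj_mono x₁⁻¹ hDr).trans ((cj_inv_cj _ _).le.trans (rad_le_fixStab hfree))
      rwa [cj_eq_self (inv_mem (hn hx₁))] at h1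
    obtain ⟨A₁, hA₁, hA₁Δ, hA₁N⟩ := exists_sig_normalizing (hT.2.1.map _) Δ Set.inter_subset_left
      (fun e => hne' (hstrict _ hx₁ _ hx₂ fun C hC' => (e.ge hC').2))
    obtain ⟨A₂, hA₂, hA₂Δ, hA₂N⟩ := exists_sig_normalizing (hT.2.1.map _) Δ Set.inter_subset_right
      (fun e => hne' (hstrict _ hx₂ _ hx₁ fun C hC' => (e.ge hC').1).symm)
    set N₁ := cj x₁ T ⊓ Subgroup.normalizer (D : Set (MulAut V)) with hN₁
    set N₂ := cj x₂ T ⊓ Subgroup.normalizer (D : Set (MulAut V)) with hN₂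
    obtain ⟨T₁, hT₁, hNT₁⟩ := exists_syl ((hT.2.1.map _).to_le inf_le_left)
      (show N₁ ≤ Y from inf_le_inf_right _ (cj_le hT.1 hx₁))
    obtain ⟨T₂, hT₂, hNT₂⟩ := exists_syl ((hT.2.1.map _).to_le inf_le_left)
      (show N₂ ≤ Y from inf_le_inf_right _ (cj_le hT.1 hx₂))
    obtain ⟨y, hyY, hy⟩ := hT₁.exists_conj hT₂.2.1 hT₂.1
    obtain ⟨g₃, hg₃, hT₁g⟩ := hT.exists_conj hT₁.2.1 (hT₁.1.trans hYX.le)
    have hnt : ∀ Δ' : Set (Subgroup (MulAut V)), Δ ⊆ Δ' → ∃ C ∈ Δ', C ≠ ⊥ :=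
      fun Δ' h => ⟨B, h ⟨hB1, hB2⟩, hB⟩
    have hins : ∀ {C : Subgroup (MulAut V)}, C ∉ Δ → Δ.ncard < (insert C Δ).ncard := by
      intro C hC'
      rw [Set.ncard_insert_of_notMem hC' (Set.toFinite _)]
      exact Nat.lt_succ_self _
    have hsub₁ : insert A₁ Δ ⊆ Sig T₁ := by
      rintro C (rfl | hC')
      · exact sig_mono hA₁ ((le_inf hA₁.1 hA₁N).trans hNT₁)
      · exact sig_mono hC'.1 ((le_inf hC'.1.1 ((le_sSup hC' : C ≤ D).trans Subgroup.le_normalizer)).trans hNT₁)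
    have hsub₂ : insert A₂ Δ ⊆ Sig T₂ := by
      rintro C (rfl | hC')
      · exact sig_mono hA₂ ((le_inf hA₂.1 hA₂N).trans hNT₂)
      · exact sig_mono hC'.2 ((le_inf hC'.2.1 ((le_sSup hC' : C ≤ D).trans Subgroup.le_normalizer)).trans hNT₂)
    have hup : ∀ {T' : Subgroup (MulAut V)} {k : MulAut V}, T' ≤ cj k T → Sig T' ⊆ Sig (cj k T) :=
      fun h C hC' => sig_mono hC' (hC'.1.trans h)
    have e13 : cj x₁ H = cj g₃ H := big _ hx₁ _ hg₃ (insert A₁ Δ)
      (Set.insert_subset hA₁ Set.inter_subset_left) (hsub₁.trans (hup hT₁g))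
      (hnt _ (Set.subset_insert _ _)) (hins hA₁Δ)
    have hyX : y ∈ X := hYX.le hyY
    have hT₂g : T₂ ≤ cj (y * g₃) T := by
      rw [← cj_mul]
      exact hy.trans (cj_mono y hT₁g)
    have e23 : cj x₂ H = cj (y * g₃) H := big _ hx₂ _ (mul_mem hyX hg₃) (insert A₂ Δ)
      (Set.insert_subset hA₂ Set.inter_subset_right) (hsub₂.trans (hup hT₂g))
      (hnt _ (Set.subset_insert _ _)) (hins hA₂Δ)
    have hYH : Y ≤ cj g₃ H := by
      refine (gen_proper hfree hTW IH hYX hT₁ hT₁g).trans (sup_le ?_ ?_)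
      · exact le_trans (inf_le_inf_right _ hYX.le) (hstab g₃ hg₃)
      · rintro n ⟨hnY, hn⟩
        have hnX : n ∈ X := hYX.le hnY
        refine hHn' g₃ hg₃ n hnX ?_
        have e := big (n * g₃) (mul_mem hnX hg₃) g₃ hg₃ ((cj n) '' insert A₁ Δ) ?_ ?_ ?_ ?_
        · rwa [← cj_mul] at e
        · rintro _ ⟨C, hC', rfl⟩
          rw [← cj_mul]
          exact sig_cj n (hup hT₁g (hsub₁ hC'))
        · rintro _ ⟨C, hC', rfl⟩
          refine sig_mono (sig_cj n (hsub₁ hC')) ?_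
          refine (cj_mono n (le_rad (hsub₁ hC'))).trans ?_
          rw [cj_eq_self hn]
          exact (rad_le _).trans hT₁g
        · refine ⟨cj n B, ⟨B, Set.mem_insert_of_mem _ ⟨hB1, hB2⟩, rfl⟩, fun h => hB ?_⟩
          exact (Subgroup.map_eq_bot_iff_of_injective _ (MulAut.conj n).injective).1 h
        · rw [Set.ncard_image_of_injective _ (fun C C' h => by
            simpa [cj_inv_cj] using congrArg (QOff.cj n⁻¹) h)]
          exact hins hA₁Δ
    apply hne'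
    rw [e13, e23, ← cj_mul, cj_eq_of_mem (hYH hyY)]
  -- every proper subgroup containing a nontrivial offender lies in one maximal subgroup
  have U2 : ∀ g ∈ X, ∀ A : Subgroup (MulAut V), A ≠ ⊥ → A ∈ Sig (cj g T) →
      ∀ Y : Subgroup (MulAut V), Y < X → A ≤ Y → Y ≤ cj g H := by
    intro g hg A hA hAs Y hY hAY
    obtain ⟨T₁, hT₁, hAT₁⟩ := exists_syl ((hT.2.1.map _).to_le hAs.1) hAY
    obtain ⟨g₃, hg₃, hT₁g⟩ := hT.exists_conj hT₁.2.1 (hT₁.1.trans hY.le)
    have e : cj g H = cj g₃ H := U1 g hg g₃ hg₃ A hA hAs (sig_mono hAs (hAT₁.trans hT₁g))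
    rw [e]
    refine (gen_proper hfree hTW IH hY hT₁ hT₁g).trans (sup_le ?_ ?_)
    · exact le_trans (inf_le_inf_right _ hY.le) (hstab g₃ hg₃)
    · rintro n ⟨hnY, hn⟩
      have hnX : n ∈ X := hY.le hnY
      refine hHn' g₃ hg₃ n hnX ?_
      have hAT : A ∈ Sig T₁ := sig_mono hAs hAT₁
      have e' := U1 (n * g₃) (mul_mem hnX hg₃) g₃ hg₃ (cj n A)
        (fun h => hA ((Subgroup.map_eq_bot_iff_of_injective _ (MulAut.conj n).injective).1 h))
        (by rw [← cj_mul]; exact sig_cj n (sig_mono hAT (hAT₁.trans hT₁g)))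
        (sig_mono (sig_cj n hAT) ((cj_mono n (le_rad hAT)).trans
          (by rw [cj_eq_self hn]; exact (rad_le _).trans hT₁g)))
      rwa [← cj_mul] at e'
  -- a quadratic offender
  obtain ⟨A0, hA0, hA0ne⟩ : ∃ A0 ∈ Sig T, A0 ≠ ⊥ := by
    by_contra hc
    push Not at hc
    exact hnt (free_top_of_sig hc)
  obtain ⟨A, -, hAs, hAne, hAq⟩ := exists_quadratic h2 hA0 hA0ne
  have hU2 : ∀ g ∈ X, ∀ Y : Subgroup (MulAut V), Y < X → cj g A ≤ Y → Y ≤ cj g H :=
    fun g hg Y hY hle => U2 g hg (cj g A)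
      (fun e => hAne ((Subgroup.map_eq_bot_iff_of_injective _ (MulAut.conj g).injective).1 e))
      (sig_cj g hAs) Y hY hle
  refine ⟨H, A, hT, hHX, hTH, inf_le_right, hfree, horb, hAs, hAne, hAq, hover,
    fun g hg hgH => ?_, hU2⟩
  have hAX : A ≤ X := hAs.1.trans hT.1
  by_contra hne
  have hlt := lt_of_le_of_ne (sup_le hAX (cj_le hAX hg)) hne
  have h1 := hU2 1 X.one_mem _ hlt (by rw [cj_one]; exact le_sup_left)
  rw [cj_one] at h1
  have h3 := hU2 g hg H hHX (le_sup_right.trans h1)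
  exact hgH (hHn g hg (Subgroup.eq_of_le_of_card_ge h3 (card_cj g H).le).symm)

end Cfsg.Agent.T51.Off
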