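import Mathlib
import Cfsg.Agent.Lib.Thompson.Replacement

/-!
Automorphism groups of a group of exponent two: displacement maps, fixed points, and
subgroups whose 2-subgroups act quadratically.
-/

set_option autoImplicit false
set_option linter.unusedVariables false
set_option linter.unusedSectionVars false

namespace Cfsg.Agent.T51.QOff

variable {V : Type*} [CommGroup V]

/-- The displacement `v ↦ t v * v` of an automorphism of a group of exponent two. -/
def dltHom (t : MulAut V) : V →* V where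
  toFun v := t v * v
  map_one' := by simp
  map_mul' a b := by rw [map_mul]; exact mul_mul_mul_comm _ _ _ _

theorem dltHom_apply (t : MulAut V) (v : V) : dltHom t v = t v * v := rfl

/-- The fixed points of a group of automorphisms. -/
def fixSub (A : Subgroup (MulAut V)) : Subgroup V where
  carrier := {v | ∀ a ∈ A, a v = v}
  one_mem' a _ := map_one a
  mul_mem' := by intro v w hv hw a ha; rw [map_mul, hv a ha, hw a ha]
  inv_mem' := by intro v hv a ha; rw [map_inv, hv a ha]

theorem mem_fixSub {A : Subgroup (MulAut V)} {v : V} : v ∈ fixSub A ↔ ∀ a ∈ A, a v = v := Iff.rfl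

theorem fixSub_anti {A B : Subgroup (MulAut V)} (h : A ≤ B) : fixSub B ≤ fixSub A :=
  fun v hv a ha => hv a (h ha)

theorem fixSub_sup {A B : Subgroup (MulAut V)} {v : V} (ha : v ∈ fixSub A) (hb : v ∈ fixSub B) :
    v ∈ fixSub (A ⊔ B) := by
  let S : Subgroup (MulAut V) :=
    { carrier := {x | x v = v}
      one_mem' := rfl
      mul_mem' := by
        intro x y hx hy
        show (x * y) v = v
        rw [MulAut.mul_apply, show y v = v from hy, show x v = v from hx]
      inv_mem' := by
        intro x hx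
        show x⁻¹ v = v
        conv_lhs => rw [← (show x v = v from hx)]
        exact MulAut.inv_apply_self V x v }
  intro x hx
  exact (sup_le (fun a h => ha a h) (fun b h => hb b h) : A ⊔ B ≤ S) hx

/-- The subgroup generated by all displacements. -/
def dltSub (A : Subgroup (MulAut V)) : Subgroup V := ⨆ a : A, (dltHom (a : MulAut V)).range

theorem dltHom_mem_dltSub {A : Subgroup (MulAut V)} {a : MulAut V} (ha : a ∈ A) (v : V) :
    dltHom a v ∈ dltSub A :=
  Subgroup.mem_iSup_of_mem (⟨a, ha⟩ : A) ⟨v, rfl⟩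

theorem dltSub_le_iff {A : Subgroup (MulAut V)} {E : Subgroup V} :
    dltSub A ≤ E ↔ ∀ a ∈ A, ∀ v, dltHom a v ∈ E := by
  refine ⟨fun h a ha v => h (dltHom_mem_dltSub ha v), fun h => iSup_le fun a => ?_⟩
  rintro _ ⟨v, rfl⟩
  exact h a a.2 v

theorem dlt_mul_eq (h2 : ∀ v : V, v * v = 1) (x y : MulAut V) (v : V) :
    dltHom (x * y) v = dltHom x (y v) * dltHom y v := by
  simp only [dltHom_apply, MulAut.mul_apply]
  calc x (y v) * v = x (y v) * ((y v * y v) * v) := by rw [h2, one_mul]
    _ = x (y v) * y v * (y v * v) := by simp only [mul_assoc]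

theorem dltSub_sup_le (h2 : ∀ v : V, v * v = 1) {A B : Subgroup (MulAut V)} {E : Subgroup V}
    (hA : dltSub A ≤ E) (hB : dltSub B ≤ E) : dltSub (A ⊔ B) ≤ E := by
  let S : Subgroup (MulAut V) :=
    { carrier := {x | ∀ v, dltHom x v ∈ E}
      one_mem' := fun v => by
        rw [dltHom_apply, MulAut.one_apply, h2]; exact E.one_mem
      mul_mem' := by
        intro x y hx hy v
        rw [dlt_mul_eq h2]
        exact mul_mem (hx _) (hy v)
      inv_mem' := by
        intro x hx v
        have := hx (x⁻¹ v)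
        rw [dltHom_apply, MulAut.apply_inv_self, mul_comm] at this
        rwa [dltHom_apply] }
  rw [dltSub_le_iff] at hA hB ⊢
  exact (sup_le hA hB : A ⊔ B ≤ S)

theorem dltSub_mono {A B : Subgroup (MulAut V)} (h : A ≤ B) : dltSub A ≤ dltSub B :=
  dltSub_le_iff.2 fun _ ha v => dltHom_mem_dltSub (h ha) v

theorem map_dltSub_le (h2 : ∀ v : V, v * v = 1) {X : Subgroup (MulAut V)} {x : MulAut V}
    (hx : x ∈ X) {r : V} (hr : r ∈ dltSub X) : x r ∈ dltSub X := by
  have h : x r = dltHom x r * r := by rw [dltHom_apply, mul_assoc, h2, mul_one]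
  rw [h]
  exact mul_mem (dltHom_mem_dltSub hx r) hr

/-- Conjugate of a group of automorphisms. -/
abbrev cj (h : MulAut V) (A : Subgroup (MulAut V)) : Subgroup (MulAut V) :=
  A.map (MulAut.conj h).toMonoidHom

theorem cj_le {X A : Subgroup (MulAut V)} (hA : A ≤ X) {h : MulAut V} (hh : h ∈ X) : cj h A ≤ X := by
  rintro _ ⟨a, ha, rfl⟩
  show h * a * h⁻¹ ∈ X
  exact mul_mem (mul_mem hh (hA ha)) (inv_mem hh)

theorem cj_one (A : Subgroup (MulAut V)) : cj (1 : MulAut V) A = A := by
  ext x
  simp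

theorem cj_mul (h k : MulAut V) (A : Subgroup (MulAut V)) : cj h (cj k A) = cj (h * k) A := by
  rw [cj, cj, cj, Subgroup.map_map]
  congr 1

theorem card_cj (h : MulAut V) (A : Subgroup (MulAut V)) : Nat.card (cj h A) = Nat.card A :=
  Subgroup.card_map_of_injective (MulAut.conj h).injective

theorem fixSub_cj (h : MulAut V) (A : Subgroup (MulAut V)) :
    fixSub (cj h A) = (fixSub A).map h.toMonoidHom := by
  ext v
  constructor
  · intro hv
    refine ⟨h⁻¹ v, fun a ha => ?_, MulAut.apply_inv_self V h v⟩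
    have := hv (h * a * h⁻¹) ⟨a, ha, rfl⟩
    rw [MulAut.mul_apply, MulAut.mul_apply] at this
    conv_rhs => rw [← this]
    rw [MulAut.inv_apply_self]
  · rintro ⟨w, hw, rfl⟩ _ ⟨a, ha, rfl⟩
    show (h * a * h⁻¹) (h w) = h w
    rw [MulAut.mul_apply, MulAut.mul_apply, MulAut.inv_apply_self, hw a ha]

theorem dltSub_cj (h : MulAut V) (A : Subgroup (MulAut V)) :
    dltSub (cj h A) = (dltSub A).map h.toMonoidHom := by
  apply le_antisymm
  · rw [dltSub_le_iff]
    rintro _ ⟨a, ha, rfl⟩ v
    refine ⟨dltHom a (h⁻¹ v), dltHom_mem_dltSub ha _, ?_⟩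
    show h (a (h⁻¹ v) * h⁻¹ v) = (h * a * h⁻¹) v * v
    rw [map_mul, MulAut.apply_inv_self, MulAut.mul_apply, MulAut.mul_apply]
  · rw [Subgroup.map_le_iff_le_comap, dltSub_le_iff]
    intro a ha v
    show h (a v * v) ∈ dltSub (cj h A)
    have h' := dltHom_mem_dltSub (A := cj h A) (a := h * a * h⁻¹) ⟨a, ha, rfl⟩ (h v)
    rw [dltHom_apply, MulAut.mul_apply, MulAut.mul_apply, MulAut.inv_apply_self] at h'
    rwa [map_mul]

theorem card_fixSub_cj (h : MulAut V) (A : Subgroup (MulAut V)) :
    Nat.card (fixSub (cj h A)) = Nat.card (fixSub A) := by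
  rw [fixSub_cj]
  exact Subgroup.card_map_of_injective h.injective

theorem card_dltSub_cj (h : MulAut V) (A : Subgroup (MulAut V)) :
    Nat.card (dltSub (cj h A)) = Nat.card (dltSub A) := by
  rw [dltSub_cj]
  exact Subgroup.card_map_of_injective h.injective

/-- Every 2-subgroup acts quadratically. -/
def Quad (X : Subgroup (MulAut V)) : Prop :=
  ∀ T : Subgroup (MulAut V), T ≤ X → IsPGroup 2 T →
    ∀ s ∈ T, ∀ t ∈ T, ∀ v, t (dltHom s v) = dltHom s v

theorem Quad.mono {X Y : Subgroup (MulAut V)} (h : Quad X) (hY : Y ≤ X) : Quad Y :=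
  fun T hT => h T (hT.trans hY)

theorem Quad.dltSub_le {X T A B : Subgroup (MulAut V)} (h : Quad X) (hT : T ≤ X)
    (hT2 : IsPGroup 2 T) (hA : A ≤ T) (hB : B ≤ T) : dltSub A ≤ fixSub B :=
  dltSub_le_iff.2 fun a ha v b hb => h T hT hT2 a (hA ha) b (hB hb) v

theorem Quad.sq_eq_one (h2 : ∀ v : V, v * v = 1) {X : Subgroup (MulAut V)} (h : Quad X)
    {T : Subgroup (MulAut V)} (hT : T ≤ X) (hT2 : IsPGroup 2 T) {t : MulAut V} (ht : t ∈ T) :
    t * t = 1 := by
  refine MulEquiv.ext fun v => ?_
  have e := h T hT hT2 t ht t ht v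
  rw [dltHom_apply, map_mul, mul_comm (t v) v] at e
  rw [MulAut.mul_apply, MulAut.one_apply]
  exact mul_right_cancel e

/-- `A` lies in a normal 2-subgroup of `X`. -/
def InCore (A X : Subgroup (MulAut V)) : Prop :=
  ∃ N : Subgroup (MulAut V), N ≤ X ∧ IsPGroup 2 N ∧ A ≤ N ∧
    X ≤ Subgroup.normalizer (N : Set (MulAut V))

/-- A group generated by two subgroups, each in a normal 2-subgroup, is a 2-group. -/
theorem isPGroup_of_inCore {A B X : Subgroup (MulAut V)} (hX : X = A ⊔ B) (hA : InCore A X)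
    (hB : InCore B X) : IsPGroup 2 X := by
  obtain ⟨N, hNX, hN2, hAN, hXN⟩ := hA
  obtain ⟨M, hMX, hM2, hBM, hXM⟩ := hB
  refine (hN2.to_sup_of_normal_left' hM2 (hMX.trans hXN)).to_le ?_
  rw [hX]
  exact sup_le_sup hAN hBM

/-- A group generated by a subgroup in a normal 2-subgroup and a 2-subgroup is a 2-group. -/
theorem isPGroup_of_inCore_left {A B X : Subgroup (MulAut V)} (hX : X = A ⊔ B) (hA : InCore A X)
    (hB : IsPGroup 2 B) : IsPGroup 2 X := by
  obtain ⟨N, hNX, hN2, hAN, hXN⟩ := hA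
  refine (hN2.to_sup_of_normal_left' hB ((hX ▸ le_sup_right : B ≤ X).trans hXN)).to_le ?_
  conv_lhs => rw [hX]
  exact sup_le_sup_right hAN B

theorem card_map_mul_card_ker {G H : Type*} [Group G] [Group H] (f : G →* H) :
    Nat.card f.range * Nat.card f.ker = Nat.card G := by
  rw [← Subgroup.index_ker, mul_comm]
  exact Subgroup.card_mul_index f.ker

theorem mul_eq_one_iff_eq (h2 : ∀ v : V, v * v = 1) {a b : V} : a * b = 1 ↔ a = b :=
  ⟨fun h => (eq_inv_of_mul_eq_one_left h).trans (inv_eq_of_mul_eq_one_left (h2 b)),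
    fun h => h ▸ h2 a⟩

theorem card_range_mul_card_fix (h2 : ∀ v : V, v * v = 1) (t : MulAut V) :
    Nat.card (dltHom t).range * Nat.card (fixSub (Subgroup.zpowers t)) = Nat.card V := by
  have h : fixSub (Subgroup.zpowers t) = (dltHom t).ker := by
    ext v
    rw [MonoidHom.mem_ker, dltHom_apply, mul_eq_one_iff_eq h2]
    refine ⟨fun hv => hv t (Subgroup.mem_zpowers t), fun hv a ha => ?_⟩
    have hle : Subgroup.zpowers t ≤ MulAction.stabilizer (MulAut V) v := by
      rw [Subgroup.zpowers_le]; exact hv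
    exact hle ha
  rw [h]
  exact card_map_mul_card_ker (dltHom t)

end Cfsg.Agent.T51.QOff
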