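import Cfsg.Agent.T51.QuadOffenderBasic

/-!
The core configuration of the quadratic offender lemma: `X = ⟨A, A^g⟩` acts on a group of
exponent two without fixed points and without fixed quotient, every 2-subgroup acts quadratically,
and `|V : C_V(A)| ≤ |A|`.  Then `X` contains a symmetric group of degree three.
-/

set_option autoImplicit false
set_option linter.unusedVariables false
set_option linter.unusedSectionVars false

namespace Cfsg.Agent.T51.QOff

variable {V : Type*} [CommGroup V]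

/-- Proper subgroups of `X` see the conjugates of `A` inside normal 2-subgroups. -/
def CoreProp (A X : Subgroup (MulAut V)) : Prop :=
  ∀ Y : Subgroup (MulAut V), Y < X → ∀ h ∈ X, cj h A ≤ Y → InCore (cj h A) Y

theorem card_mul_card_le_of_inf [Finite V] {C D : Subgroup V} (h : C ⊓ D = ⊥) :
    Nat.card C * Nat.card D ≤ Nat.card V := by
  rw [← Thompson.card_sup_mul_card_inf (H := C) (K := D) Subgroup.le_normalizer_of_normal, h,
    Subgroup.card_bot, mul_one]
  exact Subgroup.card_le_card_group _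

theorem card_le_of_sup [Finite V] {C D : Subgroup V} (h : C ⊔ D = ⊤) :
    Nat.card V ≤ Nat.card C * Nat.card D := by
  rw [← Thompson.card_sup_mul_card_inf (H := C) (K := D) Subgroup.le_normalizer_of_normal, h,
    Subgroup.card_top]
  exact Nat.le_mul_of_pos_right _ Nat.card_pos

section Core

variable [Finite V] {X A : Subgroup (MulAut V)} {g : MulAut V}

/-- The dimension count. -/
theorem core_dims (h2 : ∀ v : V, v * v = 1) (hAX : A ≤ X) (hgX : g ∈ X) (hgen : A ⊔ cj g A = X)
    (hA2 : IsPGroup 2 A) (hne : A ≠ ⊥) (hP : CoreProp A X) (hQ : Quad X)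
    (hfix : fixSub X = ⊥) (htop : dltSub X = ⊤) :
    (∀ t ∈ A, t ≠ 1 → fixSub (Subgroup.zpowers t) = fixSub A) ∧ dltSub A = fixSub A ∧
      Nat.card V = Nat.card (fixSub A) * Nat.card (fixSub A) := by
  have hEA : dltSub A ≤ fixSub A := hQ.dltSub_le hAX hA2 le_rfl le_rfl
  -- `X` is generated by `A^g` and any nontrivial element of `A`
  have hgent : ∀ t ∈ A, t ≠ 1 → cj g A ⊔ Subgroup.zpowers t = X := by
    intro t ht ht1
    by_contra hne'
    have htX : Subgroup.zpowers t ≤ X := by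
      rw [Subgroup.zpowers_le]; exact hAX ht
    have hle : cj g A ⊔ Subgroup.zpowers t ≤ X := sup_le (cj_le hAX hgX) htX
    have hcore := hP _ (lt_of_le_of_ne hle hne') g hgX le_sup_left
    have h2' : IsPGroup 2 (Subgroup.zpowers t) := hA2.to_le (by rw [Subgroup.zpowers_le]; exact ht)
    have hT := isPGroup_of_inCore_left rfl hcore h2'
    have h1 : dltSub (cj g A) ≤ fixSub (Subgroup.zpowers t) :=
      hQ.dltSub_le hle hT le_sup_left le_sup_right
    have h0 : dltSub A ≤ fixSub (Subgroup.zpowers t) :=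
      hQ.dltSub_le hAX hA2 le_rfl (by rw [Subgroup.zpowers_le]; exact ht)
    have hall : (⊤ : Subgroup V) ≤ fixSub (Subgroup.zpowers t) := by
      rw [← htop, ← hgen]
      exact dltSub_sup_le h2 h0 h1
    exact ht1 (MulEquiv.ext fun v => hall (Subgroup.mem_top v) t (Subgroup.mem_zpowers t))
  have key : ∀ t ∈ A, t ≠ 1 → fixSub (Subgroup.zpowers t) = fixSub A ∧
      Nat.card (dltSub A) = Nat.card (fixSub A) ∧
      Nat.card V = Nat.card (fixSub A) * Nat.card (fixSub A) := by
    intro t ht ht1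
    have hg := hgent t ht ht1
    have htA : Subgroup.zpowers t ≤ A := by
      rw [Subgroup.zpowers_le]; exact ht
    have hCle : fixSub A ≤ fixSub (Subgroup.zpowers t) := fixSub_anti htA
    have hinf : fixSub (cj g A) ⊓ fixSub (Subgroup.zpowers t) = ⊥ := by
      rw [eq_bot_iff, ← hfix, ← hg]
      exact fun v hv => fixSub_sup hv.1 hv.2
    have hsup : dltSub (cj g A) ⊔ (dltHom t).range = ⊤ := by
      rw [eq_top_iff, ← htop, ← hg]
      refine dltSub_sup_le h2 le_sup_left ?_
      have hle : dltSub (Subgroup.zpowers t) ≤ (dltHom t).range := by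
        rw [dltSub_le_iff]
        intro a ha v
        have hsq : t * t = 1 := hQ.sq_eq_one h2 hAX hA2 ht
        obtain ⟨j, rfl⟩ := Subgroup.mem_zpowers_iff.1 ha
        have hz : t ^ j = 1 ∨ t ^ j = t := by
          rcases Int.even_or_odd' j with ⟨i, hi | hi⟩
          · left; rw [hi, zpow_mul, zpow_two, hsq, one_zpow]
          · right; rw [hi, zpow_add_one, zpow_mul, zpow_two, hsq, one_zpow, one_mul]
        rcases hz with hz | hz <;> rw [hz]
        · rw [dltHom_apply, MulAut.one_apply, h2]; exact one_mem _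
        · exact ⟨v, rfl⟩
      exact hle.trans le_sup_right
    have i1 := card_mul_card_le_of_inf hinf
    have i2 := card_le_of_sup hsup
    rw [card_fixSub_cj] at i1
    rw [card_dltSub_cj] at i2
    have i3 := card_range_mul_card_fix h2 t
    have hEt : (dltHom t).range ≤ fixSub (Subgroup.zpowers t) := by
      rintro _ ⟨v, rfl⟩ a ha
      exact hQ (Subgroup.zpowers t) (htA.trans hAX) (hA2.to_le htA) t (Subgroup.mem_zpowers t) a
        ha v
    have i4 : Nat.card (dltHom t).range ≤ Nat.card (fixSub (Subgroup.zpowers t)) :=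
      Subgroup.card_le_of_le hEt
    have i5 : Nat.card (dltSub A) ≤ Nat.card (fixSub A) := Subgroup.card_le_of_le hEA
    have i6 : Nat.card (fixSub A) ≤ Nat.card (fixSub (Subgroup.zpowers t)) :=
      Subgroup.card_le_of_le hCle
    have hpos : 0 < Nat.card (dltHom t).range := Nat.card_pos
    have i7 : Nat.card (fixSub (Subgroup.zpowers t)) ≤ Nat.card (dltSub A) := by
      refine Nat.le_of_mul_le_mul_right ?_ hpos
      calc Nat.card (fixSub (Subgroup.zpowers t)) * Nat.card (dltHom t).range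
          = Nat.card V := by rw [mul_comm, i3]
        _ ≤ Nat.card (dltSub A) * Nat.card (dltHom t).range := i2
    have e6 : Nat.card (fixSub (Subgroup.zpowers t)) = Nat.card (fixSub A) :=
      le_antisymm (i7.trans i5) i6
    refine ⟨(Subgroup.eq_of_le_of_card_ge hCle e6.le).symm,
      le_antisymm i5 (e6 ▸ i7), le_antisymm ?_ (e6 ▸ i1)⟩
    calc Nat.card V = Nat.card (dltHom t).range * Nat.card (fixSub (Subgroup.zpowers t)) := i3.symm
      _ ≤ Nat.card (fixSub A) * Nat.card (fixSub A) := by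
          rw [e6]; exact Nat.mul_le_mul_right _ (e6 ▸ i4)
  obtain ⟨t, ht, ht1⟩ := A.bot_or_exists_ne_one.resolve_left hne
  exact ⟨fun s hs hs1 => (key s hs hs1).1,
    Subgroup.eq_of_le_of_card_ge hEA (key t ht ht1).2.1.ge, (key t ht ht1).2.2⟩

/-- The configuration contains a symmetric group of degree three. -/
theorem exists_sym_three (h2 : ∀ v : V, v * v = 1) (hAX : A ≤ X) (hgX : g ∈ X)
    (hgen : A ⊔ cj g A = X) (hA2 : IsPGroup 2 A) (hne : A ≠ ⊥) (hP : CoreProp A X) (hQ : Quad X)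
    (hoff : Nat.card V ≤ Nat.card A * Nat.card (fixSub A)) (hfix : fixSub X = ⊥)
    (htop : dltSub X = ⊤) :
    ∃ a x : ↥X, orderOf a = 2 ∧ orderOf x = 3 ∧ a * x * a⁻¹ = x⁻¹ := by
  classical
  obtain ⟨hCt, hE, hcardV⟩ := core_dims h2 hAX hgX hgen hA2 hne hP hQ hfix htop
  set C := fixSub A with hC
  set W := fixSub (cj g A) with hW
  have hinf : C ⊓ W = ⊥ := by
    rw [eq_bot_iff, ← hfix, ← hgen]
    exact fun v hv => fixSub_sup hv.1 hv.2
  have hcardW : Nat.card W = Nat.card C := card_fixSub_cj g A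
  have hsup : C ⊔ W = ⊤ := by
    refine Subgroup.eq_top_of_le_card _ ?_
    have h := Thompson.card_sup_mul_card_inf (H := C) (K := W) Subgroup.le_normalizer_of_normal
    rw [hinf, Subgroup.card_bot, mul_one] at h
    rw [h, hcardW, hcardV]
  have hCne : Nat.card C ≠ 1 := by
    intro h1
    obtain ⟨t, ht, ht1⟩ := A.bot_or_exists_ne_one.resolve_left hne
    rw [h1, mul_one] at hcardV
    haveI := (Nat.card_eq_one_iff_unique.1 hcardV).1
    exact ht1 (MulEquiv.ext fun v => Subsingleton.elim _ _)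
  -- transitivity of `A` on every coset of `C` outside `C`
  have htrans : ∀ v, v ∉ C → ∀ c ∈ C, ∃ a ∈ A, dltHom a v = c := by
    intro v hv c hc
    let f : ↥A → ↥C := fun a => ⟨dltHom (a : MulAut V) v, hE ▸ dltHom_mem_dltSub a.2 v⟩
    have hinj : Function.Injective f := by
      intro a b hab
      by_contra hne'
      have h : (a : MulAut V) v = (b : MulAut V) v :=
        mul_right_cancel (Subtype.ext_iff.1 hab : (a : MulAut V) v * v = (b : MulAut V) v * v)
      have hd : (b : MulAut V)⁻¹ * a ≠ 1 := fun h1 => hne' (Subtype.ext (inv_mul_eq_one.1 h1).symm)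
      refine hv ?_
      rw [← hCt _ (A.mul_mem (A.inv_mem b.2) a.2) hd]
      intro d hd'
      have hst : Subgroup.zpowers ((b : MulAut V)⁻¹ * a) ≤ MulAction.stabilizer (MulAut V) v := by
        rw [Subgroup.zpowers_le]
        show ((b : MulAut V)⁻¹ * a) v = v
        rw [MulAut.mul_apply, h, MulAut.inv_apply_self]
      exact hst hd'
    have hge : Nat.card C ≤ Nat.card A := by
      rw [hcardV] at hoff
      exact Nat.le_of_mul_le_mul_right hoff Nat.card_pos
    obtain ⟨a, ha⟩ := ((Nat.bijective_iff_injective_and_card f).2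
      ⟨hinj, le_antisymm (Nat.card_le_card_of_injective f hinj) hge⟩).2 ⟨c, hc⟩
    exact ⟨a, a.2, congrArg Subtype.val ha⟩
  -- the same for `A^g`
  have htrans' : ∀ v, v ∉ W → ∀ w ∈ W, ∃ b ∈ cj g A, dltHom b v = w := by
    intro v hv w hw
    rw [hW, fixSub_cj] at hv hw
    obtain ⟨c, hc, rfl⟩ := hw
    obtain ⟨a, ha, hac⟩ := htrans (g⁻¹ v)
      (fun h => hv ⟨g⁻¹ v, h, MulAut.apply_inv_self V g v⟩) c hc
    refine ⟨g * a * g⁻¹, ⟨a, ha, rfl⟩, ?_⟩
    show (g * a * g⁻¹) v * v = g c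
    rw [← hac, dltHom_apply, map_mul, MulAut.apply_inv_self, MulAut.mul_apply, MulAut.mul_apply]
  -- two conjugate fixed-point spaces are equal or meet trivially
  have hline : ∀ h ∈ X, ∀ h' ∈ X, ∀ z ∈ fixSub (cj h A), z ∈ fixSub (cj h' A) → z ≠ 1 →
      fixSub (cj h A) = fixSub (cj h' A) := by
    intro h hh h' hh' z hz hz' hz1
    have hle : cj h A ⊔ cj h' A ≤ X := sup_le (cj_le hAX hh) (cj_le hAX hh')
    by_cases heq : cj h A ⊔ cj h' A = X
    · refine absurd ?_ hz1
      rw [← Subgroup.mem_bot, ← hfix, ← heq]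
      exact fixSub_sup hz hz'
    have hlt := lt_of_le_of_ne hle heq
    have hT := isPGroup_of_inCore rfl (hP _ hlt h hh le_sup_left) (hP _ hlt h' hh' le_sup_right)
    have h1 : dltSub (cj h A) ≤ fixSub (cj h' A) := hQ.dltSub_le hle hT le_sup_left le_sup_right
    rw [dltSub_cj, hE, hC, ← fixSub_cj] at h1
    exact Subgroup.eq_of_le_of_card_ge h1 (by rw [card_fixSub_cj, card_fixSub_cj])
  obtain ⟨a, ha, ha1⟩ := A.bot_or_exists_ne_one.resolve_left hne
  obtain ⟨w0, hw0, hw01⟩ : ∃ w ∈ W, w ≠ (1 : V) :=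
    W.bot_or_exists_ne_one.resolve_left fun h => hCne (by rw [← hcardW, h, Subgroup.card_bot])
  have hnotC : ∀ w ∈ W, w ≠ 1 → w ∉ C := fun w hw hw1 hwC =>
    hw1 (Subgroup.mem_bot.1 (hinf ▸ ⟨hwC, hw⟩))
  have hnotW : ∀ c ∈ C, c ≠ 1 → c ∉ W := fun c hc hc1 hcW =>
    hc1 (Subgroup.mem_bot.1 (hinf ▸ ⟨hc, hcW⟩))
  have hu : ∀ w ∈ W, w ≠ 1 → dltHom a w ≠ 1 := by
    intro w hw hw1 h
    refine hnotC w hw hw1 ?_
    rw [← hCt a ha ha1]
    intro d hd
    have hst : Subgroup.zpowers a ≤ MulAction.stabilizer (MulAut V) w := by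
      rw [Subgroup.zpowers_le]
      exact (mul_eq_one_iff_eq h2).1 h
    exact hst hd
  set c0 := dltHom a w0 with hc0
  have hc0C : c0 ∈ C := hE ▸ dltHom_mem_dltSub ha w0
  obtain ⟨b, hb, hbc⟩ := htrans' c0 (hnotW c0 hc0C (hu w0 hw0 hw01)) w0 hw0
  have hbX : b ∈ X := cj_le hAX hgX hb
  have haw : ∀ v, a v = dltHom a v * v := fun v => by rw [dltHom_apply, mul_assoc, h2, mul_one]
  have hbv : ∀ v, b v = dltHom b v * v := fun v => by rw [dltHom_apply, mul_assoc, h2, mul_one]
  have hEW : dltSub (cj g A) = W := by rw [dltSub_cj, hE, hC, ← fixSub_cj]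
  -- `a` and `b` send `W` and `C` to the same space
  have h3 : fixSub (cj b A) = fixSub (cj (a * g) A) := by
    refine hline b hbX (a * g) (mul_mem (hAX ha) hgX) (a w0) ?_ ?_ (fun h => hw01 ?_)
    · rw [fixSub_cj]
      refine ⟨c0, hc0C, ?_⟩
      show b c0 = a w0
      rw [hbv, hbc, haw, ← hc0, mul_comm]
    · rw [← cj_mul, fixSub_cj]
      exact ⟨w0, hw0, rfl⟩
    · exact a.injective (h.trans (map_one a).symm)
  have hba : ∀ w ∈ W, b (dltHom a w) = w * dltHom a w := by
    intro w hw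
    have hmem : a w ∈ fixSub (cj b A) := by
      rw [h3, ← cj_mul, fixSub_cj]
      exact ⟨w, hw, rfl⟩
    rw [fixSub_cj] at hmem
    obtain ⟨c, hc, hca⟩ := hmem
    have e : b c = a w := hca
    rw [hbv, haw] at e
    have hd : dltHom b c ∈ W := hEW ▸ dltHom_mem_dltSub hb c
    have h1 : dltHom b c * w⁻¹ = dltHom a w * c⁻¹ := by
      rw [mul_inv_eq_iff_eq_mul, mul_right_comm, eq_mul_inv_iff_mul_eq]
      exact e
    have h2' : dltHom a w * c⁻¹ ∈ C ⊓ W :=
      ⟨C.mul_mem (hE ▸ dltHom_mem_dltSub ha w) (C.inv_mem hc),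
        h1 ▸ W.mul_mem hd (W.inv_mem hw)⟩
    rw [hinf, Subgroup.mem_bot, mul_inv_eq_one] at h2'
    rw [h2', hbv]
    rw [h2'] at h1
    rw [mul_inv_cancel, mul_inv_eq_one] at h1
    rw [h1]
  set x := a * b with hx
  have hbfix : ∀ w ∈ W, b w = w := fun w hw => hw b hb
  have hxw : ∀ w ∈ W, x w = dltHom a w * w := fun w hw => by
    rw [hx, MulAut.mul_apply, hbfix w hw, haw]
  have hxu : ∀ w ∈ W, x (dltHom a w) = w := fun w hw => by
    have hfixu : a (dltHom a w) = dltHom a w := (hE ▸ dltHom_mem_dltSub ha w : dltHom a w ∈ C) a ha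
    rw [hx, MulAut.mul_apply, hba w hw, map_mul, haw, hfixu, mul_comm (dltHom a w) w, mul_assoc,
      h2, mul_one]
  have hsur : ∀ c ∈ C, ∃ w ∈ W, dltHom a w = c := by
    intro c hc
    let f : ↥W → ↥C := fun w => ⟨dltHom a (w : V), hE ▸ dltHom_mem_dltSub ha _⟩
    have hinj : Function.Injective f := by
      intro w w' h
      by_contra hne'
      refine hu ((w : V) * (w' : V)) (mul_mem w.2 w'.2)
        (fun h1 => hne' (Subtype.ext ((mul_eq_one_iff_eq h2).1 h1))) ?_
      rw [map_mul, show dltHom a (w : V) = dltHom a (w' : V) from congrArg Subtype.val h, h2]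
    obtain ⟨w, hw⟩ := ((Nat.bijective_iff_injective_and_card f).2 ⟨hinj, hcardW⟩).2 ⟨c, hc⟩
    exact ⟨w, w.2, congrArg Subtype.val hw⟩
  have hx2W : ∀ w ∈ W, x (x w) = dltHom a w := by
    intro w hw
    rw [hxw w hw, map_mul, hxu w hw, hxw w hw, mul_left_comm, h2, mul_one]
  have hx3 : x ^ 3 = 1 := by
    refine MulEquiv.ext fun v => ?_
    obtain ⟨c, hc, w, hw, rfl⟩ := Subgroup.mem_sup.1 (hsup ▸ Subgroup.mem_top v : v ∈ C ⊔ W)
    obtain ⟨w', hw', rfl⟩ := hsur c hc
    show x (x (x (dltHom a w' * w))) = dltHom a w' * w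
    rw [map_mul, map_mul, map_mul, hxu w' hw', hx2W w' hw', hx2W w hw, hxu w hw]
  have hx1 : x ≠ 1 := fun h => by
    have := hxw w0 hw0
    rw [h, MulAut.one_apply] at this
    exact hu w0 hw0 hw01 (mul_eq_right.1 this.symm)
  have haa : a * a = 1 := hQ.sq_eq_one h2 hAX hA2 ha
  have hbb : b * b = 1 := hQ.sq_eq_one h2 (cj_le hAX hgX) (hA2.map _) hb
  refine ⟨⟨a, hAX ha⟩, ⟨x, mul_mem (hAX ha) hbX⟩, ?_, ?_, ?_⟩
  · exact orderOf_eq_prime (Subtype.ext (by simpa [pow_two] using haa))
      (fun h => ha1 (congrArg Subtype.val h))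
  · exact orderOf_eq_prime (Subtype.ext (by simpa using hx3))
      (fun h => hx1 (congrArg Subtype.val h))
  · refine Subtype.ext ?_
    show a * (a * b) * a⁻¹ = (a * b)⁻¹
    rw [← mul_assoc a a b, haa, one_mul, mul_inv_rev,
      inv_eq_of_mul_eq_one_right haa, inv_eq_of_mul_eq_one_right hbb]

end Core

end Cfsg.Agent.T51.QOff
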