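import Cfsg.Agent.T51.QuadOffenderCore
import Cfsg.Agent.LocalEven61.PermFour
import Cfsg.Agent.Lib.Involution.BaerSuzuki

/-!
Quadratic best offenders outside the 2-core force a symmetric group of degree three to be involved.
-/

set_option autoImplicit false
set_option linter.unusedVariables false
set_option linter.unusedSectionVars false
set_option linter.style.haveILetI false

namespace Cfsg.Agent.T51.QOff

open Equiv

universe u

section Transfer

variable {V : Type u} [CommGroup V] {V' : Type u} [CommGroup V']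
  {X : Subgroup (MulAut V)} (q : ↥X →* MulAut V')

/-- Image in the new automorphism group. -/
abbrev img (B : Subgroup (MulAut V)) : Subgroup (MulAut V') := (B.subgroupOf X).map q

/-- Preimage in the old automorphism group. -/
abbrev pre (B : Subgroup (MulAut V')) : Subgroup (MulAut V) := (B.comap q).map X.subtype

theorem pre_le (B : Subgroup (MulAut V')) : pre q B ≤ X := Subgroup.map_subtype_le _

theorem mem_pre {B : Subgroup (MulAut V')} {x : MulAut V} :
    x ∈ pre q B ↔ ∃ h : x ∈ X, q ⟨x, h⟩ ∈ B :=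
  ⟨fun ⟨y, hy, hyx⟩ => by subst hyx; exact ⟨y.2, hy⟩, fun ⟨h, hx⟩ => ⟨⟨x, h⟩, hx, rfl⟩⟩

theorem mem_img {B : Subgroup (MulAut V)} {x' : MulAut V'} :
    x' ∈ img q B ↔ ∃ (x : MulAut V) (h : x ∈ X), x ∈ B ∧ q ⟨x, h⟩ = x' :=
  ⟨fun ⟨y, hy, hyx⟩ => ⟨y, y.2, hy, hyx⟩, fun ⟨x, h, hx, he⟩ => ⟨⟨x, h⟩, hx, he⟩⟩

theorem img_self : img q X = q.range := by
  rw [img, Subgroup.subgroupOf_self, MonoidHom.range_eq_map]

theorem img_mono {B C : Subgroup (MulAut V)} (h : B ≤ C) : img q B ≤ img q C :=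
  Subgroup.map_mono (Subgroup.comap_mono h)

theorem img_sup {B C : Subgroup (MulAut V)} (hB : B ≤ X) (hC : C ≤ X) :
    img q (B ⊔ C) = img q B ⊔ img q C := by
  rw [img, img, img, Subgroup.subgroupOf_sup hB hC, Subgroup.map_sup]

theorem img_cj {B : Subgroup (MulAut V)} (h : ↥X) :
    img q (cj (h : MulAut V) B) = cj (q h) (img q B) := by
  ext x'
  constructor
  · intro hx0
    obtain ⟨x, hx, ⟨y, hy, hyx⟩, rfl⟩ := (mem_img q).1 hx0
    subst hyx
    have hyX : y ∈ X := by
      have := mul_mem (mul_mem (inv_mem h.2) hx) h.2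
      simpa [mul_assoc] using this
    refine ⟨q ⟨y, hyX⟩, (mem_img q).2 ⟨y, hyX, hy, rfl⟩, ?_⟩
    show q h * q ⟨y, hyX⟩ * (q h)⁻¹ = _
    rw [← map_inv, ← map_mul, ← map_mul]
    rfl
  · rintro ⟨y', hy', rfl⟩
    obtain ⟨y, hyX, hy, rfl⟩ := (mem_img q).1 hy'
    refine (mem_img q).2 ⟨(h : MulAut V) * y * (h : MulAut V)⁻¹,
      mul_mem (mul_mem h.2 hyX) (inv_mem h.2), ⟨y, hy, rfl⟩, ?_⟩
    show q (h * ⟨y, hyX⟩ * h⁻¹) = q h * q ⟨y, hyX⟩ * (q h)⁻¹
    rw [map_mul, map_mul, map_inv]

theorem img_pre {B : Subgroup (MulAut V')} (hB : B ≤ q.range) : img q (pre q B) = B := by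
  rw [img, pre, Subgroup.subgroupOf, Subgroup.comap_map_eq_self_of_injective X.subtype_injective,
    Subgroup.map_comap_eq_self hB]

theorem le_pre {B : Subgroup (MulAut V)} (hB : B ≤ X) {C : Subgroup (MulAut V')}
    (h : img q B ≤ C) : B ≤ pre q C :=
  fun x hx => (mem_pre q).2 ⟨hB hx, h ((mem_img q).2 ⟨x, hB hx, hx, rfl⟩)⟩

theorem isPGroup_pre {B : Subgroup (MulAut V')} (hB : IsPGroup 2 B) (hk : IsPGroup 2 q.ker) :
    IsPGroup 2 (pre q B) :=
  (hB.comap_of_ker_isPGroup q hk).map _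

theorem isPGroup_img {B : Subgroup (MulAut V)} (hB : IsPGroup 2 B) : IsPGroup 2 (img q B) :=
  (hB.comap_of_injective X.subtype X.subtype_injective).map q

/-- Quadratic action passes to the new group. -/
theorem quad_range (hk : IsPGroup 2 q.ker) (hQ : Quad X) (φ : V' → V)
    (hφ : ∀ (x : ↥X) (w : V'), φ (q x w) = (x : MulAut V) (φ w))
    (hφm : ∀ a b, φ (a * b) = φ a * φ b) (hφi : Function.Injective φ) : Quad q.range := by
  intro T hT hT2 s hs t ht w
  obtain ⟨s0, rfl⟩ := hT hs
  obtain ⟨t0, rfl⟩ := hT ht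
  have h := hQ _ (pre_le q T) (isPGroup_pre q hT2 hk) s0 ((mem_pre q).2 ⟨s0.2, hs⟩) t0
    ((mem_pre q).2 ⟨t0.2, ht⟩) (φ w)
  refine hφi ?_
  rw [hφ, dltHom_apply, hφm, hφ]
  exact h

theorem quad_range' (hk : IsPGroup 2 q.ker) (hQ : Quad X) (ψ : V →* V')
    (hψ : ∀ (x : ↥X) (v : V), q x (ψ v) = ψ ((x : MulAut V) v)) (hψs : Function.Surjective ψ) :
    Quad q.range := by
  intro T hT hT2 s hs t ht w
  obtain ⟨s0, rfl⟩ := hT hs
  obtain ⟨t0, rfl⟩ := hT ht
  obtain ⟨v, rfl⟩ := hψs w
  have h := hQ _ (pre_le q T) (isPGroup_pre q hT2 hk) s0 ((mem_pre q).2 ⟨s0.2, hs⟩) t0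
    ((mem_pre q).2 ⟨t0.2, ht⟩) v
  rw [dltHom_apply, hψ, ← map_mul, hψ]
  rw [dltHom_apply] at h
  rw [h]

theorem inCore_img {B Y : Subgroup (MulAut V)} (hY : Y ≤ X) (h : InCore B Y) :
    InCore (img q B) (img q Y) := by
  obtain ⟨N, hNY, hN2, hBN, hYN⟩ := h
  refine ⟨img q N, img_mono q hNY, isPGroup_img q hN2, img_mono q hBN, ?_⟩
  intro y' hy'
  obtain ⟨y, hy, hyY, rfl⟩ := (mem_img q).1 hy'
  refine Subgroup.le_normalizer_map q ⟨⟨y, hy⟩, ?_, rfl⟩
  rw [SetLike.mem_coe, Subgroup.mem_normalizer_iff]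
  exact fun n => Subgroup.mem_normalizer_iff.1 (hYN hyY) n

theorem inCore_pre {B : Subgroup (MulAut V)} (hB : B ≤ X) (hk : IsPGroup 2 q.ker)
    {Y' : Subgroup (MulAut V')} (hY' : Y' = q.range) (h : InCore (img q B) Y') : InCore B X := by
  obtain ⟨N, hNY, hN2, hBN, hYN⟩ := h
  refine ⟨pre q N, pre_le q N, isPGroup_pre q hN2 hk, le_pre q hB hBN, fun x hx => ?_⟩
  have hxn : q ⟨x, hx⟩ ∈ Subgroup.normalizer (N : Set (MulAut V')) := hYN (hY' ▸ ⟨_, rfl⟩)
  have h1 : (⟨x, hx⟩ : ↥X) ∈ Subgroup.normalizer (N.comap q : Set ↥X) :=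
    Subgroup.le_normalizer_comap q hxn
  exact Subgroup.le_normalizer_map X.subtype ⟨_, h1, rfl⟩

end Transfer

section Quotient

variable {V : Type u} [CommGroup V] {X : Subgroup (MulAut V)} {U : Subgroup V}

/-- The action of `X` on an invariant quotient. -/
noncomputable def quotAct (hinv : ∀ x ∈ X, ∀ v ∈ U, x v ∈ U) : ↥X →* MulAut (V ⧸ U) where
  toFun x :=
    { toFun := QuotientGroup.map U U (x : MulAut V).toMonoidHom (fun v hv => hinv x x.2 v hv)
      invFun := QuotientGroup.map U U ((x : MulAut V)⁻¹).toMonoidHom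
        (fun v hv => hinv _ (inv_mem x.2) v hv)
      left_inv := fun w => by
        induction w using QuotientGroup.induction_on with
        | H v => simp
      right_inv := fun w => by
        induction w using QuotientGroup.induction_on with
        | H v => simp
      map_mul' := map_mul _ }
  map_one' := MulEquiv.ext fun w => by
    induction w using QuotientGroup.induction_on with
    | H v => simp
  map_mul' x y := MulEquiv.ext fun w => by
    induction w using QuotientGroup.induction_on with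
    | H v => simp

theorem quotAct_mk (hinv : ∀ x ∈ X, ∀ v ∈ U, x v ∈ U) (x : ↥X) (v : V) :
    quotAct hinv x (QuotientGroup.mk' U v) = QuotientGroup.mk' U ((x : MulAut V) v) := by
  simp [quotAct]

/-- The action of `X` on an invariant subgroup. -/
noncomputable def subAct (hinv : ∀ x ∈ X, ∀ v ∈ U, x v ∈ U) : ↥X →* MulAut U where
  toFun x :=
    { toFun := fun r => ⟨(x : MulAut V) r, hinv x x.2 r r.2⟩
      invFun := fun r => ⟨(x : MulAut V)⁻¹ r, hinv _ (inv_mem x.2) r r.2⟩
      left_inv := fun r => by simp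
      right_inv := fun r => by simp
      map_mul' := fun r s => Subtype.ext (map_mul (x : MulAut V) (r : V) s) }
  map_one' := by ext r; rfl
  map_mul' x y := by ext r; rfl

theorem subAct_coe (hinv : ∀ x ∈ X, ∀ v ∈ U, x v ∈ U) (x : ↥X) (r : U) :
    ((subAct hinv x r : U) : V) = (x : MulAut V) r := rfl

/-- A group stabilizing a chain of length two in a group of exponent two is a 2-group. -/
theorem isPGroup_two_of_stab (h2 : ∀ v : V, v * v = 1) {K : Subgroup ↥X}
    (h : ∀ k ∈ K, ∀ v, (k : MulAut V) (dltHom (k : MulAut V) v) = dltHom (k : MulAut V) v) :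
    IsPGroup 2 K := fun k => ⟨1, Subtype.ext (Subtype.ext (MulEquiv.ext fun v => by
      have e := h k k.2 v
      rw [dltHom_apply, map_mul, mul_comm (((k : ↥X) : MulAut V) v) v] at e
      rw [pow_one, pow_two]
      exact mul_right_cancel e))⟩

end Quotient

theorem involves_of_range {Q Q' : Type u} [Group Q] [Group Q'] (f : Q →* Q')
    (h : Cfsg.Involves (Perm (Fin 3)) ↥f.range) : Cfsg.Involves (Perm (Fin 3)) Q :=
  LocalEven61.involves_trans h
    (LocalEven61.involves_of_hom f.rangeRestrict f.rangeRestrict_surjective (MonoidHom.id Q)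
      fun _ _ h => h)

theorem involves_of_le {Q : Type u} [Group Q] {H K : Subgroup Q} (hle : H ≤ K)
    (h : Cfsg.Involves (Perm (Fin 3)) ↥H) : Cfsg.Involves (Perm (Fin 3)) ↥K :=
  LocalEven61.involves_trans h
    (LocalEven61.involves_of_hom (MonoidHom.id ↥H) (fun a => ⟨a, rfl⟩) (Subgroup.inclusion hle)
      (Subgroup.inclusion_injective hle))

theorem involves_perm_three_of_pair {Q : Type u} [Group Q] [Finite Q] {a x : Q}
    (ha : orderOf a = 2) (hx : orderOf x = 3) (h : a * x * a⁻¹ = x⁻¹) :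
    Cfsg.Involves (Perm (Fin 3)) Q := by
  haveI : Fact (Nat.Prime 3) := ⟨Nat.prime_three⟩
  obtain ⟨e⟩ := LocalEven61.exists_dihedral_equiv
  refine LocalEven61.involves_congr e ((LocalEven61.involves_dihedral_iff (p := 3) (by decide)).2
    ⟨a, x, ⟨1, by rw [ha, pow_one]⟩, ⟨1, by rw [hx, pow_one]⟩, ?_, h⟩)
  intro hx1
  rw [hx1, orderOf_one] at hx
  exact absurd hx (by decide)

/-- Induction over quotients by fixed points. -/
theorem involves_of_core : ∀ (n : ℕ) (V : Type u) [CommGroup V] [Finite V],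
    Nat.card V ≤ n → (∀ v : V, v * v = 1) → ∀ (X A : Subgroup (MulAut V)) (g : MulAut V),
      A ≤ X → g ∈ X → A ⊔ cj g A = X → IsPGroup 2 A → A ≠ ⊥ → CoreProp A X → Quad X →
      Nat.card V ≤ Nat.card A * Nat.card (fixSub A) → dltSub X = ⊤ →
      Cfsg.Involves (Perm (Fin 3)) ↥X := by
  intro n
  induction n using Nat.strong_induction_on with
  | _ n ih =>
  intro V _ _ hn h2 X A g hAX hgX hgen hA2 hne hP hQ hoff htop
  by_cases hfix : fixSub X = ⊥
  · obtain ⟨a, x, ha, hx, hax⟩ := exists_sym_three h2 hAX hgX hgen hA2 hne hP hQ hoff hfix htop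
    exact involves_perm_three_of_pair ha hx hax
  set U := fixSub X with hU
  have hinv : ∀ x ∈ X, ∀ v ∈ U, x v ∈ U := fun x hx v hv => by rw [hv x hx]; exact hv
  set q := quotAct hinv with hq
  set π := QuotientGroup.mk' U with hπ
  have hπs : Function.Surjective π := QuotientGroup.mk'_surjective U
  have hker : ∀ x : ↥X, q x = 1 → ∀ v, dltHom (x : MulAut V) v ∈ U := by
    intro x hx v
    have e : π ((x : MulAut V) v) = π v := by rw [hπ, ← quotAct_mk hinv, ← hq, hx]; rfl
    rw [dltHom_apply, ← QuotientGroup.eq_one_iff]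
    show π ((x : MulAut V) v * v) = 1
    rw [map_mul, e, ← map_mul, h2, map_one]
  have hkp : IsPGroup 2 q.ker :=
    isPGroup_two_of_stab h2 fun k hk v => hker k hk v k k.2
  have hbot : ∀ b : ↥X, (b : MulAut V) ∈ A → q b = 1 → b = 1 := by
    intro b hbA hb
    set K := pre q ⊥ with hK
    have hKX : K ≤ X := pre_le q ⊥
    have hK2 : IsPGroup 2 K := isPGroup_pre q IsPGroup.of_bot hkp
    have hbK : (b : MulAut V) ∈ K := (mem_pre q).2 ⟨b.2, Subgroup.mem_bot.2 hb⟩
    have hKn : X ≤ Subgroup.normalizer (K : Set (MulAut V)) := by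
      intro x hx
      refine Subgroup.le_normalizer_map X.subtype ⟨⟨x, hx⟩, ?_, rfl⟩
      rw [SetLike.mem_coe, MonoidHom.comap_bot, Subgroup.normalizer_eq_top]
      trivial
    have hall : ∀ h ∈ X, dltSub (cj h A) ≤ fixSub (Subgroup.zpowers (b : MulAut V)) := by
      intro h hh
      have hT : IsPGroup 2 (K ⊔ cj h A : Subgroup (MulAut V)) :=
        hK2.to_sup_of_normal_left' (hA2.map _) ((cj_le hAX hh).trans hKn)
      exact hQ.dltSub_le (sup_le hKX (cj_le hAX hh)) hT le_sup_right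
        ((Subgroup.zpowers_le.2 hbK).trans le_sup_left)
    have h0 := hall 1 X.one_mem
    rw [cj_one] at h0
    have hle : (⊤ : Subgroup V) ≤ fixSub (Subgroup.zpowers (b : MulAut V)) := by
      have hall' := dltSub_sup_le h2 h0 (hall g hgX)
      intro v hv
      refine hall' ?_
      rw [hgen, htop]
      exact hv
    exact Subtype.ext (MulEquiv.ext fun v =>
      hle (Subgroup.mem_top v) _ (Subgroup.mem_zpowers (b : MulAut V)))
  have hcardA : Nat.card (img q A) = Nat.card A := by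
    let f : ↥(A.subgroupOf X) → ↥(img q A) := fun a => ⟨q a, a, a.2, rfl⟩
    have hf : Function.Bijective f := by
      refine ⟨fun a b hab => ?_, fun ⟨_, a, ha, rfl⟩ => ⟨⟨a, ha⟩, rfl⟩⟩
      have e : q a = q b := congrArg Subtype.val hab
      have := hbot ((a : ↥X)⁻¹ * b) (A.mul_mem (A.inv_mem a.2) b.2)
        (by rw [map_mul, map_inv, e, inv_mul_cancel])
      exact Subtype.ext (inv_mul_eq_one.1 this)
    rw [← Nat.card_congr (Equiv.ofBijective f hf),
      Nat.card_congr (Subgroup.subgroupOfEquivOfLe hAX).toEquiv]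
  have hcardV : Nat.card V = Nat.card (V ⧸ U) * Nat.card U := Subgroup.card_eq_card_quotient_mul_card_subgroup U
  have hlt : Nat.card (V ⧸ U) < Nat.card V := by
    rw [hcardV]
    exact lt_mul_of_one_lt_right Nat.card_pos ((U.one_lt_card_iff_ne_bot).2 hfix)
  have hr : ∀ Y : Subgroup (MulAut (V ⧸ U)), Y ≤ q.range → Y ≠ q.range → pre q Y < X := by
    intro Y hY hne'
    refine lt_of_le_of_ne (pre_le q Y) fun he => hne' ?_
    rw [← img_pre q hY, he, img_self]
  refine involves_of_range q (ih _ (hlt.trans_le hn) (V ⧸ U) le_rfl ?_ q.range (img q A)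
    (q ⟨g, hgX⟩) ?_ ⟨_, rfl⟩ ?_ (isPGroup_img q hA2) ?_ ?_ ?_ ?_ ?_)
  · intro w
    obtain ⟨v, rfl⟩ := hπs w
    rw [← map_mul, h2, map_one]
  · exact (img_mono q hAX).trans (img_self q).le
  · have hg' := img_cj q (B := A) ⟨g, hgX⟩
    rw [← hg', ← img_sup q hAX (cj_le hAX hgX), hgen, img_self]
  · intro h
    have : Nat.card A = 1 := by rw [← hcardA, h, Subgroup.card_bot]
    exact hne (Subgroup.eq_bot_of_card_eq A this)
  · intro Y' hY' h' hh' hle
    obtain ⟨h, rfl⟩ := hh'
    rw [← img_cj q h] at hle ⊢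
    have hlt' := hr Y' hY'.le hY'.ne
    have hcore := hP _ hlt' (h : MulAut V) h.2 (le_pre q (cj_le hAX h.2) hle)
    have := inCore_img q (pre_le q Y') hcore
    rwa [img_pre q hY'.le] at this
  · exact quad_range' q hkp hQ π (fun x v => quotAct_mk hinv x v) hπs
  · have hUC : U ≤ fixSub A := fixSub_anti hAX
    have hle : (fixSub A).map π ≤ fixSub (img q A) := by
      rintro _ ⟨v, hv, rfl⟩ a' ha'
      obtain ⟨a, haX, ha, rfl⟩ := (mem_img q).1 ha'
      rw [hπ, quotAct_mk hinv]
      exact congrArg _ (hv a ha)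
    have hc : Nat.card ↥((fixSub A).map π) * Nat.card U = Nat.card (fixSub A) := by
      have h := card_map_mul_card_ker (π.comp (fixSub A).subtype)
      rw [MonoidHom.range_comp, Subgroup.range_subtype] at h
      have hk : (π.comp (fixSub A).subtype).ker = U.subgroupOf (fixSub A) := by
        rw [← MonoidHom.comap_ker, hπ, QuotientGroup.ker_mk']
        rfl
      rw [hk, Nat.card_congr (Subgroup.subgroupOfEquivOfLe hUC).toEquiv] at h
      exact h
    refine Nat.le_of_mul_le_mul_right ?_ (Nat.card_pos (α := U))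
    rw [← hcardV, hcardA, mul_assoc]
    refine hoff.trans (Nat.mul_le_mul_left _ ?_)
    rw [← hc]
    exact Nat.mul_le_mul_right _ (Subgroup.card_le_of_le hle)
  · rw [eq_top_iff]
    intro w _
    obtain ⟨v, rfl⟩ := hπs w
    have hle : dltSub X ≤ (dltSub q.range).comap π := by
      rw [dltSub_le_iff]
      intro x hx v
      show π (x v * v) ∈ dltSub q.range
      rw [map_mul, hπ, ← quotAct_mk hinv ⟨x, hx⟩]
      exact dltHom_mem_dltSub (A := q.range) (a := q ⟨x, hx⟩) ⟨_, rfl⟩ _
    exact hle (htop ▸ Subgroup.mem_top v)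

/-- Best offenders. -/
def Best {V : Type u} [CommGroup V] (A : Subgroup (MulAut V)) : Prop :=
  ∀ B ≤ A, Nat.card B * Nat.card (fixSub B) ≤ Nat.card A * Nat.card (fixSub A)

theorem Best.cj {V : Type u} [CommGroup V] {A : Subgroup (MulAut V)} (h : Best A) (g : MulAut V) :
    Best (cj g A) := by
  intro B hB
  obtain ⟨B', hB', rfl⟩ : ∃ B', B' ≤ A ∧ QOff.cj g B' = B := by
    refine ⟨QOff.cj g⁻¹ B, ?_, ?_⟩
    · refine (Subgroup.map_mono hB).trans (le_of_eq ?_)
      show QOff.cj g⁻¹ (QOff.cj g A) = A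
      rw [cj_mul, inv_mul_cancel, cj_one]
    · rw [cj_mul, mul_inv_cancel, cj_one]
  rw [card_cj, card_cj, card_fixSub_cj, card_fixSub_cj]
  exact h B' hB'

/-- **Quadratic best offenders outside the 2-core.** -/
theorem involves_of_best : ∀ (n : ℕ) (V : Type u) [CommGroup V] [Finite V] (X A : Subgroup (MulAut V)),
    Nat.card V + Nat.card X ≤ n → (∀ v : V, v * v = 1) → A ≤ X → IsPGroup 2 A → Quad X →
      Best A → ¬ InCore A X → Cfsg.Involves (Perm (Fin 3)) ↥X := by
  classical
  intro n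
  induction n using Nat.strong_induction_on with
  | _ n ih =>
  intro V _ _ X A hn h2 hAX hA2 hQ hB hnc
  haveI : Finite (MulAut V) := Finite.of_injective (fun e : MulAut V => (e : V → V))
    DFunLike.coe_injective
  by_cases hP : CoreProp A X
  swap
  · simp only [CoreProp, not_forall] at hP
    obtain ⟨Y, hY, h, hh, hle, hcore⟩ := hP
    have hcard : Nat.card Y < Nat.card X := by
      by_contra hge
      exact hY.ne (Subgroup.eq_of_le_of_card_ge hY.le (not_lt.1 hge))
    exact involves_of_le hY.le (ih (Nat.card V + Nat.card Y) (by omega) V Y (cj h A) le_rfl h2 hle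
      (hA2.map _) (hQ.mono hY.le) (hB.cj h) hcore)
  obtain ⟨g, hgX, hgen⟩ : ∃ g ∈ X, A ⊔ cj g A = X := by
    by_contra! hall
    haveI : Fact (Nat.Prime 2) := ⟨Nat.prime_two⟩
    obtain ⟨N, hN, hN2, hAN⟩ := Involution.baerSuzuki_subgroup (p := 2) (A.subgroupOf X) (fun g => by
      have hlt : A ⊔ cj (g : MulAut V) A < X :=
        lt_of_le_of_ne (sup_le hAX (cj_le hAX g.2)) (hall g g.2)
      have h1 := hP _ hlt 1 X.one_mem (by rw [cj_one]; exact le_sup_left)
      rw [cj_one] at h1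
      have hT := isPGroup_of_inCore rfl h1 (hP _ hlt (g : MulAut V) g.2 le_sup_right)
      refine (hT.comap_of_injective X.subtype X.subtype_injective).to_le ?_
      refine sup_le (fun a ha => Subgroup.mem_sup_left (S := A) ha) ?_
      rintro _ ⟨a, ha, rfl⟩
      exact Subgroup.mem_sup_right (T := cj (g : MulAut V) A) ⟨(a : MulAut V), ha, rfl⟩)
    refine hnc ⟨N.map X.subtype, Subgroup.map_subtype_le _, hN2.map _, fun a ha =>
      ⟨⟨a, hAX ha⟩, hAN ha, rfl⟩, fun x hx => ?_⟩
    refine Subgroup.le_normalizer_map X.subtype ⟨⟨x, hx⟩, ?_, rfl⟩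
    rw [SetLike.mem_coe, Subgroup.normalizer_eq_top]
    trivial
  have hne : A ≠ ⊥ := fun h => hnc ⟨⊥, bot_le, IsPGroup.of_bot, h.le, fun x _ => by
    rw [Subgroup.normalizer_eq_top]; trivial⟩
  have hoff : Nat.card V ≤ Nat.card A * Nat.card (fixSub A) := by
    refine le_trans ?_ (hB ⊥ bot_le)
    rw [Subgroup.card_bot, one_mul]
    refine le_of_eq ?_
    rw [← Subgroup.card_top]
    rw [show fixSub (⊥ : Subgroup (MulAut V)) = ⊤ from eq_top_iff.2 fun v _ a ha => by
      rw [Subgroup.mem_bot.1 ha, MulAut.one_apply]]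
  set R := dltSub X with hR
  by_cases htop : R = ⊤
  · exact involves_of_core _ V le_rfl h2 X A g hAX hgX hgen hA2 hne hP hQ hoff htop
  have hinv : ∀ x ∈ X, ∀ v ∈ R, x v ∈ R := fun x hx v hv => map_dltSub_le h2 hx hv
  set q := subAct hinv with hq
  have hkp : IsPGroup 2 q.ker := by
    refine isPGroup_two_of_stab h2 fun k hk v => ?_
    have e : q k ⟨dltHom (k : MulAut V) v, dltHom_mem_dltSub k.2 v⟩ = ⟨_, dltHom_mem_dltSub k.2 v⟩ := by
      rw [MonoidHom.mem_ker.1 hk]; rfl
    exact congrArg Subtype.val e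
  have hcardR : Nat.card R < Nat.card V :=
    lt_of_le_of_ne (Subgroup.card_le_card_group R) fun h => htop (Subgroup.eq_top_of_card_eq R h)
  have hcardX : Nat.card q.range ≤ Nat.card X :=
    Nat.card_le_card_of_surjective q.rangeRestrict q.rangeRestrict_surjective
  refine involves_of_range q (ih (Nat.card R + Nat.card q.range) (by omega) R q.range (img q A)
    le_rfl (fun r => Subtype.ext (h2 r)) ((img_mono q hAX).trans (img_self q).le)
    (isPGroup_img q hA2) ?_ ?_ ?_)
  · exact quad_range q hkp hQ (fun r => (r : V)) (fun x r => rfl) (fun _ _ => rfl)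
      Subtype.val_injective
  · intro B' hB'
    set B := A ⊓ pre q B' with hBdef
    have hBX : B ≤ X := inf_le_left.trans hAX
    let fA := q.comp (Subgroup.inclusion hAX)
    let fB := q.comp (Subgroup.inclusion hBX)
    have eA : fA.range = img q A := by
      ext x'
      rw [mem_img]
      exact ⟨fun ⟨a, ha⟩ => ⟨a, hAX a.2, a.2, ha⟩, fun ⟨a, _, ha, he⟩ => ⟨⟨a, ha⟩, he⟩⟩
    have eB : fB.range = B' := by
      ext x'
      constructor
      · rintro ⟨b, rfl⟩
        obtain ⟨_, hb⟩ := (mem_pre q).1 b.2.2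
        exact hb
      · intro hx'
        obtain ⟨a, haX, ha, rfl⟩ := (mem_img q).1 (hB' hx')
        exact ⟨⟨a, ha, (mem_pre q).2 ⟨haX, hx'⟩⟩, rfl⟩
    have ek : Nat.card fA.ker = Nat.card fB.ker := Nat.card_congr
      { toFun := fun a => ⟨⟨a.1.1, a.1.2, (mem_pre q).2 ⟨hAX a.1.2, by
            have h : q ⟨a.1.1, hAX a.1.2⟩ = 1 := a.2
            rw [h]; exact one_mem _⟩⟩, a.2⟩
        invFun := fun b => ⟨⟨b.1.1, b.1.2.1⟩, b.2⟩
        left_inv := fun a => rfl
        right_inv := fun b => rfl }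
    have cA := card_map_mul_card_ker fA
    have cB := card_map_mul_card_ker fB
    rw [eA, ek] at cA
    rw [eB] at cB
    set CA := fixSub A with hCA
    set CR := (fixSub B').map R.subtype with hCR
    have hCRB : CR ⊔ CA ≤ fixSub B := by
      refine sup_le ?_ (fixSub_anti inf_le_left)
      rintro _ ⟨r, hr, rfl⟩ b hb
      obtain ⟨_, hb'⟩ := (mem_pre q).1 hb.2
      exact congrArg Subtype.val (hr _ hb')
    have hinf : CR ⊓ CA ≤ (fixSub (img q A)).map R.subtype := by
      rintro _ ⟨⟨r, hr, rfl⟩, hra⟩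
      refine ⟨r, fun a' ha' => ?_, rfl⟩
      obtain ⟨a, haX, ha, rfl⟩ := (mem_img q).1 ha'
      exact Subtype.ext (hra a ha)
    have e1 : Nat.card CR = Nat.card (fixSub B') := Subgroup.card_map_of_injective R.subtype_injective
    have e2 : Nat.card ↥(CR ⊓ CA) ≤ Nat.card (fixSub (img q A)) :=
      (Subgroup.card_le_of_le hinf).trans
        (Subgroup.card_map_of_injective R.subtype_injective).le
    have e3 : Nat.card (fixSub B') * Nat.card CA ≤ Nat.card (fixSub B) * Nat.card (fixSub (img q A)) := by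
      rw [← e1, ← Thompson.card_sup_mul_card_inf (H := CR) (K := CA) Subgroup.le_normalizer_of_normal]
      exact Nat.mul_le_mul (Subgroup.card_le_of_le hCRB) e2
    have hbest := hB B inf_le_left
    rw [← cA, ← cB, ← hCA] at hbest
    have hpos : 0 < Nat.card fB.ker * (Nat.card (fixSub B) * Nat.card CA) :=
      Nat.mul_pos Nat.card_pos (Nat.mul_pos Nat.card_pos Nat.card_pos)
    refine Nat.le_of_mul_le_mul_right ?_ hpos
    calc Nat.card B' * Nat.card (fixSub B') * (Nat.card fB.ker * (Nat.card (fixSub B) * Nat.card CA))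
        = Nat.card B' * Nat.card fB.ker * Nat.card (fixSub B) *
            (Nat.card (fixSub B') * Nat.card CA) := by ring
      _ ≤ Nat.card (img q A) * Nat.card fB.ker * Nat.card CA *
            (Nat.card (fixSub B) * Nat.card (fixSub (img q A))) := Nat.mul_le_mul hbest e3
      _ = _ := by ring
  · exact fun h => hnc (inCore_pre q hAX hkp rfl h)

end Cfsg.Agent.T51.QOff
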